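import Mathlib

/-!
# Length estimates for quotients by monomial ("staircase") ideals

Elementary length inequalities used in the proof of the monomial property in
characteristic `p` (S11633).
-/

namespace Groth.Agent.Lib.Helper87.Staircase

open Module

variable {R : Type*} [CommRing R]

/-- If `J ≤ J' ≤ J + (w)` and `B • w ⊆ J`, then `ℓ(R/J) ≤ ℓ(R/J') + ℓ(R/B)`. -/
theorem length_quot_le_add (J J' B : Ideal R) (w : R) (hJJ' : J ≤ J')
    (hJ' : J' ≤ J ⊔ Ideal.span {w}) (hB : ∀ x ∈ B, x * w ∈ J) :
    Module.length R (R ⧸ J) ≤ Module.length R (R ⧸ J') + Module.length R (R ⧸ B) := by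
  -- the map `R/B → R/J`, `z ↦ z * w`
  let f₀ : R →ₗ[R] R ⧸ J := J.mkQ ∘ₗ LinearMap.mulRight R w
  have hf₀ : B ≤ LinearMap.ker f₀ := by
    intro x hx
    simp only [LinearMap.mem_ker, f₀, LinearMap.comp_apply, LinearMap.mulRight_apply,
      Submodule.mkQ_apply]
    exact (Submodule.Quotient.mk_eq_zero J).mpr (hB x hx)
  let f : (R ⧸ B) →ₗ[R] R ⧸ J := Submodule.liftQ B f₀ hf₀
  let g : (R ⧸ J) →ₗ[R] R ⧸ J' := Submodule.mapQ J J' LinearMap.id (by simpa using hJJ')
  have hg : Function.Surjective g := by
    intro y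
    obtain ⟨y, rfl⟩ := Submodule.Quotient.mk_surjective _ y
    exact ⟨Submodule.Quotient.mk y, rfl⟩
  have hker : LinearMap.ker g ≤ LinearMap.range f := by
    intro y hy
    obtain ⟨y, rfl⟩ := Submodule.Quotient.mk_surjective _ y
    have hy' : y ∈ J' := by
      have : g (Submodule.Quotient.mk y) = Submodule.Quotient.mk y := rfl
      rw [LinearMap.mem_ker, this] at hy
      exact (Submodule.Quotient.mk_eq_zero J').mp hy
    obtain ⟨j, hj, v, hv, rfl⟩ := Submodule.mem_sup.mp (hJ' hy')
    obtain ⟨c, rfl⟩ := Ideal.mem_span_singleton'.mp hv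
    refine ⟨Submodule.Quotient.mk c, ?_⟩
    have h1 : f (Submodule.Quotient.mk c) = Submodule.Quotient.mk (c * w) := rfl
    rw [h1]
    refine (Submodule.Quotient.eq J).mpr ?_
    have : c * w - (j + c * w) = -j := by ring
    rw [this]
    exact J.neg_mem hj
  have h1 := Module.length_eq_add_of_exact (LinearMap.ker g).subtype g
    (Submodule.subtype_injective _) hg (LinearMap.exact_subtype_ker_map g)
  have h2 : Module.length R (LinearMap.ker g) ≤ Module.length R (LinearMap.range f) :=
    Module.length_le_of_injective (Submodule.inclusion hker) (Submodule.inclusion_injective hker)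
  have h3 : Module.length R (LinearMap.range f) ≤ Module.length R (R ⧸ B) :=
    Module.length_le_of_surjective f.rangeRestrict f.surjective_rangeRestrict
  rw [h1, add_comm]
  exact add_le_add le_rfl (h2.trans h3)

/-- If `J ≤ J₁`, `x ∈ J₁` and `(J : x) ⊆ J₂`, then `ℓ(R/J₁) + ℓ(R/J₂) ≤ ℓ(R/J)`. -/
theorem add_length_quot_le (J J₁ J₂ : Ideal R) (x : R) (h₁ : J ≤ J₁) (hx : x ∈ J₁)
    (h₂ : ∀ z, x * z ∈ J → z ∈ J₂) :
    Module.length R (R ⧸ J₁) + Module.length R (R ⧸ J₂) ≤ Module.length R (R ⧸ J) := by
  let f : R →ₗ[R] R ⧸ J := J.mkQ ∘ₗ LinearMap.mulLeft R x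
  let g : (R ⧸ J) →ₗ[R] R ⧸ J₁ := Submodule.mapQ J J₁ LinearMap.id (by simpa using h₁)
  have hg : Function.Surjective g := by
    intro y
    obtain ⟨y, rfl⟩ := Submodule.Quotient.mk_surjective _ y
    exact ⟨Submodule.Quotient.mk y, rfl⟩
  have hrange : LinearMap.range f ≤ LinearMap.ker g := by
    rintro _ ⟨z, rfl⟩
    have : g (f z) = Submodule.Quotient.mk (x * z) := rfl
    rw [LinearMap.mem_ker, this]
    exact (Submodule.Quotient.mk_eq_zero J₁).mpr (J₁.mul_mem_right z hx)
  have hker : LinearMap.ker f ≤ J₂ := by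
    intro z hz
    apply h₂
    have : f z = Submodule.Quotient.mk (x * z) := rfl
    rw [LinearMap.mem_ker, this] at hz
    exact (Submodule.Quotient.mk_eq_zero J).mp hz
  have h1 := Module.length_eq_add_of_exact (LinearMap.ker g).subtype g
    (Submodule.subtype_injective _) hg (LinearMap.exact_subtype_ker_map g)
  have h2 : Module.length R (LinearMap.range f) ≤ Module.length R (LinearMap.ker g) :=
    Module.length_le_of_injective (Submodule.inclusion hrange)
      (Submodule.inclusion_injective hrange)
  have h3 : Module.length R (R ⧸ J₂) ≤ Module.length R (R ⧸ LinearMap.ker f) := by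
    refine Module.length_le_of_surjective
      (Submodule.mapQ (LinearMap.ker f) J₂ LinearMap.id (by simpa using hker)) ?_
    intro y
    obtain ⟨y, rfl⟩ := Submodule.Quotient.mk_surjective _ y
    exact ⟨Submodule.Quotient.mk y, rfl⟩
  have h4 : Module.length R (R ⧸ LinearMap.ker f) = Module.length R (LinearMap.range f) :=
    (LinearMap.quotKerEquivRange f).length_eq
  rw [h1, add_comm]
  exact add_le_add ((h3.trans h4.le).trans h2) le_rfl

/-- The monomial `b^ν`. -/
def mon {n : ℕ} (b : Fin n → R) (ν : Fin n → ℕ) : R := ∏ i, b i ^ ν i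

/-- The ideal generated by the monomials `b^ν` with `ν ∉ S`. -/
def stair {n : ℕ} (b : Fin n → R) (S : Finset (Fin n → ℕ)) : Ideal R :=
  Ideal.span (mon b '' {ν | ν ∉ S})

theorem mon_mem_stair {n : ℕ} (b : Fin n → R) (S : Finset (Fin n → ℕ)) {ν : Fin n → ℕ}
    (hν : ν ∉ S) : mon b ν ∈ stair b S :=
  Ideal.subset_span ⟨ν, hν, rfl⟩

theorem mon_add_single {n : ℕ} (b : Fin n → R) (ν : Fin n → ℕ) (i : Fin n) :
    b i * mon b ν = mon b (ν + Pi.single i 1) := by
  classical
  unfold mon
  have h : ∏ j, b j ^ (Pi.single i 1 : Fin n → ℕ) j = b i := by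
    rw [Fintype.prod_eq_single i]
    · simp
    · intro j hj
      simp [Pi.single_eq_of_ne hj]
  simp only [Pi.add_apply, pow_add, Finset.prod_mul_distrib, h]
  ring

/-- Staircase bound: for a finite lower set `S` of exponents,
`ℓ(R/(b^ν : ν ∉ S)) ≤ |S| · ℓ(R/(b))`. -/
theorem length_stair_le {n : ℕ} (b : Fin n → R) :
    ∀ (m : ℕ) (S : Finset (Fin n → ℕ)), S.card = m → IsLowerSet (S : Set (Fin n → ℕ)) →
      Module.length R (R ⧸ stair b S) ≤ m * Module.length R (R ⧸ Ideal.span (Set.range b)) := by
  classical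
  intro m
  induction m with
  | zero =>
    intro S hS _
    have hS' : S = ∅ := Finset.card_eq_zero.mp hS
    have h1 : stair b S = ⊤ := by
      rw [Ideal.eq_top_iff_one]
      have := mon_mem_stair b S (ν := 0) (by simp [hS'])
      simpa [mon] using this
    have : Subsingleton (R ⧸ stair b S) := by
      rw [h1]; exact Ideal.Quotient.subsingleton_iff.mpr rfl
    simp [Module.length_eq_zero]
  | succ m ih =>
    intro S hS hlow
    have hne : S.Nonempty := by
      rw [← Finset.card_pos]; omega
    obtain ⟨μ, hμ⟩ := S.exists_maximal hne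
    have hμS : μ ∈ S := hμ.prop
    have hmax : ∀ ν ∈ S, μ ≤ ν → ν = μ := fun ν hν hle => le_antisymm (hμ.le_of_ge hν hle) hle
    set S' := S.erase μ with hS'
    have hcard : S'.card = m := by
      rw [hS', Finset.card_erase_of_mem hμS, hS]; rfl
    have hlow' : IsLowerSet (S' : Set (Fin n → ℕ)) := by
      intro ν' ν hle hν'
      simp only [hS', Finset.coe_erase, Set.mem_sdiff, Finset.mem_coe, Set.mem_singleton_iff] at hν' ⊢
      refine ⟨hlow hle hν'.1, ?_⟩
      rintro rfl
      exact hν'.2 (hmax ν' hν'.1 hle)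
    have hle1 : stair b S ≤ stair b S' := by
      apply Ideal.span_mono
      apply Set.image_mono
      intro ν hν
      simp only [Set.mem_setOf_eq, hS', Finset.mem_erase, not_and] at hν ⊢
      exact fun _ h => hν h
    have hle2 : stair b S' ≤ stair b S ⊔ Ideal.span {mon b μ} := by
      apply Ideal.span_le.mpr
      rintro _ ⟨ν, hν, rfl⟩
      simp only [Set.mem_setOf_eq, hS', Finset.mem_erase, not_and] at hν
      by_cases h : ν = μ
      · subst h
        exact Ideal.mem_sup_right (Ideal.mem_span_singleton_self _)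
      · exact Ideal.mem_sup_left (mon_mem_stair b S (hν h))
    have hB : ∀ x ∈ Ideal.span (Set.range b), x * mon b μ ∈ stair b S := by
      intro x hx
      induction hx using Submodule.span_induction with
      | mem x hx =>
        obtain ⟨i, rfl⟩ := hx
        rw [mon_add_single]
        apply mon_mem_stair
        intro hmem
        have h1 : μ ≤ μ + Pi.single i 1 := le_self_add
        have h2 := hmax _ hmem h1
        have h3 := congrFun h2 i
        simp at h3
      | zero => simp
      | add x y _ _ hx hy => rw [add_mul]; exact Ideal.add_mem _ hx hy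
      | smul a x _ hx => rw [smul_eq_mul, mul_assoc]; exact Ideal.mul_mem_left _ _ hx
    have key := length_quot_le_add (stair b S) (stair b S') (Ideal.span (Set.range b)) (mon b μ)
      hle1 hle2 hB
    refine key.trans ?_
    have := ih S' hcard hlow'
    calc Module.length R (R ⧸ stair b S') + Module.length R (R ⧸ Ideal.span (Set.range b))
        ≤ m * Module.length R (R ⧸ Ideal.span (Set.range b)) +
          Module.length R (R ⧸ Ideal.span (Set.range b)) := add_le_add this le_rfl
      _ = ((m + 1 : ℕ) : ℕ∞) * Module.length R (R ⧸ Ideal.span (Set.range b)) := by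
        push_cast; rw [add_mul, one_mul]

/-- Lengths of quotients are antitone in the ideal. -/
theorem length_quot_anti {J J' : Ideal R} (h : J ≤ J') :
    Module.length R (R ⧸ J') ≤ Module.length R (R ⧸ J) := by
  refine Module.length_le_of_surjective
    (Submodule.mapQ J J' LinearMap.id (by simpa using h)) ?_
  intro y
  obtain ⟨y, rfl⟩ := Submodule.Quotient.mk_surjective _ y
  exact ⟨Submodule.Quotient.mk y, rfl⟩

/-- If the top monomial `(b₁⋯bₙ)^(Q-1)` lies in `(b₁^Q, …, bₙ^Q)` then
`ℓ(R/(b₁^Q, …, bₙ^Q)) ≤ (Q^n - 1) ℓ(R/(b₁, …, bₙ))`. -/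
theorem length_quot_pow_le {n : ℕ} (b : Fin n → R) (Q : ℕ) (hQ : 0 < Q)
    (h : (∏ i, b i) ^ (Q - 1) ∈ Ideal.span (Set.range fun i => b i ^ Q)) :
    Module.length R (R ⧸ Ideal.span (Set.range fun i => b i ^ Q)) ≤
      ((Q ^ n - 1 : ℕ) : ℕ∞) * Module.length R (R ⧸ Ideal.span (Set.range b)) := by
  classical
  set cube : Finset (Fin n → ℕ) := Fintype.piFinset fun _ : Fin n => Finset.range Q with hcube
  set top : Fin n → ℕ := fun _ => Q - 1 with htop
  have htop_mem : top ∈ cube := by
    simp only [hcube, Fintype.mem_piFinset, Finset.mem_range, htop]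
    intro _; omega
  set S := cube.erase top with hS
  have hcard : S.card = Q ^ n - 1 := by
    rw [hS, Finset.card_erase_of_mem htop_mem, hcube, Fintype.card_piFinset]
    simp
  have hlow : IsLowerSet (S : Set (Fin n → ℕ)) := by
    intro ν' ν hle hν'
    simp only [hS, hcube, Finset.coe_erase, Set.mem_sdiff, Finset.mem_coe, Fintype.mem_piFinset,
      Finset.mem_range, Set.mem_singleton_iff] at hν' ⊢
    refine ⟨fun i => lt_of_le_of_lt (hle i) (hν'.1 i), ?_⟩
    rintro rfl
    apply hν'.2
    funext i
    have h1 := hle i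
    have h2 := hν'.1 i
    simp only [htop] at h1 ⊢
    omega
  have hstair : stair b S ≤ Ideal.span (Set.range fun i => b i ^ Q) := by
    apply Ideal.span_le.mpr
    rintro _ ⟨ν, hν, rfl⟩
    simp only [Set.mem_setOf_eq, hS, Finset.mem_erase, not_and, hcube, Fintype.mem_piFinset,
      Finset.mem_range] at hν
    by_cases hνt : ν = top
    · subst hνt
      have : mon b top = (∏ i, b i) ^ (Q - 1) := by
        simp [mon, htop, Finset.prod_pow]
      rw [SetLike.mem_coe, this]
      exact h
    · have := hν hνt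
      push Not at this
      obtain ⟨i, hi⟩ := this
      have h1 : mon b ν = b i ^ Q * (b i ^ (ν i - Q) * ∏ j ∈ Finset.univ.erase i, b j ^ ν j) := by
        unfold mon
        rw [← Finset.mul_prod_erase Finset.univ _ (Finset.mem_univ i), ← mul_assoc, ← pow_add]
        congr 2
        omega
      rw [SetLike.mem_coe, h1]
      exact Ideal.mul_mem_right _ _ (Ideal.subset_span ⟨i, rfl⟩)
  refine (length_quot_anti hstair).trans ?_
  exact length_stair_le b _ S hcard hlow

end Groth.Agent.Lib.Helper87.Staircase
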