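import Mathlib
import Groth.Prelude.Def_W4bk5brsh16IT
import Groth.Agent.Lib.Helper29.CM

/-!
# Tight closure of parameter ideals: basic lemmas

* Frobenius powers of spans in characteristic `p`;
* the transfer lemma for tight closedness along a "colon" multiplication map;
* in a Cohen–Macaulay local ring every member of a system of parameters is a non-zero-divisor
  modulo the others (via helper29's Cohen–Macaulay library).
-/

set_option autoImplicit false
universe u

namespace Groth.Agent.Lib.Helper87.Tight

open LocCoh IsLocalRing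

variable {R : Type u} [CommRing R]

section Frob

variable (p : ℕ) [Fact p.Prime] [CharP R p]

theorem frobPow_mono {I J : Ideal R} (h : I ≤ J) (q : ℕ) : frobPow I q ≤ frobPow J q := by
  apply Ideal.span_mono
  rintro x ⟨y, hy, rfl⟩
  exact ⟨y, h hy, rfl⟩

theorem pow_mem_frobPow {I : Ideal R} {y : R} (hy : y ∈ I) (q : ℕ) : y ^ q ∈ frobPow I q :=
  Ideal.subset_span ⟨y, hy, rfl⟩

/-- In characteristic `p`, the `p^e`-th Frobenius power of `span S` is generated by the
`p^e`-th powers of the elements of `S`. -/
theorem frobPow_span (S : Set R) (e : ℕ) :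
    frobPow (Ideal.span S) (p ^ e) = Ideal.span ((fun x => x ^ p ^ e) '' S) := by
  apply le_antisymm
  · apply Ideal.span_le.mpr
    rintro x ⟨y, hy, rfl⟩
    induction hy using Submodule.span_induction with
    | mem y hy => exact Ideal.subset_span ⟨y, hy, rfl⟩
    | zero =>
      rw [zero_pow (pow_ne_zero _ (Fact.out : p.Prime).ne_zero)]
      exact Ideal.zero_mem _
    | add x y _ _ hx hy =>
      rw [SetLike.mem_coe] at hx hy ⊢
      rw [add_pow_char_pow]
      exact Ideal.add_mem _ hx hy
    | smul c x _ hx =>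
      rw [SetLike.mem_coe] at hx ⊢
      rw [smul_eq_mul, mul_pow]
      exact Ideal.mul_mem_left _ _ hx
  · apply Ideal.span_le.mpr
    rintro _ ⟨y, hy, rfl⟩
    exact pow_mem_frobPow (Ideal.subset_span hy) _

theorem frobPow_span_range {ι : Type*} (z : ι → R) (e : ℕ) :
    frobPow (Ideal.span (Set.range z)) (p ^ e) = Ideal.span (Set.range fun i => z i ^ p ^ e) := by
  rw [frobPow_span, ← Set.range_comp]
  rfl

theorem frobPow_sup_span_singleton (J : Ideal R) (x : R) (e : ℕ) :
    frobPow (J ⊔ Ideal.span {x}) (p ^ e) = frobPow J (p ^ e) ⊔ Ideal.span {x ^ p ^ e} := by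
  apply le_antisymm
  · apply Ideal.span_le.mpr
    rintro _ ⟨y, hy, rfl⟩
    obtain ⟨j, hj, v, hv, rfl⟩ := Submodule.mem_sup.mp hy
    obtain ⟨c, rfl⟩ := Ideal.mem_span_singleton'.mp hv
    rw [SetLike.mem_coe, add_pow_char_pow, mul_pow]
    exact Ideal.add_mem _ (Ideal.mem_sup_left (pow_mem_frobPow hj _))
      (Ideal.mem_sup_right (Ideal.mul_mem_left _ _ (Ideal.mem_span_singleton_self _)))
  · apply sup_le (frobPow_mono le_sup_left _)
    rw [Ideal.span_singleton_le_iff_mem]
    exact pow_mem_frobPow (Ideal.mem_sup_right (Ideal.mem_span_singleton_self x)) _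

theorem tightClosure_mono {I J : Ideal R} (h : I ≤ J) : tightClosure p I ⊆ tightClosure p J := by
  rintro r ⟨c, hc, e₀, he⟩
  exact ⟨c, hc, e₀, fun e hee => frobPow_mono h _ (he e hee)⟩

/-- Transfer of tight closedness: if `δ I ⊆ I'`, `(I' : δ) ⊆ I` and `I'` is tightly closed then
`I` is tightly closed. -/
theorem isTightlyClosed_of_colon {I I' : Ideal R} (δ : R) (h1 : ∀ y ∈ I, δ * y ∈ I')
    (h2 : ∀ r, δ * r ∈ I' → r ∈ I) (hI' : IsTightlyClosed p I') : IsTightlyClosed p I := by
  rintro r ⟨c, hc, e₀, he⟩
  apply h2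
  apply hI'
  refine ⟨c, hc, e₀, fun e hee => ?_⟩
  have h3 : ∀ x ∈ frobPow I (p ^ e), δ ^ p ^ e * x ∈ frobPow I' (p ^ e) := by
    intro x hx
    induction hx using Submodule.span_induction with
    | mem x hx =>
      obtain ⟨y, hy, rfl⟩ := hx
      rw [← mul_pow]
      exact pow_mem_frobPow (h1 y hy) _
    | zero => simp
    | add x y _ _ hx hy => rw [mul_add]; exact Ideal.add_mem _ hx hy
    | smul a x _ hx =>
      rw [smul_eq_mul, mul_left_comm]; exact Ideal.mul_mem_left _ _ hx
  have := h3 _ (he e hee)
  rwa [mul_pow, mul_left_comm]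

end Frob

section Others

variable {n : ℕ}

/-- The ideal generated by the members of the family `z` other than `z k`. -/
def others (z : Fin n → R) (k : Fin n) : Ideal R := Ideal.span (z '' {i | i ≠ k})

theorem span_range_eq (z : Fin n → R) (k : Fin n) :
    Ideal.span (Set.range z) = others z k ⊔ Ideal.span {z k} := by
  unfold others
  rw [← Ideal.span_union]
  congr 1
  ext x
  constructor
  · rintro ⟨i, rfl⟩
    by_cases h : i = k
    · right; rw [h]; rfl
    · left; exact ⟨i, h, rfl⟩
  · rintro (⟨i, _, rfl⟩ | h)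
    · exact ⟨i, rfl⟩
    · rw [Set.mem_singleton_iff] at h
      exact ⟨k, h.symm⟩

theorem others_update (z : Fin n → R) (k : Fin n) (w : R) :
    others (Function.update z k w) k = others z k := by
  unfold others
  congr 1
  ext x
  constructor
  · rintro ⟨i, hi, rfl⟩
    exact ⟨i, hi, by rw [Function.update_of_ne hi]⟩
  · rintro ⟨i, hi, rfl⟩
    exact ⟨i, hi, by rw [Function.update_of_ne hi]⟩

theorem span_range_update (z : Fin n → R) (k : Fin n) (w : R) :
    Ideal.span (Set.range (Function.update z k w)) = others z k ⊔ Ideal.span {w} := by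
  rw [span_range_eq _ k, others_update, Function.update_self]

theorem others_le (z : Fin n → R) (k : Fin n) : others z k ≤ Ideal.span (Set.range z) := by
  rw [span_range_eq z k]; exact le_sup_left

end Others

section CM

variable {n : ℕ} [IsLocalRing R]

/-- `z` is a system of parameters: it generates an ideal whose radical is the maximal ideal. -/
def IsSop (z : Fin n → R) : Prop := (Ideal.span (Set.range z)).radical = maximalIdeal R

theorem IsSop.mem_maximalIdeal {z : Fin n → R} (hz : IsSop z) (i : Fin n) :
    z i ∈ maximalIdeal R := by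
  rw [← hz]
  exact Ideal.le_radical (Ideal.subset_span ⟨i, rfl⟩)

theorem ringKrullDim_quotient_eq_zero_of_radical_eq {I : Ideal R}
    (hI : I.radical = maximalIdeal R) : ringKrullDim (R ⧸ I) = 0 := by
  rw [ringKrullDim_quotient]
  have hne : Nonempty (PrimeSpectrum.zeroLocus (I : Set R)) :=
    ⟨⟨IsLocalRing.closedPoint R, by
      rw [PrimeSpectrum.mem_zeroLocus]
      exact (hI ▸ Ideal.le_radical : I ≤ maximalIdeal R)⟩⟩
  have hsub : Subsingleton (PrimeSpectrum.zeroLocus (I : Set R)) := by
    refine ⟨fun a b => ?_⟩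
    have key : ∀ c : PrimeSpectrum.zeroLocus (I : Set R), c.1 = IsLocalRing.closedPoint R := by
      intro c
      apply PrimeSpectrum.ext
      apply le_antisymm (le_maximalIdeal c.1.2.ne_top)
      show maximalIdeal R ≤ c.1.asIdeal
      rw [← hI]
      exact (Ideal.IsPrime.radical_le_iff c.1.2).mpr c.2
    exact Subtype.ext ((key a).trans (key b).symm)
  exact Order.krullDim_eq_zero

/-- In a Cohen–Macaulay local ring of dimension `n`, each member of a system of `n` parameters is
a non-zero-divisor modulo the others. -/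
theorem regular_mod_others [IsCohenMacaulayLocalRing R] (hdim : ringKrullDim R = n)
    (z : Fin n → R) (hz : IsSop z) (k : Fin n) :
    ∀ r, z k * r ∈ others z k → r ∈ others z k := by
  classical
  set xs : List R := ((List.finRange n).erase k).map z with hxs
  have hofxs : Ideal.ofList xs = others z k := by
    unfold Ideal.ofList others
    congr 1
    ext x
    simp only [hxs, List.mem_map, Set.mem_setOf_eq, Set.mem_image]
    constructor
    · rintro ⟨i, hi, rfl⟩
      exact ⟨i, ((List.nodup_finRange n).mem_erase_iff.mp hi).1, rfl⟩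
    · rintro ⟨i, hi, rfl⟩
      exact ⟨i, (List.nodup_finRange n).mem_erase_iff.mpr ⟨hi, List.mem_finRange i⟩, rfl⟩
  have hlen : (xs ++ [z k]).length = n := by
    simp only [hxs, List.length_append, List.length_map, List.length_singleton]
    rw [List.length_erase_of_mem (List.mem_finRange k), List.length_finRange]
    have : 0 < n := Fin.pos k
    omega
  have hofL : Ideal.ofList (xs ++ [z k]) = Ideal.span (Set.range z) := by
    rw [Ideal.ofList_append, hofxs, Ideal.ofList_singleton, span_range_eq z k]
  have hmem : ∀ x ∈ xs ++ [z k], x ∈ maximalIdeal R := by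
    intro x hx
    have : x ∈ Ideal.ofList (xs ++ [z k]) := Ideal.subset_span hx
    rw [hofL] at this
    rw [← hz]
    exact Ideal.le_radical this
  have hCM : LocCoh.IsCohenMacaulayModule R R := IsCohenMacaulayLocalRing.supportDim_eq_depth
  have key := (Groth.Agent.Lib.Helper29.CMLib.isWeaklyRegular_iff_of_isCM R (xs ++ [z k]) R hCM
    hmem).1
  have hdim0 : Module.supportDim R (R ⧸ (Ideal.ofList (xs ++ [z k]) • (⊤ : Submodule R R))) = 0 := by
    have e : (R ⧸ (Ideal.ofList (xs ++ [z k]) • (⊤ : Submodule R R))) ≃ₗ[R]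
        (R ⧸ Ideal.span (Set.range z)) :=
      Submodule.quotEquivOfEq _ _ (by rw [smul_eq_mul, Ideal.mul_top, hofL])
    rw [Module.supportDim_eq_of_equiv e, Module.supportDim_quotient_eq_ringKrullDim]
    exact ringKrullDim_quotient_eq_zero_of_radical_eq hz
  have hreg : RingTheory.Sequence.IsWeaklyRegular R (xs ++ [z k]) := by
    rw [key, hdim0, hlen, Module.supportDim_self_eq_ringKrullDim, hdim, zero_add]
  have h2 := ((RingTheory.Sequence.isWeaklyRegular_append_iff R xs [z k]).mp hreg).2
  rw [RingTheory.Sequence.isWeaklyRegular_singleton_iff] at h2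
  intro r hr
  have h3 : (z k) • (Submodule.Quotient.mk r : R ⧸ (Ideal.ofList xs • (⊤ : Submodule R R))) = 0 := by
    rw [← Submodule.Quotient.mk_smul, Submodule.Quotient.mk_eq_zero, smul_eq_mul, smul_eq_mul,
      Ideal.mul_top, hofxs]
    exact hr
  have h4 := h2 (by rw [h3, smul_zero] : (z k) • (Submodule.Quotient.mk r :
    R ⧸ (Ideal.ofList xs • (⊤ : Submodule R R))) = (z k) • 0)
  rw [Submodule.Quotient.mk_eq_zero, smul_eq_mul, Ideal.mul_top, hofxs] at h4
  exact h4

theorem pow_regular_of_regular {J : Ideal R} {x : R} (h : ∀ r, x * r ∈ J → r ∈ J) (m : ℕ) :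
    ∀ r, x ^ m * r ∈ J → r ∈ J := by
  induction m with
  | zero => intro r hr; simpa using hr
  | succ m ih =>
    intro r hr
    apply ih
    apply h
    rw [← mul_assoc, ← pow_succ']
    exact hr

end CM

end Groth.Agent.Lib.Helper87.Tight
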