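import Mathlib
import Groth.Agent.Lib.Helper87.TightBasic

/-!
# Powers of a tightly closed parameter ideal are tightly closed (Cohen–Macaulay case)
-/

set_option autoImplicit false
universe u

namespace Groth.Agent.Lib.Helper87.Tight

open LocCoh IsLocalRing

variable {R : Type u} [CommRing R] {n : ℕ}

theorem radical_span_pow (z : Fin n → R) (t : Fin n → ℕ) (ht : ∀ i, 1 ≤ t i) :
    (Ideal.span (Set.range fun i => z i ^ t i)).radical = (Ideal.span (Set.range z)).radical := by
  apply le_antisymm
  · apply Ideal.radical_mono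
    apply Ideal.span_le.mpr
    rintro _ ⟨i, rfl⟩
    exact Ideal.pow_mem_of_mem _ (Ideal.subset_span (Set.mem_range_self i)) _ (ht i)
  · rw [← Ideal.radical_idem (Ideal.span (Set.range fun i => z i ^ t i))]
    apply Ideal.radical_mono
    apply Ideal.span_le.mpr
    rintro _ ⟨i, rfl⟩
    exact ⟨t i, Ideal.subset_span ⟨i, rfl⟩⟩

section

variable [IsLocalRing R]

theorem IsSop.pow {z : Fin n → R} (hz : IsSop z) (t : Fin n → ℕ) (ht : ∀ i, 1 ≤ t i) :
    IsSop (fun i => z i ^ t i) := by
  unfold IsSop
  rw [radical_span_pow z t ht]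
  exact hz

theorem IsSop.update_pow {z : Fin n → R} (hz : IsSop z) (k : Fin n) (q : ℕ) (hq : 1 ≤ q) :
    IsSop (Function.update (fun j => z j ^ q) k (z k)) := by
  have : Function.update (fun j => z j ^ q) k (z k) =
      fun j => z j ^ (Function.update (fun _ => q) k 1 : Fin n → ℕ) j := by
    funext j
    by_cases h : j = k
    · subst h; simp
    · simp [Function.update_of_ne h]
  rw [this]
  apply hz.pow
  intro i
  by_cases h : i = k
  · subst h; simp
  · simpa [Function.update_of_ne h] using hq

end

variable (p : ℕ) [Fact p.Prime] [CharP R p] [IsCohenMacaulayLocalRing R]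

theorem frobPow_others (z : Fin n → R) (k : Fin n) (e : ℕ) :
    frobPow (others z k) (p ^ e) =
      others (Function.update (fun j => z j ^ p ^ e) k (z k)) k := by
  rw [others_update]
  unfold others
  rw [frobPow_span, Set.image_image]

/-- One-coordinate step: if `(z)` is tightly closed then so is `(z)` with `z k` replaced by a
positive power. -/
theorem isTightlyClosed_update_pow (hdim : ringKrullDim R = n) (z : Fin n → R) (hz : IsSop z)
    (k : Fin n) (hq : IsTightlyClosed p (Ideal.span (Set.range z))) :
    ∀ m : ℕ, 1 ≤ m → IsTightlyClosed p (Ideal.span (Set.range (Function.update z k (z k ^ m)))) := by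
  set J := others z k with hJ
  set x := z k with hx
  have hp1 : ∀ e : ℕ, 1 ≤ p ^ e := fun e => Nat.one_le_pow _ _ (Fact.out : p.Prime).pos
  have hreg : ∀ e : ℕ, ∀ r, x * r ∈ frobPow J (p ^ e) → r ∈ frobPow J (p ^ e) := by
    intro e r hr
    rw [hJ, frobPow_others] at hr ⊢
    have := regular_mod_others hdim _ (hz.update_pow k (p ^ e) (hp1 e)) k r
    rw [Function.update_self] at this
    exact this hr
  intro m hm
  induction m, hm using Nat.le_induction with
  | base =>
    rw [pow_one, Function.update_eq_self]
    exact hq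
  | succ m hm ih =>
    rw [span_range_update] at ih ⊢
    rw [← hJ] at ih ⊢
    rintro r ⟨c, hc, e₀, he⟩
    -- step (i)
    have hle : J ⊔ Ideal.span {x ^ (m + 1)} ≤ J ⊔ Ideal.span {x ^ m} := by
      apply sup_le le_sup_left
      rw [Ideal.span_singleton_le_iff_mem, pow_succ]
      exact Ideal.mem_sup_right (Ideal.mul_mem_right _ _ (Ideal.mem_span_singleton_self _))
    have hr1 : r ∈ J ⊔ Ideal.span {x ^ m} :=
      ih (tightClosure_mono p hle ⟨c, hc, e₀, he⟩)
    obtain ⟨j₀, hj₀, v, hv, rfl⟩ := Submodule.mem_sup.mp hr1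
    obtain ⟨s, rfl⟩ := Ideal.mem_span_singleton'.mp hv
    -- step (ii)
    have hs : s ∈ tightClosure p (Ideal.span (Set.range z)) := by
      refine ⟨c, hc, e₀, fun e hee => ?_⟩
      rw [span_range_eq z k, ← hJ, ← hx, frobPow_sup_span_singleton]
      have h1 := he e hee
      rw [frobPow_sup_span_singleton, add_pow_char_pow, mul_add] at h1
      have h2 : c * j₀ ^ p ^ e ∈ frobPow J (p ^ e) ⊔ Ideal.span {(x ^ (m + 1)) ^ p ^ e} :=
        Ideal.mem_sup_left (Ideal.mul_mem_left _ _ (pow_mem_frobPow hj₀ _))
      have h3 := (Ideal.add_mem_iff_right _ h2).mp h1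
      obtain ⟨j₁, hj₁, w, hw, hsum⟩ := Submodule.mem_sup.mp h3
      obtain ⟨u, rfl⟩ := Ideal.mem_span_singleton'.mp hw
      have h4 : x ^ (m * p ^ e) * (c * s ^ p ^ e - u * x ^ p ^ e) ∈ frobPow J (p ^ e) := by
        have : x ^ (m * p ^ e) * (c * s ^ p ^ e - u * x ^ p ^ e) = j₁ := by
          have e1 : c * (s * x ^ m) ^ p ^ e = x ^ (m * p ^ e) * (c * s ^ p ^ e) := by
            rw [mul_pow, ← pow_mul]; ring
          have e2 : u * (x ^ (m + 1)) ^ p ^ e = x ^ (m * p ^ e) * (u * x ^ p ^ e) := by
            rw [← pow_mul, add_mul, one_mul, pow_add]; ring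
          rw [e1, e2] at hsum
          linear_combination -hsum
        rw [this]; exact hj₁
      have h5 := pow_regular_of_regular (hreg e) (m * p ^ e) _ h4
      have : c * s ^ p ^ e = (c * s ^ p ^ e - u * x ^ p ^ e) + u * x ^ p ^ e := by ring
      rw [this]
      exact Ideal.add_mem _ (Ideal.mem_sup_left h5)
        (Ideal.mem_sup_right (Ideal.mul_mem_left _ _ (Ideal.mem_span_singleton_self _)))
    -- step (iii)
    have hs2 := hq hs
    rw [SetLike.mem_coe, span_range_eq z k, ← hJ, ← hx] at hs2
    obtain ⟨j₂, hj₂, v₂, hv₂, rfl⟩ := Submodule.mem_sup.mp hs2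
    obtain ⟨v, rfl⟩ := Ideal.mem_span_singleton'.mp hv₂
    have : j₀ + (j₂ + v * x) * x ^ m = (j₀ + j₂ * x ^ m) + v * x ^ (m + 1) := by ring
    rw [SetLike.mem_coe, this]
    exact Ideal.add_mem _ (Ideal.mem_sup_left (Ideal.add_mem _ hj₀ (Ideal.mul_mem_right _ _ hj₂)))
      (Ideal.mem_sup_right (Ideal.mul_mem_left _ _ (Ideal.mem_span_singleton_self _)))

/-- S11634 in library form: powers of a tightly closed parameter ideal are tightly closed. -/
theorem isTightlyClosed_pow (hdim : ringKrullDim R = n) (a : Fin n → R) (ha : IsSop a)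
    (hq : IsTightlyClosed p (Ideal.span (Set.range a))) (t : Fin n → ℕ) (ht : ∀ i, 1 ≤ t i) :
    IsTightlyClosed p (Ideal.span (Set.range fun i => a i ^ t i)) := by
  classical
  have key : ∀ s : Finset (Fin n),
      IsTightlyClosed p (Ideal.span (Set.range fun j => if j ∈ s then a j ^ t j else a j)) := by
    intro s
    induction s using Finset.induction_on with
    | empty => simpa using hq
    | insert k s hk ih =>
      have hsop : IsSop (fun j => if j ∈ s then a j ^ t j else a j) := by
        have : (fun j => if j ∈ s then a j ^ t j else a j) =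
            fun j => a j ^ (if j ∈ s then t j else 1) := by
          funext j; split_ifs <;> simp
        rw [this]
        apply ha.pow
        intro i; split_ifs
        · exact ht i
        · exact le_rfl
      have := isTightlyClosed_update_pow p hdim _ hsop k ih (t k) (ht k)
      have heq : Function.update (fun j => if j ∈ s then a j ^ t j else a j) k
          ((fun j => if j ∈ s then a j ^ t j else a j) k ^ t k) =
          fun j => if j ∈ insert k s then a j ^ t j else a j := by
        funext j
        by_cases h : j = k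
        · subst h; simp [hk]
        · simp [Function.update_of_ne h, Finset.mem_insert, h]
      rw [heq] at this
      exact this
  simpa using key Finset.univ

end Groth.Agent.Lib.Helper87.Tight
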