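import Mathlib
import Groth.Agent.Lib.Helper87.TightPow
import Groth.Agent.Lib.Helper87.Staircase

/-!
# Lengths of quotients by powers of parameters in a Cohen–Macaulay local ring

For a system of parameters `z` of a Cohen–Macaulay local ring of dimension `n`,
`tⁿ · ℓ(R/(z)) ≤ ℓ(R/(z₁ᵗ, …, zₙᵗ))`.
-/

set_option autoImplicit false
universe u

namespace Groth.Agent.Lib.Helper87.Tight

open LocCoh IsLocalRing Groth.Agent.Lib.Helper87.Staircase

variable {R : Type u} [CommRing R] {n : ℕ} [IsCohenMacaulayLocalRing R]

theorem add_length_update_pow_le (hdim : ringKrullDim R = n) (z : Fin n → R) (hz : IsSop z)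
    (k : Fin n) (a : ℕ) :
    Module.length R (R ⧸ Ideal.span (Set.range z)) +
      Module.length R (R ⧸ Ideal.span (Set.range (Function.update z k (z k ^ a)))) ≤
    Module.length R (R ⧸ Ideal.span (Set.range (Function.update z k (z k ^ (a + 1))))) := by
  rw [span_range_update, span_range_update, span_range_eq z k]
  refine add_length_quot_le _ _ _ (z k) ?_ ?_ ?_
  · refine sup_le le_sup_left ?_
    rw [Ideal.span_singleton_le_iff_mem, pow_succ]
    exact Ideal.mem_sup_right (Ideal.mul_mem_left _ _ (Ideal.mem_span_singleton_self _))
  · exact Ideal.mem_sup_right (Ideal.mem_span_singleton_self _)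
  · intro w hw
    obtain ⟨o, ho, y, hy, hoy⟩ := Submodule.mem_sup.mp hw
    obtain ⟨c, rfl⟩ := Ideal.mem_span_singleton'.mp hy
    have h1 : z k * (w - c * z k ^ a) = o := by
      have : z k * (w - c * z k ^ a) = z k * w - c * z k ^ (a + 1) := by ring
      rw [this, ← hoy]; ring
    have h2 : w - c * z k ^ a ∈ others z k := by
      apply regular_mod_others hdim z hz k
      rw [h1]; exact ho
    have h3 : w = (w - c * z k ^ a) + c * z k ^ a := by ring
    rw [h3]
    exact Ideal.add_mem _ (Ideal.mem_sup_left h2)
      (Ideal.mem_sup_right (Ideal.mul_mem_left _ _ (Ideal.mem_span_singleton_self _)))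

theorem mul_length_le_update_pow (hdim : ringKrullDim R = n) (z : Fin n → R) (hz : IsSop z)
    (k : Fin n) (a : ℕ) (ha : 1 ≤ a) :
    (a : ℕ∞) * Module.length R (R ⧸ Ideal.span (Set.range z)) ≤
      Module.length R (R ⧸ Ideal.span (Set.range (Function.update z k (z k ^ a)))) := by
  induction a with
  | zero => omega
  | succ a ih =>
    rcases Nat.eq_zero_or_pos a with rfl | hpos
    · have e : Function.update z k (z k ^ (0 + 1)) = z := by
        rw [zero_add, pow_one, Function.update_eq_self]
      rw [e]
      simp
    · have h1 := ih hpos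
      have h2 := add_length_update_pow_le hdim z hz k a
      calc ((a + 1 : ℕ) : ℕ∞) * Module.length R (R ⧸ Ideal.span (Set.range z))
          = Module.length R (R ⧸ Ideal.span (Set.range z)) +
            (a : ℕ∞) * Module.length R (R ⧸ Ideal.span (Set.range z)) := by
            push_cast; ring
        _ ≤ Module.length R (R ⧸ Ideal.span (Set.range z)) +
            Module.length R (R ⧸ Ideal.span (Set.range (Function.update z k (z k ^ a)))) := by
            gcongr
        _ ≤ _ := h2

/-- `tⁿ · ℓ(R/(z)) ≤ ℓ(R/(z₁ᵗ, …, zₙᵗ))` for a system of parameters in a Cohen–Macaulay ring. -/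
theorem pow_mul_length_le (hdim : ringKrullDim R = n) (z : Fin n → R) (hz : IsSop z)
    (t : ℕ) (ht : 1 ≤ t) :
    ((t ^ n : ℕ) : ℕ∞) * Module.length R (R ⧸ Ideal.span (Set.range z)) ≤
      Module.length R (R ⧸ Ideal.span (Set.range fun i => z i ^ t)) := by
  classical
  have key : ∀ s : Finset (Fin n),
      ((t ^ s.card : ℕ) : ℕ∞) * Module.length R (R ⧸ Ideal.span (Set.range z)) ≤
        Module.length R (R ⧸ Ideal.span (Set.range fun j => if j ∈ s then z j ^ t else z j)) := by
    intro s
    induction s using Finset.induction_on with
    | empty =>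
      have e : (fun j : Fin n => if j ∈ (∅ : Finset (Fin n)) then z j ^ t else z j) = z := by
        funext j; simp
      rw [e]
      simp
    | insert k s hk ih =>
      set y : Fin n → R := fun j => if j ∈ s then z j ^ t else z j with hy
      have hysop : IsSop y := by
        have h := hz.pow (fun j => if j ∈ s then t else 1) (fun j => by split_ifs <;> omega)
        have e : (fun j => z j ^ (if j ∈ s then t else 1)) = y := by
          funext j
          simp only [hy]
          split_ifs <;> simp
        rwa [e] at h
      have hyk : y k = z k := by simp [hy, hk]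
      have hupd : Function.update y k (y k ^ t) =
          fun j => if j ∈ insert k s then z j ^ t else z j := by
        funext j
        by_cases hjk : j = k
        · subst hjk
          simp [hyk]
        · simp [hy, hjk]
      have h1 := mul_length_le_update_pow hdim y hysop k t ht
      rw [hupd] at h1
      refine le_trans ?_ h1
      rw [Finset.card_insert_of_notMem hk]
      calc ((t ^ (s.card + 1) : ℕ) : ℕ∞) * Module.length R (R ⧸ Ideal.span (Set.range z))
          = (t : ℕ∞) * (((t ^ s.card : ℕ) : ℕ∞) *
              Module.length R (R ⧸ Ideal.span (Set.range z))) := by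
            push_cast; ring
        _ ≤ (t : ℕ∞) * Module.length R (R ⧸ Ideal.span (Set.range y)) := by gcongr
  have h := key Finset.univ
  have e : (fun j : Fin n => if j ∈ (Finset.univ : Finset (Fin n)) then z j ^ t else z j) =
      fun i => z i ^ t := by
    funext j; simp
  rw [e] at h
  simpa using h

end Groth.Agent.Lib.Helper87.Tight
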