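import Mathlib
import Groth.Agent.Lib.Helper87.Staircase

/-!
# Relative staircase bounds and powers of an ideal as staircase ideals
-/

namespace Groth.Agent.Lib.Helper87.Staircase

open Module

variable {R : Type*} [CommRing R] {n : ℕ}

theorem isLowerSet_erase {S : Finset (Fin n → ℕ)} (hlow : IsLowerSet (S : Set (Fin n → ℕ)))
    {μ : Fin n → ℕ} (hmax : ∀ ν ∈ S, μ ≤ ν → ν = μ) [DecidableEq (Fin n → ℕ)] :
    IsLowerSet ((S.erase μ : Finset (Fin n → ℕ)) : Set (Fin n → ℕ)) := by
  intro ν' ν hle hν'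
  simp only [Finset.coe_erase, Set.mem_sdiff, Finset.mem_coe, Set.mem_singleton_iff] at hν' ⊢
  refine ⟨hlow hle hν'.1, ?_⟩
  rintro rfl
  exact hν'.2 (hmax ν' hν'.1 hle)

/-- Removing a maximal exponent from a staircase changes the length by at most `ℓ(R/(b))`. -/
theorem length_stair_erase_le (b : Fin n → R) (S : Finset (Fin n → ℕ))
    {μ : Fin n → ℕ} (hmax : ∀ ν ∈ S, μ ≤ ν → ν = μ) [DecidableEq (Fin n → ℕ)] :
    Module.length R (R ⧸ stair b S) ≤
      Module.length R (R ⧸ stair b (S.erase μ)) +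
        Module.length R (R ⧸ Ideal.span (Set.range b)) := by
  set S' := S.erase μ with hS'
  have hle1 : stair b S ≤ stair b S' := by
    apply Ideal.span_mono
    apply Set.image_mono
    intro ν hν
    simp only [Set.mem_ofPred_eq, hS', Finset.mem_erase, not_and] at hν ⊢
    exact fun _ h => hν h
  have hle2 : stair b S' ≤ stair b S ⊔ Ideal.span {mon b μ} := by
    apply Ideal.span_le.mpr
    rintro _ ⟨ν, hν, rfl⟩
    simp only [Set.mem_ofPred_eq, hS', Finset.mem_erase, not_and] at hν
    by_cases h : ν = μ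
    · subst h
      exact Ideal.mem_sup_right (Ideal.mem_span_singleton_self _)
    · exact Ideal.mem_sup_left (mon_mem_stair b S (hν h))
  have hB : ∀ x ∈ Ideal.span (Set.range b), x * mon b μ ∈ stair b S := by
    intro x hx
    induction hx using Submodule.span_induction with
    | mem x hx =>
      obtain ⟨i, rfl⟩ := hx
      rw [mon_add_single]
      apply mon_mem_stair
      intro hmem
      have h1 : μ ≤ μ + Pi.single i 1 := le_self_add
      have h2 := hmax _ hmem h1
      have h3 := congrFun h2 i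
      simp at h3
    | zero => simp
    | add x y _ _ hx hy => rw [add_mul]; exact Ideal.add_mem _ hx hy
    | smul a x _ hx => rw [smul_eq_mul, mul_assoc]; exact Ideal.mul_mem_left _ _ hx
  exact length_quot_le_add (stair b S) (stair b S') (Ideal.span (Set.range b)) (mon b μ)
    hle1 hle2 hB

/-- Relative staircase bound: for finite lower sets `S₀ ⊆ S`,
`ℓ(R/stair S) ≤ ℓ(R/stair S₀) + |S ∖ S₀| · ℓ(R/(b))`. -/
theorem length_stair_le_add (b : Fin n → R) [DecidableEq (Fin n → ℕ)] :
    ∀ (m : ℕ) (S₀ S : Finset (Fin n → ℕ)), S₀ ⊆ S → (S \ S₀).card = m →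
      IsLowerSet (S₀ : Set (Fin n → ℕ)) → IsLowerSet (S : Set (Fin n → ℕ)) →
      Module.length R (R ⧸ stair b S) ≤ Module.length R (R ⧸ stair b S₀) +
        m * Module.length R (R ⧸ Ideal.span (Set.range b)) := by
  intro m
  induction m with
  | zero =>
    intro S₀ S hsub hcard _ _
    have h1 : S \ S₀ = ∅ := Finset.card_eq_zero.mp hcard
    have h2 : S ⊆ S₀ := Finset.sdiff_eq_empty_iff_subset.mp h1
    have h3 : S = S₀ := Finset.Subset.antisymm h2 hsub
    rw [h3]
    simp
  | succ m ih =>
    intro S₀ S hsub hcard hlow₀ hlow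
    have hne : (S \ S₀).Nonempty := by
      rw [← Finset.card_pos]; omega
    obtain ⟨μ, hμ⟩ := (S \ S₀).exists_maximal hne
    have hμmem : μ ∈ S \ S₀ := hμ.prop
    have hμS : μ ∈ S := (Finset.mem_sdiff.mp hμmem).1
    have hμS₀ : μ ∉ S₀ := (Finset.mem_sdiff.mp hμmem).2
    have hmax : ∀ ν ∈ S, μ ≤ ν → ν = μ := by
      intro ν hν hle
      have hν₀ : ν ∉ S₀ := fun h => hμS₀ (hlow₀ hle h)
      have hνmem : ν ∈ S \ S₀ := Finset.mem_sdiff.mpr ⟨hν, hν₀⟩
      exact le_antisymm (hμ.le_of_ge hνmem hle) hle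
    have hsub' : S₀ ⊆ S.erase μ := by
      intro ν hν
      exact Finset.mem_erase.mpr ⟨fun h => hμS₀ (h ▸ hν), hsub hν⟩
    have hcard' : (S.erase μ \ S₀).card = m := by
      have : S.erase μ \ S₀ = (S \ S₀).erase μ := by
        ext ν
        simp only [Finset.mem_sdiff, Finset.mem_erase]
        tauto
      rw [this, Finset.card_erase_of_mem hμmem, hcard]
      rfl
    have h1 := length_stair_erase_le b S hmax
    have h2 := ih S₀ (S.erase μ) hsub' hcard' hlow₀ (isLowerSet_erase hlow hmax)
    calc Module.length R (R ⧸ stair b S)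
        ≤ Module.length R (R ⧸ stair b (S.erase μ)) +
          Module.length R (R ⧸ Ideal.span (Set.range b)) := h1
      _ ≤ (Module.length R (R ⧸ stair b S₀) +
          m * Module.length R (R ⧸ Ideal.span (Set.range b))) +
          Module.length R (R ⧸ Ideal.span (Set.range b)) := add_le_add h2 le_rfl
      _ = Module.length R (R ⧸ stair b S₀) +
          ((m + 1 : ℕ) : ℕ∞) * Module.length R (R ⧸ Ideal.span (Set.range b)) := by
        push_cast; rw [add_mul, one_mul, add_assoc]

/-- The degree of an exponent vector. -/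
def deg (ν : Fin n → ℕ) : ℕ := ∑ i, ν i

theorem deg_add_single (ν : Fin n → ℕ) (i : Fin n) : deg (ν + Pi.single i 1) = deg ν + 1 := by
  classical
  unfold deg
  simp only [Pi.add_apply, Finset.sum_add_distrib]
  congr 1
  rw [Finset.sum_eq_single i]
  · simp
  · intro j _ hj; simp [Pi.single_eq_of_ne hj]
  · intro h; exact absurd (Finset.mem_univ i) h

/-- The `k`-th power of `(b)` is generated by the monomials of degree `k`. -/
theorem span_pow_le (b : Fin n → R) (k : ℕ) :
    Ideal.span (Set.range b) ^ k ≤ Ideal.span (mon b '' {ν | deg ν = k}) := by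
  induction k with
  | zero =>
    rw [pow_zero, Ideal.one_eq_top]
    have : (1 : R) ∈ Ideal.span (mon b '' {ν | deg ν = 0}) := by
      apply Ideal.subset_span
      refine ⟨0, ?_, ?_⟩
      · simp [deg]
      · simp [mon]
    rw [(Ideal.eq_top_iff_one _).mpr this]
  | succ k ih =>
    rw [pow_succ']
    refine (Ideal.mul_mono_right ih).trans ?_
    rw [Ideal.span_mul_span]
    apply Ideal.span_le.mpr
    rintro _ ⟨_, ⟨i, rfl⟩, _, ⟨ν, hν, rfl⟩, rfl⟩
    apply Ideal.subset_span
    refine ⟨ν + Pi.single i 1, ?_, (mon_add_single b ν i).symm⟩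
    simp only [Set.mem_ofPred_eq] at hν ⊢
    rw [deg_add_single, hν]

theorem mon_mem_pow (b : Fin n → R) (ν : Fin n → ℕ) :
    mon b ν ∈ Ideal.span (Set.range b) ^ deg ν := by
  unfold mon deg
  rw [← Finset.prod_pow_eq_pow_sum]
  apply Ideal.prod_mem_prod
  intro i _
  exact Ideal.pow_mem_pow (Ideal.subset_span (Set.mem_range_self i)) _

end Groth.Agent.Lib.Helper87.Staircase
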