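import Mathlib
import Groth.Agent.Lib.Helper87.Staircase2

/-!
# The simplex and the cube of exponent vectors
-/

namespace Groth.Agent.Lib.Helper87.Staircase

variable {R : Type*} [CommRing R] {n : ℕ}

/-- The exponent vectors of degree at most `s`. -/
def simplex (n s : ℕ) : Finset (Fin n → ℕ) :=
  (Finset.range (s + 1)).biUnion fun k => Finset.piAntidiag Finset.univ k

theorem mem_simplex {s : ℕ} {ν : Fin n → ℕ} : ν ∈ simplex n s ↔ deg ν ≤ s := by
  simp only [simplex, Finset.mem_biUnion, Finset.mem_range, Finset.mem_piAntidiag,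
    Finset.mem_univ, implies_true, and_true]
  constructor
  · rintro ⟨k, hk, h⟩
    have : deg ν = k := h
    omega
  · intro h; exact ⟨deg ν, by omega, rfl⟩

theorem card_simplex (n s : ℕ) : (simplex n s).card = (s + n).choose n := by
  classical
  rw [simplex, Finset.card_biUnion]
  · have h : ∀ k, (Finset.piAntidiag (Finset.univ : Finset (Fin n)) k).card = n.multichoose k := by
      intro k
      have := Finset.card_finsuppAntidiag_nat_eq_multichoose (s := (Finset.univ : Finset (Fin n))) k
      rw [Finset.finsuppAntidiag, Finset.card_map, Finset.card_attach, Finset.card_univ,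
        Fintype.card_fin] at this
      exact this
    simp only [h]
    exact Nat.sum_range_multichoose s n
  · intro i _ j _ hij
    rw [Function.onFun, Finset.disjoint_left]
    intro ν hi hj
    rw [Finset.mem_piAntidiag] at hi hj
    exact hij (hi.1.symm.trans hj.1)

theorem deg_mono {ν ν' : Fin n → ℕ} (h : ν ≤ ν') : deg ν ≤ deg ν' :=
  Finset.sum_le_sum fun i _ => h i

theorem isLowerSet_simplex (n s : ℕ) : IsLowerSet (↑(simplex n s) : Set (Fin n → ℕ)) := by
  intro ν' ν hle hν'
  rw [Finset.mem_coe, mem_simplex] at hν' ⊢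
  exact (deg_mono hle).trans hν'

/-- The cube `[0,t)ⁿ`. -/
def cube (n t : ℕ) : Finset (Fin n → ℕ) := Fintype.piFinset fun _ : Fin n => Finset.range t

theorem mem_cube {t : ℕ} {ν : Fin n → ℕ} : ν ∈ cube n t ↔ ∀ i, ν i < t := by
  simp [cube, Fintype.mem_piFinset]

theorem card_cube (n t : ℕ) : (cube n t).card = t ^ n := by
  simp [cube, Fintype.card_piFinset]

theorem isLowerSet_cube (n t : ℕ) : IsLowerSet (↑(cube n t) : Set (Fin n → ℕ)) := by
  intro ν' ν hle hν'
  rw [Finset.mem_coe, mem_cube] at hν' ⊢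
  exact fun i => lt_of_le_of_lt (hle i) (hν' i)

theorem single_le_deg (ν : Fin n → ℕ) (i : Fin n) : ν i ≤ deg ν :=
  Finset.single_le_sum (f := ν) (fun _ _ => Nat.zero_le _) (Finset.mem_univ i)

theorem simplex_subset_cube (n s : ℕ) : simplex n s ⊆ cube n (s + 1) := by
  intro ν hν
  rw [mem_simplex] at hν
  rw [mem_cube]
  intro i
  have := single_le_deg ν i
  omega

theorem stair_simplex (b : Fin n → R) (s : ℕ) :
    stair b (simplex n s) = Ideal.span (Set.range b) ^ (s + 1) := by
  apply le_antisymm
  · apply Ideal.span_le.mpr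
    rintro _ ⟨ν, hν, rfl⟩
    simp only [Set.mem_ofPred_eq, mem_simplex, not_le] at hν
    exact Ideal.pow_le_pow_right hν (mon_mem_pow b ν)
  · refine (span_pow_le b (s + 1)).trans ?_
    apply Ideal.span_mono
    apply Set.image_mono
    intro ν hν
    simp only [Set.mem_ofPred_eq, mem_simplex, not_le] at hν ⊢
    omega

theorem stair_cube_le (b : Fin n → R) (t : ℕ) :
    stair b (cube n t) ≤ Ideal.span (Set.range fun i => b i ^ t) := by
  classical
  apply Ideal.span_le.mpr
  rintro _ ⟨ν, hν, rfl⟩
  simp only [Set.mem_ofPred_eq, mem_cube, not_forall, not_lt] at hν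
  obtain ⟨i, hi⟩ := hν
  have h1 : mon b ν = b i ^ t * (b i ^ (ν i - t) * ∏ j ∈ Finset.univ.erase i, b j ^ ν j) := by
    unfold mon
    rw [← Finset.mul_prod_erase Finset.univ _ (Finset.mem_univ i), ← mul_assoc, ← pow_add]
    congr 2
    omega
  rw [SetLike.mem_coe, h1]
  exact Ideal.mul_mem_right _ _ (Ideal.subset_span ⟨i, rfl⟩)

end Groth.Agent.Lib.Helper87.Staircase
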