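import Mathlib
import Groth.Agent.Lib.Helper87.CMLength
import Groth.Agent.Lib.Helper87.Simplex
import Groth.Agent.S0559

/-!
# The Hilbert function of a regular local ring
-/

set_option autoImplicit false
universe u

namespace Groth.Agent.Lib.Helper87.RegHilb

open LocCoh IsLocalRing Groth.Agent.Lib.Helper87.Staircase Groth.Agent.Lib.Helper87.Tight

open RingTheory.Sequence in
/-- A regular local ring is Cohen–Macaulay. -/
theorem isCM_of_regular (A : Type u) [CommRing A] [IsRegularLocalRing A] :
    IsCohenMacaulayLocalRing A := by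
  classical
  refine ⟨?_⟩
  have h5 : ((maximalIdeal A).spanFinrank : WithBot ℕ∞) = ringKrullDim A :=
    IsRegularLocalRing.spanFinrank_maximalIdeal
  set d := (maximalIdeal A).spanFinrank with hd
  have hfg : (maximalIdeal A).FG := IsNoetherian.noetherian _
  obtain ⟨s, hcard, hspan⟩ := Submodule.FG.exists_span_finset_card_eq_spanFinrank hfg
  let e := s.equivFinOfCardEq hcard
  let x : Fin d → A := fun i => (e.symm i : A)
  have hrange : Set.range x = (s : Set A) := by
    ext a
    constructor
    · rintro ⟨i, rfl⟩; exact (e.symm i).2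
    · intro ha; exact ⟨e ⟨a, ha⟩, by simp [x]⟩
  have hx : Ideal.span (Set.range x) = maximalIdeal A := by rw [hrange]; exact hspan
  have hreg := Groth.Agent.S0559.isRegular_aux d A rfl x hx
  have hmem : ∀ r ∈ List.ofFn x, r ∈ maximalIdeal A := by
    intro r hr
    rw [List.mem_ofFn] at hr
    obtain ⟨i, rfl⟩ := hr
    rw [← hx]; exact Ideal.subset_span ⟨i, rfl⟩
  apply le_antisymm
  · rw [Module.supportDim_self_eq_ringKrullDim, ← h5]
    have h1 := Groth.Agent.Lib.Helper29.DepthLib.length_le_idealDepth (maximalIdeal A) A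
      hreg.toIsWeaklyRegular hmem
    rw [List.length_ofFn] at h1
    have h2 : (d : ℕ∞) ≤ LocCoh.depth A A := h1
    exact_mod_cast h2
  · exact Groth.Agent.Lib.Helper29.DepthLib.depth_le_supportDim A A

variable {A : Type u} [CommRing A] [IsLocalRing A]

theorem length_quot_maximalIdeal : Module.length A (A ⧸ maximalIdeal A) = 1 := by
  rw [Module.length_eq_one_iff, isSimpleModule_iff_isCoatom, ← Ideal.isMaximal_def]
  exact maximalIdeal.isMaximal A

/-- The upper bound for the Hilbert–Samuel function in terms of the number of generators. -/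
theorem length_quot_pow_le {r : ℕ} (x : Fin r → A) (hx : Ideal.span (Set.range x) = maximalIdeal A)
    (s : ℕ) : Module.length A (A ⧸ maximalIdeal A ^ (s + 1)) ≤ ((s + r).choose r : ℕ∞) := by
  have h := length_stair_le x _ (simplex r s) rfl (isLowerSet_simplex r s)
  rw [stair_simplex, hx, length_quot_maximalIdeal, mul_one, card_simplex] at h
  exact h

/-- The Hilbert–Samuel function of a Cohen–Macaulay local ring whose maximal ideal is generated
by `dim A` elements. -/
theorem length_quot_pow_eq [IsCohenMacaulayLocalRing A] {r : ℕ} (hdim : ringKrullDim A = r)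
    (x : Fin r → A) (hx : Ideal.span (Set.range x) = maximalIdeal A) (s : ℕ) :
    Module.length A (A ⧸ maximalIdeal A ^ (s + 1)) = ((s + r).choose r : ℕ∞) := by
  classical
  apply le_antisymm (length_quot_pow_le x hx s)
  have hsop : IsSop x := by
    unfold IsSop
    rw [hx]
    exact (maximalIdeal.isMaximal A).isPrime.radical
  have h1 := pow_mul_length_le hdim x hsop (s + 1) (Nat.succ_pos s)
  rw [hx, length_quot_maximalIdeal, mul_one] at h1
  have h2 : Module.length A (A ⧸ Ideal.span (Set.range fun i => x i ^ (s + 1))) ≤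
      Module.length A (A ⧸ stair x (cube r (s + 1))) := length_quot_anti (stair_cube_le x (s + 1))
  have h3 := length_stair_le_add x _ (simplex r s) (cube r (s + 1)) (simplex_subset_cube r s) rfl
    (isLowerSet_simplex r s) (isLowerSet_cube r (s + 1))
  rw [stair_simplex, hx, length_quot_maximalIdeal, mul_one,
    Finset.card_sdiff_of_subset (simplex_subset_cube r s), card_cube, card_simplex] at h3
  have hle : (s + r).choose r ≤ (s + 1) ^ r := by
    rw [← card_cube r (s + 1), ← card_simplex r s]
    exact Finset.card_le_card (simplex_subset_cube r s)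
  have hfin : Module.length A (A ⧸ maximalIdeal A ^ (s + 1)) ≠ ⊤ :=
    ne_top_of_le_ne_top (ENat.natCast_ne_top _) (length_quot_pow_le x hx s)
  obtain ⟨ℓ, hℓ⟩ := ENat.ne_top_iff_exists.mp hfin
  rw [← hℓ] at h3 ⊢
  have h4 : (((s + 1) ^ r : ℕ) : ℕ∞) ≤ ((ℓ + ((s + 1) ^ r - (s + r).choose r) : ℕ) : ℕ∞) := by
    push_cast
    exact (h1.trans h2).trans h3
  have h5 : (s + 1) ^ r ≤ ℓ + ((s + 1) ^ r - (s + r).choose r) := by exact_mod_cast h4
  have h6 : (s + r).choose r ≤ ℓ := by omega
  exact_mod_cast h6

end Groth.Agent.Lib.Helper87.RegHilb
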