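import Mathlib

/-!
# Degree of a rational polynomial from the growth of its values at natural numbers
-/

namespace Groth.Agent.Lib.Helper87.PolyGrowth

open Polynomial Filter Topology

theorem eq_zero_of_eventually_eval_eq_zero (P : ℚ[X])
    (h : ∀ᶠ n : ℕ in atTop, P.eval (n : ℚ) = 0) : P = 0 := by
  obtain ⟨N, hN⟩ := eventually_atTop.mp h
  apply Polynomial.eq_zero_of_infinite_isRoot
  have hinf : (Set.range fun k : ℕ => ((N + k : ℕ) : ℚ)).Infinite := by
    apply Set.infinite_range_of_injective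
    intro a b hab
    simp only at hab
    have : (N + a : ℕ) = N + b := by exact_mod_cast hab
    omega
  refine hinf.mono ?_
  rintro _ ⟨k, rfl⟩
  exact hN (N + k) (Nat.le_add_right _ _)

/-- If `|P(n)| ≤ |Q(n)|` for all large natural `n` then `deg P ≤ deg Q`. -/
theorem degree_le_of_eventually_abs_le (P Q : ℚ[X])
    (h : ∀ᶠ n : ℕ in atTop, |P.eval (n : ℚ)| ≤ |Q.eval (n : ℚ)|) : P.degree ≤ Q.degree := by
  by_contra hlt
  rw [not_le] at hlt
  by_cases hQ : Q = 0
  · have hP : P = 0 := by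
      apply eq_zero_of_eventually_eval_eq_zero
      filter_upwards [h] with n hn
      rw [hQ, eval_zero, abs_zero] at hn
      exact abs_eq_zero.mp (le_antisymm hn (abs_nonneg _))
    rw [hP, hQ] at hlt
    exact lt_irrefl _ hlt
  · have hT := (Polynomial.abs_div_tendsto_atTop_atTop_of_degree_gt P Q hlt hQ).comp
      (tendsto_natCast_atTop_atTop (R := ℚ))
    have h2 := hT.eventually_ge_atTop 2
    obtain ⟨n, hn1, hn2⟩ := (h.and h2).exists
    simp only [Function.comp_apply] at hn2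
    rw [abs_div] at hn2
    have h3 : |P.eval (n : ℚ)| / |Q.eval (n : ℚ)| ≤ 1 := by
      rcases eq_or_ne (Q.eval (n : ℚ)) 0 with h0 | h0
      · rw [h0, abs_zero, div_zero]; exact zero_le_one
      · exact (div_le_one (abs_pos.mpr h0)).mpr hn1
    linarith

/-- Upper bound for the degree. -/
theorem natDegree_le_of_eventually_le (P Q : ℚ[X]) (d : ℕ) (hQ : Q.degree < (d + 1 : ℕ))
    (h : ∀ᶠ n : ℕ in atTop, 0 ≤ P.eval (n : ℚ) ∧ P.eval (n : ℚ) ≤ Q.eval (n : ℚ)) :
    P.natDegree ≤ d := by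
  have h1 : P.degree ≤ Q.degree := by
    apply degree_le_of_eventually_abs_le
    filter_upwards [h] with n hn
    rw [abs_of_nonneg hn.1, abs_of_nonneg (hn.1.trans hn.2)]
    exact hn.2
  have h2 : P.degree < (d + 1 : ℕ) := lt_of_le_of_lt h1 hQ
  by_cases hP : P = 0
  · rw [hP, natDegree_zero]; exact Nat.zero_le _
  · rw [degree_eq_natDegree hP] at h2
    have : P.natDegree < d + 1 := by exact_mod_cast h2
    omega

/-- Lower bound for the degree. -/
theorem le_natDegree_of_eventually_pow_le (P : ℚ[X]) (d c : ℕ) (C : ℚ)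
    (h : ∀ᶠ n : ℕ in atTop, (((n - c : ℕ) : ℚ)) ^ d ≤ C * P.eval (n : ℚ)) :
    d ≤ P.natDegree := by
  have h1 : ((X - Polynomial.C (c : ℚ)) ^ d : ℚ[X]).degree ≤ (C • P).degree := by
    apply degree_le_of_eventually_abs_le
    filter_upwards [h, eventually_ge_atTop c] with n hn hnc
    have e1 : ((X - Polynomial.C (c : ℚ)) ^ d : ℚ[X]).eval (n : ℚ) = (((n - c : ℕ) : ℚ)) ^ d := by
      simp [Nat.cast_sub hnc]
    rw [e1, eval_smul, smul_eq_mul]
    have hnn : (0 : ℚ) ≤ (((n - c : ℕ) : ℚ)) ^ d := by positivity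
    rw [abs_of_nonneg hnn, abs_of_nonneg (hnn.trans hn)]
    exact hn
  have h2 : ((X - Polynomial.C (c : ℚ)) ^ d : ℚ[X]).degree = d := by
    rw [degree_pow, degree_X_sub_C]
    simp
  rw [h2] at h1
  have h3 : (C • P).degree ≤ P.degree := degree_smul_le _ _
  have h4 : (d : WithBot ℕ) ≤ P.degree := h1.trans h3
  exact le_natDegree_of_coe_le_degree h4

end Groth.Agent.Lib.Helper87.PolyGrowth
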