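import Mathlib
import Groth.Agent.Lib.Helper87.PolyGrowth

/-!
# Support dimension along a submodule, and degrees of sums of eventually nonnegative polynomials
-/

set_option autoImplicit false
set_option linter.style.haveILetI false
universe u

namespace Groth.Agent.Lib.Helper87.ModHilbA

open Filter Polynomial

section Supp

variable {R : Type*} [CommRing R] {B : Type*} [AddCommGroup B] [Module R B]

theorem krullDim_union_le {α : Type*} [Preorder α] (S₁ S₂ : Set α)
    (h₁ : ∀ ⦃p q : α⦄, p ≤ q → p ∈ S₁ → q ∈ S₁) (h₂ : ∀ ⦃p q : α⦄, p ≤ q → p ∈ S₂ → q ∈ S₂)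
    (t : WithBot ℕ∞) (ht₁ : Order.krullDim S₁ ≤ t) (ht₂ : Order.krullDim S₂ ≤ t) :
    Order.krullDim (S₁ ∪ S₂ : Set α) ≤ t := by
  unfold Order.krullDim
  refine iSup_le fun l => ?_
  have key : ∀ (S : Set α), (∀ ⦃p q : α⦄, p ≤ q → p ∈ S → q ∈ S) → Order.krullDim S ≤ t →
      (l.head : α) ∈ S → (l.length : WithBot ℕ∞) ≤ t := by
    intro S hS hSt hhead
    have hmem : ∀ i, ((l i : (S₁ ∪ S₂ : Set α)) : α) ∈ S := fun i =>
      hS (show (l.head : α) ≤ (l i : α) from l.head_le i) hhead
    let l' : LTSeries S :=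
      { length := l.length
        toFun := fun i => ⟨(l i : α), hmem i⟩
        step := fun i => l.step i }
    exact (Order.LTSeries.length_le_krullDim l').trans hSt
  rcases (l.head).2 with h | h
  · exact key S₁ h₁ ht₁ h
  · exact key S₂ h₂ ht₂ h

theorem supportDim_le_iff (K : Submodule R B) (t : WithBot ℕ∞) :
    Module.supportDim R B ≤ t ↔
      Module.supportDim R K ≤ t ∧ Module.supportDim R (B ⧸ K) ≤ t := by
  constructor
  · intro h
    exact ⟨(Module.supportDim_le_of_injective K.subtype K.subtype_injective).trans h,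
      (Module.supportDim_le_of_surjective K.mkQ K.mkQ_surjective).trans h⟩
  · rintro ⟨h1, h2⟩
    have hsupp := Module.support_of_exact (LinearMap.exact_subtype_mkQ K) K.subtype_injective
      K.mkQ_surjective
    unfold Module.supportDim at *
    rw [hsupp]
    exact krullDim_union_le _ _ (fun p q hpq hp => Module.mem_support_mono hpq hp)
      (fun p q hpq hp => Module.mem_support_mono hpq hp) t h1 h2

end Supp

section Poly

/-- eventually nonnegative on the naturals -/
def ENN (P : ℚ[X]) : Prop := ∃ n₀ : ℕ, ∀ n : ℕ, n₀ ≤ n → 0 ≤ P.eval (n : ℚ)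

theorem degree_add_eq_max {P Q : ℚ[X]} (hP : ENN P) (hQ : ENN Q) :
    (P + Q).degree = max P.degree Q.degree := by
  obtain ⟨n₁, h₁⟩ := hP
  obtain ⟨n₂, h₂⟩ := hQ
  apply le_antisymm (degree_add_le P Q)
  apply max_le
  · apply Groth.Agent.Lib.Helper87.PolyGrowth.degree_le_of_eventually_abs_le
    filter_upwards [eventually_ge_atTop n₁, eventually_ge_atTop n₂] with n hn1 hn2
    have a := h₁ n hn1
    have b := h₂ n hn2
    rw [eval_add, abs_of_nonneg a, abs_of_nonneg (add_nonneg a b)]
    linarith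
  · apply Groth.Agent.Lib.Helper87.PolyGrowth.degree_le_of_eventually_abs_le
    filter_upwards [eventually_ge_atTop n₁, eventually_ge_atTop n₂] with n hn1 hn2
    have a := h₁ n hn1
    have b := h₂ n hn2
    rw [eval_add, abs_of_nonneg b, abs_of_nonneg (add_nonneg a b)]
    linarith

theorem degree_add_lt_iff {P Q : ℚ[X]} (hP : ENN P) (hQ : ENN Q) (t : WithBot ℕ) :
    (P + Q).degree < t ↔ P.degree < t ∧ Q.degree < t := by
  rw [degree_add_eq_max hP hQ, max_lt_iff]

theorem ENN_add {P Q : ℚ[X]} (hP : ENN P) (hQ : ENN Q) : ENN (P + Q) := by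
  obtain ⟨n₁, h₁⟩ := hP
  obtain ⟨n₂, h₂⟩ := hQ
  refine ⟨max n₁ n₂, fun n hn => ?_⟩
  rw [eval_add]
  exact add_nonneg (h₁ n (le_trans (le_max_left _ _) hn)) (h₂ n (le_trans (le_max_right _ _) hn))

theorem degree_comp_X_sub_C (P : ℚ[X]) (e : ℚ) : (P.comp (X - C e)).degree = P.degree := by
  rw [degree_comp (by rw [degree_X_sub_C]; exact zero_lt_one), degree_X_sub_C, mul_one]

theorem eval_comp_X_sub_C (P : ℚ[X]) (e x : ℚ) : (P.comp (X - C e)).eval x = P.eval (x - e) := by
  rw [eval_comp, eval_sub, eval_X, eval_C]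

/-- two polynomials agreeing at all large naturals are equal -/
theorem eq_of_eventually_eq (P Q : ℚ[X]) (n₀ : ℕ)
    (h : ∀ n : ℕ, n₀ ≤ n → P.eval (n : ℚ) = Q.eval (n : ℚ)) : P = Q := by
  have : P - Q = 0 := by
    apply Groth.Agent.Lib.Helper87.PolyGrowth.eq_zero_of_eventually_eval_eq_zero
    filter_upwards [eventually_ge_atTop n₀] with n hn
    rw [eval_sub, h n hn, sub_self]
  exact sub_eq_zero.mp this

end Poly

end Groth.Agent.Lib.Helper87.ModHilbA
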