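import Mathlib

/-!
# Arithmetic of Hilbert functions

Integer-valued functions on `ℕ` that eventually agree with an integral combination of the
binomial functions `n ↦ C(n+k, k)`, `k < e`.
-/

namespace Groth.Agent.Lib.Helper87.HSArith

/-- The binomial function `n ↦ C(n+k, k)`. -/
def B (k : ℕ) : ℕ → ℤ := fun n => ((n + k).choose k : ℤ)

theorem B_apply (k n : ℕ) : B k n = ((n + k).choose k : ℤ) := rfl

theorem B_zero (n : ℕ) : B 0 n = 1 := by simp [B]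

theorem B_succ_succ (k n : ℕ) : B (k + 1) (n + 1) = B (k + 1) n + B k (n + 1) := by
  simp only [B]
  have h : n + 1 + (k + 1) = (n + 1 + k) + 1 := by ring
  rw [h, Nat.choose_succ_succ' (n + 1 + k) k]
  have h2 : n + (k + 1) = n + 1 + k := by ring
  rw [h2]
  push_cast
  ring

/-- The span of the binomial functions `B k`, `k < e`. -/
def V (e : ℕ) : Submodule ℤ (ℕ → ℤ) := Submodule.span ℤ (Set.range fun k : Fin e => B k)

theorem B_mem_V {k e : ℕ} (h : k < e) : B k ∈ V e :=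
  Submodule.subset_span ⟨⟨k, h⟩, rfl⟩

theorem V_mono {e e' : ℕ} (h : e ≤ e') : V e ≤ V e' := by
  apply Submodule.span_le.mpr
  rintro _ ⟨k, rfl⟩
  exact B_mem_V (k.2.trans_le h)

theorem const_mem_V (c : ℤ) {e : ℕ} (he : 0 < e) : (fun _ => c) ∈ V e := by
  have h : (fun _ : ℕ => c) = c • B 0 := by
    funext n
    simp [B_zero]
  rw [h]
  exact (V e).smul_mem c (B_mem_V he)

/-- Induction principle for `V e`. -/
theorem V_induction {e : ℕ} {p : (ℕ → ℤ) → Prop} (hB : ∀ k, k < e → p (B k)) (h0 : p 0)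
    (hadd : ∀ g₁ g₂, p g₁ → p g₂ → p (g₁ + g₂)) (hsmul : ∀ (c : ℤ) g, p g → p (c • g))
    {g : ℕ → ℤ} (hg : g ∈ V e) : p g := by
  induction hg using Submodule.span_induction with
  | mem x hx => obtain ⟨k, rfl⟩ := hx; exact hB k k.2
  | zero => exact h0
  | add x y _ _ hx hy => exact hadd x y hx hy
  | smul c x _ hx => exact hsmul c x hx

theorem exists_unshift {e : ℕ} {g : ℕ → ℤ} (hg : g ∈ V e) :
    ∃ g' ∈ V e, ∀ n, g n = g' (n + 1) := by
  refine V_induction (p := fun g => ∃ g' ∈ V e, ∀ n, g n = g' (n + 1)) ?hB ?h0 ?hadd ?hsmul hg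
  case hB =>
    intro k hk
    cases k with
    | zero => exact ⟨B 0, B_mem_V hk, fun n => by simp [B_zero]⟩
    | succ k =>
      refine ⟨B (k + 1) - B k, (V e).sub_mem (B_mem_V hk) (B_mem_V (by omega)), fun n => ?_⟩
      simp only [Pi.sub_apply, B_succ_succ]
      ring
  case h0 => exact ⟨0, (V e).zero_mem, fun n => rfl⟩
  case hadd =>
    intro g₁ g₂ h₁ h₂
    obtain ⟨g₁', h₁', e₁⟩ := h₁
    obtain ⟨g₂', h₂', e₂⟩ := h₂
    exact ⟨g₁' + g₂', (V e).add_mem h₁' h₂', fun n => by simp [e₁, e₂]⟩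
  case hsmul =>
    intro c g h
    obtain ⟨g', h', e'⟩ := h
    exact ⟨c • g', (V e).smul_mem c h', fun n => by simp [e']⟩

theorem shift_B_mem (k : ℕ) {e : ℕ} (hk : k < e) : (fun n => B k (n + 1)) ∈ V e := by
  induction k with
  | zero =>
    have : (fun n => B 0 (n + 1)) = B 0 := by funext n; simp [B_zero]
    rw [this]; exact B_mem_V hk
  | succ k ih =>
    have : (fun n => B (k + 1) (n + 1)) = B (k + 1) + fun n => B k (n + 1) := by
      funext n; simp [B_succ_succ]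
    rw [this]
    exact (V e).add_mem (B_mem_V hk) (ih (by omega))

theorem shift_mem {e : ℕ} {g : ℕ → ℤ} (hg : g ∈ V e) : (fun n => g (n + 1)) ∈ V e := by
  refine V_induction (p := fun g => (fun n => g (n + 1)) ∈ V e) ?hB ?h0 ?hadd ?hsmul hg
  case hB => exact fun k hk => shift_B_mem k hk
  case h0 => exact (V e).zero_mem
  case hadd => exact fun g₁ g₂ h₁ h₂ => (V e).add_mem h₁ h₂
  case hsmul => exact fun c g h => (V e).smul_mem c h

theorem exists_antideriv {e : ℕ} {g : ℕ → ℤ} (hg : g ∈ V e) :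
    ∃ G ∈ V (e + 1), ∀ n, G (n + 1) - G n = g (n + 1) := by
  refine V_induction (p := fun g => ∃ G ∈ V (e + 1), ∀ n, G (n + 1) - G n = g (n + 1))
    ?hB ?h0 ?hadd ?hsmul hg
  case hB =>
    intro k hk
    exact ⟨B (k + 1), B_mem_V (by omega), fun n => by rw [B_succ_succ]; ring⟩
  case h0 => exact ⟨0, (V _).zero_mem, fun n => by simp⟩
  case hadd =>
    intro g₁ g₂ h₁ h₂
    obtain ⟨G₁, h₁', e₁⟩ := h₁
    obtain ⟨G₂, h₂', e₂⟩ := h₂
    refine ⟨G₁ + G₂, (V _).add_mem h₁' h₂', fun n => ?_⟩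
    simp only [Pi.add_apply, ← e₁, ← e₂]; ring
  case hsmul =>
    intro c g h
    obtain ⟨G, h', e'⟩ := h
    refine ⟨c • G, (V _).smul_mem c h', fun n => ?_⟩
    simp only [Pi.smul_apply, smul_eq_mul, ← e']; ring

/-- `f` eventually agrees with a combination of `C(n+k,k)`, `k < e`. -/
def IsHS (e : ℕ) (f : ℕ → ℤ) : Prop := ∃ g ∈ V e, ∃ N : ℕ, ∀ n, N ≤ n → f n = g n

theorem IsHS.mono {e e' : ℕ} {f : ℕ → ℤ} (h : IsHS e f) (hee' : e ≤ e') : IsHS e' f := by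
  obtain ⟨g, hg, N, hN⟩ := h
  exact ⟨g, V_mono hee' hg, N, hN⟩

theorem IsHS.congr {e : ℕ} {f f' : ℕ → ℤ} (h : IsHS e f) (N : ℕ)
    (hff' : ∀ n, N ≤ n → f' n = f n) : IsHS e f' := by
  obtain ⟨g, hg, N', hN'⟩ := h
  exact ⟨g, hg, max N N', fun n hn => by
    rw [hff' n (le_trans (le_max_left _ _) hn), hN' n (le_trans (le_max_right _ _) hn)]⟩

theorem IsHS.add {e : ℕ} {f₁ f₂ : ℕ → ℤ} (h₁ : IsHS e f₁) (h₂ : IsHS e f₂) :
    IsHS e (fun n => f₁ n + f₂ n) := by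
  obtain ⟨g₁, hg₁, N₁, hN₁⟩ := h₁
  obtain ⟨g₂, hg₂, N₂, hN₂⟩ := h₂
  exact ⟨g₁ + g₂, (V e).add_mem hg₁ hg₂, max N₁ N₂, fun n hn => by
    simp [hN₁ n (le_trans (le_max_left _ _) hn), hN₂ n (le_trans (le_max_right _ _) hn)]⟩

theorem IsHS.sub {e : ℕ} {f₁ f₂ : ℕ → ℤ} (h₁ : IsHS e f₁) (h₂ : IsHS e f₂) :
    IsHS e (fun n => f₁ n - f₂ n) := by
  obtain ⟨g₁, hg₁, N₁, hN₁⟩ := h₁
  obtain ⟨g₂, hg₂, N₂, hN₂⟩ := h₂
  exact ⟨g₁ - g₂, (V e).sub_mem hg₁ hg₂, max N₁ N₂, fun n hn => by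
    simp [hN₁ n (le_trans (le_max_left _ _) hn), hN₂ n (le_trans (le_max_right _ _) hn)]⟩

theorem IsHS.shift {e : ℕ} {f : ℕ → ℤ} (h : IsHS e f) : IsHS e (fun n => f (n + 1)) := by
  obtain ⟨g, hg, N, hN⟩ := h
  exact ⟨_, shift_mem hg, N, fun n hn => hN (n + 1) (by omega)⟩

theorem isHS_zero_iff {f : ℕ → ℤ} : IsHS 0 f ↔ ∃ N : ℕ, ∀ n, N ≤ n → f n = 0 := by
  have hV : V 0 = ⊥ := by
    rw [V, Submodule.span_eq_bot]
    rintro _ ⟨k, rfl⟩
    exact k.elim0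
  constructor
  · rintro ⟨g, hg, N, hN⟩
    rw [hV, Submodule.mem_bot] at hg
    subst hg
    exact ⟨N, fun n hn => by rw [hN n hn]; rfl⟩
  · rintro ⟨N, hN⟩
    exact ⟨0, (V 0).zero_mem, N, fun n hn => by rw [hN n hn]; rfl⟩

/-- If the difference function of `f` is eventually `g n` with `g` of type `e`, then `f` is of
type `e + 1`. -/
theorem IsHS.of_diff {e : ℕ} {f g : ℕ → ℤ} (hg : IsHS e g) (N₀ : ℕ)
    (hf : ∀ n, N₀ ≤ n → f (n + 1) - f n = g n) : IsHS (e + 1) f := by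
  obtain ⟨g₀, hg₀, N₁, hN₁⟩ := hg
  obtain ⟨g', hg', eg'⟩ := exists_unshift hg₀
  obtain ⟨G, hG, eG⟩ := exists_antideriv hg'
  set N := max N₀ N₁ with hNdef
  have key : ∀ m, f (N + m) - G (N + m) = f N - G N := by
    intro m
    induction m with
    | zero => rfl
    | succ m ih =>
      have h1 := hf (N + m) (le_trans (le_max_left _ _) (Nat.le_add_right _ _))
      have h2 := hN₁ (N + m) (le_trans (le_max_right _ _) (Nat.le_add_right _ _))
      have h3 := eG (N + m)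
      have h4 := eg' (N + m)
      have : N + (m + 1) = N + m + 1 := by ring
      rw [this]
      linarith
  refine ⟨G + fun _ => f N - G N, (V _).add_mem hG (const_mem_V _ (Nat.succ_pos _)), N,
    fun n hn => ?_⟩
  obtain ⟨m, rfl⟩ := Nat.exists_eq_add_of_le hn
  have := key m
  simp only [Pi.add_apply]
  linarith

theorem IsHS.exists_coeff {e : ℕ} {f : ℕ → ℤ} (h : IsHS e f) :
    ∃ c : Fin e → ℤ, ∃ N : ℕ, ∀ n, N ≤ n →
      f n = ∑ k : Fin e, c k * ((n + (k : ℕ)).choose (k : ℕ) : ℤ) := by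
  obtain ⟨g, hg, N, hN⟩ := h
  obtain ⟨c, hc⟩ := (Submodule.mem_span_range_iff_exists_fun ℤ).mp hg
  refine ⟨c, N, fun n hn => ?_⟩
  rw [hN n hn, ← hc]
  simp [B_apply]

open Polynomial in
/-- The polynomial (over `ℚ`) interpolating `B k`. -/
noncomputable def Bpoly (k : ℕ) : ℚ[X] :=
  C ((k.factorial : ℚ)⁻¹) * (ascPochhammer ℚ k).comp (X + 1)

open Polynomial in
theorem Bpoly_eval (k n : ℕ) : (Bpoly k).eval (n : ℚ) = (B k n : ℚ) := by
  simp only [Bpoly, eval_mul, eval_C, eval_comp, eval_add, eval_X, eval_one, B_apply]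
  have h1 : ((n : ℚ) + 1) = ((n + 1 : ℕ) : ℚ) := by push_cast; ring
  rw [h1, ascPochhammer_nat_eq_natCast_ascFactorial, Nat.ascFactorial_eq_factorial_mul_choose]
  have hk : (k.factorial : ℚ) ≠ 0 := by exact_mod_cast k.factorial_ne_zero
  push_cast
  field_simp

open Polynomial in
theorem Bpoly_natDegree (k : ℕ) : (Bpoly k).natDegree = k := by
  have hk : ((k.factorial : ℚ)⁻¹) ≠ 0 := by
    apply inv_ne_zero
    exact_mod_cast k.factorial_ne_zero
  rw [Bpoly, natDegree_C_mul hk, natDegree_comp, ascPochhammer_natDegree]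
  have : (X + 1 : ℚ[X]).natDegree = 1 := natDegree_X_add_C (1 : ℚ)
  rw [this, mul_one]

open Polynomial in
theorem exists_poly_of_mem_V {e : ℕ} {g : ℕ → ℤ} (hg : g ∈ V e) :
    ∃ P : ℚ[X], P.degree < e ∧ ∀ n : ℕ, (g n : ℚ) = P.eval (n : ℚ) := by
  refine V_induction
    (p := fun g => ∃ P : ℚ[X], P.degree < e ∧ ∀ n : ℕ, (g n : ℚ) = P.eval (n : ℚ))
    ?hB ?h0 ?hadd ?hsmul hg
  case hB =>
    intro k hk
    refine ⟨Bpoly k, ?_, fun n => (Bpoly_eval k n).symm⟩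
    refine lt_of_le_of_lt degree_le_natDegree ?_
    rw [Bpoly_natDegree]
    exact_mod_cast hk
  case h0 => exact ⟨0, by simp, fun n => by simp⟩
  case hadd =>
    intro g₁ g₂ h₁ h₂
    obtain ⟨P₁, d₁, e₁⟩ := h₁
    obtain ⟨P₂, d₂, e₂⟩ := h₂
    refine ⟨P₁ + P₂, lt_of_le_of_lt (degree_add_le _ _) (max_lt d₁ d₂), fun n => ?_⟩
    simp [e₁, e₂]
  case hsmul =>
    intro c g h
    obtain ⟨P, d, e'⟩ := h
    refine ⟨(c : ℚ) • P, lt_of_le_of_lt (degree_smul_le _ _) d, fun n => ?_⟩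
    simp [e']

open Polynomial in
theorem IsHS.exists_poly {e : ℕ} {f : ℕ → ℤ} (h : IsHS e f) :
    ∃ P : ℚ[X], P.degree < e ∧ ∃ N : ℕ, ∀ n : ℕ, N ≤ n → (f n : ℚ) = P.eval (n : ℚ) := by
  obtain ⟨g, hg, N, hN⟩ := h
  obtain ⟨P, hP, hPe⟩ := exists_poly_of_mem_V hg
  exact ⟨P, hP, N, fun n hn => by rw [hN n hn, hPe]⟩

end Groth.Agent.Lib.Helper87.HSArith
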