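import Mathlib

/-!
# Relative lengths of pairs of submodules

`rl P Q` is the length of the image of `Q` in `M ⧸ P`; for `P ≤ Q` this is the length of `Q/P`.
-/

namespace Groth.Agent.Lib.Helper87.RelLength

open Module

variable {R : Type*} [Ring R] {M N N' : Type*} [AddCommGroup M] [Module R M]
  [AddCommGroup N] [Module R N] [AddCommGroup N'] [Module R N']

theorem length_congr {P Q : Submodule R M} (h : P = Q) :
    Module.length R ↥P = Module.length R ↥Q := by rw [h]

/-- `ℓ(Q) = ℓ(Q ∩ ker f) + ℓ(f(Q))`. -/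
theorem length_eq_inf_ker_add_map (f : M →ₗ[R] N) (Q : Submodule R M) :
    Module.length R ↥Q =
      Module.length R ↥(Q ⊓ LinearMap.ker f) + Module.length R ↥(Q.map f) := by
  let g : ↥Q →ₗ[R] ↥(Q.map f) := f.restrict (fun x hx => Submodule.mem_map_of_mem hx)
  let i : ↥(Q ⊓ LinearMap.ker f) →ₗ[R] ↥Q := Submodule.inclusion inf_le_left
  refine Module.length_eq_add_of_exact i g (Submodule.inclusion_injective _) ?_ ?_
  · rintro ⟨_, y, hy, rfl⟩
    exact ⟨⟨y, hy⟩, rfl⟩
  · intro y
    constructor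
    · intro hy
      have hy' : f y.1 = 0 := congrArg Subtype.val hy
      exact ⟨⟨y.1, y.2, hy'⟩, rfl⟩
    · rintro ⟨z, rfl⟩
      apply Subtype.ext
      exact z.2.2

theorem length_map_eq_quot (f : M →ₗ[R] N) (Q : Submodule R M) :
    Module.length R ↥(Q.map f) = Module.length R (↥Q ⧸ LinearMap.ker (f.domRestrict Q)) := by
  rw [(f.domRestrict Q).quotKerEquivRange.length_eq]
  exact length_congr (LinearMap.range_domRestrict Q f).symm

/-- The length of `f(Q)` only depends on `Q ∩ ker f`. -/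
theorem length_map_eq_of_inf_ker_eq (f : M →ₗ[R] N) (g : M →ₗ[R] N') (Q : Submodule R M)
    (h : Q ⊓ LinearMap.ker f = Q ⊓ LinearMap.ker g) :
    Module.length R ↥(Q.map f) = Module.length R ↥(Q.map g) := by
  rw [length_map_eq_quot, length_map_eq_quot]
  have hk : LinearMap.ker (f.domRestrict Q) = LinearMap.ker (g.domRestrict Q) := by
    ext y
    simp only [LinearMap.mem_ker, LinearMap.domRestrict_apply]
    have h1 : f y.1 = 0 ↔ y.1 ∈ Q ⊓ LinearMap.ker f := by
      simp [y.2]
    have h2 : g y.1 = 0 ↔ y.1 ∈ Q ⊓ LinearMap.ker g := by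
      simp [y.2]
    rw [h1, h2, h]
  rw [hk]

/-- The relative length `ℓ(Q/P)` (meaningful for `P ≤ Q`). -/
noncomputable def rl (P Q : Submodule R M) : ℕ∞ := Module.length R ↥(Q.map P.mkQ)

theorem rl_def (P Q : Submodule R M) : rl P Q = Module.length R ↥(Q.map P.mkQ) := rfl

theorem rl_add {P K Q : Submodule R M} (hPK : P ≤ K) (hKQ : K ≤ Q) :
    rl P Q = rl P K + rl K Q := by
  rw [rl_def, length_eq_inf_ker_add_map (Submodule.factor hPK) (Q.map P.mkQ)]
  congr 1
  · apply length_congr
    have hker : LinearMap.ker (Submodule.factor hPK) = K.map P.mkQ := by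
      ext y
      obtain ⟨y, rfl⟩ := P.mkQ_surjective y
      rw [LinearMap.mem_ker, Submodule.factor_mk, Submodule.mkQ_apply,
        Submodule.Quotient.mk_eq_zero]
      constructor
      · intro hy
        exact Submodule.mem_map_of_mem hy
      · rintro ⟨z, hz, hzy⟩
        have : z - y ∈ P := (Submodule.Quotient.eq P).mp hzy
        have h2 : y = z - (z - y) := by abel
        rw [h2]
        exact K.sub_mem hz (hPK this)
    rw [hker]
    exact inf_eq_right.mpr (Submodule.map_mono hKQ)
  · apply length_congr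
    rw [← Submodule.map_comp, Submodule.factor_comp_mk]

theorem rl_le_of_le_right {P K Q : Submodule R M} (hPK : P ≤ K) (hKQ : K ≤ Q) :
    rl P K ≤ rl P Q := by
  rw [rl_add hPK hKQ]; exact le_self_add

theorem rl_le_of_le_left {P K Q : Submodule R M} (hPK : P ≤ K) (hKQ : K ≤ Q) :
    rl K Q ≤ rl P Q := by
  rw [rl_add hPK hKQ]; exact le_add_self

theorem rl_eq_zero_of_le {P Q : Submodule R M} (h : Q ≤ P) : rl P Q = 0 := by
  rw [rl_def, Module.length_eq_zero_iff]
  have : Q.map P.mkQ = ⊥ := by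
    rw [← LinearMap.le_ker_iff_map, Submodule.ker_mkQ]; exact h
  rw [this]
  infer_instance

theorem rl_bot (Q : Submodule R M) : rl ⊥ Q = Module.length R ↥Q := by
  rw [rl_def]
  have h := length_eq_inf_ker_add_map (⊥ : Submodule R M).mkQ Q
  rw [Submodule.ker_mkQ, inf_bot_eq] at h
  rw [h]
  have : Module.length R ↥(⊥ : Submodule R M) = 0 := Module.length_eq_zero
  rw [this, zero_add]

theorem rl_top (P : Submodule R M) : rl P ⊤ = Module.length R (M ⧸ P) := by
  rw [rl_def, Submodule.map_top, Submodule.range_mkQ]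
  exact Module.length_top

/-- The map `x` induces an isomorphism `Q/(Q ∩ x⁻¹P') ≅ (P' + xQ)/P'`. -/
theorem rl_map_eq (x : M →ₗ[R] M) (P' Q : Submodule R M) :
    rl (Q ⊓ P'.comap x) Q = rl P' (P' ⊔ Q.map x) := by
  rw [rl_def, rl_def, Submodule.map_sup]
  have h0 : P'.map P'.mkQ = ⊥ := by
    rw [← LinearMap.le_ker_iff_map, Submodule.ker_mkQ]
  rw [h0, bot_sup_eq, ← Submodule.map_comp]
  apply length_map_eq_of_inf_ker_eq
  rw [Submodule.ker_mkQ, LinearMap.ker_comp, Submodule.ker_mkQ]
  exact inf_eq_right.mpr inf_le_left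

end Groth.Agent.Lib.Helper87.RelLength
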