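import Mathlib
import Groth.Agent.Lib.Helper87.HSArith
import Groth.Agent.Lib.Helper87.RelLength

/-!
# The Hilbert–Serre theorem for pairs of families of submodules

`M` is a module over `A₀` with commuting endomorphisms `x j`, `j : Fin d`.  A family is a sequence
of submodules `K n`; it is stable when `x j (K n) ≤ K (n+1)`.  For a pair `P ≤ Q` of stable families
with finite relative lengths, satisfying a Noetherian condition, and such that `x j Q n ≤ P (n+1)`
for `j ≥ e`, the function `n ↦ ℓ(Q n/P n)` is eventually a combination of `C(n+k,k)`, `k < e`.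
-/

namespace Groth.Agent.Lib.Helper87.AbstractHS

open Groth.Agent.Lib.Helper87.HSArith Groth.Agent.Lib.Helper87.RelLength

variable {A₀ : Type*} [CommRing A₀] {M : Type*} [AddCommGroup M] [Module A₀ M] {d : ℕ}
  (x : Fin d → (M →ₗ[A₀] M))

/-- Stability of a family under the operators. -/
def Stable (K : ℕ → Submodule A₀ M) : Prop := ∀ j n, (K n).map (x j) ≤ K (n + 1)

/-- The Noetherian condition on a pair of families. -/
def NoethPair (P Q : ℕ → Submodule A₀ M) : Prop :=
  ∀ K : ℕ → Submodule A₀ M, Stable x K → (∀ n, P n ≤ K n) → (∀ n, K n ≤ Q n) →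
    ∃ N₀ : ℕ, ∀ n, N₀ ≤ n → K (n + 1) ≤ P (n + 1) ⊔ ⨆ j, (K n).map (x j)

variable {x}

theorem NoethPair.mono {P Q P' Q' : ℕ → Submodule A₀ M} (h : NoethPair x P Q)
    (hP : ∀ n, P n ≤ P' n) (hQ : ∀ n, Q' n ≤ Q n) : NoethPair x P' Q' := by
  intro K hK h1 h2
  obtain ⟨N₀, hN₀⟩ := h K hK (fun n => (hP n).trans (h1 n)) (fun n => (h2 n).trans (hQ n))
  exact ⟨N₀, fun n hn => (hN₀ n hn).trans (sup_le_sup_right (hP _) _)⟩

theorem isHS (hcomm : ∀ i j, x i ∘ₗ x j = x j ∘ₗ x i) :
    ∀ e, e ≤ d → ∀ P Q : ℕ → Submodule A₀ M, Stable x P → Stable x Q → (∀ n, P n ≤ Q n) →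
      (∀ n, rl (P n) (Q n) ≠ ⊤) → NoethPair x P Q →
      (∀ j : Fin d, e ≤ (j : ℕ) → ∀ n, (Q n).map (x j) ≤ P (n + 1)) →
      IsHS e (fun n => ((rl (P n) (Q n)).toNat : ℤ)) := by
  intro e
  induction e with
  | zero =>
    intro _ P Q hP hQ hPQ hfin hN hvan
    obtain ⟨N₀, hN₀⟩ := hN Q hQ hPQ (fun n => le_rfl)
    rw [isHS_zero_iff]
    refine ⟨N₀ + 1, fun n hn => ?_⟩
    obtain ⟨m, rfl⟩ : ∃ m, n = m + 1 := ⟨n - 1, by omega⟩
    have h1 : Q (m + 1) ≤ P (m + 1) := by
      refine (hN₀ m (by omega)).trans (sup_le le_rfl (iSup_le fun j => ?_))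
      exact hvan j (Nat.zero_le _) m
    rw [rl_eq_zero_of_le h1]
    simp
  | succ e ih =>
    intro hed P Q hP hQ hPQ hfin hN hvan
    set je : Fin d := ⟨e, hed⟩ with hje
    set xe := x je with hxe
    -- the kernel family
    set K : ℕ → Submodule A₀ M := fun n => Q n ⊓ (P (n + 1)).comap xe with hK
    -- the image family
    set Q' : ℕ → Submodule A₀ M := fun n =>
      match n with
      | 0 => P 0
      | n + 1 => P (n + 1) ⊔ (Q n).map xe with hQ'
    have hcomm' : ∀ (j : Fin d) (m : M), xe (x j m) = x j (xe m) := fun j m =>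
      LinearMap.congr_fun (hcomm je j) m
    have hK : Stable x K := by
      rintro j n _ ⟨m, ⟨hm1, hm2⟩, rfl⟩
      refine ⟨hQ j n (Submodule.mem_map_of_mem hm1), ?_⟩
      change xe (x j m) ∈ P (n + 1 + 1)
      rw [hcomm']
      exact hP j (n + 1) (Submodule.mem_map_of_mem hm2)
    have hPK : ∀ n, P n ≤ K n := fun n m hm =>
      ⟨hPQ n hm, hP je n (Submodule.mem_map_of_mem hm)⟩
    have hKQ : ∀ n, K n ≤ Q n := fun n => inf_le_left
    have hPQ' : ∀ n, P n ≤ Q' n := by
      intro n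
      cases n with
      | zero => exact le_rfl
      | succ n => exact le_sup_left
    have hQ'Q : ∀ n, Q' n ≤ Q n := by
      intro n
      cases n with
      | zero => exact hPQ 0
      | succ n => exact sup_le (hPQ _) (hQ je n)
    have hQ' : Stable x Q' := by
      intro j n
      cases n with
      | zero => exact (hP j 0).trans (hPQ' 1)
      | succ n =>
        change (P (n + 1) ⊔ (Q n).map xe).map (x j) ≤ P (n + 1 + 1) ⊔ (Q (n + 1)).map xe
        rw [Submodule.map_sup]
        refine sup_le_sup (hP j (n + 1)) ?_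
        rintro _ ⟨_, ⟨m, hm, rfl⟩, rfl⟩
        rw [← hcomm']
        exact Submodule.mem_map_of_mem (hQ j n (Submodule.mem_map_of_mem hm))
    -- the induction hypothesis for the two new pairs
    have ihK := ih (by omega) P K hP hK hPK
      (fun n => ne_top_of_le_ne_top (hfin n) (rl_le_of_le_right (hPK n) (hKQ n)))
      (hN.mono (fun n => le_rfl) hKQ)
      (by
        intro j hj n
        rcases Nat.eq_or_lt_of_le hj with hj | hj
        · have : j = je := Fin.ext hj.symm
          subst this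
          rintro _ ⟨m, hm, rfl⟩
          exact hm.2
        · exact (Submodule.map_mono (hKQ n)).trans (hvan j hj n))
    have ihC := ih (by omega) Q' Q hQ' hQ hQ'Q
      (fun n => ne_top_of_le_ne_top (hfin n) (rl_le_of_le_left (hPQ' n) (hQ'Q n)))
      (hN.mono hPQ' (fun n => le_rfl))
      (by
        intro j hj n
        rcases Nat.eq_or_lt_of_le hj with hj | hj
        · have : j = je := Fin.ext hj.symm
          subst this
          exact le_sup_right
        · exact (hvan j hj n).trans (hPQ' (n + 1)))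
    -- the difference equation
    refine IsHS.of_diff (ihC.shift.sub ihK) 0 (fun n _ => ?_)
    have e1 : rl (P n) (Q n) = rl (P n) (K n) + rl (K n) (Q n) := rl_add (hPK n) (hKQ n)
    have e2 : rl (P (n + 1)) (Q (n + 1)) =
        rl (P (n + 1)) (Q' (n + 1)) + rl (Q' (n + 1)) (Q (n + 1)) :=
      rl_add (hPQ' (n + 1)) (hQ'Q (n + 1))
    have e3 : rl (K n) (Q n) = rl (P (n + 1)) (Q' (n + 1)) := rl_map_eq xe (P (n + 1)) (Q n)
    have f1 : rl (P n) (K n) ≠ ⊤ :=
      ne_top_of_le_ne_top (hfin n) (rl_le_of_le_right (hPK n) (hKQ n))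
    have f2 : rl (K n) (Q n) ≠ ⊤ :=
      ne_top_of_le_ne_top (hfin n) (rl_le_of_le_left (hPK n) (hKQ n))
    have f3 : rl (Q' (n + 1)) (Q (n + 1)) ≠ ⊤ :=
      ne_top_of_le_ne_top (hfin (n + 1)) (rl_le_of_le_left (hPQ' (n + 1)) (hQ'Q (n + 1)))
    have f4 : rl (P (n + 1)) (Q' (n + 1)) ≠ ⊤ := e3 ▸ f2
    rw [e1, e2, ENat.toNat_add f1 f2, ENat.toNat_add f4 f3, e3]
    push_cast
    ring

end Groth.Agent.Lib.Helper87.AbstractHS
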