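import Mathlib
import Groth.Agent.Lib.Helper87.AbstractHS

/-!
# Samuel functions `n ↦ ℓ(M/IⁿM)`
-/

namespace Groth.Agent.Lib.Helper87.SamuelFn

open Groth.Agent.Lib.Helper87.HSArith Groth.Agent.Lib.Helper87.RelLength
  Groth.Agent.Lib.Helper87.AbstractHS

variable {A : Type*} [CommRing A]

/-- The Samuel function of `M` with respect to `I`. -/
noncomputable def chi (I : Ideal A) (M : Type*) [AddCommGroup M] [Module A M] (n : ℕ) : ℕ∞ :=
  Module.length A (M ⧸ (I ^ n • (⊤ : Submodule A M)))

section Basic

variable (I : Ideal A) (M : Type*) [AddCommGroup M] [Module A M]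

theorem chi_def (n : ℕ) : chi I M n = Module.length A (M ⧸ (I ^ n • (⊤ : Submodule A M))) := rfl

theorem chi_eq_rl (n : ℕ) : chi I M n = rl (I ^ n • (⊤ : Submodule A M)) ⊤ := (rl_top _).symm

theorem pow_succ_smul_le (n : ℕ) :
    I ^ (n + 1) • (⊤ : Submodule A M) ≤ I ^ n • (⊤ : Submodule A M) :=
  Submodule.smul_mono_left (Ideal.pow_le_pow_right (Nat.le_succ n))

theorem chi_succ (n : ℕ) :
    chi I M (n + 1) = rl (I ^ (n + 1) • (⊤ : Submodule A M)) (I ^ n • ⊤) + chi I M n := by
  rw [chi_eq_rl, chi_eq_rl]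
  exact rl_add (pow_succ_smul_le I M n) le_top

theorem chi_zero : chi I M 0 = 0 := by
  rw [chi_def, pow_zero, Ideal.one_eq_top, Submodule.top_smul]
  exact Module.length_eq_zero

theorem chi_le_of_le {I J : Ideal A} (h : I ≤ J) (n : ℕ) : chi J M n ≤ chi I M n := by
  have hle : I ^ n • (⊤ : Submodule A M) ≤ J ^ n • ⊤ :=
    Submodule.smul_mono_left (Ideal.pow_right_mono h n)
  exact Module.length_le_of_surjective (Submodule.factor hle) (Submodule.factor_surjective hle)

theorem chi_mono {n m : ℕ} (h : n ≤ m) : chi I M n ≤ chi I M m := by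
  have hle : I ^ m • (⊤ : Submodule A M) ≤ I ^ n • ⊤ :=
    Submodule.smul_mono_left (Ideal.pow_le_pow_right h)
  exact Module.length_le_of_surjective (Submodule.factor hle) (Submodule.factor_surjective hle)

/-- Comparison of Samuel functions when `J ^ k M ⊆ I M`. -/
theorem chi_mul_le {I J : Ideal A} (k : ℕ)
    (h : J ^ k • (⊤ : Submodule A M) ≤ I • ⊤) (n : ℕ) : chi I M n ≤ chi J M (k * n) := by
  have hle : ∀ n, J ^ (k * n) • (⊤ : Submodule A M) ≤ I ^ n • ⊤ := by
    intro n
    induction n with
    | zero => simp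
    | succ n ih =>
      rw [mul_add, mul_one, pow_add, pow_succ, mul_smul, mul_smul]
      calc J ^ (k * n) • J ^ k • (⊤ : Submodule A M) ≤ J ^ (k * n) • I • ⊤ :=
            Submodule.smul_mono le_rfl h
        _ = I • J ^ (k * n) • ⊤ := by rw [← mul_smul, ← mul_smul, mul_comm]
        _ ≤ I • I ^ n • ⊤ := Submodule.smul_mono le_rfl ih
        _ = I ^ n • I • ⊤ := by rw [← mul_smul, ← mul_smul, mul_comm]
  exact Module.length_le_of_surjective (Submodule.factor (hle n))
    (Submodule.factor_surjective (hle n))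

end Basic

section HS

variable [IsNoetherianRing A] {M : Type*} [AddCommGroup M] [Module A M] [Module.Finite A M]

omit [IsNoetherianRing A] [Module.Finite A M] in
theorem smul_le_iSup_map {s : ℕ} (a : Fin s → A) (N : Submodule A M) :
    Ideal.span (Set.range a) • N ≤ ⨆ j, N.map (LinearMap.lsmul A M (a j)) := by
  refine Submodule.smul_le.mpr fun r hr m hm => ?_
  induction hr using Submodule.span_induction with
  | mem x hx =>
    obtain ⟨j, rfl⟩ := hx
    exact Submodule.mem_iSup_of_mem j ⟨m, hm, rfl⟩
  | zero => rw [zero_smul]; exact Submodule.zero_mem _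
  | add x y _ _ hx hy => rw [add_smul]; exact Submodule.add_mem _ hx hy
  | smul c x _ hx => rw [smul_eq_mul, mul_smul]; exact Submodule.smul_mem _ c hx

theorem isHS_rl {s : ℕ} (a : Fin s → A)
    (hfin : ∀ n, chi (Ideal.span (Set.range a)) M n ≠ ⊤) :
    IsHS s (fun n => ((rl (Ideal.span (Set.range a) ^ (n + 1) • (⊤ : Submodule A M))
      (Ideal.span (Set.range a) ^ n • ⊤)).toNat : ℤ)) := by
  set I := Ideal.span (Set.range a) with hI
  have haI : ∀ j, a j ∈ I := fun j => Ideal.subset_span ⟨j, rfl⟩
  let x : Fin s → (M →ₗ[A] M) := fun j => LinearMap.lsmul A M (a j)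
  have hcomm : ∀ i j, x i ∘ₗ x j = x j ∘ₗ x i := by
    intro i j
    ext m
    simp only [x, LinearMap.comp_apply, LinearMap.lsmul_apply]
    exact smul_comm _ _ _
  have hst : ∀ k, Stable x (fun n => I ^ (n + k) • (⊤ : Submodule A M)) := by
    rintro k j n _ ⟨m, hm, rfl⟩
    have h1 : n + 1 + k = (n + k) + 1 := by ring
    simp only [x, LinearMap.lsmul_apply]
    rw [h1, pow_succ', mul_smul]
    exact Submodule.smul_mem_smul (haI j) hm
  have key := isHS (x := x) hcomm s le_rfl (fun n => I ^ (n + 1) • (⊤ : Submodule A M))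
    (fun n => I ^ n • ⊤) (hst 1) (by simpa using hst 0) (fun n => pow_succ_smul_le I M n)
    (fun n => by
      have h := chi_succ I M n
      intro htop
      rw [htop, top_add] at h
      exact hfin (n + 1) h)
    (by
      intro K hK hPK hKQ
      let F : I.Filtration M :=
        { N := K
          mono := fun i => (hKQ (i + 1)).trans (hPK i)
          smul_le := fun i => by
            refine (smul_le_iSup_map a (K i)).trans (iSup_le fun j => hK j i) }
      have hF : F ≤ I.stableFiltration ⊤ := fun i => hKQ i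
      obtain ⟨n₀, hn₀⟩ := (I.stableFiltration_stable ⊤).of_le hF
      refine ⟨n₀, fun n hn => ?_⟩
      have h1 : I • K n = K (n + 1) := hn₀ n hn
      rw [← h1]
      exact (smul_le_iSup_map a (K n)).trans le_sup_right)
    (fun j hj => absurd j.2 (not_lt.mpr hj))
  exact key

/-- The Samuel function with respect to an ideal generated by `s` elements is eventually a
combination of `C(n+k,k)`, `k ≤ s`. -/
theorem isHS_chi {s : ℕ} (a : Fin s → A)
    (hfin : ∀ n, chi (Ideal.span (Set.range a)) M n ≠ ⊤) :
    IsHS (s + 1) (fun n => ((chi (Ideal.span (Set.range a)) M n).toNat : ℤ)) := by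
  refine IsHS.of_diff (isHS_rl a hfin) 0 (fun n _ => ?_)
  have h := chi_succ (Ideal.span (Set.range a)) M n
  have f1 : rl (Ideal.span (Set.range a) ^ (n + 1) • (⊤ : Submodule A M))
      (Ideal.span (Set.range a) ^ n • ⊤) ≠ ⊤ := by
    intro htop
    rw [htop, top_add] at h
    exact hfin (n + 1) h
  rw [h, ENat.toNat_add f1 (hfin n)]
  push_cast
  ring

end HS

section Exact

variable (I : Ideal A) {M' M M'' : Type*} [AddCommGroup M'] [Module A M'] [AddCommGroup M]
  [Module A M] [AddCommGroup M''] [Module A M''] (f : M' →ₗ[A] M) (g : M →ₗ[A] M'')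

theorem map_pow_smul_top (hg : Function.Surjective g) (n : ℕ) :
    (I ^ n • (⊤ : Submodule A M)).map g = I ^ n • (⊤ : Submodule A M'') := by
  rw [Submodule.map_smul'', Submodule.map_top, LinearMap.range_eq_top.mpr hg]

/-- The map `M/IⁿM → M''/IⁿM''`. -/
noncomputable def gbar (n : ℕ) :
    (M ⧸ (I ^ n • (⊤ : Submodule A M))) →ₗ[A] (M'' ⧸ (I ^ n • (⊤ : Submodule A M''))) :=
  Submodule.mapQ _ _ g (by
    rw [← Submodule.map_le_iff_le_comap, Submodule.map_smul'']
    exact Submodule.smul_mono le_rfl le_top)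

theorem gbar_mk (n : ℕ) (m : M) :
    gbar I g n (Submodule.Quotient.mk m) = Submodule.Quotient.mk (g m) := rfl

theorem gbar_surjective (hg : Function.Surjective g) (n : ℕ) :
    Function.Surjective (gbar I g n) := by
  intro y
  obtain ⟨y, rfl⟩ := Submodule.Quotient.mk_surjective _ y
  obtain ⟨m, rfl⟩ := hg y
  exact ⟨Submodule.Quotient.mk m, rfl⟩

theorem chi_eq_ker_add (hg : Function.Surjective g) (n : ℕ) :
    chi I M n = Module.length A (LinearMap.ker (gbar I g n)) + chi I M'' n :=
  Module.length_eq_add_of_exact (LinearMap.ker (gbar I g n)).subtype (gbar I g n)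
    (Submodule.subtype_injective _) (gbar_surjective I g hg n)
    (LinearMap.exact_subtype_ker_map _)

/-- Right exactness: `χ_M ≤ χ_{M'} + χ_{M''}`. -/
theorem chi_le_add (hg : Function.Surjective g) (hfg : LinearMap.ker g ≤ LinearMap.range f)
    (n : ℕ) : chi I M n ≤ chi I M' n + chi I M'' n := by
  rw [chi_eq_ker_add I g hg n]
  refine add_le_add ?_ le_rfl
  -- `M'/IⁿM'` surjects onto the kernel
  let φ : M' →ₗ[A] (M ⧸ (I ^ n • (⊤ : Submodule A M))) := (Submodule.mkQ _) ∘ₗ f
  have hφ : I ^ n • (⊤ : Submodule A M') ≤ LinearMap.ker φ := by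
    rw [LinearMap.ker_comp, Submodule.ker_mkQ, ← Submodule.map_le_iff_le_comap,
      Submodule.map_smul'']
    exact Submodule.smul_mono le_rfl le_top
  let φ' : (M' ⧸ (I ^ n • (⊤ : Submodule A M'))) →ₗ[A] (M ⧸ (I ^ n • (⊤ : Submodule A M))) :=
    Submodule.liftQ _ φ hφ
  have hker : LinearMap.ker (gbar I g n) ≤ LinearMap.range φ' := by
    intro y hy
    obtain ⟨m, rfl⟩ := Submodule.Quotient.mk_surjective _ y
    rw [LinearMap.mem_ker, gbar_mk, Submodule.Quotient.mk_eq_zero,
      ← map_pow_smul_top I g hg n] at hy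
    obtain ⟨m₁, hm₁, hgm⟩ := hy
    have h1 : m - m₁ ∈ LinearMap.ker g := by
      rw [LinearMap.mem_ker, map_sub, hgm, sub_self]
    obtain ⟨m', hm'⟩ := hfg h1
    refine ⟨Submodule.Quotient.mk m', ?_⟩
    change Submodule.Quotient.mk (f m') = _
    rw [hm']
    refine (Submodule.Quotient.eq _).mpr ?_
    have : m - m₁ - m = -m₁ := by abel
    rw [this]
    exact Submodule.neg_mem _ hm₁
  calc Module.length A (LinearMap.ker (gbar I g n))
      ≤ Module.length A (LinearMap.range φ') :=
        Module.length_le_of_injective (Submodule.inclusion hker) (Submodule.inclusion_injective _)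
    _ ≤ chi I M' n := Module.length_le_of_surjective φ'.rangeRestrict φ'.surjective_rangeRestrict

/-- The kernel of `M/IⁿM → M''/IⁿM''` contains `M'/f⁻¹(IⁿM)`. -/
theorem length_quot_comap_le (hgf : g ∘ₗ f = 0) (n : ℕ) :
    Module.length A (M' ⧸ (I ^ n • (⊤ : Submodule A M)).comap f) ≤
      Module.length A (LinearMap.ker (gbar I g n)) := by
  let φ : M' →ₗ[A] (M ⧸ (I ^ n • (⊤ : Submodule A M))) := (Submodule.mkQ _) ∘ₗ f
  have hker : LinearMap.ker φ = (I ^ n • (⊤ : Submodule A M)).comap f := by
    rw [LinearMap.ker_comp, Submodule.ker_mkQ]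
  have hrange : LinearMap.range φ ≤ LinearMap.ker (gbar I g n) := by
    rintro _ ⟨m', rfl⟩
    rw [LinearMap.mem_ker]
    change gbar I g n (Submodule.Quotient.mk (f m')) = 0
    rw [gbar_mk]
    have : g (f m') = 0 := LinearMap.congr_fun hgf m'
    rw [this, Submodule.Quotient.mk_zero]
  calc Module.length A (M' ⧸ (I ^ n • (⊤ : Submodule A M)).comap f)
      = Module.length A (M' ⧸ LinearMap.ker φ) := by rw [hker]
    _ = Module.length A (LinearMap.range φ) := φ.quotKerEquivRange.length_eq
    _ ≤ _ := Module.length_le_of_injective (Submodule.inclusion hrange)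
        (Submodule.inclusion_injective _)

/-- Artin–Rees: `f⁻¹(IⁿM) ⊆ I^(n-c) M'` for an injective map `f`. -/
theorem exists_comap_le [IsNoetherianRing A] [Module.Finite A M] (hf : Function.Injective f) :
    ∃ c : ℕ, ∀ n, c ≤ n →
      (I ^ n • (⊤ : Submodule A M)).comap f ≤ I ^ (n - c) • (⊤ : Submodule A M') := by
  obtain ⟨c, hc⟩ := Ideal.exists_pow_inf_eq_pow_smul I (LinearMap.range f)
  refine ⟨c, fun n hn m' hm' => ?_⟩
  have h1 : f m' ∈ I ^ n • (⊤ : Submodule A M) ⊓ LinearMap.range f := ⟨hm', ⟨m', rfl⟩⟩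
  rw [hc n hn] at h1
  have h2 : I ^ (n - c) • (I ^ c • (⊤ : Submodule A M) ⊓ LinearMap.range f) ≤
      I ^ (n - c) • LinearMap.range f := Submodule.smul_mono le_rfl inf_le_right
  have h3 := h2 h1
  rw [← Submodule.map_top, ← Submodule.map_smul''] at h3
  obtain ⟨m₁, hm₁, hfm⟩ := h3
  rw [← hf hfm]
  exact hm₁

/-- Artin–Rees lower bound: `χ_{M'}(n-c) + χ_{M''}(n) ≤ χ_M(n)`. -/
theorem exists_add_le_chi [IsNoetherianRing A] [Module.Finite A M] (hf : Function.Injective f)
    (hg : Function.Surjective g) (hgf : g ∘ₗ f = 0) :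
    ∃ c : ℕ, ∀ n, c ≤ n → chi I M' (n - c) + chi I M'' n ≤ chi I M n := by
  obtain ⟨c, hc⟩ := exists_comap_le I f hf
  refine ⟨c, fun n hn => ?_⟩
  rw [chi_eq_ker_add I g hg n]
  refine add_le_add ?_ le_rfl
  refine le_trans ?_ (length_quot_comap_le I f g hgf n)
  exact Module.length_le_of_surjective (Submodule.factor (hc n hn))
    (Submodule.factor_surjective _)

end Exact

section Finite

variable [IsNoetherianRing A] (I : Ideal A) (M : Type*) [AddCommGroup M] [Module A M]
  [Module.Finite A M]

omit [IsNoetherianRing A] in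
theorem support_quotient_pow (n : ℕ) (hn : n ≠ 0) :
    Module.support A (M ⧸ (I ^ n • (⊤ : Submodule A M))) =
      Module.support A (M ⧸ (I • (⊤ : Submodule A M))) := by
  rw [Module.support_quotient, Module.support_quotient, PrimeSpectrum.zeroLocus_pow I hn]

theorem isFiniteLength_of_supportDim_le_zero (N : Type*) [AddCommGroup N] [Module A N]
    [Module.Finite A N] (h : Module.supportDim A N ≤ 0) : IsFiniteLength A N := by
  rw [Module.supportDim_eq_ringKrullDim_quotient_annihilator] at h
  have h0 : Ring.KrullDimLE 0 (A ⧸ Module.annihilator A N) := by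
    rw [Ring.krullDimLE_iff]; exact_mod_cast h
  have hart : IsArtinianRing (A ⧸ Module.annihilator A N) :=
    IsNoetherianRing.isArtinianRing_of_krullDimLE_zero
  let _ : Module (A ⧸ Module.annihilator A N) N := Module.quotientAnnihilator
  have : IsScalarTower A (A ⧸ Module.annihilator A N) N :=
    Module.IsTorsionBySet.isScalarTower (Module.isTorsionBySet_annihilator A N)
  have : Module.Finite (A ⧸ Module.annihilator A N) N :=
    Module.Finite.of_restrictScalars_finite A _ _
  have h1 : IsArtinian (A ⧸ Module.annihilator A N) N := inferInstance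
  have h2 : IsArtinian A N := isArtinian_of_surjective_algebraMap (R := A ⧸ Module.annihilator A N)
    Ideal.Quotient.mk_surjective
  rw [isFiniteLength_iff_isNoetherian_isArtinian]
  exact ⟨inferInstance, h2⟩

omit [IsNoetherianRing A] in
theorem supportDim_le_zero_of_forall_isMaximal (N : Type*) [AddCommGroup N] [Module A N]
    (h : ∀ p ∈ Module.support A N, p.asIdeal.IsMaximal) : Module.supportDim A N ≤ 0 := by
  rw [Module.supportDim, Order.krullDim_nonpos_iff_forall_isMax]
  intro x y hxy
  have hx := h x.1 x.2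
  have hle : x.1.asIdeal ≤ y.1.asIdeal := (PrimeSpectrum.asIdeal_le_asIdeal _ _).mpr hxy
  have heq : x.1.asIdeal = y.1.asIdeal := hx.eq_of_le y.1.2.ne_top hle
  exact (PrimeSpectrum.asIdeal_le_asIdeal _ _).mp heq.ge

/-- If `M/IM` has finite length then so do all `M/IⁿM`. -/
theorem chi_ne_top_of_one (h1 : chi I M 1 ≠ ⊤) (n : ℕ) : chi I M n ≠ ⊤ := by
  rcases Nat.eq_zero_or_pos n with rfl | hn
  · rw [chi_zero]; exact ENat.zero_ne_top
  · rw [chi_def, Module.length_ne_top_iff]
    apply isFiniteLength_of_supportDim_le_zero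
    rw [Module.supportDim, support_quotient_pow I M n hn.ne']
    rw [chi_def, Module.length_ne_top_iff, pow_one, isFiniteLength_iff_isNoetherian_isArtinian]
      at h1
    have : IsArtinian A (M ⧸ (I • (⊤ : Submodule A M))) := h1.2
    change Module.supportDim A (M ⧸ (I • (⊤ : Submodule A M))) ≤ 0
    rw [Module.supportDim_eq_ringKrullDim_quotient_annihilator]
    have hart : IsArtinianRing (A ⧸ Module.annihilator A (M ⧸ (I • (⊤ : Submodule A M)))) := by
      -- the quotient of `A` by the annihilator embeds in a finite power of the module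
      obtain ⟨k, s, hs⟩ := Module.Finite.exists_fin (R := A) (M := M ⧸ (I • (⊤ : Submodule A M)))
      let f : A →ₗ[A] (Fin k → M ⧸ (I • (⊤ : Submodule A M))) :=
        LinearMap.pi (fun i => LinearMap.toSpanSingleton A _ (s i))
      have hker : LinearMap.ker f = Module.annihilator A (M ⧸ (I • (⊤ : Submodule A M))) := by
        ext a
        rw [LinearMap.mem_ker, Module.mem_annihilator]
        constructor
        · intro h m
          have hm : m ∈ Submodule.span A (Set.range s) := by rw [hs]; trivial
          induction hm using Submodule.span_induction with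
          | mem x hx =>
            obtain ⟨i, rfl⟩ := hx
            have := congrFun h i
            simpa [f] using this
          | zero => simp
          | add x y _ _ hx hy => rw [smul_add, hx, hy, add_zero]
          | smul r x _ hx => rw [smul_comm, hx, smul_zero]
        · intro h
          ext i
          simpa [f] using h (s i)
      have h1 : IsArtinian A (A ⧸ LinearMap.ker f) :=
        isArtinian_of_linearEquiv (LinearMap.quotKerEquivRange f).symm
      rw [hker] at h1
      exact isArtinian_of_tower A h1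
    have h0 : Ring.KrullDimLE 0 (A ⧸ Module.annihilator A (M ⧸ (I • (⊤ : Submodule A M)))) :=
      inferInstance
    rw [Ring.krullDimLE_iff] at h0
    exact_mod_cast h0

/-- In a local ring, quotients by powers of an ideal of definition have finite length. -/
theorem chi_ne_top_of_isLocalRing [IsLocalRing A]
    (hI : ∃ n : ℕ, IsLocalRing.maximalIdeal A ^ n ≤ I) (n : ℕ) : chi I M n ≠ ⊤ := by
  apply chi_ne_top_of_one
  rw [chi_def, Module.length_ne_top_iff, pow_one]
  apply isFiniteLength_of_supportDim_le_zero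
  apply supportDim_le_zero_of_forall_isMaximal
  intro p hp
  rw [Module.support_quotient] at hp
  obtain ⟨k, hk⟩ := hI
  have h1 : IsLocalRing.maximalIdeal A ^ k ≤ p.asIdeal := hk.trans hp.2
  have h2 : IsLocalRing.maximalIdeal A ≤ p.asIdeal := p.2.le_of_pow_le h1
  have h3 : p.asIdeal = IsLocalRing.maximalIdeal A :=
    le_antisymm (IsLocalRing.le_maximalIdeal p.2.ne_top) h2
  rw [h3]
  exact IsLocalRing.maximalIdeal.isMaximal A

end Finite

end Groth.Agent.Lib.Helper87.SamuelFn
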