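import Mathlib
import Groth.Agent.Lib.Helper94.KoszulReg

/-!
# Long exact sequences for iterated cones (`kz`), in function form

* `cone_exact₁/₂/₃`: the long exact homology sequence of a mapping cone in `ModuleCat`;
* `homologyMap_smul_id_apply`: multiplication by a scalar on a complex induces multiplication
  on homology;
* `DegSES`: degreewise short exact sequences of complexes; preserved by `kz`; long exact sequence.
-/

set_option autoImplicit false
universe u
open CategoryTheory CategoryTheory.Limits CochainComplex HomologicalComplex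

namespace Groth.Agent.Lib.Helper87.KzLES

open Groth.Agent.Lib.Helper94.KoszulReg

variable {A : Type u} [CommRing A]

/-- transport of exactness along isomorphisms, in function form -/
theorem exact_transport {S : ShortComplex (ModuleCat.{u} A)} (hS : S.Exact)
    {M₁ M₂ M₃ : ModuleCat.{u} A} (e₁ : S.X₁ ≅ M₁) (e₂ : S.X₂ ≅ M₂) (e₃ : S.X₃ ≅ M₃)
    (f' : M₁ ⟶ M₂) (g' : M₂ ⟶ M₃) (h₁ : e₁.hom ≫ f' = S.f ≫ e₂.hom)
    (h₂ : e₂.hom ≫ g' = S.g ≫ e₃.hom) : Function.Exact f'.hom g'.hom := by
  have hz : f' ≫ g' = 0 := by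
    rw [← cancel_epi e₁.hom, reassoc_of% h₁, h₂, S.zero_assoc]
    simp
  have e : S ≅ ShortComplex.mk f' g' hz := ShortComplex.isoMk e₁ e₂ e₃ h₁ h₂
  exact (ShortComplex.ShortExact.moduleCat_exact_iff_function_exact _).1
    ((ShortComplex.exact_iff_of_iso e).1 hS)

section cone

variable {X Y : CochainComplex (ModuleCat.{u} A) ℤ} (φ : X ⟶ Y)

variable (A) in
/-- the homology functor on the homotopy category -/
noncomputable abbrev HF :=
  HomotopyCategory.homologyFunctor (ModuleCat.{u} A) (ComplexShape.up ℤ) 0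

variable (A) in
/-- the factorization isomorphism -/
noncomputable abbrev FF (n : ℤ) :=
  HomotopyCategory.homologyFunctorFactors (ModuleCat.{u} A) (ComplexShape.up ℤ) n

theorem cone_exact₂ (n : ℤ) :
    Function.Exact (homologyMap φ n).hom (homologyMap (mappingCone.inr φ) n).hom := by
  have h := (HF A).homologySequence_exact₂ (mappingCone.triangleh φ)
    (HomotopyCategory.mappingCone_triangleh_distinguished φ) n
  exact exact_transport h ((FF A n).app X) ((FF A n).app Y) ((FF A n).app (mappingCone φ)) _ _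
      ((FF A n).hom.naturality φ).symm ((FF A n).hom.naturality (mappingCone.inr φ)).symm

/-- the connecting map of the cone -/
noncomputable def coneδ (n m : ℤ) (h : n + 1 = m) : (mappingCone φ).homology n ⟶ X.homology m :=
  (FF A n).inv.app (mappingCone φ) ≫ (HF A).homologySequenceδ (mappingCone.triangleh φ) n m h ≫
    (FF A m).hom.app X

theorem cone_exact₃ (n m : ℤ) (h : n + 1 = m) :
    Function.Exact (homologyMap (mappingCone.inr φ) n).hom (coneδ φ n m h).hom := by
  have hT := HomotopyCategory.mappingCone_triangleh_distinguished φ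
  have h3 := (HF A).homologySequence_exact₃ (mappingCone.triangleh φ) hT n m h
  exact exact_transport h3 ((FF A n).app Y) ((FF A n).app (mappingCone φ)) ((FF A m).app X) _ _
      ((FF A n).hom.naturality (mappingCone.inr φ)).symm (by
        unfold coneδ
        exact (FF A n).hom_inv_id_app_assoc (mappingCone φ) _)

theorem cone_exact₁ (n m : ℤ) (h : n + 1 = m) :
    Function.Exact (coneδ φ n m h).hom (homologyMap φ m).hom := by
  have hT := HomotopyCategory.mappingCone_triangleh_distinguished φ
  have h3 := (HF A).homologySequence_exact₁ (mappingCone.triangleh φ) hT n m h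
  exact exact_transport h3 ((FF A n).app (mappingCone φ)) ((FF A m).app X) ((FF A m).app Y) _ _
      (by unfold coneδ; exact (FF A n).hom_inv_id_app_assoc (mappingCone φ) _)
      ((FF A m).hom.naturality φ).symm

end cone

section smul

theorem homologyMap_smul' {X Y : CochainComplex (ModuleCat.{u} A) ℤ} (a : A) (φ : X ⟶ Y) (n : ℤ) :
    homologyMap (a • φ) n = a • homologyMap φ n := by
  have : (shortComplexFunctor (ModuleCat.{u} A) (ComplexShape.up ℤ) n).map (a • φ) =
      a • (shortComplexFunctor (ModuleCat.{u} A) (ComplexShape.up ℤ) n).map φ := by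
    ext <;> rfl
  change ShortComplex.homologyMap _ = a • ShortComplex.homologyMap _
  rw [this, ShortComplex.homologyMap_smul]
  rfl

theorem homologyMap_smul_id_apply {X : CochainComplex (ModuleCat.{u} A) ℤ} (a : A) (n : ℤ)
    (z : X.homology n) : (homologyMap (a • 𝟙 X) n).hom z = a • z := by
  rw [homologyMap_smul', homologyMap_id]
  rw [ModuleCat.hom_smul, ModuleCat.hom_id]
  rfl

end smul

section kmap

variable {X Y Z : CochainComplex (ModuleCat.{u} A) ℤ}

theorem kmap_id (X : CochainComplex (ModuleCat.{u} A) ℤ) : ∀ l : List A, kmap (𝟙 X) l = 𝟙 (kz X l)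
  | [] => rfl
  | a :: l => by
    change mappingCone.map _ _ (kmap (𝟙 X) l) (kmap (𝟙 X) l) _ = 𝟙 (mappingCone (a • 𝟙 (kz X l)))
    simp only [kmap_id X l]
    exact mappingCone.map_id _

theorem kmap_comp (p : X ⟶ Y) (q : Y ⟶ Z) :
    ∀ l : List A, kmap (p ≫ q) l = kmap p l ≫ kmap q l
  | [] => rfl
  | a :: l => by
    change mappingCone.map _ _ (kmap (p ≫ q) l) (kmap (p ≫ q) l) _ =
      mappingCone.map _ _ (kmap p l) (kmap p l) _ ≫ mappingCone.map _ _ (kmap q l) (kmap q l) _
    simp only [kmap_comp p q l]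
    exact mappingCone.map_comp _ _ _ _ _ _ _ _ _

theorem cone_map_smul {X : CochainComplex (ModuleCat.{u} A) ℤ} (a b : A) :
    mappingCone.map (a • 𝟙 X) (a • 𝟙 X) (b • 𝟙 X) (b • 𝟙 X)
      (by simp [Linear.smul_comp, Linear.comp_smul, smul_comm a b]) =
      b • 𝟙 (mappingCone (a • 𝟙 X)) := by
  apply HomologicalComplex.hom_ext
  intro n
  simp [mappingCone.ext_from_iff _ (n + 1) n rfl, mappingCone.map, Linear.smul_comp,
    Linear.comp_smul]

theorem kmap_smul_id (b : A) (X : CochainComplex (ModuleCat.{u} A) ℤ) :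
    ∀ l : List A, kmap (b • 𝟙 X) l = b • 𝟙 (kz X l)
  | [] => rfl
  | a :: l => by
    change mappingCone.map _ _ (kmap (b • 𝟙 X) l) (kmap (b • 𝟙 X) l) _ =
      b • 𝟙 (mappingCone (a • 𝟙 (kz X l)))
    simp only [kmap_smul_id b X l]
    exact cone_map_smul a b

end kmap

section degSES

/-- degreewise short exact sequence of complexes, elementwise -/
def DegSES {X' X X'' : CochainComplex (ModuleCat.{u} A) ℤ} (f : X' ⟶ X) (g : X ⟶ X'') : Prop :=
  ∀ n : ℤ, Function.Injective (f.f n).hom ∧ Function.Exact (f.f n).hom (g.f n).hom ∧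
    Function.Surjective (g.f n).hom

variable {X' X X'' : CochainComplex (ModuleCat.{u} A) ℤ} {f : X' ⟶ X} {g : X ⟶ X''}

theorem DegSES.cone (h : DegSES f g) (a : A) (c1 : (a • 𝟙 X') ≫ f = f ≫ (a • 𝟙 X))
    (c2 : (a • 𝟙 X) ≫ g = g ≫ (a • 𝟙 X'')) :
    DegSES (mappingCone.map (a • 𝟙 X') (a • 𝟙 X) f f c1)
      (mappingCone.map (a • 𝟙 X) (a • 𝟙 X'') g g c2) := by
  intro n
  have hf := coneEquiv_map (a • 𝟙 X') (a • 𝟙 X) f f c1 n
  have hg := coneEquiv_map (a • 𝟙 X) (a • 𝟙 X'') g g c2 n
  refine ⟨?_, ?_, ?_⟩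
  · intro x y hxy
    apply (coneEquiv (a • 𝟙 X') n).injective
    have := congrArg (coneEquiv (a • 𝟙 X) n) hxy
    rw [hf, hf] at this
    exact Prod.ext ((h (n + 1)).1 (congrArg Prod.fst this)) ((h n).1 (congrArg Prod.snd this))
  · intro y
    constructor
    · intro hy
      have := congrArg (coneEquiv (a • 𝟙 X'') n) hy
      rw [hg, map_zero] at this
      obtain ⟨u, hu⟩ := ((h (n + 1)).2.1 _).1 (congrArg Prod.fst this)
      obtain ⟨v, hv⟩ := ((h n).2.1 _).1 (congrArg Prod.snd this)
      refine ⟨(coneEquiv _ n).symm (u, v), ?_⟩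
      apply (coneEquiv (a • 𝟙 X) n).injective
      rw [hf, LinearEquiv.apply_symm_apply]
      exact Prod.ext hu hv
    · rintro ⟨x, rfl⟩
      apply (coneEquiv (a • 𝟙 X'') n).injective
      rw [hg, hf, map_zero]
      exact Prod.ext (((h (n + 1)).2.1 _).2 ⟨_, rfl⟩) (((h n).2.1 _).2 ⟨_, rfl⟩)
  · intro z
    obtain ⟨u, hu⟩ := (h (n + 1)).2.2 (coneEquiv _ n z).1
    obtain ⟨v, hv⟩ := (h n).2.2 (coneEquiv _ n z).2
    refine ⟨(coneEquiv _ n).symm (u, v), ?_⟩
    apply (coneEquiv (a • 𝟙 X'') n).injective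
    rw [hg, LinearEquiv.apply_symm_apply]
    exact Prod.ext hu hv

theorem DegSES.kmap (h : DegSES f g) : ∀ l : List A, DegSES (kmap f l) (kmap g l)
  | [] => h
  | a :: l => (DegSES.kmap h l).cone a _ _

theorem DegSES.comp_zero (h : DegSES f g) : f ≫ g = 0 := by
  apply HomologicalComplex.hom_ext
  intro n
  apply ModuleCat.hom_ext
  apply LinearMap.ext
  intro x
  have := ((h n).2.1 ((f.f n).hom x)).2 ⟨x, rfl⟩
  simpa using this

theorem DegSES.shortExact (h : DegSES f g) : (ShortComplex.mk f g h.comp_zero).ShortExact := by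
  apply HomologicalComplex.shortExact_of_degreewise_shortExact
  intro n
  refine { exact := ?_, mono_f := ?_, epi_g := ?_ }
  · rw [ShortComplex.ShortExact.moduleCat_exact_iff_function_exact]
    exact (h n).2.1
  · rw [ModuleCat.mono_iff_injective]
    exact (h n).1
  · rw [ModuleCat.epi_iff_surjective]
    exact (h n).2.2

/-- the connecting map of a degreewise short exact sequence -/
noncomputable def DegSES.δ (h : DegSES f g) (n m : ℤ) (hnm : n + 1 = m) :
    X''.homology n ⟶ X'.homology m :=
  h.shortExact.δ n m hnm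

theorem DegSES.exact₂ (h : DegSES f g) (n : ℤ) :
    Function.Exact (homologyMap f n).hom (homologyMap g n).hom :=
  (ShortComplex.ShortExact.moduleCat_exact_iff_function_exact _).1
    (h.shortExact.homology_exact₂ n)

theorem DegSES.exact₃ (h : DegSES f g) (n m : ℤ) (hnm : n + 1 = m) :
    Function.Exact (homologyMap g n).hom (h.δ n m hnm).hom :=
  (ShortComplex.ShortExact.moduleCat_exact_iff_function_exact _).1
    (h.shortExact.homology_exact₃ n m hnm)

theorem DegSES.exact₁ (h : DegSES f g) (n m : ℤ) (hnm : n + 1 = m) :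
    Function.Exact (h.δ n m hnm).hom (homologyMap f m).hom :=
  (ShortComplex.ShortExact.moduleCat_exact_iff_function_exact _).1
    (h.shortExact.homology_exact₁ n m hnm)

end degSES

end Groth.Agent.Lib.Helper87.KzLES
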