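import Mathlib
import Groth.Agent.Lib.Helper87.KzLES

/-!
# Koszul cohomology of modules (cone model): module-level interface

`KH l M i` is the `i`-th cohomology of the iterated cone `kz (M[0]) l`.
-/

set_option autoImplicit false
universe u
open CategoryTheory CategoryTheory.Limits CochainComplex HomologicalComplex

namespace Groth.Agent.Lib.Helper87.KzMod

open Groth.Agent.Lib.Helper94.KoszulReg Groth.Agent.Lib.Helper87.KzLES

variable {A : Type u} [CommRing A]

section sg

variable {M N P : Type u} [AddCommGroup M] [Module A M] [AddCommGroup N] [Module A N]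
  [AddCommGroup P] [Module A P]

/-- the map of single complexes induced by a linear map -/
noncomputable def sgMap (f : M →ₗ[A] N) : sg A (ModuleCat.of A M) ⟶ sg A (ModuleCat.of A N) :=
  (HomologicalComplex.single (ModuleCat.{u} A) (ComplexShape.up ℤ) 0).map (ModuleCat.ofHom f)

theorem sgMap_id : sgMap (LinearMap.id : M →ₗ[A] M) = 𝟙 _ := by
  unfold sgMap
  rw [ModuleCat.ofHom_id, CategoryTheory.Functor.map_id]

theorem sgMap_comp (f : M →ₗ[A] N) (g : N →ₗ[A] P) : sgMap (g ∘ₗ f) = sgMap f ≫ sgMap g := by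
  unfold sgMap
  rw [ModuleCat.ofHom_comp, CategoryTheory.Functor.map_comp]

/-- the degree zero part of `M[0]` -/
noncomputable def sgEquiv (M : Type u) [AddCommGroup M] [Module A M] :
    (sg A (ModuleCat.of A M)).X 0 ≃ₗ[A] M :=
  (HomologicalComplex.singleObjXSelf (ComplexShape.up ℤ) 0 (ModuleCat.of A M)).toLinearEquiv

theorem sgEquiv_sgMap (f : M →ₗ[A] N) (x : (sg A (ModuleCat.of A M)).X 0) :
    sgEquiv N (((sgMap f).f 0).hom x) = f (sgEquiv M x) := by
  unfold sgMap
  rw [HomologicalComplex.single_map_f_self]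
  simp only [ModuleCat.hom_comp, LinearMap.comp_apply]
  exact (sgEquiv N).apply_symm_apply _

theorem sg_subsingleton (M : Type u) [AddCommGroup M] [Module A M] (n : ℤ) (hn : n ≠ 0) :
    Subsingleton ((sg A (ModuleCat.of A M)).X n) :=
  ModuleCat.subsingleton_of_isZero (HomologicalComplex.isZero_single_obj_X _ _ _ _ hn)

theorem sgMap_smul (a : A) :
    sgMap (a • (LinearMap.id : M →ₗ[A] M)) = a • 𝟙 (sg A (ModuleCat.of A M)) := by
  apply HomologicalComplex.hom_ext
  intro n
  apply ModuleCat.hom_ext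
  apply LinearMap.ext
  intro x
  by_cases hn : n = 0
  · subst hn
    apply (sgEquiv M).injective
    rw [sgEquiv_sgMap]
    simp
  · have := sg_subsingleton (A := A) M n hn
    exact Subsingleton.elim _ _

theorem degSES_sg (f : M →ₗ[A] N) (g : N →ₗ[A] P) (hf : Function.Injective f)
    (hfg : Function.Exact f g) (hg : Function.Surjective g) : DegSES (sgMap f) (sgMap g) := by
  intro n
  by_cases hn : n = 0
  · subst hn
    refine ⟨?_, ?_, ?_⟩
    · intro x y hxy
      have := congrArg (sgEquiv N) hxy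
      rw [sgEquiv_sgMap, sgEquiv_sgMap] at this
      exact (sgEquiv M).injective (hf this)
    · intro y
      rw [← LinearEquiv.map_eq_zero_iff (sgEquiv P), sgEquiv_sgMap, hfg]
      constructor
      · rintro ⟨m, hm⟩
        refine ⟨(sgEquiv M).symm m, ?_⟩
        apply (sgEquiv N).injective
        rw [sgEquiv_sgMap, LinearEquiv.apply_symm_apply, hm]
      · rintro ⟨x, rfl⟩
        exact ⟨sgEquiv M x, (sgEquiv_sgMap f x).symm⟩
    · intro z
      obtain ⟨y, hy⟩ := hg (sgEquiv P z)
      refine ⟨(sgEquiv N).symm y, ?_⟩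
      apply (sgEquiv P).injective
      rw [sgEquiv_sgMap, LinearEquiv.apply_symm_apply, hy]
  · have := sg_subsingleton (A := A) M n hn
    have := sg_subsingleton (A := A) N n hn
    have := sg_subsingleton (A := A) P n hn
    refine ⟨fun x y _ => Subsingleton.elim _ _, fun y => ?_, fun z => ⟨0, Subsingleton.elim _ _⟩⟩
    exact ⟨fun _ => ⟨0, Subsingleton.elim _ _⟩, fun _ => Subsingleton.elim _ _⟩

end sg

section KH

variable {M N P : Type u} [AddCommGroup M] [Module A M] [AddCommGroup N] [Module A N]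
  [AddCommGroup P] [Module A P]

/-- Koszul cohomology of a module (cone model). -/
noncomputable abbrev KH (l : List A) (M : Type u) [AddCommGroup M] [Module A M] (i : ℤ) :
    Type u :=
  ((kz (sg A (ModuleCat.of A M)) l).homology i : ModuleCat.{u} A)

/-- functoriality of Koszul cohomology -/
noncomputable def KHmap (l : List A) (f : M →ₗ[A] N) (i : ℤ) : KH l M i →ₗ[A] KH l N i :=
  (homologyMap (kmap (sgMap f) l) i).hom

theorem KHmap_id (l : List A) (i : ℤ) :
    KHmap l (LinearMap.id : M →ₗ[A] M) i = LinearMap.id := by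
  unfold KHmap
  rw [sgMap_id, kmap_id, homologyMap_id]
  rfl

theorem KHmap_comp (l : List A) (f : M →ₗ[A] N) (g : N →ₗ[A] P) (i : ℤ) :
    KHmap l (g ∘ₗ f) i = KHmap l g i ∘ₗ KHmap l f i := by
  unfold KHmap
  rw [sgMap_comp, kmap_comp, homologyMap_comp]
  rfl

theorem KHmap_smul_id (l : List A) (a : A) (i : ℤ) (z : KH l M i) :
    KHmap l (a • (LinearMap.id : M →ₗ[A] M)) i z = a • z := by
  unfold KHmap
  rw [sgMap_smul, kmap_smul_id]
  exact homologyMap_smul_id_apply a i z

/-- `H^0([]; M) = M` -/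
noncomputable def KHnil (M : Type u) [AddCommGroup M] [Module A M] : KH ([] : List A) M 0 ≃ₗ[A] M :=
  (HomologicalComplex.singleObjHomologySelfIso (ComplexShape.up ℤ) 0
    (ModuleCat.of A M)).toLinearEquiv

theorem KHnil_subsingleton (M : Type u) [AddCommGroup M] [Module A M] (i : ℤ) (hi : i ≠ 0) :
    Subsingleton (KH ([] : List A) M i) :=
  ModuleCat.subsingleton_of_isZero
    (HomologicalComplex.isZero_single_obj_homology _ _ _ _ hi)

/-- The long exact sequence of Koszul cohomology of a short exact sequence of modules. -/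
theorem KH_les (f : M →ₗ[A] N) (g : N →ₗ[A] P) (hf : Function.Injective f)
    (hfg : Function.Exact f g) (hg : Function.Surjective g) (l : List A) (n m : ℤ)
    (hnm : n + 1 = m) :
    ∃ δ : KH l P n →ₗ[A] KH l M m,
      Function.Exact (KHmap l f n) (KHmap l g n) ∧ Function.Exact (KHmap l g n) δ ∧
        Function.Exact δ (KHmap l f m) := by
  have h := (degSES_sg f g hf hfg hg).kmap l
  exact ⟨(h.δ n m hnm).hom, h.exact₂ n, h.exact₃ n m hnm, h.exact₁ n m hnm⟩

/-- The long exact sequence of the cone: Koszul cohomology of `a :: l`. -/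
theorem KH_cone (a : A) (l : List A) (M : Type u) [AddCommGroup M] [Module A M] (n m : ℤ)
    (hnm : n + 1 = m) :
    ∃ (α : KH l M n →ₗ[A] KH (a :: l) M n) (β : KH (a :: l) M n →ₗ[A] KH l M m),
      Function.Exact (LinearMap.lsmul A (KH l M n) a) α ∧ Function.Exact α β ∧
        Function.Exact β (LinearMap.lsmul A (KH l M m) a) := by
  set X := kz (sg A (ModuleCat.of A M)) l with hX
  have e : ∀ m : ℤ, (homologyMap (a • 𝟙 X) m).hom = LinearMap.lsmul A (KH l M m) a := by
    intro m
    apply LinearMap.ext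
    intro z
    exact homologyMap_smul_id_apply a m z
  refine ⟨(homologyMap (mappingCone.inr (a • 𝟙 X)) n).hom,
    (coneδ (a • 𝟙 X) n m hnm).hom, ?_, ?_, ?_⟩
  · have := cone_exact₂ (a • 𝟙 X) n
    rwa [e] at this
  · exact cone_exact₃ (a • 𝟙 X) n m hnm
  · have := cone_exact₁ (a • 𝟙 X) n m hnm
    rwa [e] at this

/-- Koszul cohomology of isomorphic modules -/
noncomputable def KHcongr (l : List A) (e : M ≃ₗ[A] N) (i : ℤ) : KH l M i ≃ₗ[A] KH l N i :=
  LinearEquiv.ofLinear (KHmap l e.toLinearMap i) (KHmap l e.symm.toLinearMap i)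
    (by rw [← KHmap_comp, LinearEquiv.comp_symm, KHmap_id])
    (by rw [← KHmap_comp, LinearEquiv.symm_comp, KHmap_id])

end KH

end Groth.Agent.Lib.Helper87.KzMod
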