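import Mathlib
import Groth.Prelude.Def_Koszul
import Groth.Prelude.Def_DRing2
import Groth.Agent.Lib.Helper87.KzMod

/-!
# Bridge: the prelude's `tensorCx (koszul A l) M` is the iterated cone `kz (M[0]) l`
-/

set_option autoImplicit false
universe u
open CategoryTheory CategoryTheory.Limits CochainComplex HomologicalComplex MonoidalCategory

namespace Groth.Agent.Lib.Helper87.KzBridge

open Groth.Agent.Lib.Helper94.KoszulReg Groth.Agent.Lib.Helper87.KzLES
  Groth.Agent.Lib.Helper87.KzMod

variable {A : Type u} [CommRing A]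

/-- isomorphic squares have isomorphic cones -/
noncomputable def coneMapIso {K₁ L₁ K₂ L₂ : CochainComplex (ModuleCat.{u} A) ℤ}
    (φ₁ : K₁ ⟶ L₁) (φ₂ : K₂ ⟶ L₂) (a : K₁ ≅ K₂) (b : L₁ ≅ L₂)
    (comm : φ₁ ≫ b.hom = a.hom ≫ φ₂) : mappingCone φ₁ ≅ mappingCone φ₂ where
  hom := mappingCone.map φ₁ φ₂ a.hom b.hom comm
  inv := mappingCone.map φ₂ φ₁ a.inv b.inv (by
    rw [← cancel_epi a.hom, ← reassoc_of% comm]
    simp)
  hom_inv_id := by
    rw [← mappingCone.map_comp]
    simp only [Iso.hom_inv_id]
    exact mappingCone.map_id _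
  inv_hom_id := by
    rw [← mappingCone.map_comp]
    simp only [Iso.inv_hom_id]
    exact mappingCone.map_id _

variable (M : Type u) [AddCommGroup M] [Module A M]

/-- the bridge isomorphism of complexes -/
noncomputable def bridge :
    ∀ l : List A, DRing.tensorCx (Koszul.koszul A l) (ModuleCat.of A M) ≅
      kz (sg A (ModuleCat.of A M)) l
  | [] =>
    (HomologicalComplex.singleMapHomologicalComplex (tensorRight (ModuleCat.of A M))
      (ComplexShape.up ℤ) 0).app (ModuleCat.of A A) ≪≫
      (HomologicalComplex.single (ModuleCat.{u} A) (ComplexShape.up ℤ) 0).mapIso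
        (λ_ (ModuleCat.of A M))
  | a :: l =>
    mappingCone.mapHomologicalComplexIso (a • 𝟙 (Koszul.koszul A l))
      (tensorRight (ModuleCat.of A M)) ≪≫
    coneMapIso _ (a • 𝟙 (kz (sg A (ModuleCat.of A M)) l)) (bridge l) (bridge l) (by
      rw [Functor.map_smul, CategoryTheory.Functor.map_id, Linear.smul_comp, Linear.comp_smul,
        Category.id_comp, Category.comp_id])

/-- the bridge on cohomology -/
noncomputable def bridgeH (l : List A) (i : ℤ) :
    (DRing.tensorCx (Koszul.koszul A l) (ModuleCat.of A M)).homology i ≃ₗ[A] KH l M i :=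
  ((HomologicalComplex.homologyFunctor (ModuleCat.{u} A) (ComplexShape.up ℤ) i).mapIso
    (bridge M l)).toLinearEquiv

theorem length_eq (l : List A) (i : ℤ) :
    Module.length A ((DRing.tensorCx (Koszul.koszul A l) (ModuleCat.of A M)).homology i) =
      Module.length A (KH l M i) :=
  (bridgeH M l i).length_eq

end Groth.Agent.Lib.Helper87.KzBridge
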