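import Mathlib
import Groth.Agent.Lib.Helper87.KzMod
import Groth.Agent.Lib.Helper87.SamuelFn

/-!
# Basic properties of Koszul cohomology: vanishing, finiteness, annihilators, finite length
-/

set_option autoImplicit false
universe u

namespace Groth.Agent.Lib.Helper87.KzBasic

open Groth.Agent.Lib.Helper87.KzMod Groth.Agent.Lib.Helper87.SamuelFn

variable {A : Type u} [CommRing A]

section general

variable {U V W : Type*} [AddCommGroup U] [Module A U] [AddCommGroup V] [Module A V]
  [AddCommGroup W] [Module A W]

theorem subsingleton_of_exact {α : U →ₗ[A] V} {β : V →ₗ[A] W} (h : Function.Exact α β)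
    [Subsingleton U] [Subsingleton W] : Subsingleton V := by
  refine ⟨fun x y => ?_⟩
  have hx : β (x - y) = 0 := Subsingleton.elim _ _
  obtain ⟨w, hw⟩ := (h (x - y)).1 hx
  have : w = 0 := Subsingleton.elim _ _
  rw [this, map_zero] at hw
  exact sub_eq_zero.mp hw.symm

/-- an element acts nilpotently -/
def NilOn (c : A) (H : Type*) [AddCommGroup H] [Module A H] : Prop :=
  ∃ k : ℕ, ∀ z : H, c ^ k • z = 0

theorem NilOn.of_exact {α : U →ₗ[A] V} {β : V →ₗ[A] W} (h : Function.Exact α β) {c : A}
    (hU : NilOn c U) (hW : NilOn c W) : NilOn c V := by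
  obtain ⟨k₁, h₁⟩ := hU
  obtain ⟨k₂, h₂⟩ := hW
  refine ⟨k₁ + k₂, fun z => ?_⟩
  have hz : β (c ^ k₂ • z) = 0 := by rw [map_smul, h₂]
  obtain ⟨w, hw⟩ := (h _).1 hz
  rw [pow_add, mul_smul, ← hw, ← map_smul, h₁, map_zero]

theorem nilOn_of_subsingleton (c : A) (H : Type*) [AddCommGroup H] [Module A H] [Subsingleton H] :
    NilOn c H := ⟨0, fun _ => Subsingleton.elim _ _⟩

end general

variable (M : Type u) [AddCommGroup M] [Module A M]

/-- Koszul cohomology vanishes outside `[-length, 0]`. -/
theorem KH_subsingleton : ∀ (l : List A) (i : ℤ), (0 < i ∨ i < -(l.length : ℤ)) →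
    Subsingleton (KH l M i)
  | [], i, hi => KHnil_subsingleton M i (by
      rcases hi with hi | hi
      · exact hi.ne'
      · simp at hi; exact hi.ne)
  | a :: l, i, hi => by
    obtain ⟨α, β, -, h2, -⟩ := KH_cone a l M i (i + 1) rfl
    have h1 : Subsingleton (KH l M i) := KH_subsingleton l i (by
      rcases hi with hi | hi
      · exact Or.inl hi
      · right; simp only [List.length_cons] at hi; push_cast at hi; omega)
    have h3 : Subsingleton (KH l M (i + 1)) := KH_subsingleton l (i + 1) (by
      rcases hi with hi | hi
      · left; omega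
      · right; simp only [List.length_cons] at hi; push_cast at hi; omega)
    exact subsingleton_of_exact h2

/-- Koszul cohomology of a Noetherian module is Noetherian. -/
theorem KH_isNoetherian [IsNoetherian A M] : ∀ (l : List A) (i : ℤ), IsNoetherian A (KH l M i)
  | [], i => by
    by_cases hi : i = 0
    · subst hi
      exact isNoetherian_of_linearEquiv (KHnil M).symm
    · have := KHnil_subsingleton (A := A) M i hi
      infer_instance
  | a :: l, i => by
    obtain ⟨α, β, -, h2, -⟩ := KH_cone a l M i (i + 1) rfl
    have h1 := KH_isNoetherian l i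
    have h3 := KH_isNoetherian l (i + 1)
    exact isNoetherian_of_range_eq_ker α β (LinearMap.exact_iff.mp h2).symm

/-- Elements killing `M` kill its Koszul cohomology. -/
theorem KH_smul_eq_zero_of_annihilator (l : List A) (i : ℤ) (b : A) (hb : ∀ m : M, b • m = 0)
    (z : KH l M i) : b • z = 0 := by
  have h1 : b • (LinearMap.id : M →ₗ[A] M) = (0 : A) • (LinearMap.id : M →ₗ[A] M) := by
    ext m
    simp [hb m]
  rw [← KHmap_smul_id l b i z, h1, KHmap_smul_id, zero_smul]

/-- The elements of the list act nilpotently on Koszul cohomology. -/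
theorem KH_nilOn : ∀ (l : List A) (c : A), c ∈ l → ∀ i : ℤ, NilOn c (KH l M i)
  | [], c, hc, i => by simp at hc
  | a :: l, c, hc, i => by
    obtain ⟨α, β, h1, h2, h3⟩ := KH_cone a l M i (i + 1) rfl
    rcases List.mem_cons.mp hc with rfl | hc
    · refine ⟨2, fun z => ?_⟩
      have hz : β (c • z) = 0 := by
        have := (h3 (β z)).2 ⟨z, rfl⟩
        rw [LinearMap.lsmul_apply] at this
        rw [map_smul]
        exact this
      obtain ⟨w, hw⟩ := (h2 _).1 hz
      have hw2 : α (c • w) = 0 := (h1 (c • w)).2 ⟨w, LinearMap.lsmul_apply _ _⟩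
      rw [pow_two, mul_smul, ← hw, ← map_smul, hw2]
    · exact NilOn.of_exact h2 (KH_nilOn l c hc i) (KH_nilOn l c hc (i + 1))

section finlen

variable [IsNoetherianRing A]

omit [IsNoetherianRing A] in
/-- Finite length modules have support of dimension `≤ 0`. -/
theorem supportDim_le_zero_of_isFiniteLength (N : Type*) [AddCommGroup N] [Module A N]
    [Module.Finite A N] (h : IsFiniteLength A N) : Module.supportDim A N ≤ 0 := by
  rw [isFiniteLength_iff_isNoetherian_isArtinian] at h
  have : IsArtinian A N := h.2
  rw [Module.supportDim_eq_ringKrullDim_quotient_annihilator]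
  have hart : IsArtinianRing (A ⧸ Module.annihilator A N) := by
    obtain ⟨k, s, hs⟩ := Module.Finite.exists_fin (R := A) (M := N)
    let f : A →ₗ[A] (Fin k → N) :=
      LinearMap.pi (fun i => LinearMap.toSpanSingleton A _ (s i))
    have hker : LinearMap.ker f = Module.annihilator A N := by
      ext a
      rw [LinearMap.mem_ker, Module.mem_annihilator]
      constructor
      · intro h m
        have hm : m ∈ Submodule.span A (Set.range s) := by rw [hs]; trivial
        induction hm using Submodule.span_induction with
        | mem x hx =>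
          obtain ⟨i, rfl⟩ := hx
          have := congrFun h i
          simpa [f] using this
        | zero => simp
        | add x y _ _ hx hy => rw [smul_add, hx, hy, add_zero]
        | smul r x _ hx => rw [smul_comm, hx, smul_zero]
      · intro h
        ext i
        simpa [f] using h (s i)
    have h1 : IsArtinian A (A ⧸ LinearMap.ker f) :=
      isArtinian_of_linearEquiv (LinearMap.quotKerEquivRange f).symm
    rw [hker] at h1
    exact isArtinian_of_tower A h1
  have h0 : Ring.KrullDimLE 0 (A ⧸ Module.annihilator A N) := inferInstance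
  rw [Ring.krullDimLE_iff] at h0
  exact_mod_cast h0

omit [IsNoetherianRing A] in
theorem supportDim_le_of_support_subset (N N' : Type*) [AddCommGroup N] [Module A N]
    [AddCommGroup N'] [Module A N'] (h : Module.support A N ⊆ Module.support A N') :
    Module.supportDim A N ≤ Module.supportDim A N' :=
  Order.krullDim_le_of_strictMono (Set.inclusion h) (fun _ _ hxy => hxy)

variable [Module.Finite A M]

/-- The support of Koszul cohomology. -/
theorem KH_support_subset (l : List A) (i : ℤ) :
    Module.support A (KH l M i) ⊆
      Module.support A (M ⧸ (Ideal.span {a | a ∈ l} • (⊤ : Submodule A M))) := by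
  have hN : IsNoetherian A (KH l M i) := KH_isNoetherian M l i
  intro p hp
  rw [Module.mem_support_iff_of_finite] at hp
  rw [Module.support_quotient, Set.mem_inter_iff, Module.mem_support_iff_of_finite,
    PrimeSpectrum.mem_zeroLocus, SetLike.coe_subset_coe, Ideal.span_le]
  constructor
  · intro b hb
    apply hp
    rw [Module.mem_annihilator]
    intro z
    exact KH_smul_eq_zero_of_annihilator M l i b (Module.mem_annihilator.mp hb) z
  · intro c hc
    obtain ⟨k, hk⟩ := KH_nilOn M l c hc i
    have : c ^ k ∈ p.asIdeal := hp (Module.mem_annihilator.mpr hk)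
    exact p.2.mem_of_pow_mem k this

/-- Koszul cohomology has finite length when `M/(l)M` has. -/
theorem KH_isFiniteLength (l : List A)
    (h : IsFiniteLength A (M ⧸ (Ideal.span {a | a ∈ l} • (⊤ : Submodule A M)))) (i : ℤ) :
    IsFiniteLength A (KH l M i) := by
  have hN : IsNoetherian A (KH l M i) := KH_isNoetherian M l i
  apply isFiniteLength_of_supportDim_le_zero
  exact (supportDim_le_of_support_subset _ _ (KH_support_subset M l i)).trans
    (supportDim_le_zero_of_isFiniteLength _ h)

theorem KH_length_ne_top (l : List A)
    (h : IsFiniteLength A (M ⧸ (Ideal.span {a | a ∈ l} • (⊤ : Submodule A M)))) (i : ℤ) :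
    Module.length A (KH l M i) ≠ ⊤ :=
  Module.length_ne_top_iff.mpr (KH_isFiniteLength M l h i)

end finlen

end Groth.Agent.Lib.Helper87.KzBasic
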