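import Mathlib
import Groth.Agent.Lib.Helper87.KzBasic
import Groth.Prelude.Def_ega3

/-!
# Top Koszul cohomology `H^0(l; M) ≃ M/(l)M`, explicit isomorphism
-/

set_option autoImplicit false
universe u
open CategoryTheory CategoryTheory.Limits CochainComplex HomologicalComplex

namespace Groth.Agent.Lib.Helper87.KzTop

open Groth.Agent.Lib.Helper87.KzMod Groth.Agent.Lib.Helper87.KzBasic
open Groth.Agent.Lib.Helper94.KoszulReg
open Pointwise

variable {A : Type u} [CommRing A]

/-- `H^0(a :: l; M) ≃ H^0(l; M) / a H^0(l; M)` -/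
theorem nonempty_cons (a : A) (l : List A) (M : Type u) [AddCommGroup M] [Module A M] :
    Nonempty (KH (a :: l) M 0 ≃ₗ[A] QuotSMulTop a (KH l M 0)) := by
  obtain ⟨α, β, h1, h2, -⟩ := KH_cone a l M 0 1 rfl
  have hs : Subsingleton (KH l M 1) := KH_subsingleton M l 1 (Or.inl one_pos)
  have hsurj : Function.Surjective α := by
    intro z
    have : β z = 0 := Subsingleton.elim _ _
    exact (h2 z).mp this
  have hker : LinearMap.ker α = a • (⊤ : Submodule A (KH l M 0)) := by
    rw [LinearMap.exact_iff.mp h1]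
    ext z
    simp only [LinearMap.mem_range, LinearMap.lsmul_apply]
    rw [Submodule.mem_smul_pointwise_iff_exists]
    constructor
    · rintro ⟨y, rfl⟩
      exact ⟨y, Submodule.mem_top, rfl⟩
    · rintro ⟨y, -, rfl⟩
      exact ⟨y, rfl⟩
  exact ⟨((Submodule.quotEquivOfEq _ _ hker.symm).trans
    (LinearMap.quotKerEquivOfSurjective α hsurj)).symm⟩

theorem nonempty_top : ∀ (l : List A) (M : Type u) [AddCommGroup M] [Module A M],
    Nonempty (KH l M 0 ≃ₗ[A] (M ⧸ Ideal.ofList l • (⊤ : Submodule A M)))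
  | [], M, _, _ => by
    refine ⟨(KHnil M).trans (Submodule.quotEquivOfEqBot _ ?_).symm⟩
    rw [Ideal.ofList_nil, Submodule.bot_smul]
  | a :: l, M, _, _ => by
    obtain ⟨e1⟩ := nonempty_cons a l M
    obtain ⟨e2⟩ := nonempty_top l M
    exact ⟨e1.trans ((QuotSMulTop.congr a e2).trans
      (Submodule.quotOfListConsSMulTopEquivQuotSMulTopOuter M a l).symm)⟩

theorem cone_congr (a : A) {X Y : CochainComplex (ModuleCat.{u} A) ℤ} (h : X = Y) :
    mappingCone (a • 𝟙 X) = mappingCone (a • 𝟙 Y) := by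
  subst h; rfl

theorem koszulCx_eq (M : ModuleCat.{u} A) : ∀ l : List A,
    CohIII.koszulCx M l = kz (sg A M) l
  | [] => rfl
  | a :: l => by
    unfold CohIII.koszulCx kz
    exact cone_congr a (koszulCx_eq M l)

theorem homology_congr {X Y : CochainComplex (ModuleCat.{u} A) ℤ} (h : X = Y) {i j : ℤ}
    (hij : i = j) : Nonempty (X.homology i ≃ₗ[A] Y.homology j) := by
  subst h; subst hij; exact ⟨LinearEquiv.refl _ _⟩

theorem nonempty_koszulH (xs : List A) (M : Type u) [AddCommGroup M] [Module A M] :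
    Nonempty (↑(CohIII.koszulH xs (ModuleCat.of A M) xs.length) ≃ₗ[A]
      (M ⧸ (Ideal.ofList xs • (⊤ : Submodule A M)))) := by
  obtain ⟨e1⟩ := homology_congr (koszulCx_eq (ModuleCat.of A M) xs)
    (sub_self ((xs.length : ℕ) : ℤ))
  obtain ⟨e2⟩ := nonempty_top xs M
  exact ⟨e1.trans e2⟩

end Groth.Agent.Lib.Helper87.KzTop
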