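import Mathlib
import Groth.Agent.Lib.Helper29.SuppLoc

/-!
# `dim M_p` is the height of `p` modulo the annihilator of `M`
-/

set_option autoImplicit false
universe u

namespace Groth.Agent.Lib.Helper87.SuppDimLoc

open Groth.Agent.Lib.Helper29.SuppLoc

variable {R : Type u} [CommRing R] (M : Type u) [AddCommGroup M] [Module R M] [Module.Finite R M]

theorem supportDim_localization_eq (p : Ideal R) [hp : p.IsPrime]
    (hle : Module.annihilator R M ≤ p) :
    Module.supportDim (Localization.AtPrime p) (LocalizedModule p.primeCompl M) =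
      ((p.map (Ideal.Quotient.mk (Module.annihilator R M))).height : WithBot ℕ∞) := by
  set I := Module.annihilator R M with hI
  have hker : RingHom.ker (Ideal.Quotient.mk I) ≤ p := by rwa [Ideal.mk_ker]
  have hq : (p.map (Ideal.Quotient.mk I)).IsPrime :=
    Ideal.map_isPrime_of_surjective Ideal.Quotient.mk_surjective hker
  rw [show (p.map (Ideal.Quotient.mk I)).height =
      Order.height (⟨p.map (Ideal.Quotient.mk I), hq⟩ : PrimeSpectrum (R ⧸ I)) from
      PrimeSpectrum.height_eq_orderHeight ⟨_, hq⟩, Order.height_eq_krullDim_Iic]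
  unfold Module.supportDim
  have hcomap : (p.map (Ideal.Quotient.mk I)).comap (Ideal.Quotient.mk I) = p := by
    rw [Ideal.comap_map_of_surjective _ Ideal.Quotient.mk_surjective, ← RingHom.ker_eq_comap_bot]
    exact sup_eq_left.mpr hker
  apply le_antisymm
  · -- support of the localization → Iic
    let f : Module.support (Localization.AtPrime p) (LocalizedModule p.primeCompl M) →
        Set.Iic (⟨p.map (Ideal.Quotient.mk I), hq⟩ : PrimeSpectrum (R ⧸ I)) := fun Q =>
      ⟨I.primeSpectrumQuotientOrderIsoZeroLocus.symm
        ⟨PrimeSpectrum.comap (algebraMap R (Localization.AtPrime p)) Q.1, by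
          have h1 := (mem_support_iff_comap_mem_support p.primeCompl
            (LocalizedModule.mkLinearMap p.primeCompl M) Q.1).1 Q.2
          rw [Module.mem_support_iff_of_finite] at h1
          exact h1⟩, by
        rw [Set.mem_Iic, OrderIso.symm_apply_le]
        change PrimeSpectrum.comap (algebraMap R (Localization.AtPrime p)) Q.1 ≤
          PrimeSpectrum.comap (Ideal.Quotient.mk I) ⟨p.map (Ideal.Quotient.mk I), hq⟩
        change Ideal.comap _ _ ≤ Ideal.comap _ _
        rw [hcomap]
        exact comap_le_atPrime R p Q.1⟩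
    apply Order.krullDim_le_of_strictMono f
    intro Q Q' hQQ'
    change I.primeSpectrumQuotientOrderIsoZeroLocus.symm _ <
      I.primeSpectrumQuotientOrderIsoZeroLocus.symm _
    rw [OrderIso.lt_iff_lt]
    refine lt_of_le_of_ne ?_ ?_
    · exact Ideal.comap_mono (show Q.1.asIdeal ≤ Q'.1.asIdeal from hQQ'.le)
    · intro heq
      have h1 : PrimeSpectrum.comap (algebraMap R (Localization.AtPrime p)) Q.1 =
          PrimeSpectrum.comap (algebraMap R (Localization.AtPrime p)) Q'.1 :=
        congrArg Subtype.val heq
      exact hQQ'.ne (Subtype.ext (comap_injective_atPrime R p h1))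
  · -- Iic → support of the localization
    set e := IsLocalization.AtPrime.primeSpectrumOrderIso (Localization.AtPrime p) p with he
    have hecomap : ∀ x, PrimeSpectrum.comap (algebraMap R (Localization.AtPrime p)) (e.symm x) =
        x.1 := by
      intro x
      have h1 : (e (e.symm x)).1 = x.1 := by rw [OrderIso.apply_symm_apply]
      rw [← h1]
      rfl
    have hmem : ∀ q : Set.Iic (⟨p.map (Ideal.Quotient.mk I), hq⟩ : PrimeSpectrum (R ⧸ I)),
        PrimeSpectrum.comap (Ideal.Quotient.mk I) q.1 ∈
          Set.Iic (⟨p, hp⟩ : PrimeSpectrum R) := by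
      intro q
      rw [Set.mem_Iic]
      change Ideal.comap _ _ ≤ p
      exact (Ideal.comap_mono (show q.1.asIdeal ≤ p.map (Ideal.Quotient.mk I) from q.2)).trans
        hcomap.le
    let g : Set.Iic (⟨p.map (Ideal.Quotient.mk I), hq⟩ : PrimeSpectrum (R ⧸ I)) →
        Module.support (Localization.AtPrime p) (LocalizedModule p.primeCompl M) := fun q =>
      ⟨e.symm ⟨PrimeSpectrum.comap (Ideal.Quotient.mk I) q.1, hmem q⟩, by
        rw [mem_support_iff_comap_mem_support p.primeCompl
          (LocalizedModule.mkLinearMap p.primeCompl M), Module.mem_support_iff_of_finite,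
          hecomap]
        change I ≤ Ideal.comap (Ideal.Quotient.mk I) q.1.asIdeal
        intro x hx
        rw [Ideal.mem_comap, Ideal.Quotient.eq_zero_iff_mem.mpr hx]
        exact zero_mem _⟩
    apply Order.krullDim_le_of_strictMono g
    intro q q' hqq'
    change e.symm _ < e.symm _
    rw [OrderIso.lt_iff_lt]
    refine lt_of_le_of_ne ?_ ?_
    · exact Ideal.comap_mono (show q.1.asIdeal ≤ q'.1.asIdeal from hqq'.le)
    · intro heq
      have h1 : PrimeSpectrum.comap (Ideal.Quotient.mk I) q.1 =
          PrimeSpectrum.comap (Ideal.Quotient.mk I) q'.1 := congrArg Subtype.val heq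
      exact hqq'.ne (Subtype.ext
        (PrimeSpectrum.comap_injective_of_surjective _ Ideal.Quotient.mk_surjective h1))

end Groth.Agent.Lib.Helper87.SuppDimLoc
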