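import Mathlib

/-!
# Hilbert functions of homogeneous ideals in polynomial rings: cutting by a non-zero-divisor
-/

set_option autoImplicit false
universe u
open MvPolynomial

namespace Groth.Agent.Lib.Helper87.HilbFnA

variable {k : Type u} [Field k] {σ : Type} [Finite σ]

attribute [local instance] MvPolynomial.gradedAlgebra

/-- the `m`-th graded piece -/
noncomputable abbrev gr (k : Type u) [Field k] (σ : Type) (m : ℕ) :
    Submodule k (MvPolynomial σ k) := homogeneousSubmodule σ k m

/-- the `m`-th graded piece of an ideal -/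
noncomputable abbrev pc (I : Ideal (MvPolynomial σ k)) (m : ℕ) : Submodule k (MvPolynomial σ k) :=
  Submodule.restrictScalars k I ⊓ homogeneousSubmodule σ k m

instance gr_finite (m : ℕ) : Module.Finite k (gr k σ m) :=
  Module.Finite.iff_fg.mpr (homogeneousSubmodule_fg σ k m)

instance pc_finite (I : Ideal (MvPolynomial σ k)) (m : ℕ) : Module.Finite k (pc I m) :=
  Submodule.finiteDimensional_of_le (inf_le_right : pc I m ≤ gr k σ m)

/-- the Hilbert function of `R/I` -/
noncomputable def hfn (I : Ideal (MvPolynomial σ k)) (m : ℕ) : ℚ :=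
  (Module.finrank k (gr k σ m) : ℚ) - Module.finrank k (pc I m)

theorem finrank_pc_le (I : Ideal (MvPolynomial σ k)) (m : ℕ) :
    Module.finrank k (pc I m) ≤ Module.finrank k (gr k σ m) :=
  Submodule.finrank_mono (inf_le_right : pc I m ≤ gr k σ m)

theorem homogeneousComponent_mul {f : MvPolynomial σ k} {d : ℕ} (hf : f.IsHomogeneous d)
    (b : MvPolynomial σ k) (j : ℕ) :
    homogeneousComponent (d + j) (f * b) = f * homogeneousComponent j b := by
  conv_lhs => rw [← sum_homogeneousComponent b, Finset.mul_sum, map_sum]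
  have h1 : ∀ i, homogeneousComponent (d + j) (f * homogeneousComponent i b) =
      if i = j then f * homogeneousComponent i b else 0 := by
    intro i
    have hi : (f * homogeneousComponent i b).IsHomogeneous (d + i) :=
      hf.mul (homogeneousComponent_isHomogeneous i b)
    rw [homogeneousComponent_of_mem hi]
    by_cases h : i = j
    · subst h
      simp
    · rw [if_neg h, if_neg]
      omega
  simp_rw [h1]
  rw [Finset.sum_ite_eq']
  split_ifs with h
  · rfl
  · rw [Finset.mem_range, not_lt] at h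
    rw [homogeneousComponent_eq_zero _ _ (by omega), mul_zero]

/-- the multiplication map by `f` -/
noncomputable abbrev mulf (f : MvPolynomial σ k) : MvPolynomial σ k →ₗ[k] MvPolynomial σ k :=
  LinearMap.mulLeft k f

theorem mulf_injective {f : MvPolynomial σ k} (hf : f ≠ 0) : Function.Injective (mulf f) := by
  intro a b h
  exact mul_left_cancel₀ hf h

theorem pc_sup_eq (I : Ideal (MvPolynomial σ k)) (hI : I.IsHomogeneous (homogeneousSubmodule σ k))
    {f : MvPolynomial σ k} {d : ℕ} (hf : f.IsHomogeneous d) (j : ℕ) :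
    pc (I ⊔ Ideal.span {f}) (d + j) = pc I (d + j) ⊔ (gr k σ j).map (mulf f) := by
  apply le_antisymm
  · rintro x ⟨hx1, hx2⟩
    rw [Submodule.coe_restrictScalars, SetLike.mem_coe, Submodule.mem_sup] at hx1
    obtain ⟨a, ha, y, hy, rfl⟩ := hx1
    rw [Ideal.mem_span_singleton'] at hy
    obtain ⟨b, rfl⟩ := hy
    have hx3 : homogeneousComponent (d + j) (a + b * f) = a + b * f :=
      homogeneousComponent_eq_self hx2
    rw [← hx3, map_add, mul_comm b f, homogeneousComponent_mul hf]
    refine Submodule.add_mem_sup ⟨?_, homogeneousComponent_mem _ _⟩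
      ⟨_, homogeneousComponent_mem j b, rfl⟩
    exact homogeneousComponent_mem_of_mem hI ha _
  · refine sup_le ?_ ?_
    · exact inf_le_inf_right _ (fun x hx => Ideal.mem_sup_left hx)
    · rintro _ ⟨b, hb, rfl⟩
      refine ⟨?_, ?_⟩
      · exact Ideal.mem_sup_right (Ideal.mul_mem_right _ _ (Ideal.mem_span_singleton_self f))
      · exact hf.mul hb

theorem pc_inf_eq (I : Ideal (MvPolynomial σ k))
    {f : MvPolynomial σ k} {d : ℕ} (hf : f.IsHomogeneous d)
    (hreg : ∀ x, f * x ∈ I → x ∈ I) (j : ℕ) :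
    pc I (d + j) ⊓ (gr k σ j).map (mulf f) = (pc I j).map (mulf f) := by
  apply le_antisymm
  · rintro x ⟨⟨hx1, -⟩, ⟨b, hb, rfl⟩⟩
    exact ⟨b, ⟨hreg b hx1, hb⟩, rfl⟩
  · rintro _ ⟨b, ⟨hb1, hb2⟩, rfl⟩
    exact ⟨⟨Ideal.mul_mem_left _ _ hb1, hf.mul hb2⟩, ⟨b, hb2, rfl⟩⟩

theorem finrank_map_mulf {f : MvPolynomial σ k} (hf : f ≠ 0) (V : Submodule k (MvPolynomial σ k)) :
    Module.finrank k (V.map (mulf f)) = Module.finrank k V :=
  (LinearEquiv.finrank_eq (Submodule.equivMapOfInjective (mulf f) (mulf_injective hf) V)).symm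

/-- the key dimension count -/
theorem finrank_cut (I : Ideal (MvPolynomial σ k))
    (hI : I.IsHomogeneous (homogeneousSubmodule σ k))
    {f : MvPolynomial σ k} {d : ℕ} (hf : f.IsHomogeneous d) (hf0 : f ≠ 0)
    (hreg : ∀ x, f * x ∈ I → x ∈ I) (j : ℕ) :
    Module.finrank k (pc (I ⊔ Ideal.span {f}) (d + j)) + Module.finrank k (pc I j) =
      Module.finrank k (pc I (d + j)) + Module.finrank k (gr k σ j) := by
  have : Module.Finite k ((gr k σ j).map (mulf f)) := inferInstance
  have h := Submodule.finrank_sup_add_finrank_inf_eq (pc I (d + j)) ((gr k σ j).map (mulf f))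
  rw [← pc_sup_eq I hI hf, pc_inf_eq I hf hreg, finrank_map_mulf hf0, finrank_map_mulf hf0] at h
  exact h

theorem hfn_cut (I : Ideal (MvPolynomial σ k))
    (hI : I.IsHomogeneous (homogeneousSubmodule σ k))
    {f : MvPolynomial σ k} {d : ℕ} (hf : f.IsHomogeneous d) (hf0 : f ≠ 0)
    (hreg : ∀ x, f * x ∈ I → x ∈ I) (j : ℕ) :
    hfn (I ⊔ Ideal.span {f}) (d + j) = hfn I (d + j) - hfn I j := by
  have h := finrank_cut I hI hf hf0 hreg j
  have h' : ((Module.finrank k (pc (I ⊔ Ideal.span {f}) (d + j)) : ℕ) : ℚ) +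
      Module.finrank k (pc I j) = Module.finrank k (pc I (d + j)) + Module.finrank k (gr k σ j) := by
    exact_mod_cast h
  unfold hfn
  linarith

end Groth.Agent.Lib.Helper87.HilbFnA
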