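import Mathlib

/-!
# The difference polynomial `P(X) - P(X - d)`
-/

set_option autoImplicit false
open Polynomial

namespace Groth.Agent.Lib.Helper87.PolyDiff

/-- the backward difference -/
noncomputable def Δ (d : ℚ) (P : ℚ[X]) : ℚ[X] := P - P.comp (X - C d)

theorem Δ_eval (d : ℚ) (P : ℚ[X]) (x : ℚ) : (Δ d P).eval x = P.eval x - P.eval (x - d) := by
  unfold Δ
  simp

theorem comp_eq_taylor (d : ℚ) (P : ℚ[X]) : P.comp (X - C d) = taylor (-d) P := by
  rw [taylor_apply]
  congr 1
  rw [map_neg, sub_eq_add_neg]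

theorem natDegree_comp_sub (d : ℚ) (P : ℚ[X]) : (P.comp (X - C d)).natDegree = P.natDegree := by
  rw [comp_eq_taylor, natDegree_taylor]

theorem coeff_comp_sub (d : ℚ) (P : ℚ[X]) (t : ℕ) (ht : P.natDegree = t + 1) :
    (P.comp (X - C d)).coeff t = P.coeff t - (t + 1) * d * P.coeff (t + 1) := by
  rw [comp_eq_taylor, taylor_coeff, hasseDeriv_apply, sum_over_range' _ _ (t + 2)]
  · rw [Finset.sum_range_succ, Finset.sum_range_succ, Finset.sum_eq_zero]
    · simp only [zero_add, Nat.sub_self, Nat.choose_self, Nat.cast_one, one_mul,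
        Nat.add_sub_cancel_left, Nat.choose_succ_self_right, eval_add, eval_monomial, pow_zero,
        pow_one, mul_one]
      push_cast
      ring
    · intro i hi
      rw [Finset.mem_range] at hi
      rw [Nat.choose_eq_zero_of_lt hi]
      simp
  · rw [ht]
    omega
  · intro n
    simp

theorem Δ_spec (d : ℕ) (hd : 0 < d) (P : ℚ[X]) (ht : 1 ≤ P.natDegree) :
    (Δ (d : ℚ) P).natDegree + 1 = P.natDegree ∧
      ((Δ (d : ℚ) P).natDegree.factorial : ℚ) * (Δ (d : ℚ) P).leadingCoeff =
        d * ((P.natDegree.factorial : ℚ) * P.leadingCoeff) := by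
  obtain ⟨t, ht'⟩ : ∃ t, P.natDegree = t + 1 := ⟨P.natDegree - 1, by omega⟩
  have hP0 : P ≠ 0 := by
    rintro rfl
    simp at ht
  have hlc : P.coeff (t + 1) ≠ 0 := by
    rw [← ht']
    exact leadingCoeff_ne_zero.mpr hP0
  -- coefficients of Δ
  have hc1 : (Δ (d : ℚ) P).coeff t = (t + 1) * d * P.coeff (t + 1) := by
    unfold Δ
    rw [coeff_sub, coeff_comp_sub _ _ t ht']
    ring
  have hc2 : ∀ j, t < j → (Δ (d : ℚ) P).coeff j = 0 := by
    intro j hj
    unfold Δ
    rw [coeff_sub]
    rcases Nat.lt_or_ge (t + 1) j with h | h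
    · rw [coeff_eq_zero_of_natDegree_lt (by omega), coeff_eq_zero_of_natDegree_lt
        (by rw [natDegree_comp_sub]; omega), sub_zero]
    · have hj' : j = t + 1 := by omega
      subst hj'
      have h1 : (P.comp (X - C (d : ℚ))).coeff (t + 1) = P.coeff (t + 1) := by
        have h2 : (P.comp (X - C (d : ℚ))).leadingCoeff = P.leadingCoeff := by
          rw [comp_eq_taylor, leadingCoeff_taylor]
        rw [leadingCoeff, leadingCoeff, natDegree_comp_sub, ht'] at h2
        exact h2
      rw [h1, sub_self]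
  have hne : (Δ (d : ℚ) P).coeff t ≠ 0 := by
    rw [hc1]
    have : ((t : ℚ) + 1) ≠ 0 := by positivity
    have hd' : (d : ℚ) ≠ 0 := by exact_mod_cast hd.ne'
    exact mul_ne_zero (mul_ne_zero this hd') hlc
  have hdeg : (Δ (d : ℚ) P).natDegree = t := by
    apply le_antisymm
    · rw [natDegree_le_iff_coeff_eq_zero]
      intro j hj
      exact hc2 j hj
    · exact le_natDegree_of_ne_zero hne
  refine ⟨by rw [hdeg, ht'], ?_⟩
  rw [leadingCoeff, hdeg, hc1, leadingCoeff, ht', Nat.factorial_succ]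
  push_cast
  ring

end Groth.Agent.Lib.Helper87.PolyDiff
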