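import Mathlib
import Groth.Agent.Lib.Helper87.HilbFnA
import Groth.Agent.Lib.Helper87.PolyDiff

/-!
# Hilbert polynomials: uniqueness, and the Hilbert polynomial of a hypersurface section
-/

set_option autoImplicit false
universe u
open MvPolynomial

namespace Groth.Agent.Lib.Helper87.HilbFnB

open Groth.Agent.Lib.Helper87.HilbFnA Groth.Agent.Lib.Helper87.PolyDiff

variable {k : Type u} [Field k] {σ : Type} [Finite σ]

attribute [local instance] MvPolynomial.gradedAlgebra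

/-- `P` is the Hilbert polynomial of `R/I`. -/
def IsHP (I : Ideal (MvPolynomial σ k)) (P : Polynomial ℚ) : Prop :=
  ∃ m₀ : ℕ, ∀ m : ℕ, m₀ ≤ m → P.eval (m : ℚ) = hfn I m

theorem eq_of_eventually_eval_eq (P Q : Polynomial ℚ) (m₀ : ℕ)
    (h : ∀ m : ℕ, m₀ ≤ m → P.eval (m : ℚ) = Q.eval (m : ℚ)) : P = Q := by
  apply Polynomial.eq_of_infinite_eval_eq
  have hinf : (Set.range fun m : ℕ => ((m₀ + m : ℕ) : ℚ)).Infinite := by
    apply Set.infinite_range_of_injective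
    intro a b hab
    have : ((m₀ + a : ℕ) : ℚ) = ((m₀ + b : ℕ) : ℚ) := hab
    have : (m₀ + a : ℕ) = m₀ + b := by exact_mod_cast this
    omega
  refine hinf.mono ?_
  rintro _ ⟨m, rfl⟩
  exact h (m₀ + m) (Nat.le_add_right _ _)

theorem IsHP.unique {I : Ideal (MvPolynomial σ k)} {P Q : Polynomial ℚ} (hP : IsHP I P)
    (hQ : IsHP I Q) : P = Q := by
  obtain ⟨m₀, h₀⟩ := hP
  obtain ⟨m₁, h₁⟩ := hQ
  refine eq_of_eventually_eval_eq P Q (max m₀ m₁) fun m hm => ?_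
  rw [h₀ m (le_trans (le_max_left _ _) hm), h₁ m (le_trans (le_max_right _ _) hm)]

theorem IsHP.cut {I : Ideal (MvPolynomial σ k)}
    (hI : I.IsHomogeneous (homogeneousSubmodule σ k))
    {f : MvPolynomial σ k} {d : ℕ} (hf : f.IsHomogeneous d) (hf0 : f ≠ 0)
    (hreg : ∀ x, f * x ∈ I → x ∈ I) {P : Polynomial ℚ} (hP : IsHP I P) :
    IsHP (I ⊔ Ideal.span {f}) (Δ (d : ℚ) P) := by
  obtain ⟨m₀, h₀⟩ := hP
  refine ⟨m₀ + d, fun m hm => ?_⟩
  obtain ⟨j, rfl⟩ : ∃ j, m = d + j := ⟨m - d, by omega⟩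
  rw [hfn_cut I hI hf hf0 hreg j, Δ_eval, h₀ (d + j) (by omega)]
  have : ((d + j : ℕ) : ℚ) - (d : ℚ) = (j : ℚ) := by push_cast; ring
  rw [this, h₀ j (by omega)]

end Groth.Agent.Lib.Helper87.HilbFnB
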