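import Mathlib

/-!
# Lengths of localizations of modules at primes
-/

namespace Groth.Agent.Lib.Helper87.LocLength

variable {A : Type*} [CommRing A]

/-- The length of `N_p` over `A_p`. -/
noncomputable def w (N : Type*) [AddCommGroup N] [Module A N] (p : PrimeSpectrum A) : ℕ∞ :=
  Module.length (Localization.AtPrime p.asIdeal) (LocalizedModule p.asIdeal.primeCompl N)

variable {N₁ N₂ N₃ : Type*} [AddCommGroup N₁] [Module A N₁] [AddCommGroup N₂] [Module A N₂]
  [AddCommGroup N₃] [Module A N₃]

theorem w_eq_add_of_exact (p : PrimeSpectrum A) (f : N₁ →ₗ[A] N₂) (g : N₂ →ₗ[A] N₃)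
    (hf : Function.Injective f) (hg : Function.Surjective g) (hfg : Function.Exact f g) :
    w N₂ p = w N₁ p + w N₃ p := by
  set S := p.asIdeal.primeCompl
  let f' := IsLocalizedModule.mapExtendScalars S (LocalizedModule.mkLinearMap S N₁)
    (LocalizedModule.mkLinearMap S N₂) (Localization.AtPrime p.asIdeal) f
  let g' := IsLocalizedModule.mapExtendScalars S (LocalizedModule.mkLinearMap S N₂)
    (LocalizedModule.mkLinearMap S N₃) (Localization.AtPrime p.asIdeal) g
  have hf' : ⇑f' = ⇑(IsLocalizedModule.map S (LocalizedModule.mkLinearMap S N₁)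
      (LocalizedModule.mkLinearMap S N₂) f) := rfl
  have hg' : ⇑g' = ⇑(IsLocalizedModule.map S (LocalizedModule.mkLinearMap S N₂)
      (LocalizedModule.mkLinearMap S N₃) g) := rfl
  refine Module.length_eq_add_of_exact f' g' ?_ ?_ ?_
  · rw [hf']; exact IsLocalizedModule.map_injective S _ _ f hf
  · rw [hg']; exact IsLocalizedModule.map_surjective S _ _ g hg
  · rw [hf', hg']; exact IsLocalizedModule.map_exact S _ _ _ f g hfg

theorem w_congr (p : PrimeSpectrum A) (e : N₁ ≃ₗ[A] N₂) : w N₁ p = w N₂ p :=
  (IsLocalizedModule.mapEquiv p.asIdeal.primeCompl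
    (LocalizedModule.mkLinearMap p.asIdeal.primeCompl N₁)
    (LocalizedModule.mkLinearMap p.asIdeal.primeCompl N₂)
    (Localization.AtPrime p.asIdeal) e).length_eq

theorem w_of_subsingleton (N : Type*) [AddCommGroup N] [Module A N] [Subsingleton N]
    (p : PrimeSpectrum A) : w N p = 0 := by
  rw [w]; exact Module.length_eq_zero

theorem w_quotient_of_not_le (q : Ideal A) (p : PrimeSpectrum A) (h : ¬ q ≤ p.asIdeal) :
    w (A ⧸ q) p = 0 := by
  rw [w, Module.length_eq_zero_iff]
  have h1 : p ∉ Module.support A (A ⧸ q) := by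
    rw [Module.support_eq_zeroLocus, Ideal.annihilator_quotient, PrimeSpectrum.mem_zeroLocus]
    exact h
  rw [Module.mem_support_iff] at h1
  exact not_nontrivial_iff_subsingleton.mp h1

theorem w_quotient_self (p : PrimeSpectrum A) : w (A ⧸ p.asIdeal) p = 1 := by
  rw [w, Module.length_eq_one_iff]
  set S := p.asIdeal.primeCompl
  have hnt : Nontrivial (LocalizedModule S (A ⧸ p.asIdeal)) := by
    rw [← Module.mem_support_iff (p := p), Module.support_eq_zeroLocus,
      Ideal.annihilator_quotient, PrimeSpectrum.mem_zeroLocus]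
  refine { toNontrivial := inferInstance, eq_bot_or_eq_top := fun W => ?_ }
  by_cases hW : W = ⊥
  · exact Or.inl hW
  · right
    obtain ⟨x, hxW, hx0⟩ := (Submodule.ne_bot_iff W).mp hW
    induction x using LocalizedModule.induction_on with
    | h aa s =>
      obtain ⟨a, rfl⟩ := Ideal.Quotient.mk_surjective aa
      have ha : a ∉ p.asIdeal := by
        intro ha
        apply hx0
        have : Ideal.Quotient.mk p.asIdeal a = 0 := Ideal.Quotient.eq_zero_iff_mem.mpr ha
        rw [this, LocalizedModule.zero_mk]
      rw [eq_top_iff]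
      intro y _
      induction y using LocalizedModule.induction_on with
      | h bb t =>
        obtain ⟨b, rfl⟩ := Ideal.Quotient.mk_surjective bb
        let u : S := ⟨a, ha⟩
        have key : LocalizedModule.mk (Ideal.Quotient.mk p.asIdeal b) t =
            (Localization.mk (b * s) (t * u) : Localization.AtPrime p.asIdeal) •
              LocalizedModule.mk (Ideal.Quotient.mk p.asIdeal a) s := by
          rw [LocalizedModule.mk_smul_mk, LocalizedModule.mk_eq]
          refine ⟨1, ?_⟩
          simp only [one_smul, Submonoid.smul_def, Submonoid.coe_mul, u, smul_eq_mul,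
            Algebra.smul_def, Ideal.Quotient.algebraMap_eq, ← map_mul]
          congr 1
          ring
        rw [key]
        exact W.smul_mem _ hxW

end Groth.Agent.Lib.Helper87.LocLength
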