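import Mathlib
import Groth.Agent.Lib.Helper87.HilbFnA
import Groth.Agent.Lib.Helper87.LocLength

/-!
# Graded prime filtrations of `R/J` for homogeneous `J` in a polynomial ring, one step at a time

* `hfn_colon`: `H_J(l + j) = H_{(J:x)}(j) + H_{J+(x)}(l + j)` for homogeneous `x` of degree `l`;
* `exists_prime_colon`: a proper homogeneous ideal has a homogeneous `x ∉ J` with `(J : x)` prime;
* `w_colon`: the corresponding additivity of localized lengths.
-/

set_option autoImplicit false
universe u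
open MvPolynomial

namespace Groth.Agent.Lib.Helper87.HilbFnC

open Groth.Agent.Lib.Helper87.HilbFnA Groth.Agent.Lib.Helper87.LocLength

variable {k : Type u} [Field k] {σ : Type} [Finite σ]

attribute [local instance] MvPolynomial.gradedAlgebra

/-- the colon ideal `(J : x)` -/
noncomputable def col (J : Ideal (MvPolynomial σ k)) (x : MvPolynomial σ k) : Ideal (MvPolynomial σ k) :=
  Submodule.comap (LinearMap.mulRight (MvPolynomial σ k) x) J

omit [Finite σ] in
theorem mem_col {J : Ideal (MvPolynomial σ k)} {x a : MvPolynomial σ k} :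
    a ∈ col J x ↔ a * x ∈ J := Iff.rfl

omit [Finite σ] in
theorem le_col (J : Ideal (MvPolynomial σ k)) (x : MvPolynomial σ k) : J ≤ col J x :=
  fun _ ha => J.mul_mem_right _ ha

omit [Finite σ] in
theorem col_ne_top {J : Ideal (MvPolynomial σ k)} {x : MvPolynomial σ k} (hx : x ∉ J) :
    col J x ≠ ⊤ := by
  intro h
  have : (1 : MvPolynomial σ k) ∈ col J x := h ▸ Submodule.mem_top
  rw [mem_col, one_mul] at this
  exact hx this

theorem col_isHomogeneous {J : Ideal (MvPolynomial σ k)}
    (hJ : J.IsHomogeneous (homogeneousSubmodule σ k)) {x : MvPolynomial σ k} {l : ℕ}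
    (hx : x.IsHomogeneous l) : (col J x).IsHomogeneous (homogeneousSubmodule σ k) := by
  intro i a ha
  rw [mem_col] at ha ⊢
  have h1 : (DirectSum.decompose (homogeneousSubmodule σ k) a i : MvPolynomial σ k) =
      homogeneousComponent i a := decomposition.decompose'_apply a i
  rw [h1, mul_comm, ← homogeneousComponent_mul hx a i]
  rw [mul_comm] at ha
  exact homogeneousComponent_mem_of_mem hJ ha _

omit [Finite σ] in
theorem pc_inf_col (J : Ideal (MvPolynomial σ k))
    {x : MvPolynomial σ k} {l : ℕ} (hx : x.IsHomogeneous l) (j : ℕ) :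
    pc J (l + j) ⊓ (gr k σ j).map (mulf x) = (pc (col J x) j).map (mulf x) := by
  apply le_antisymm
  · rintro y ⟨⟨hy1, -⟩, ⟨b, hb, rfl⟩⟩
    refine ⟨b, ⟨?_, hb⟩, rfl⟩
    change b * x ∈ J
    rw [mul_comm]
    exact hy1
  · rintro _ ⟨b, ⟨hb1, hb2⟩, rfl⟩
    refine ⟨⟨?_, hx.mul hb2⟩, ⟨b, hb2, rfl⟩⟩
    change x * b ∈ J
    rw [mul_comm]
    exact hb1

/-- the Hilbert function along a colon step -/
theorem hfn_colon (J : Ideal (MvPolynomial σ k))
    (hJ : J.IsHomogeneous (homogeneousSubmodule σ k))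
    {x : MvPolynomial σ k} {l : ℕ} (hx : x.IsHomogeneous l) (hx0 : x ≠ 0) (j : ℕ) :
    hfn J (l + j) = hfn (col J x) j + hfn (J ⊔ Ideal.span {x}) (l + j) := by
  have : Module.Finite k ((gr k σ j).map (mulf x)) := inferInstance
  have h := Submodule.finrank_sup_add_finrank_inf_eq (pc J (l + j)) ((gr k σ j).map (mulf x))
  rw [← pc_sup_eq J hJ hx, pc_inf_col J hx, finrank_map_mulf hx0, finrank_map_mulf hx0] at h
  have h' : ((Module.finrank k (pc (J ⊔ Ideal.span {x}) (l + j)) : ℕ) : ℚ) +
      Module.finrank k (pc (col J x) j) =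
      Module.finrank k (pc J (l + j)) + Module.finrank k (gr k σ j) := by
    exact_mod_cast h
  unfold hfn
  linarith

/-- existence of a homogeneous element with prime colon -/
theorem exists_prime_colon (J : Ideal (MvPolynomial σ k))
    (hJ : J.IsHomogeneous (homogeneousSubmodule σ k)) (hJtop : J ≠ ⊤) :
    ∃ (x : MvPolynomial σ k) (l : ℕ), x.IsHomogeneous l ∧ x ∉ J ∧ (col J x).IsPrime := by
  classical
  let S : Set (Ideal (MvPolynomial σ k)) :=
    {q | ∃ (x : MvPolynomial σ k) (l : ℕ), x.IsHomogeneous l ∧ x ∉ J ∧ q = col J x}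
  have hS : S.Nonempty := by
    refine ⟨col J 1, 1, 0, isHomogeneous_one σ k, ?_, rfl⟩
    rwa [← Ideal.eq_top_iff_one]
  obtain ⟨q, ⟨x, l, hx, hxJ, rfl⟩, hmax⟩ :=
    (set_has_maximal_iff_noetherian (R := MvPolynomial σ k) (M := MvPolynomial σ k)).mpr
      inferInstance S hS
  refine ⟨x, l, hx, hxJ, ?_⟩
  refine Ideal.IsHomogeneous.isPrime_of_homogeneous_mem_or_mem (col_isHomogeneous hJ hx)
    (col_ne_top hxJ) ?_
  rintro a b ⟨da, ha⟩ ⟨db, hb⟩ hab
  by_contra hcon
  push Not at hcon
  obtain ⟨haq, hbq⟩ := hcon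
  -- `b * x` is homogeneous and not in `J`
  have hbx : b * x ∉ J := hbq
  have hbxh : (b * x).IsHomogeneous (db + l) := IsHomogeneous.mul hb hx
  have hle : col J x ≤ col J (b * x) := by
    intro c hc
    rw [mem_col] at hc ⊢
    have : c * (b * x) = b * (c * x) := by ring
    rw [this]
    exact J.mul_mem_left _ hc
  have hmem : col J (b * x) ∈ S := ⟨b * x, db + l, hbxh, hbx, rfl⟩
  have heq : col J x = col J (b * x) := by
    by_contra hne
    exact hmax _ hmem (lt_of_le_of_ne hle hne)
  apply haq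
  rw [heq, mem_col, ← mul_assoc]
  exact hab

/-! ### the short exact sequence `0 → R/(J:x) → R/J → R/(J+(x)) → 0` -/

section SES

variable (J : Ideal (MvPolynomial σ k)) (x : MvPolynomial σ k)

/-- multiplication by `x`, `R/(J:x) → R/J` -/
noncomputable def mulQ : (MvPolynomial σ k ⧸ col J x) →ₗ[MvPolynomial σ k] (MvPolynomial σ k ⧸ J) :=
  Submodule.mapQ (col J x) J (LinearMap.mulRight (MvPolynomial σ k) x) (le_refl _)

/-- the projection `R/J → R/(J+(x))` -/
noncomputable def projQ :
    (MvPolynomial σ k ⧸ J) →ₗ[MvPolynomial σ k] (MvPolynomial σ k ⧸ (J ⊔ Ideal.span {x})) :=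
  Submodule.mapQ J (J ⊔ Ideal.span {x}) LinearMap.id (by
    rw [Submodule.comap_id]
    exact le_sup_left)

omit [Finite σ] in
theorem mulQ_injective : Function.Injective (mulQ J x) := by
  rw [← LinearMap.ker_eq_bot, LinearMap.ker_eq_bot']
  intro z hz
  obtain ⟨a, rfl⟩ := Submodule.Quotient.mk_surjective _ z
  change Submodule.Quotient.mk (a * x) = 0 at hz
  rw [Submodule.Quotient.mk_eq_zero] at hz ⊢
  exact hz

omit [Finite σ] in
theorem projQ_surjective : Function.Surjective (projQ J x) := by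
  intro z
  obtain ⟨a, rfl⟩ := Submodule.Quotient.mk_surjective _ z
  exact ⟨Submodule.Quotient.mk a, rfl⟩

omit [Finite σ] in
theorem exact_mulQ_projQ : Function.Exact (mulQ J x) (projQ J x) := by
  intro z
  obtain ⟨b, rfl⟩ := Submodule.Quotient.mk_surjective _ z
  change Submodule.Quotient.mk b = 0 ↔ _
  rw [Submodule.Quotient.mk_eq_zero]
  constructor
  · intro hb
    obtain ⟨a, ha, y, hy, rfl⟩ := Submodule.mem_sup.mp hb
    obtain ⟨c, rfl⟩ := Ideal.mem_span_singleton'.mp hy
    refine ⟨Submodule.Quotient.mk c, ?_⟩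
    change Submodule.Quotient.mk (c * x) = Submodule.Quotient.mk (a + c * x)
    rw [Submodule.Quotient.eq]
    simpa using J.neg_mem ha
  · rintro ⟨w, hw⟩
    obtain ⟨c, rfl⟩ := Submodule.Quotient.mk_surjective _ w
    change Submodule.Quotient.mk (c * x) = Submodule.Quotient.mk b at hw
    rw [Submodule.Quotient.eq] at hw
    have h1 : c * x ∈ J ⊔ Ideal.span {x} :=
      Ideal.mem_sup_right (Ideal.mul_mem_left _ _ (Ideal.mem_span_singleton_self x))
    have h2 : c * x - b ∈ J ⊔ Ideal.span {x} := Ideal.mem_sup_left hw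
    have : b = c * x - (c * x - b) := by ring
    rw [this]
    exact Ideal.sub_mem _ h1 h2

omit [Finite σ] in
theorem w_colon (p : PrimeSpectrum (MvPolynomial σ k)) :
    w (MvPolynomial σ k ⧸ J) p =
      w (MvPolynomial σ k ⧸ col J x) p + w (MvPolynomial σ k ⧸ (J ⊔ Ideal.span {x})) p :=
  w_eq_add_of_exact p (mulQ J x) (projQ J x) (mulQ_injective J x) (projQ_surjective J x)
    (exact_mulQ_projQ J x)

end SES

end Groth.Agent.Lib.Helper87.HilbFnC
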