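import Mathlib

/-!
# Limit manipulations for normalized Samuel functions
-/

namespace Groth.Agent.Lib.Helper87.SamuelLimit

open Filter Topology

theorem tendsto_cast_sub_div (c : ℕ) :
    Tendsto (fun t : ℕ => ((t - c : ℕ) : ℝ) / (t : ℝ)) atTop (𝓝 1) := by
  have h1 : Tendsto (fun t : ℕ => (1 : ℝ) - (c : ℝ) / (t : ℝ)) atTop (𝓝 (1 - 0)) :=
    tendsto_const_nhds.sub (tendsto_const_div_atTop_nhds_zero_nat (c : ℝ))
  rw [sub_zero] at h1
  refine h1.congr' ?_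
  filter_upwards [eventually_ge_atTop (c + 1)] with t ht
  have ht0 : (t : ℝ) ≠ 0 := by
    have : 0 < t := by omega
    exact_mod_cast this.ne'
  rw [Nat.cast_sub (by omega)]
  field_simp

/-- Shifting the argument does not change the limit of `a t / t ^ d`. -/
theorem tendsto_shift (a : ℕ → ℝ) (d c : ℕ) (e : ℝ)
    (h : Tendsto (fun t : ℕ => a t / (t : ℝ) ^ d) atTop (𝓝 e)) :
    Tendsto (fun t : ℕ => a (t - c) / (t : ℝ) ^ d) atTop (𝓝 e) := by
  have h1 : Tendsto (fun t : ℕ => a (t - c) / ((t - c : ℕ) : ℝ) ^ d) atTop (𝓝 e) :=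
    h.comp (tendsto_sub_atTop_nat c)
  have h2 : Tendsto (fun t : ℕ => (((t - c : ℕ) : ℝ) / (t : ℝ)) ^ d) atTop (𝓝 (1 ^ d)) :=
    (tendsto_cast_sub_div c).pow d
  have h3 := h1.mul h2
  rw [one_pow, mul_one] at h3
  refine h3.congr' ?_
  filter_upwards [eventually_ge_atTop (c + 1)] with t ht
  have ht0 : (t : ℝ) ≠ 0 := by
    have : 0 < t := by omega
    exact_mod_cast this.ne'
  have htc : ((t - c : ℕ) : ℝ) ≠ 0 := by
    have : 0 < t - c := by omega
    exact_mod_cast this.ne'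
  rw [div_pow]
  field_simp

/-- Squeeze principle for additivity of normalized limits. -/
theorem tendsto_of_sandwich (a' a a'' : ℕ → ℕ) (d c : ℕ) (K : ℝ) (e' e'' : ℝ)
    (hlow : ∀ t, c ≤ t → a' (t - c) + a'' t ≤ a t)
    (hup : ∀ t, a t ≤ a' t + a'' t)
    (h' : Tendsto (fun t : ℕ => K * (a' t : ℝ) / (t : ℝ) ^ d) atTop (𝓝 e'))
    (h'' : Tendsto (fun t : ℕ => K * (a'' t : ℝ) / (t : ℝ) ^ d) atTop (𝓝 e''))
    (hK : 0 ≤ K) :
    Tendsto (fun t : ℕ => K * (a t : ℝ) / (t : ℝ) ^ d) atTop (𝓝 (e' + e'')) := by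
  have hsh := tendsto_shift (fun t => K * (a' t : ℝ)) d c e' h'
  have hlow' : Tendsto (fun t : ℕ => K * (a' (t - c) : ℝ) / (t : ℝ) ^ d +
      K * (a'' t : ℝ) / (t : ℝ) ^ d) atTop (𝓝 (e' + e'')) := hsh.add h''
  have hup' : Tendsto (fun t : ℕ => K * (a' t : ℝ) / (t : ℝ) ^ d +
      K * (a'' t : ℝ) / (t : ℝ) ^ d) atTop (𝓝 (e' + e'')) := h'.add h''
  refine tendsto_of_tendsto_of_tendsto_of_le_of_le' hlow' hup' ?_ ?_
  · filter_upwards [eventually_ge_atTop c] with t ht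
    have h1 : ((a' (t - c) : ℝ) + (a'' t : ℝ)) ≤ (a t : ℝ) := by exact_mod_cast hlow t ht
    have hpos : (0 : ℝ) ≤ (t : ℝ) ^ d := by positivity
    rw [← add_div, ← mul_add]
    exact div_le_div_of_nonneg_right (mul_le_mul_of_nonneg_left h1 hK) hpos
  · filter_upwards with t
    have h1 : (a t : ℝ) ≤ (a' t : ℝ) + (a'' t : ℝ) := by exact_mod_cast hup t
    have hpos : (0 : ℝ) ≤ (t : ℝ) ^ d := by positivity
    rw [← add_div, ← mul_add]
    exact div_le_div_of_nonneg_right (mul_le_mul_of_nonneg_left h1 hK) hpos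

end Groth.Agent.Lib.Helper87.SamuelLimit
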