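import Mathlib
import Groth.Agent.Lib.Helper87.HilbFnC
import Groth.Agent.Lib.Helper87.SamuelLimit

/-!
# The associativity formula for Hilbert functions of homogeneous ideals
-/

set_option autoImplicit false
universe u
open MvPolynomial Filter Topology

namespace Groth.Agent.Lib.Helper87.HilbFnD

open Groth.Agent.Lib.Helper87.HilbFnA Groth.Agent.Lib.Helper87.HilbFnC
open Groth.Agent.Lib.Helper87.LocLength

variable {k : Type u} [Field k] {σ : Type} [Finite σ]

attribute [local instance] MvPolynomial.gradedAlgebra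

/-- the normalized Hilbert function -/
noncomputable def nz (t : ℕ) (h : ℕ → ℚ) (m : ℕ) : ℝ :=
  (t.factorial : ℝ) * ((h m : ℚ) : ℝ) / (m : ℝ) ^ t

theorem tendsto_nz_shift (t l : ℕ) (h : ℕ → ℚ) (L : ℝ) (hL : Tendsto (nz t h) atTop (𝓝 L)) :
    Tendsto (fun m : ℕ => (t.factorial : ℝ) * ((h (m - l) : ℚ) : ℝ) / (m : ℝ) ^ t) atTop (𝓝 L) :=
  Groth.Agent.Lib.Helper87.SamuelLimit.tendsto_shift
    (fun m => (t.factorial : ℝ) * ((h m : ℚ) : ℝ)) t l L hL

omit [Finite σ] in
theorem hfn_top (m : ℕ) : hfn (⊤ : Ideal (MvPolynomial σ k)) m = 0 := by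
  unfold hfn
  have : pc (⊤ : Ideal (MvPolynomial σ k)) m = gr k σ m := by
    unfold pc
    rw [Submodule.restrictScalars_top, top_inf_eq]
  rw [this, sub_self]

theorem hfn_nonneg (I : Ideal (MvPolynomial σ k)) (m : ℕ) : 0 ≤ hfn I m := by
  unfold hfn
  have := finrank_pc_le I m
  have : ((Module.finrank k (pc I m) : ℕ) : ℚ) ≤ Module.finrank k (gr k σ m) := by exact_mod_cast this
  linarith

theorem hfn_anti {I J : Ideal (MvPolynomial σ k)} (h : I ≤ J) (m : ℕ) : hfn J m ≤ hfn I m := by
  unfold hfn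
  have h1 : pc I m ≤ pc J m := inf_le_inf_right _ (fun x hx => h hx)
  have h2 := Submodule.finrank_mono h1
  have : ((Module.finrank k (pc I m) : ℕ) : ℚ) ≤ Module.finrank k (pc J m) := by exact_mod_cast h2
  linarith

/-- **The associativity formula**, in limit form. -/
theorem assoc {ι : Type} (top : Finset ι) (p : ι → PrimeSpectrum (MvPolynomial σ k))
    (hinj : Set.InjOn p top) (I : Ideal (MvPolynomial σ k)) (t : ℕ) (e : ι → ℝ)
    (hmin : ∀ i ∈ top, ∀ q : Ideal (MvPolynomial σ k), q.IsPrime → I ≤ q → q ≤ (p i).asIdeal →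
      q = (p i).asIdeal)
    (htop : ∀ i ∈ top, Tendsto (nz t (hfn (p i).asIdeal)) atTop (𝓝 (e i)))
    (hother : ∀ q : Ideal (MvPolynomial σ k), q.IsPrime →
      q.IsHomogeneous (homogeneousSubmodule σ k) → I ≤ q → (∀ i ∈ top, q ≠ (p i).asIdeal) →
      Tendsto (nz t (hfn q)) atTop (𝓝 0)) :
    ∀ J : Ideal (MvPolynomial σ k), J.IsHomogeneous (homogeneousSubmodule σ k) → I ≤ J →
      (∀ i ∈ top, w (MvPolynomial σ k ⧸ J) (p i) ≠ ⊤) ∧
      Tendsto (nz t (hfn J)) atTop
        (𝓝 (∑ i ∈ top, ((w (MvPolynomial σ k ⧸ J) (p i)).toNat : ℝ) * e i)) := by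
  classical
  intro J
  refine IsNoetherian.induction (P := fun J : Ideal (MvPolynomial σ k) =>
    J.IsHomogeneous (homogeneousSubmodule σ k) → I ≤ J →
      (∀ i ∈ top, w (MvPolynomial σ k ⧸ J) (p i) ≠ ⊤) ∧
      Tendsto (nz t (hfn J)) atTop
        (𝓝 (∑ i ∈ top, ((w (MvPolynomial σ k ⧸ J) (p i)).toNat : ℝ) * e i))) ?_ J
  intro J ih hJ hIJ
  by_cases hJtop : J = ⊤
  · subst hJtop
    have hw : ∀ i, w (MvPolynomial σ k ⧸ (⊤ : Ideal (MvPolynomial σ k))) (p i) = 0 := fun i =>
      w_of_subsingleton _ _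
    refine ⟨fun i _ => by rw [hw i]; exact ENat.zero_ne_top, ?_⟩
    have h0 : nz t (hfn (⊤ : Ideal (MvPolynomial σ k))) = fun _ => 0 := by
      funext m
      unfold nz
      rw [hfn_top]
      simp
    rw [h0]
    simp only [hw, ENat.toNat_zero, Nat.cast_zero, zero_mul, Finset.sum_const_zero]
    exact tendsto_const_nhds
  · obtain ⟨x, l, hx, hxJ, hprime⟩ := exists_prime_colon J hJ hJtop
    have hx0 : x ≠ 0 := fun h => hxJ (h ▸ J.zero_mem)
    set q := col J x with hq
    set J' := J ⊔ Ideal.span {x} with hJ'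
    have hJJ' : J < J' := by
      refine lt_of_le_of_ne le_sup_left ?_
      intro h
      apply hxJ
      rw [h]
      exact Ideal.mem_sup_right (Ideal.mem_span_singleton_self x)
    have hJ'h : J'.IsHomogeneous (homogeneousSubmodule σ k) := by
      refine hJ.sup (Ideal.homogeneous_span _ _ ?_)
      intro y hy
      rw [Set.mem_singleton_iff] at hy
      subst hy
      exact ⟨l, hx⟩
    obtain ⟨ih1, ih2⟩ := ih J' hJJ' hJ'h (hIJ.trans le_sup_left)
    have hqh : q.IsHomogeneous (homogeneousSubmodule σ k) := col_isHomogeneous hJ hx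
    have hIq : I ≤ q := hIJ.trans (le_col J x)
    -- the multiplicities of `q`
    let c : ι → ℕ := fun i => if q = (p i).asIdeal then 1 else 0
    have hwq : ∀ i ∈ top, w (MvPolynomial σ k ⧸ q) (p i) = (c i : ℕ∞) := by
      intro i hi
      by_cases hqi : q = (p i).asIdeal
      · have h1 : c i = 1 := if_pos hqi
        rw [h1, hqi, Nat.cast_one]
        exact w_quotient_self (p i)
      · have h1 : c i = 0 := if_neg hqi
        rw [h1, Nat.cast_zero]
        apply w_quotient_of_not_le
        intro hle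
        exact hqi (hmin i hi q hprime hIq hle)
    have hwJ : ∀ i ∈ top, w (MvPolynomial σ k ⧸ J) (p i) =
        (c i : ℕ∞) + w (MvPolynomial σ k ⧸ J') (p i) := by
      intro i hi
      rw [w_colon J x (p i), hwq i hi]
    -- the limit for `q`
    have hlimq : Tendsto (nz t (hfn q)) atTop (𝓝 (∑ i ∈ top, (c i : ℝ) * e i)) := by
      by_cases hex : ∃ i₀ ∈ top, q = (p i₀).asIdeal
      · obtain ⟨i₀, hi₀, hqi₀⟩ := hex
        have hsum : ∑ i ∈ top, (c i : ℝ) * e i = e i₀ := by
          rw [Finset.sum_eq_single i₀]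
          · have : c i₀ = 1 := if_pos hqi₀
            rw [this, Nat.cast_one, one_mul]
          · intro i hi hne
            have : c i = 0 := by
              apply if_neg
              intro hqi
              apply hne
              apply hinj hi hi₀
              exact PrimeSpectrum.ext (hqi.symm.trans hqi₀)
            rw [this, Nat.cast_zero, zero_mul]
          · intro h
            exact absurd hi₀ h
        rw [hsum, hqi₀]
        exact htop i₀ hi₀
      · push Not at hex
        have hsum : ∑ i ∈ top, (c i : ℝ) * e i = 0 := by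
          apply Finset.sum_eq_zero
          intro i hi
          have : c i = 0 := if_neg (hex i hi)
          rw [this, Nat.cast_zero, zero_mul]
        rw [hsum]
        exact hother q hprime hqh hIq hex
    refine ⟨fun i hi => ?_, ?_⟩
    · rw [hwJ i hi]
      exact WithTop.add_ne_top.mpr ⟨ENat.natCast_ne_top _, ih1 i hi⟩
    · have hsum : ∑ i ∈ top, ((w (MvPolynomial σ k ⧸ J) (p i)).toNat : ℝ) * e i =
          ∑ i ∈ top, (c i : ℝ) * e i +
            ∑ i ∈ top, ((w (MvPolynomial σ k ⧸ J') (p i)).toNat : ℝ) * e i := by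
        rw [← Finset.sum_add_distrib]
        refine Finset.sum_congr rfl fun i hi => ?_
        rw [hwJ i hi, ENat.toNat_add (ENat.natCast_ne_top _) (ih1 i hi), ENat.toNat_natCast]
        push_cast
        ring
      rw [hsum]
      have h1 := (tendsto_nz_shift t l (hfn q) _ hlimq).add ih2
      refine h1.congr' ?_
      filter_upwards [eventually_ge_atTop l] with m hm
      obtain ⟨j, rfl⟩ : ∃ j, m = l + j := ⟨m - l, by omega⟩
      unfold nz
      rw [hfn_colon J hJ hx hx0 j, Nat.add_sub_cancel_left]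
      push_cast
      ring

end Groth.Agent.Lib.Helper87.HilbFnD
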