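import Mathlib

/-!
# Limits of values of rational polynomials at natural numbers
-/

namespace Groth.Agent.Lib.Helper87.PolyGrowth

open Polynomial Filter Topology

theorem tendsto_eval_div_pow_zero (Q : ℚ[X]) (d : ℕ) (h : Q.degree < d) :
    Tendsto (fun m : ℕ => ((Q.eval (m : ℚ) : ℚ) : ℝ) / (m : ℝ) ^ d) atTop (𝓝 0) := by
  have h1 : Q.degree < (X ^ d : ℚ[X]).degree := by rwa [degree_X_pow]
  have h2 := (Polynomial.div_tendsto_atTop_zero_of_degree_lt Q (X ^ d) h1).comp
    (tendsto_natCast_atTop_atTop (R := ℚ))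
  have h3 := (Rat.continuous_coe_real.tendsto 0).comp h2
  rw [Rat.cast_zero] at h3
  refine h3.congr fun m => ?_
  simp

theorem tendsto_shift_sub_div_pow_zero (P : ℚ[X]) (d k : ℕ) (hP : P.natDegree ≤ d) :
    Tendsto (fun m : ℕ => (((P.eval ((m + k : ℕ) : ℚ) - P.eval (m : ℚ) : ℚ)) : ℝ) / (m : ℝ) ^ d)
      atTop (𝓝 0) := by
  set R : ℚ[X] := taylor (k : ℚ) P - P with hR
  have hdeg : R.degree < d := by
    by_cases hP0 : P = 0
    · rw [hR, hP0]
      simp only [map_zero, sub_zero, degree_zero]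
      exact WithBot.bot_lt_coe _
    · have h1 : (taylor (k : ℚ) P) ≠ 0 := by
        intro h
        apply hP0
        rw [← degree_eq_bot, ← degree_taylor P (k : ℚ), h, degree_zero]
      have h2 := degree_sub_lt_left (degree_taylor P (k : ℚ)) h1 (leadingCoeff_taylor _ _)
      rw [degree_taylor] at h2
      refine lt_of_lt_of_le h2 ?_
      exact (degree_le_natDegree).trans (by exact_mod_cast hP)
  refine (tendsto_eval_div_pow_zero R d hdeg).congr fun m => ?_
  rw [hR, eval_sub, taylor_eval]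
  push_cast
  rfl

end Groth.Agent.Lib.Helper87.PolyGrowth
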