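import Mathlib
import Groth.Agent.Lib.Helper87.Staircase

/-!
# A lower bound for the Hilbert–Samuel function

For a Noetherian local ring `R`, an ideal `I` whose radical is the maximal ideal and a prime
`P` of coheight at least `n`, there is a constant `C > 0` with
`t ^ n ≤ C * ℓ(R/(P + I^t))` for all `t ≥ 1`.  (This is the inequality
`dim R ≤ deg` of the Hilbert–Samuel polynomial, proved directly through a chain of primes and the
Artin–Rees lemma, without Hilbert polynomials.)
-/

namespace Groth.Agent.Lib.Helper87.HSLower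

open IsLocalRing Groth.Agent.Lib.Helper87.Staircase

variable {R : Type*} [CommRing R] [IsNoetherianRing R]

/-- A consequence of the Artin–Rees lemma in the domain `R/P`. -/
theorem exists_colon_le (I P : Ideal R) [P.IsPrime] (x : R) (hx : x ∉ P) :
    ∃ c : ℕ, 0 < c ∧ ∀ t, c ≤ t → ∀ z, x * z ∈ P ⊔ I ^ t → z ∈ P ⊔ I ^ (t - c) := by
  let π := Ideal.Quotient.mk P
  obtain ⟨k, hk⟩ := Ideal.exists_pow_inf_eq_pow_smul (I.map π)
    (Ideal.span {π x} : Submodule (R ⧸ P) (R ⧸ P))
  refine ⟨k + 1, Nat.succ_pos _, fun t ht z hz => ?_⟩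
  have hπx : π x ≠ 0 := by rwa [Ne, Ideal.Quotient.eq_zero_iff_mem]
  have h1 : π (x * z) ∈ (I.map π) ^ t := by
    have := Ideal.mem_map_of_mem π hz
    rwa [Ideal.map_sup, Ideal.map_pow, Ideal.map_quotient_self, bot_sup_eq] at this
  have h2 : π (x * z) ∈ ((I.map π) ^ t • (⊤ : Submodule (R ⧸ P) (R ⧸ P)) ⊓
      (Ideal.span {π x} : Submodule (R ⧸ P) (R ⧸ P))) := by
    refine ⟨by simpa using h1, ?_⟩
    rw [map_mul]
    exact Ideal.mul_mem_right _ _ (Ideal.mem_span_singleton_self _)
  rw [hk t (by omega)] at h2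
  have h3 : π (x * z) ∈ (I.map π) ^ (t - k) * Ideal.span {π x} :=
    Submodule.smul_mono le_rfl inf_le_right h2
  obtain ⟨w, hw, hwx⟩ := Ideal.mem_mul_span_singleton.mp h3
  have h4 : π z = w := by
    apply mul_left_cancel₀ hπx
    rw [← map_mul, ← hwx, mul_comm]
  have h5 : z ∈ ((I ^ (t - k)).map π).comap π := by
    rw [Ideal.mem_comap, Ideal.map_pow, h4]
    exact hw
  rw [Ideal.comap_map_of_surjective π Ideal.Quotient.mk_surjective, ← RingHom.ker_eq_comap_bot,
    Ideal.mk_ker] at h5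
  have h6 : I ^ (t - k) ≤ I ^ (t - (k + 1)) := Ideal.pow_le_pow_right (by omega)
  rw [sup_comm]
  exact sup_le_sup_right h6 _ h5

theorem pow_le_sub_pow_add (n c t : ℕ) (hct : c ≤ t) :
    t ^ (n + 1) ≤ (t - c) ^ (n + 1) + (n + 1) * c * t ^ n := by
  obtain ⟨s, rfl⟩ := Nat.exists_eq_add_of_le hct
  simp only [add_tsub_cancel_left]
  induction n with
  | zero => simp; omega
  | succ n ih =>
    have h1 : s ^ (n + 1) ≤ (c + s) ^ (n + 1) := Nat.pow_le_pow_left (by omega) _
    calc (c + s) ^ (n + 1 + 1) = (c + s) * (c + s) ^ (n + 1) := by ring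
      _ ≤ (c + s) * (s ^ (n + 1) + (n + 1) * c * (c + s) ^ n) := Nat.mul_le_mul_left _ ih
      _ = s ^ (n + 1 + 1) + c * s ^ (n + 1) + (n + 1) * c * (c + s) ^ (n + 1) := by ring
      _ ≤ s ^ (n + 1 + 1) + c * (c + s) ^ (n + 1) + (n + 1) * c * (c + s) ^ (n + 1) := by
        gcongr
      _ = s ^ (n + 1 + 1) + (n + 1 + 1) * c * (c + s) ^ (n + 1) := by ring

variable [IsLocalRing R]

/-- Lower bound for the Hilbert–Samuel function along a chain of primes. -/
theorem exists_pow_le_mul_length (I : Ideal R) (hI : I ≤ maximalIdeal R)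
    (hrad : maximalIdeal R ≤ I.radical) :
    ∀ (n : ℕ) (P : PrimeSpectrum R), (n : ℕ∞) ≤ Order.coheight P →
      ∃ C : ℕ, 0 < C ∧ ∀ t : ℕ, 1 ≤ t →
        ((t ^ n : ℕ) : ℕ∞) ≤ C * Module.length R (R ⧸ (P.asIdeal ⊔ I ^ t)) := by
  intro n
  induction n with
  | zero =>
    intro P _
    refine ⟨1, one_pos, fun t ht => ?_⟩
    have hlt : P.asIdeal ⊔ I ^ t ≠ ⊤ := by
      have h1 : P.asIdeal ⊔ I ^ t ≤ maximalIdeal R :=
        sup_le (le_maximalIdeal P.2.ne_top)
          ((Ideal.pow_le_self (by omega)).trans hI)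
      intro h
      rw [h] at h1
      exact (maximalIdeal.isMaximal R).ne_top (top_le_iff.mp h1)
    have : Nontrivial (R ⧸ (P.asIdeal ⊔ I ^ t)) := Ideal.Quotient.nontrivial_iff.mpr hlt
    have := Module.length_pos (R := R) (M := R ⧸ (P.asIdeal ⊔ I ^ t))
    simpa using Order.one_le_iff_pos.mpr this
  | succ n ih =>
    intro P hP
    obtain ⟨l, hl0, hlen⟩ := Order.exists_series_of_le_coheight P hP
    -- the next prime in the chain
    have hne : l.length ≠ 0 := by omega
    set P' : PrimeSpectrum R := (l.tail hne).head with hP'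
    have hPP' : P < P' := by
      rw [← hl0, hP', RelSeries.head_tail]
      apply l.strictMono
      rw [Fin.lt_def, Fin.val_one', Nat.mod_eq_of_lt (by omega)]
      exact Nat.zero_lt_one
    have hP'co : (n : ℕ∞) ≤ Order.coheight P' := by
      have h1 := Order.length_le_coheight_head (p := l.tail hne)
      rw [RelSeries.tail_length] at h1
      refine le_trans ?_ h1
      rw [hlen]
      norm_cast
    obtain ⟨C₁, hC₁, hC₁t⟩ := ih P' hP'co
    -- an element of `P' ∖ P` lying in `I`
    obtain ⟨y, hyP', hyP⟩ := SetLike.exists_of_lt ((PrimeSpectrum.asIdeal_lt_asIdeal P P').mpr hPP')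
    have hym : y ∈ maximalIdeal R := le_maximalIdeal P'.2.ne_top hyP'
    obtain ⟨r, hr⟩ := hrad hym
    set x := y ^ (r + 1) with hx
    have hxI : x ∈ I := by rw [hx, pow_succ]; exact Ideal.mul_mem_right _ _ hr
    have hxP' : x ∈ P'.asIdeal := by
      rw [hx, pow_succ]; exact Ideal.mul_mem_left _ _ hyP'
    have hxP : x ∉ P.asIdeal := fun h => hyP (P.2.mem_of_pow_mem _ h)
    obtain ⟨c, hc, hcolon⟩ := exists_colon_le I P.asIdeal x hxP
    -- the recursion for lengths
    have hrec : ∀ t, c ≤ t →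
        Module.length R (R ⧸ (P'.asIdeal ⊔ I ^ t)) +
          Module.length R (R ⧸ (P.asIdeal ⊔ I ^ (t - c))) ≤
        Module.length R (R ⧸ (P.asIdeal ⊔ I ^ t)) := fun t ht =>
      add_length_quot_le _ _ _ x (sup_le_sup_right hPP'.le _)
        (Ideal.mem_sup_left hxP') (hcolon t ht)
    refine ⟨max (c ^ (n + 1)) ((n + 1) * c * C₁), lt_max_of_lt_left (pow_pos hc _), ?_⟩
    set C := max (c ^ (n + 1)) ((n + 1) * c * C₁) with hC
    intro t
    induction t using Nat.strong_induction_on with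
    | _ t iht =>
      intro ht
      rcases le_or_gt t c with htc | htc
      · -- small `t`
        have hlt : P.asIdeal ⊔ I ^ t ≠ ⊤ := by
          have h1 : P.asIdeal ⊔ I ^ t ≤ maximalIdeal R :=
            sup_le (le_maximalIdeal P.2.ne_top)
              ((Ideal.pow_le_self (by omega)).trans hI)
          intro h
          rw [h] at h1
          exact (maximalIdeal.isMaximal R).ne_top (top_le_iff.mp h1)
        have : Nontrivial (R ⧸ (P.asIdeal ⊔ I ^ t)) := Ideal.Quotient.nontrivial_iff.mpr hlt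
        have h1 : (1 : ℕ∞) ≤ Module.length R (R ⧸ (P.asIdeal ⊔ I ^ t)) :=
          Order.one_le_iff_pos.mpr Module.length_pos
        have h2 : t ^ (n + 1) ≤ C :=
          (Nat.pow_le_pow_left htc _).trans (le_max_left _ _)
        calc ((t ^ (n + 1) : ℕ) : ℕ∞) ≤ (C : ℕ∞) := by exact_mod_cast h2
          _ = C * 1 := (mul_one _).symm
          _ ≤ C * Module.length R (R ⧸ (P.asIdeal ⊔ I ^ t)) := by gcongr
      · -- large `t`
        have h1 := hrec t htc.le
        have h2 := iht (t - c) (by omega) (by omega)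
        have h3 := hC₁t t ht
        have h4 := pow_le_sub_pow_add n c t htc.le
        have h5 : (n + 1) * c * C₁ ≤ C := le_max_right _ _
        calc ((t ^ (n + 1) : ℕ) : ℕ∞)
            ≤ (((t - c) ^ (n + 1) + (n + 1) * c * t ^ n : ℕ) : ℕ∞) := by exact_mod_cast h4
          _ = (((t - c) ^ (n + 1) : ℕ) : ℕ∞) + ((n + 1) * c : ℕ) * ((t ^ n : ℕ) : ℕ∞) := by
            push_cast; ring
          _ ≤ C * Module.length R (R ⧸ (P.asIdeal ⊔ I ^ (t - c))) +
              ((n + 1) * c : ℕ) * (C₁ * Module.length R (R ⧸ (P'.asIdeal ⊔ I ^ t))) := by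
            gcongr
          _ = C * Module.length R (R ⧸ (P.asIdeal ⊔ I ^ (t - c))) +
              (((n + 1) * c * C₁ : ℕ) : ℕ∞) * Module.length R (R ⧸ (P'.asIdeal ⊔ I ^ t)) := by
            push_cast; ring
          _ ≤ C * Module.length R (R ⧸ (P.asIdeal ⊔ I ^ (t - c))) +
              (C : ℕ∞) * Module.length R (R ⧸ (P'.asIdeal ⊔ I ^ t)) := by
            gcongr
          _ = C * (Module.length R (R ⧸ (P'.asIdeal ⊔ I ^ t)) +
              Module.length R (R ⧸ (P.asIdeal ⊔ I ^ (t - c)))) := by ring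
          _ ≤ C * Module.length R (R ⧸ (P.asIdeal ⊔ I ^ t)) := by gcongr

end Groth.Agent.Lib.Helper87.HSLower
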