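import Mathlib
import Groth.Agent.Lib.Helper87.HSLower

/-!
# The lower bound for the Hilbert–Samuel function, semi-local version

For a Noetherian ring `R`, an ideal `I` contained in the Jacobson radical and a prime `P` of
coheight at least `n`, there is `C > 0` with `t ^ n ≤ C * ℓ(R/(P + I^t))` for all `t ≥ 1`.
-/

namespace Groth.Agent.Lib.Helper87.HSLower

open Groth.Agent.Lib.Helper87.Staircase

variable {R : Type*} [CommRing R] [IsNoetherianRing R]

omit [IsNoetherianRing R] in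
theorem sup_pow_ne_top_of_le_jacobson (I : Ideal R) (hI : I ≤ Ring.jacobson R)
    (P : PrimeSpectrum R) (t : ℕ) (ht : 1 ≤ t) : P.asIdeal ⊔ I ^ t ≠ ⊤ := by
  obtain ⟨m, hm, hPm⟩ := Ideal.exists_le_maximal P.asIdeal P.2.ne_top
  have h1 : I ≤ m := by
    refine hI.trans ?_
    have := Ideal.ringJacobson_le_jacobson (I := m)
    rwa [Ideal.jacobson_eq_self_of_isMaximal] at this
  have h2 : P.asIdeal ⊔ I ^ t ≤ m := sup_le hPm ((Ideal.pow_le_self (by omega)).trans h1)
  intro h
  rw [h] at h2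
  exact hm.ne_top (top_le_iff.mp h2)

/-- Lower bound for the Hilbert–Samuel function along a chain of primes (general version). -/
theorem exists_pow_le_mul_length_of_ne_top (I : Ideal R)
    (hI : ∀ (P : PrimeSpectrum R) (t : ℕ), 1 ≤ t → P.asIdeal ⊔ I ^ t ≠ ⊤) :
    ∀ (n : ℕ) (P : PrimeSpectrum R), (n : ℕ∞) ≤ Order.coheight P →
      ∃ C : ℕ, 0 < C ∧ ∀ t : ℕ, 1 ≤ t →
        ((t ^ n : ℕ) : ℕ∞) ≤ C * Module.length R (R ⧸ (P.asIdeal ⊔ I ^ t)) := by
  intro n
  induction n with
  | zero =>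
    intro P _
    refine ⟨1, one_pos, fun t ht => ?_⟩
    have : Nontrivial (R ⧸ (P.asIdeal ⊔ I ^ t)) := Ideal.Quotient.nontrivial_iff.mpr (hI P t ht)
    have := Module.length_pos (R := R) (M := R ⧸ (P.asIdeal ⊔ I ^ t))
    simpa using Order.one_le_iff_pos.mpr this
  | succ n ih =>
    intro P hP
    obtain ⟨l, hl0, hlen⟩ := Order.exists_series_of_le_coheight P hP
    have hne : l.length ≠ 0 := by omega
    set P' : PrimeSpectrum R := (l.tail hne).head with hP'
    have hPP' : P < P' := by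
      rw [← hl0, hP', RelSeries.head_tail]
      apply l.strictMono
      rw [Fin.lt_def, Fin.val_one', Nat.mod_eq_of_lt (by omega)]
      exact Nat.zero_lt_one
    have hP'co : (n : ℕ∞) ≤ Order.coheight P' := by
      have h1 := Order.length_le_coheight_head (p := l.tail hne)
      rw [RelSeries.tail_length] at h1
      refine le_trans ?_ h1
      rw [hlen]
      norm_cast
    obtain ⟨C₁, hC₁, hC₁t⟩ := ih P' hP'co
    obtain ⟨x, hxP', hxP⟩ := SetLike.exists_of_lt ((PrimeSpectrum.asIdeal_lt_asIdeal P P').mpr hPP')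
    obtain ⟨c, hc, hcolon⟩ := exists_colon_le I P.asIdeal x hxP
    have hrec : ∀ t, c ≤ t →
        Module.length R (R ⧸ (P'.asIdeal ⊔ I ^ t)) +
          Module.length R (R ⧸ (P.asIdeal ⊔ I ^ (t - c))) ≤
        Module.length R (R ⧸ (P.asIdeal ⊔ I ^ t)) := fun t ht =>
      add_length_quot_le _ _ _ x (sup_le_sup_right hPP'.le _)
        (Ideal.mem_sup_left hxP') (hcolon t ht)
    refine ⟨max (c ^ (n + 1)) ((n + 1) * c * C₁), lt_max_of_lt_left (pow_pos hc _), ?_⟩
    set C := max (c ^ (n + 1)) ((n + 1) * c * C₁) with hC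
    intro t
    induction t using Nat.strong_induction_on with
    | _ t iht =>
      intro ht
      rcases le_or_gt t c with htc | htc
      · have : Nontrivial (R ⧸ (P.asIdeal ⊔ I ^ t)) :=
          Ideal.Quotient.nontrivial_iff.mpr (hI P t ht)
        have h1 : (1 : ℕ∞) ≤ Module.length R (R ⧸ (P.asIdeal ⊔ I ^ t)) :=
          Order.one_le_iff_pos.mpr Module.length_pos
        have h2 : t ^ (n + 1) ≤ C :=
          (Nat.pow_le_pow_left htc _).trans (le_max_left _ _)
        calc ((t ^ (n + 1) : ℕ) : ℕ∞) ≤ (C : ℕ∞) := by exact_mod_cast h2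
          _ = C * 1 := (mul_one _).symm
          _ ≤ C * Module.length R (R ⧸ (P.asIdeal ⊔ I ^ t)) := by gcongr
      · have h1 := hrec t htc.le
        have h2 := iht (t - c) (by omega) (by omega)
        have h3 := hC₁t t ht
        have h4 := pow_le_sub_pow_add n c t htc.le
        have h5 : (n + 1) * c * C₁ ≤ C := le_max_right _ _
        calc ((t ^ (n + 1) : ℕ) : ℕ∞)
            ≤ (((t - c) ^ (n + 1) + (n + 1) * c * t ^ n : ℕ) : ℕ∞) := by exact_mod_cast h4
          _ = (((t - c) ^ (n + 1) : ℕ) : ℕ∞) + ((n + 1) * c : ℕ) * ((t ^ n : ℕ) : ℕ∞) := by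
            push_cast; ring
          _ ≤ C * Module.length R (R ⧸ (P.asIdeal ⊔ I ^ (t - c))) +
              ((n + 1) * c : ℕ) * (C₁ * Module.length R (R ⧸ (P'.asIdeal ⊔ I ^ t))) := by
            gcongr
          _ = C * Module.length R (R ⧸ (P.asIdeal ⊔ I ^ (t - c))) +
              (((n + 1) * c * C₁ : ℕ) : ℕ∞) * Module.length R (R ⧸ (P'.asIdeal ⊔ I ^ t)) := by
            push_cast; ring
          _ ≤ C * Module.length R (R ⧸ (P.asIdeal ⊔ I ^ (t - c))) +
              (C : ℕ∞) * Module.length R (R ⧸ (P'.asIdeal ⊔ I ^ t)) := by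
            gcongr
          _ = C * (Module.length R (R ⧸ (P'.asIdeal ⊔ I ^ t)) +
              Module.length R (R ⧸ (P.asIdeal ⊔ I ^ (t - c)))) := by ring
          _ ≤ C * Module.length R (R ⧸ (P.asIdeal ⊔ I ^ t)) := by gcongr

theorem exists_pow_le_mul_length_of_le_jacobson (I : Ideal R) (hI : I ≤ Ring.jacobson R)
    (n : ℕ) (P : PrimeSpectrum R) (hP : (n : ℕ∞) ≤ Order.coheight P) :
    ∃ C : ℕ, 0 < C ∧ ∀ t : ℕ, 1 ≤ t →
      ((t ^ n : ℕ) : ℕ∞) ≤ C * Module.length R (R ⧸ (P.asIdeal ⊔ I ^ t)) :=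
  exists_pow_le_mul_length_of_ne_top I (sup_pow_ne_top_of_le_jacobson I hI) n P hP

end Groth.Agent.Lib.Helper87.HSLower
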