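import Mathlib
import Groth.Agent.Lib.Helper87.SamuelFn
import Groth.Agent.Lib.Helper87.HSLower2

/-!
# Lower bound for the Samuel function of a module
-/

namespace Groth.Agent.Lib.Helper87.SamuelFn

open Groth.Agent.Lib.Helper87.HSLower

variable {A : Type*} [CommRing A] [IsNoetherianRing A]

omit [IsNoetherianRing A] in
/-- `ℓ(A/(p + Iᵗ)) ≤ χ_{A/p}(t)`. -/
theorem length_quot_sup_le_chi (I p : Ideal A) (t : ℕ) :
    Module.length A (A ⧸ (p ⊔ I ^ t)) ≤ chi I (A ⧸ p) t := by
  rw [chi_def]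
  have h1 : I ^ t • (⊤ : Submodule A (A ⧸ p)) = Submodule.map (Submodule.mkQ p) (I ^ t) := by
    have h2 : (⊤ : Submodule A (A ⧸ p)) = (⊤ : Submodule A A).map (Submodule.mkQ p) := by
      rw [Submodule.map_top, Submodule.range_mkQ]
    rw [h2, ← Submodule.map_smul'']
    congr 1
    simp
  rw [h1]
  exact ((Submodule.quotientQuotientEquivQuotientSup p (I ^ t)).symm.length_eq).le

variable (M : Type*) [AddCommGroup M] [Module A M] [Module.Finite A M]

/-- A chain of primes of length `d` in the support of `M` gives an associated prime of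
coheight at least `d`. -/
theorem exists_associatedPrime_coheight (d : ℕ)
    (hd : (d : WithBot ℕ∞) ≤ Module.supportDim A M) :
    ∃ p : PrimeSpectrum A, (d : ℕ∞) ≤ Order.coheight p ∧ ∃ m : M,
      p.asIdeal = (⊥ : Submodule A M).colon {m} := by
  obtain ⟨l, hl⟩ := Order.le_krullDim_iff.mp hd
  obtain ⟨l', hl'len, hl'head⟩ : ∃ l' : LTSeries (PrimeSpectrum A),
      l'.length = d ∧ l'.head = l.head.1 :=
    ⟨l.map Subtype.val (Subtype.strictMono_coe _), hl, LTSeries.head_map _ _ _⟩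
  have hco : (d : ℕ∞) ≤ Order.coheight l'.head := by
    have := Order.length_le_coheight_head (p := l')
    rwa [hl'len] at this
  have hsupp : l'.head ∈ Module.support A M := by
    rw [hl'head]
    exact l.head.2
  rw [Module.support_eq_zeroLocus, PrimeSpectrum.mem_zeroLocus] at hsupp
  obtain ⟨p₀, hp₀, hle⟩ := Ideal.exists_minimalPrimes_le (J := l'.head.asIdeal) hsupp
  have hass := Module.associatedPrimes.minimalPrimes_annihilator_subset_associatedPrimes A M hp₀
  obtain ⟨hprime, m, hm⟩ := isAssociatedPrime_iff.mp hass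
  refine ⟨⟨p₀, hprime⟩, hco.trans (Order.coheight_anti ?_), m, hm⟩
  exact (PrimeSpectrum.asIdeal_le_asIdeal _ _).mp hle

/-- The lower bound `tᵈ ≤ C · χ_M(t + c)` for `d ≤ dim M`. -/
theorem exists_pow_le_mul_chi (I : Ideal A) (hI : I ≤ Ring.jacobson A) (d : ℕ)
    (hd : (d : WithBot ℕ∞) ≤ Module.supportDim A M) :
    ∃ C : ℕ, 0 < C ∧ ∃ c : ℕ, ∀ t : ℕ, 1 ≤ t →
      ((t ^ d : ℕ) : ℕ∞) ≤ C * chi I M (t + c) := by
  obtain ⟨p, hco, m, hm⟩ := exists_associatedPrime_coheight M d hd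
  obtain ⟨C, hC, hCt⟩ := exists_pow_le_mul_length_of_le_jacobson I hI d p hco
  -- the embedding `A/p → M`
  let f₀ : A →ₗ[A] M := LinearMap.toSpanSingleton A M m
  have hker : LinearMap.ker f₀ = p.asIdeal := by
    ext a
    rw [hm, LinearMap.mem_ker, Submodule.mem_colon_singleton, Submodule.mem_bot]
    rfl
  let f : (A ⧸ p.asIdeal) →ₗ[A] M := Submodule.liftQ p.asIdeal f₀ hker.ge
  have hf : Function.Injective f := by
    rw [← LinearMap.ker_eq_bot, Submodule.ker_liftQ, hker, Submodule.mkQ_map_self]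
  let g : M →ₗ[A] (M ⧸ LinearMap.range f) := Submodule.mkQ _
  have hgf : g ∘ₗ f = 0 := by
    ext
    simp [g]
  obtain ⟨c, hc⟩ := exists_add_le_chi I f g hf (Submodule.mkQ_surjective _) hgf
  refine ⟨C, hC, c, fun t ht => ?_⟩
  have h1 := hc (t + c) (Nat.le_add_left _ _)
  rw [Nat.add_sub_cancel] at h1
  calc ((t ^ d : ℕ) : ℕ∞) ≤ C * Module.length A (A ⧸ (p.asIdeal ⊔ I ^ t)) := hCt t ht
    _ ≤ C * chi I (A ⧸ p.asIdeal) t := by gcongr; exact length_quot_sup_le_chi I p.asIdeal t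
    _ ≤ C * chi I M (t + c) := by gcongr; exact le_trans le_self_add h1

end Groth.Agent.Lib.Helper87.SamuelFn
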