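import Mathlib
import Groth.Agent.S3405

/-!
# Existence and positivity of the Samuel multiplicity of the maximal ideal
-/

set_option autoImplicit false
universe u

namespace Groth.Agent.Lib.Helper87.SamuelExists

open Polynomial Filter Topology

theorem tendsto_eval_div_pow (P : ℚ[X]) (d : ℕ) (h : P.natDegree = d) (hP : P ≠ 0) :
    Tendsto (fun m : ℕ => ((P.eval (m : ℚ) : ℚ) : ℝ) / (m : ℝ) ^ d) atTop
      (𝓝 ((P.leadingCoeff : ℚ) : ℝ)) := by
  have h1 : P.degree = (X ^ d : ℚ[X]).degree := by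
    rw [degree_X_pow, degree_eq_natDegree hP, h]
  have h2 := (Polynomial.div_tendsto_atTop_leadingCoeff_div_of_degree_eq P (X ^ d) h1).comp
    (tendsto_natCast_atTop_atTop (R := ℚ))
  have h3 := (Rat.continuous_coe_real.tendsto _).comp h2
  rw [leadingCoeff_X_pow, div_one] at h3
  refine h3.congr fun m => ?_
  simp

variable (O : Type u) [CommRing O] [IsNoetherianRing O] [IsLocalRing O]

/-- The Samuel multiplicity of the maximal ideal exists and is positive. -/
theorem exists_limit_pos (r : ℕ) (hr : ringKrullDim O = r) :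
    ∃ e₀ : ℝ, 0 < e₀ ∧ Tendsto (fun n : ℕ => (r.factorial : ℝ) *
      ((Module.length O (O ⧸ IsLocalRing.maximalIdeal O ^ n)).toNat : ℝ) / (n : ℝ) ^ r)
        atTop (𝓝 e₀) := by
  obtain ⟨P, ⟨N, hN⟩, hdeg⟩ := Groth.Agent.S3405.result O O
  rw [Module.supportDim_self_eq_ringKrullDim, hr] at hdeg
  have hdeg' : P.natDegree = r := by exact_mod_cast hdeg
  rw [IsLocalRing.ringJacobson_eq_maximalIdeal] at hN
  have hlen : ∀ n, N ≤ n → ((Module.length O (O ⧸ IsLocalRing.maximalIdeal O ^ n)).toNat : ℚ) =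
      P.eval (n : ℚ) := by
    intro n hn
    obtain ⟨ℓ, h1, h2⟩ := hN n hn
    have h3 : IsLocalRing.maximalIdeal O ^ n • (⊤ : Submodule O O) =
        IsLocalRing.maximalIdeal O ^ n := by simp
    rw [h3] at h1
    rw [h1, ENat.toNat_natCast, h2]
  have hpos : ∀ n, 1 ≤ n → N ≤ n → (1 : ℚ) ≤ P.eval (n : ℚ) := by
    intro n hn1 hn
    rw [← hlen n hn]
    have hne : Module.length O (O ⧸ IsLocalRing.maximalIdeal O ^ n) ≠ 0 := by
      rw [Ne, Module.length_eq_zero_iff, Submodule.Quotient.subsingleton_iff]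
      intro htop
      have h1 : IsLocalRing.maximalIdeal O ^ n ≤ IsLocalRing.maximalIdeal O :=
        Ideal.pow_le_self (by omega)
      exact (IsLocalRing.maximalIdeal.isMaximal O).ne_top (top_le_iff.mp (htop ▸ h1))
    obtain ⟨ℓ, h1, -⟩ := hN n hn
    have h3 : IsLocalRing.maximalIdeal O ^ n • (⊤ : Submodule O O) =
        IsLocalRing.maximalIdeal O ^ n := by simp
    rw [h3] at h1
    rw [h1] at hne ⊢
    rw [ENat.toNat_natCast]
    have : ℓ ≠ 0 := by exact_mod_cast hne
    exact_mod_cast Nat.one_le_iff_ne_zero.mpr this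
  have hP0 : P ≠ 0 := by
    intro h0
    have := hpos (N + 1) (by omega) (by omega)
    rw [h0, eval_zero] at this
    linarith
  have hlim := tendsto_eval_div_pow P r hdeg' hP0
  have hlim2 : Tendsto (fun n : ℕ => (r.factorial : ℝ) *
      ((Module.length O (O ⧸ IsLocalRing.maximalIdeal O ^ n)).toNat : ℝ) / (n : ℝ) ^ r)
        atTop (𝓝 ((r.factorial : ℝ) * ((P.leadingCoeff : ℚ) : ℝ))) := by
    refine (hlim.const_mul (r.factorial : ℝ)).congr' ?_
    filter_upwards [eventually_ge_atTop N] with n hn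
    rw [← hlen n hn, mul_div_assoc]
    push_cast
    rfl
  refine ⟨(r.factorial : ℝ) * ((P.leadingCoeff : ℚ) : ℝ), ?_, hlim2⟩
  have hnn : (0 : ℝ) ≤ (r.factorial : ℝ) * ((P.leadingCoeff : ℚ) : ℝ) := by
    refine ge_of_tendsto' hlim2 fun n => ?_
    positivity
  have hne : (r.factorial : ℝ) * ((P.leadingCoeff : ℚ) : ℝ) ≠ 0 := by
    refine mul_ne_zero (Nat.cast_ne_zero.mpr (Nat.factorial_ne_zero r)) ?_
    exact_mod_cast leadingCoeff_ne_zero.mpr hP0
  exact lt_of_le_of_ne hnn (Ne.symm hne)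

end Groth.Agent.Lib.Helper87.SamuelExists
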