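import Mathlib
import Groth.Agent.Lib.Helper87.HilbFnD
import Groth.Agent.Lib.Helper87.HilbFnB
import Groth.Agent.Lib.Helper87.PolyGrowth
import Groth.Agent.Lib.Helper87.PolyLimit
import Groth.Agent.Lib.Helper87.SamuelExists

/-!
# Degree of a projective scheme as sum over top-dimensional components
-/

set_option autoImplicit false
universe u
open MvPolynomial Filter Topology

namespace Groth.Agent.Lib.Helper87.HilbFnE

open Groth.Agent.Lib.Helper87.HilbFnA Groth.Agent.Lib.Helper87.HilbFnB
open Groth.Agent.Lib.Helper87.HilbFnC Groth.Agent.Lib.Helper87.HilbFnD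
open Groth.Agent.Lib.Helper87.LocLength Groth.Agent.Lib.Helper87.PolyDiff

variable {k : Type u} [Field k] {σ : Type} [Finite σ]

attribute [local instance] MvPolynomial.gradedAlgebra

/-- limit of normalized values of a polynomial of degree `t` -/
theorem tendsto_poly (Q : Polynomial ℚ) (t : ℕ) (ht : Q.natDegree = t) :
    Tendsto (fun m : ℕ => (t.factorial : ℝ) * ((Q.eval (m : ℚ) : ℚ) : ℝ) / (m : ℝ) ^ t) atTop
      (𝓝 ((t.factorial : ℝ) * ((Q.leadingCoeff : ℚ) : ℝ))) := by
  by_cases hQ : Q = 0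
  · subst hQ
    simp only [Polynomial.eval_zero, Rat.cast_zero, mul_zero, zero_div,
      Polynomial.leadingCoeff_zero]
    exact tendsto_const_nhds
  · have h := (Groth.Agent.Lib.Helper87.SamuelExists.tendsto_eval_div_pow Q t ht hQ).const_mul
      (t.factorial : ℝ)
    refine h.congr fun m => ?_
    rw [mul_div_assoc]

theorem tendsto_poly_zero (Q : Polynomial ℚ) (t : ℕ) (ht : Q.degree < t) :
    Tendsto (fun m : ℕ => (t.factorial : ℝ) * ((Q.eval (m : ℚ) : ℚ) : ℝ) / (m : ℝ) ^ t) atTop
      (𝓝 0) := by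
  have h := (Groth.Agent.Lib.Helper87.PolyGrowth.tendsto_eval_div_pow_zero Q t ht).const_mul
      (t.factorial : ℝ)
  rw [mul_zero] at h
  refine h.congr fun m => ?_
  rw [mul_div_assoc]

omit [Finite σ] in
theorem IsHP.tendsto {J : Ideal (MvPolynomial σ k)} {Q : Polynomial ℚ} (h : IsHP J Q) (t : ℕ)
    (ht : Q.natDegree = t) :
    Tendsto (nz t (hfn J)) atTop (𝓝 ((t.factorial : ℝ) * ((Q.leadingCoeff : ℚ) : ℝ))) := by
  obtain ⟨m₀, hm₀⟩ := h
  refine (tendsto_poly Q t ht).congr' ?_
  filter_upwards [eventually_ge_atTop m₀] with m hm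
  unfold nz
  rw [hm₀ m hm]

omit [Finite σ] in
theorem IsHP.tendsto_zero {J : Ideal (MvPolynomial σ k)} {Q : Polynomial ℚ} (h : IsHP J Q) (t : ℕ)
    (ht : Q.degree < t) :
    Tendsto (nz t (hfn J)) atTop (𝓝 0) := by
  obtain ⟨m₀, hm₀⟩ := h
  refine (tendsto_poly_zero Q t ht).congr' ?_
  filter_upwards [eventually_ge_atTop m₀] with m hm
  unfold nz
  rw [hm₀ m hm]

/-- degree of `Δ d Q` drops -/
theorem degree_Δ_lt (d : ℕ) (Q : Polynomial ℚ) (t : ℕ) (ht : Q.natDegree ≤ t) :
    (Δ (d : ℚ) Q).degree < t := by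
  rcases Nat.eq_zero_or_pos d with hd | hd
  · subst hd
    have : Δ ((0 : ℕ) : ℚ) Q = 0 := by
      unfold Δ
      simp
    rw [this, Polynomial.degree_zero]
    exact WithBot.bot_lt_coe _
  · by_cases h1 : 1 ≤ Q.natDegree
    · obtain ⟨h2, -⟩ := Δ_spec d hd Q h1
      refine lt_of_le_of_lt Polynomial.degree_le_natDegree ?_
      have : (Δ (d : ℚ) Q).natDegree < t := by omega
      exact_mod_cast this
    · have h0 : Q.natDegree = 0 := by omega
      obtain ⟨c, rfl⟩ : ∃ c, Q = Polynomial.C c := ⟨_, Polynomial.eq_C_of_natDegree_eq_zero h0⟩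
      have : Δ (d : ℚ) (Polynomial.C c) = 0 := by
        unfold Δ
        simp
      rw [this, Polynomial.degree_zero]
      exact WithBot.bot_lt_coe _

omit [Finite σ] in
/-- minimal primes over a homogeneous ideal are homogeneous -/
theorem isHomogeneous_of_mem_minimalPrimes {I p : Ideal (MvPolynomial σ k)}
    (hI : I.IsHomogeneous (homogeneousSubmodule σ k)) (hp : p ∈ I.minimalPrimes) :
    p.IsHomogeneous (homogeneousSubmodule σ k) := by
  have hpp : p.IsPrime := hp.1.1
  have hcore : (p.homogeneousCore (homogeneousSubmodule σ k)).toIdeal.IsPrime :=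
    Ideal.IsPrime.homogeneousCore hpp
  have hle : (p.homogeneousCore (homogeneousSubmodule σ k)).toIdeal ≤ p :=
    Ideal.toIdeal_homogeneousCore_le _ p
  have hI' : I ≤ (p.homogeneousCore (homogeneousSubmodule σ k)).toIdeal := by
    have := Ideal.homogeneousCore_mono (homogeneousSubmodule σ k) hp.1.2
    have h2 : (I.homogeneousCore (homogeneousSubmodule σ k)).toIdeal = I :=
      hI.toIdeal_homogeneousCore_eq_self
    rw [← h2]
    exact this
  have := hp.2 ⟨hcore, hI'⟩ hle
  have heq : (p.homogeneousCore (homogeneousSubmodule σ k)).toIdeal = p := le_antisymm hle this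
  rw [← heq]
  exact (p.homogeneousCore (homogeneousSubmodule σ k)).isHomogeneous

/-- a homogeneous prime strictly containing a prime with a Hilbert polynomial of degree `≤ t`
has normalized Hilbert function tending to zero -/
theorem tendsto_zero_of_lt {p q : Ideal (MvPolynomial σ k)} [hp : p.IsPrime]
    (hph : p.IsHomogeneous (homogeneousSubmodule σ k))
    (hqh : q.IsHomogeneous (homogeneousSubmodule σ k)) (hpq : p < q)
    {Q : Polynomial ℚ} (hQ : IsHP p Q) (t : ℕ) (ht : Q.natDegree ≤ t) :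
    Tendsto (nz t (hfn q)) atTop (𝓝 0) := by
  classical
  obtain ⟨x, hxq, hxp⟩ := Set.exists_of_ssubset hpq
  -- a homogeneous component of `x` not in `p`
  have hex : ∃ d, homogeneousComponent d x ∉ p := by
    by_contra hall
    push Not at hall
    apply hxp
    rw [← sum_homogeneousComponent x]
    exact p.sum_mem fun d _ => hall d
  obtain ⟨d, hd⟩ := hex
  set f := homogeneousComponent d x with hf
  have hfq : f ∈ q := by
    have := hqh d hxq
    have h1 : (DirectSum.decompose (homogeneousSubmodule σ k) x d : MvPolynomial σ k) =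
      homogeneousComponent d x := decomposition.decompose'_apply x d
    rwa [h1] at this
  have hfh : f.IsHomogeneous d := homogeneousComponent_isHomogeneous d x
  have hf0 : f ≠ 0 := fun h => hd (h ▸ p.zero_mem)
  have hreg : ∀ y, f * y ∈ p → y ∈ p := fun y hy => (hp.mem_or_mem hy).resolve_left hd
  have hcut := IsHP.cut hph hfh hf0 hreg hQ
  have hle : p ⊔ Ideal.span {f} ≤ q :=
    sup_le hpq.le ((Ideal.span_singleton_le_iff_mem q).mpr hfq)
  obtain ⟨m₀, hm₀⟩ := hcut
  have hlim := tendsto_poly_zero (Δ (d : ℚ) Q) t (degree_Δ_lt d Q t ht)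
  refine tendsto_of_tendsto_of_tendsto_of_le_of_le' tendsto_const_nhds hlim ?_ ?_
  · filter_upwards with m
    unfold nz
    have h0 : (0 : ℝ) ≤ ((hfn q m : ℚ) : ℝ) := by exact_mod_cast hfn_nonneg q m
    positivity
  · filter_upwards [eventually_ge_atTop m₀] with m hm
    unfold nz
    rw [hm₀ m hm]
    have h1 : ((hfn q m : ℚ) : ℝ) ≤ ((hfn (p ⊔ Ideal.span {f}) m : ℚ) : ℝ) := by
      exact_mod_cast hfn_anti hle m
    gcongr

/-- **Degree = sum over top-dimensional components of multiplicity times degree.** -/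
theorem degree_eq_sum (I : Ideal (MvPolynomial σ k))
    (hIh : I.IsHomogeneous (homogeneousSubmodule σ k)) (P : Polynomial ℚ) (hP : IsHP I P)
    (r : ℕ) (p : Fin r → Ideal (MvPolynomial σ k)) [hp : ∀ i, (p i).IsPrime]
    (hpinj : Function.Injective p)
    (hpmin : ∀ q : Ideal (MvPolynomial σ k), q ∈ I.minimalPrimes ↔ ∃ i, q = p i)
    (Qp : Fin r → Polynomial ℚ) (hQp : ∀ i, IsHP (p i) (Qp i)) :
    (P.natDegree.factorial : ℚ) * P.leadingCoeff =
      ∑ i : Fin r, if (Qp i).natDegree = P.natDegree then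
        ((Qp i).natDegree.factorial : ℚ) * (Qp i).leadingCoeff *
          (Module.length (Localization.AtPrime (p i))
            (LocalizedModule (p i).primeCompl (MvPolynomial σ k ⧸ I))).toNat
      else 0 := by
  classical
  set t := P.natDegree with ht
  let p' : Fin r → PrimeSpectrum (MvPolynomial σ k) := fun i => ⟨p i, hp i⟩
  let top : Finset (Fin r) := Finset.univ.filter fun i => (Qp i).natDegree = t
  let e : Fin r → ℝ := fun i => (t.factorial : ℝ) * (((Qp i).leadingCoeff : ℚ) : ℝ)
  have hmem : ∀ i, p i ∈ I.minimalPrimes := fun i => (hpmin (p i)).mpr ⟨i, rfl⟩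
  have hdeg : ∀ i, (Qp i).natDegree ≤ t := by
    intro i
    apply Groth.Agent.Lib.Helper87.PolyGrowth.natDegree_le_of_eventually_le (Qp i) P t
    · refine lt_of_le_of_lt Polynomial.degree_le_natDegree ?_
      rw [← ht]
      exact_mod_cast Nat.lt_succ_self t
    · obtain ⟨m₁, h₁⟩ := hQp i
      obtain ⟨m₂, h₂⟩ := hP
      filter_upwards [eventually_ge_atTop m₁, eventually_ge_atTop m₂] with m hm1 hm2
      rw [h₁ m hm1, h₂ m hm2]
      exact ⟨hfn_nonneg _ m, hfn_anti (hmem i).1.2 m⟩
  have key := assoc top p' (fun i _ j _ hij => hpinj (congrArg PrimeSpectrum.asIdeal hij)) I t e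
    (fun i _ q hq hIq hqp => le_antisymm hqp ((hmem i).2 ⟨hq, hIq⟩ hqp))
    (fun i hi => by
      have hi' : (Qp i).natDegree = t := (Finset.mem_filter.mp hi).2
      exact IsHP.tendsto (hQp i) t hi')
    (fun q hq hqh hIq hne => by
      obtain ⟨p₁, hp₁, hp₁q⟩ := Ideal.exists_minimalPrimes_le hIq
      obtain ⟨i₁, rfl⟩ := (hpmin p₁).mp hp₁
      rcases eq_or_lt_of_le hp₁q with heq | hlt
      · have hnot : i₁ ∉ top := fun hi => hne i₁ hi heq.symm
        have hlt' : (Qp i₁).natDegree < t := by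
          refine lt_of_le_of_ne (hdeg i₁) fun h => hnot ?_
          exact Finset.mem_filter.mpr ⟨Finset.mem_univ _, h⟩
        rw [← heq]
        refine IsHP.tendsto_zero (hQp i₁) t ?_
        refine lt_of_le_of_lt Polynomial.degree_le_natDegree ?_
        exact_mod_cast hlt'
      · exact tendsto_zero_of_lt (isHomogeneous_of_mem_minimalPrimes hIh hp₁) hqh hlt (hQp i₁) t
          (hdeg i₁))
    I hIh le_rfl
  obtain ⟨-, hlim⟩ := key
  have hlim2 := IsHP.tendsto hP t rfl
  have heq := tendsto_nhds_unique hlim2 hlim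
  have hQ : (((t.factorial : ℚ) * P.leadingCoeff : ℚ) : ℝ) =
      ((∑ i ∈ top, ((w (MvPolynomial σ k ⧸ I) (p' i)).toNat : ℚ) *
        ((t.factorial : ℚ) * (Qp i).leadingCoeff) : ℚ) : ℝ) := by
    push_cast
    exact heq
  have hQ' := Rat.cast_injective hQ
  rw [hQ', Finset.sum_filter]
  refine Finset.sum_congr rfl fun i _ => ?_
  by_cases hi : (Qp i).natDegree = t
  · rw [if_pos hi, if_pos hi, hi]
    unfold w
    ring
  · rw [if_neg hi, if_neg hi]

end Groth.Agent.Lib.Helper87.HilbFnE
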