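import Mathlib
import Groth.Agent.Lib.Helper87.HilbFnE

/-!
# Hilbert–Serre: every homogeneous ideal of a polynomial ring over a field has a Hilbert polynomial
-/

set_option autoImplicit false
universe u
open MvPolynomial Filter Topology

namespace Groth.Agent.Lib.Helper87.HilbFnF

open Groth.Agent.Lib.Helper87.HilbFnA Groth.Agent.Lib.Helper87.HilbFnB
open Groth.Agent.Lib.Helper87.HilbFnC Groth.Agent.Lib.Helper87.HilbFnD
open Groth.Agent.Lib.Helper87.HilbFnE
open Groth.Agent.Lib.Helper87.PolyDiff

/-- `Δ` is additive -/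
theorem Δ_add (d : ℚ) (P Q : Polynomial ℚ) : Δ d (P + Q) = Δ d P + Δ d Q := by
  unfold Δ
  rw [Polynomial.add_comp]
  ring

/-- every rational polynomial is a backward difference -/
theorem exists_antidiff : ∀ (d : ℕ) (G : Polynomial ℚ), G.degree < d →
    ∃ S : Polynomial ℚ, Δ (1 : ℚ) S = G := by
  intro d
  induction d with
  | zero =>
    intro G hG
    have : G = 0 := by
      rw [← Polynomial.degree_eq_bot]
      apply Nat.WithBot.lt_zero_iff.mp
      simpa using hG
    refine ⟨0, ?_⟩
    rw [this]
    unfold Δ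
    simp
  | succ d ih =>
    intro G hG
    by_cases hlt : G.degree < d
    · exact ih G hlt
    · have hG0 : G ≠ 0 := by
        rintro rfl
        apply hlt
        rw [Polynomial.degree_zero]
        exact WithBot.bot_lt_coe _
      have hnat : G.natDegree = d := by
        rw [Polynomial.degree_eq_natDegree hG0] at hG hlt
        have h1 : G.natDegree < d + 1 := by exact_mod_cast hG
        have h2 : ¬ G.natDegree < d := by exact_mod_cast hlt
        omega
      set c : ℚ := G.leadingCoeff / (d + 1) with hc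
      have hc0 : c ≠ 0 := by
        rw [hc]
        apply div_ne_zero (Polynomial.leadingCoeff_ne_zero.mpr hG0)
        positivity
      set M : Polynomial ℚ := Polynomial.C c * Polynomial.X ^ (d + 1) with hM
      have hMdeg : M.natDegree = d + 1 := by
        rw [hM, Polynomial.natDegree_C_mul_X_pow _ _ hc0]
      have hMlc : M.leadingCoeff = c := by
        rw [hM, Polynomial.leadingCoeff_mul, Polynomial.leadingCoeff_C,
          Polynomial.leadingCoeff_X_pow, mul_one]
      obtain ⟨h1, h2⟩ := Δ_spec 1 Nat.one_pos M (by omega)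
      simp only [Nat.cast_one] at h1 h2
      have hΔdeg : (Δ (1 : ℚ) M).natDegree = d := by omega
      have hΔlc : (Δ (1 : ℚ) M).leadingCoeff = G.leadingCoeff := by
        rw [hΔdeg, hMdeg, hMlc, one_mul, Nat.factorial_succ] at h2
        have hd : (d.factorial : ℚ) ≠ 0 := by positivity
        have hd1 : ((d : ℚ) + 1) ≠ 0 := by positivity
        have : (d.factorial : ℚ) * (Δ (1 : ℚ) M).leadingCoeff = d.factorial * G.leadingCoeff := by
          rw [h2, hc]
          push_cast
          field_simp
        exact mul_left_cancel₀ hd this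
      have hΔ0 : Δ (1 : ℚ) M ≠ 0 := by
        intro h
        rw [h, Polynomial.leadingCoeff_zero] at hΔlc
        exact hG0 (Polynomial.leadingCoeff_eq_zero.mp hΔlc.symm)
      have hdegeq : G.degree = (Δ (1 : ℚ) M).degree := by
        rw [Polynomial.degree_eq_natDegree hG0, Polynomial.degree_eq_natDegree hΔ0, hnat, hΔdeg]
      have hlt' : (G - Δ (1 : ℚ) M).degree < d := by
        have := Polynomial.degree_sub_lt_left hdegeq hG0 hΔlc.symm
        rwa [Polynomial.degree_eq_natDegree hG0, hnat] at this
      obtain ⟨S', hS'⟩ := ih _ hlt'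
      refine ⟨S' + M, ?_⟩
      rw [Δ_add, hS']
      ring

theorem exists_antidiff' (G : Polynomial ℚ) : ∃ S : Polynomial ℚ, Δ (1 : ℚ) S = G := by
  by_cases hG : G = 0
  · refine ⟨0, ?_⟩
    rw [hG]
    unfold Δ
    simp
  · refine exists_antidiff (G.natDegree + 1) G ?_
    rw [Polynomial.degree_eq_natDegree hG]
    exact_mod_cast Nat.lt_succ_self _

/-- a function whose differences are eventually polynomial is eventually polynomial -/
theorem exists_poly_of_diff (h : ℕ → ℚ) (G : Polynomial ℚ) (N : ℕ)
    (hG : ∀ m, N ≤ m → h (m + 1) - h m = G.eval ((m + 1 : ℕ) : ℚ)) :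
    ∃ P : Polynomial ℚ, ∀ m, N ≤ m → P.eval (m : ℚ) = h m := by
  obtain ⟨S, hS⟩ := exists_antidiff' G
  refine ⟨S + Polynomial.C (h N - S.eval (N : ℚ)), fun m hm => ?_⟩
  rw [Polynomial.eval_add, Polynomial.eval_C]
  induction m, hm using Nat.le_induction with
  | base => ring
  | succ m hm ih =>
    have h1 := hG m hm
    rw [← hS, Δ_eval] at h1
    have h2 : ((m + 1 : ℕ) : ℚ) - 1 = (m : ℚ) := by push_cast; ring
    rw [h2] at h1
    linarith

variable {k : Type u} [Field k] {σ : Type} [Finite σ]

attribute [local instance] MvPolynomial.gradedAlgebra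

omit [Finite σ] in
/-- homogeneous polynomials of positive degree lie in every ideal containing the variables -/
theorem mem_of_X_mem {J : Ideal (MvPolynomial σ k)} (hX : ∀ i, (X i : MvPolynomial σ k) ∈ J)
    {f : MvPolynomial σ k} {m : ℕ} (hf : f.IsHomogeneous m) (hm : 1 ≤ m) : f ∈ J := by
  classical
  rw [f.as_sum]
  refine J.sum_mem fun s hs => ?_
  have hdeg : s.degree = m := by
    have := hf (mem_support_iff.mp hs)
    rw [Finsupp.degree_eq_weight_one]
    exact this
  -- some variable appears in `s`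
  have hne : s ≠ 0 := by
    rintro rfl
    simp at hdeg
    omega
  obtain ⟨i, hi⟩ : ∃ i, s i ≠ 0 := by
    by_contra hall
    push Not at hall
    exact hne (Finsupp.ext hall)
  have hs' : s - Finsupp.single i 1 + Finsupp.single i 1 = s := by
    ext j
    by_cases hj : j = i
    · subst hj
      simp only [Finsupp.coe_add, Finsupp.coe_tsub, Pi.add_apply, Pi.sub_apply,
        Finsupp.single_eq_same]
      omega
    · simp [Finsupp.single_apply, Ne.symm hj]
  have : monomial s (coeff s f) = monomial (s - Finsupp.single i 1) (coeff s f) * X i := by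
    rw [X, monomial_mul, mul_one, hs']
  rw [this]
  exact J.mul_mem_left _ (hX i)

omit [Finite σ] in
theorem hfn_eq_zero_of_X_mem {J : Ideal (MvPolynomial σ k)}
    (hX : ∀ i, (X i : MvPolynomial σ k) ∈ J) {m : ℕ} (hm : 1 ≤ m) : hfn J m = 0 := by
  unfold hfn
  have : pc J m = gr k σ m := by
    apply le_antisymm inf_le_right
    intro f hf
    exact ⟨mem_of_X_mem hX ((mem_homogeneousSubmodule _ _).mp hf) hm, hf⟩
  rw [this, sub_self]

/-- **Hilbert–Serre** -/
theorem exists_isHP (J : Ideal (MvPolynomial σ k)) :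
    J.IsHomogeneous (homogeneousSubmodule σ k) → ∃ P : Polynomial ℚ, IsHP J P := by
  classical
  refine IsNoetherian.induction (P := fun J : Ideal (MvPolynomial σ k) =>
    J.IsHomogeneous (homogeneousSubmodule σ k) → ∃ P : Polynomial ℚ, IsHP J P) ?_ J
  intro J ih hJ
  by_cases hJtop : J = ⊤
  · subst hJtop
    exact ⟨0, 0, fun m _ => by rw [hfn_top, Polynomial.eval_zero]⟩
  obtain ⟨x, l, hx, hxJ, hprime⟩ := exists_prime_colon J hJ hJtop
  have hx0 : x ≠ 0 := fun h => hxJ (h ▸ J.zero_mem)
  have hsup : ∀ (y : MvPolynomial σ k) (l' : ℕ), y.IsHomogeneous l' → y ∉ J →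
      ∃ P : Polynomial ℚ, IsHP (J ⊔ Ideal.span {y}) P := by
    intro y l' hy hyJ
    have hJJ' : J < J ⊔ Ideal.span {y} := by
      refine lt_of_le_of_ne le_sup_left ?_
      intro h
      apply hyJ
      rw [h]
      exact Ideal.mem_sup_right (Ideal.mem_span_singleton_self y)
    refine ih _ hJJ' (hJ.sup (Ideal.homogeneous_span _ _ ?_))
    intro z hz
    rw [Set.mem_singleton_iff] at hz
    subst hz
    exact ⟨l', hy⟩
  by_cases hq : col J x = J
  · -- `J` is prime
    rw [hq] at hprime
    by_cases hX : ∀ i, (X i : MvPolynomial σ k) ∈ J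
    · exact ⟨0, 1, fun m hm => by rw [hfn_eq_zero_of_X_mem hX hm, Polynomial.eval_zero]⟩
    · push Not at hX
      obtain ⟨i, hi⟩ := hX
      obtain ⟨P₂, m₂, h₂⟩ := hsup (X i) 1 (isHomogeneous_X k i) hi
      have hcol : col J (X i) = J := by
        apply le_antisymm _ (le_col J _)
        intro a ha
        rw [mem_col] at ha
        exact (hprime.mem_or_mem ha).resolve_right hi
      have hXi0 : (X i : MvPolynomial σ k) ≠ 0 := X_ne_zero i
      obtain ⟨P, hP⟩ := exists_poly_of_diff (hfn J) P₂ m₂ (fun m hm => by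
        have := hfn_colon J hJ (isHomogeneous_X k i) hXi0 m
        rw [hcol] at this
        have e : 1 + m = m + 1 := by ring
        rw [e] at this
        rw [h₂ (m + 1) (by omega), this]
        ring)
      exact ⟨P, m₂, hP⟩
  · have hlt : J < col J x := lt_of_le_of_ne (le_col J x) (Ne.symm hq)
    obtain ⟨P₁, m₁, h₁⟩ := ih _ hlt (col_isHomogeneous hJ hx)
    obtain ⟨P₂, m₂, h₂⟩ := hsup x l hx hxJ
    refine ⟨P₁.comp (Polynomial.X - Polynomial.C (l : ℚ)) + P₂, m₁ + m₂ + l, fun m hm => ?_⟩
    obtain ⟨j, rfl⟩ : ∃ j, m = l + j := ⟨m - l, by omega⟩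
    rw [hfn_colon J hJ hx hx0 j, Polynomial.eval_add, Polynomial.eval_comp, Polynomial.eval_sub,
      Polynomial.eval_X, Polynomial.eval_C, h₂ (l + j) (by omega)]
    have : ((l + j : ℕ) : ℚ) - (l : ℚ) = (j : ℚ) := by push_cast; ring
    rw [this, h₁ j (by omega)]

end Groth.Agent.Lib.Helper87.HilbFnF
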