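import Mathlib
import Groth.Agent.Lib.Helper87.HilbFnF
import Groth.Agent.Lib.Helper73.DimField

/-!
# Krull dimension of `R/I` from the degree of the Hilbert polynomial
-/

set_option autoImplicit false
set_option linter.style.haveILetI false
universe u
open MvPolynomial Filter Topology

namespace Groth.Agent.Lib.Helper87.HilbFnG

open Groth.Agent.Lib.Helper87.HilbFnA Groth.Agent.Lib.Helper87.HilbFnB
open Groth.Agent.Lib.Helper87.HilbFnC Groth.Agent.Lib.Helper87.HilbFnD
open Groth.Agent.Lib.Helper87.HilbFnE Groth.Agent.Lib.Helper87.HilbFnF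
open Groth.Agent.Lib.Helper87.PolyDiff
open Groth.Agent.Lib.Helper73.DimFormula

section general

/-- cutting a finite type domain over a field by one element drops the dimension by exactly one -/
theorem dim_drop_prime {k : Type u} [Field k] {A : Type u} [CommRing A] [Algebra k A]
    [Algebra.FiniteType k A] (p q : Ideal A) [hp : p.IsPrime] (f : A) (hf : f ∉ p)
    (hq : q ∈ (p ⊔ Ideal.span {f}).minimalPrimes) :
    ringKrullDim (A ⧸ p) = ringKrullDim (A ⧸ q) + 1 := by
  haveI : IsNoetherianRing A := Algebra.FiniteType.isNoetherianRing k A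
  haveI hqp : q.IsPrime := hq.1.1
  have hpq : p ≤ q := le_sup_left.trans hq.1.2
  have hfq : f ∈ q := hq.1.2 (Ideal.mem_sup_right (Ideal.mem_span_singleton_self f))
  haveI : Algebra.FiniteType k (A ⧸ p) :=
    Algebra.FiniteType.of_surjective (Ideal.Quotient.mkₐ k p) (Ideal.Quotient.mkₐ_surjective k p)
  set q' : Ideal (A ⧸ p) := q.map (Ideal.Quotient.mk p) with hq'
  haveI hq'p : q'.IsPrime :=
    Ideal.map_isPrime_of_surjective Ideal.Quotient.mk_surjective (by rwa [Ideal.mk_ker])
  have h1 : q'.height ≤ 1 := Ideal.map_height_le_one_of_mem_minimalPrimes hq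
  have h2 : q' ≠ ⊥ := by
    intro h
    have : Ideal.Quotient.mk p f ∈ q' := Ideal.mem_map_of_mem _ hfq
    rw [h, Ideal.mem_bot, Ideal.Quotient.eq_zero_iff_mem] at this
    exact hf this
  have h3 : q'.height = 1 := by
    apply le_antisymm h1
    rw [Order.one_le_iff_ne_zero]
    intro h
    exact h2 (Ideal.height_eq_zero_iff_eq_bot.mp h)
  haveI : Algebra.FiniteType k ((A ⧸ p) ⧸ q') :=
    Algebra.FiniteType.of_surjective (Ideal.Quotient.mkₐ k q') (Ideal.Quotient.mkₐ_surjective k q')
  obtain ⟨n₁, hn₁, hd₁, -, -⟩ := exists_trdeg_eq_ringKrullDim k (A ⧸ p)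
  obtain ⟨n₂, hn₂, hd₂, -, -⟩ := exists_trdeg_eq_ringKrullDim k ((A ⧸ p) ⧸ q')
  have h4 := height_add_trdeg_eq_of_field k (A ⧸ p) q'
  rw [hn₁, hn₂, h3] at h4
  have h5 : 1 + n₂ = n₁ := by exact_mod_cast h4
  have h6 : ringKrullDim (A ⧸ q) = ringKrullDim ((A ⧸ p) ⧸ q') :=
    (ringKrullDim_eq_of_ringEquiv (DoubleQuot.quotQuotEquivQuotOfLE hpq)).symm
  rw [h6, hd₁, hd₂, ← h5]
  push_cast
  ring

/-- the dimension of a quotient is bounded by the dimensions of the minimal components -/
theorem ringKrullDim_quotient_le_of_minimalPrimes {A : Type*} [CommRing A] (I : Ideal A)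
    (c : WithBot ℕ∞) (h : ∀ q ∈ I.minimalPrimes, ringKrullDim (A ⧸ q) ≤ c) :
    ringKrullDim (A ⧸ I) ≤ c := by
  rw [ringKrullDim_quotient]
  refine iSup_le fun l => ?_
  have hl : I ≤ l.head.1.asIdeal := l.head.2
  obtain ⟨q, hq, hq'⟩ := Ideal.exists_minimalPrimes_le hl
  have hle : ∀ i, q ≤ (l i).1.asIdeal := fun i =>
    hq'.trans (LTSeries.head_le l i)
  let l' : LTSeries (PrimeSpectrum.zeroLocus (R := A) q) :=
    { length := l.length
      toFun := fun i => ⟨(l i).1, hle i⟩
      step := fun i => l.step i }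
  have h1 := Order.LTSeries.length_le_krullDim l'
  have h2 := h q hq
  rw [ringKrullDim_quotient] at h2
  exact h1.trans h2

/-- enumeration of the minimal primes in a noetherian ring -/
theorem exists_enum {A : Type*} [CommRing A] [IsNoetherianRing A] (I : Ideal A) :
    ∃ (r : ℕ) (p : Fin r → Ideal A), Function.Injective p ∧
      ∀ q, q ∈ I.minimalPrimes ↔ ∃ i, q = p i := by
  classical
  have hfin := Ideal.finite_minimalPrimes_of_isNoetherianRing A I
  let s := hfin.toFinset
  let e : Fin s.card ≃ s := s.equivFin.symm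
  refine ⟨s.card, fun i => (e i).1, Subtype.val_injective.comp e.injective, fun q => ?_⟩
  constructor
  · intro hq
    have hqs : q ∈ s := hfin.mem_toFinset.mpr hq
    refine ⟨e.symm ⟨q, hqs⟩, ?_⟩
    simp
  · rintro ⟨i, rfl⟩
    exact hfin.mem_toFinset.mp (e i).2

end general

variable {k : Type u} [Field k] {σ : Type} [Finite σ]

attribute [local instance] MvPolynomial.gradedAlgebra

omit [Finite σ] in
/-- a proper homogeneous ideal consists of polynomials without constant term -/
theorem constantCoeff_eq_zero_of_mem {J : Ideal (MvPolynomial σ k)}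
    (hJ : J.IsHomogeneous (homogeneousSubmodule σ k)) (hJtop : J ≠ ⊤) {f : MvPolynomial σ k}
    (hf : f ∈ J) : constantCoeff f = 0 := by
  classical
  by_contra hc
  rw [constantCoeff_eq] at hc
  apply hJtop
  have h0 := hJ 0 hf
  have h1 : (DirectSum.decompose (homogeneousSubmodule σ k) f 0 : MvPolynomial σ k) =
      homogeneousComponent 0 f := decomposition.decompose'_apply f 0
  rw [h1, homogeneousComponent_zero] at h0
  rw [Ideal.eq_top_iff_one]
  have : (1 : MvPolynomial σ k) = C (coeff 0 f)⁻¹ * C (coeff 0 f) := by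
    rw [← C_mul, inv_mul_cancel₀ hc, C_1]
  rw [this]
  exact J.mul_mem_left _ h0

omit [Finite σ] in
theorem sup_span_X_ne_top {J : Ideal (MvPolynomial σ k)}
    (hJ : J.IsHomogeneous (homogeneousSubmodule σ k)) (hJtop : J ≠ ⊤) (i : σ) :
    J ⊔ Ideal.span {(X i : MvPolynomial σ k)} ≠ ⊤ := by
  intro h
  have hle : J ⊔ Ideal.span {(X i : MvPolynomial σ k)} ≤
      RingHom.ker (constantCoeff (σ := σ) (R := k)) := by
    refine sup_le (fun f hf => ?_) ?_
    · rw [RingHom.mem_ker]
      exact constantCoeff_eq_zero_of_mem hJ hJtop hf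
    · rw [Ideal.span_le, Set.singleton_subset_iff]
      change constantCoeff (X i) = 0
      simp
  rw [h, top_le_iff] at hle
  have : (1 : MvPolynomial σ k) ∈ RingHom.ker (constantCoeff (σ := σ) (R := k)) := by
    rw [hle]; trivial
  rw [RingHom.mem_ker, map_one] at this
  exact one_ne_zero this

/-- if the Hilbert polynomial vanishes, the prime contains all variables -/
theorem X_mem_of_isHP_zero {p : Ideal (MvPolynomial σ k)} [hp : p.IsPrime] (h : IsHP p 0)
    (i : σ) : (X i : MvPolynomial σ k) ∈ p := by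
  obtain ⟨m₀, h₀⟩ := h
  have h1 := h₀ m₀ le_rfl
  rw [Polynomial.eval_zero] at h1
  unfold hfn at h1
  have h2 : Module.finrank k (pc p m₀) = Module.finrank k (gr k σ m₀) := by
    have : ((Module.finrank k (gr k σ m₀) : ℕ) : ℚ) = Module.finrank k (pc p m₀) := by linarith
    exact_mod_cast this.symm
  have h3 : pc p m₀ = gr k σ m₀ :=
    Submodule.eq_of_le_of_finrank_eq inf_le_right h2
  have h4 : (X i : MvPolynomial σ k) ^ m₀ ∈ gr k σ m₀ := by
    rw [mem_homogeneousSubmodule]
    have := (isHomogeneous_X k i).pow m₀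
    rwa [one_mul] at this
  rw [← h3] at h4
  exact hp.mem_of_pow_mem m₀ h4.1

omit [Finite σ] in
/-- a prime containing all variables has a zero-dimensional quotient -/
theorem dim_eq_zero_of_X_mem {p : Ideal (MvPolynomial σ k)} [hp : p.IsPrime]
    (hX : ∀ i, (X i : MvPolynomial σ k) ∈ p) : ringKrullDim (MvPolynomial σ k ⧸ p) = 0 := by
  have hsurj : Function.Surjective ((Ideal.Quotient.mk p).comp (C : k →+* MvPolynomial σ k)) := by
    intro y
    obtain ⟨f, rfl⟩ := Ideal.Quotient.mk_surjective y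
    have key : ∃ c : k, f - C c ∈ p := by
      induction f using MvPolynomial.induction_on with
      | C a => exact ⟨a, by rw [sub_self]; exact p.zero_mem⟩
      | add f g hf hg =>
        obtain ⟨a, ha⟩ := hf
        obtain ⟨b, hb⟩ := hg
        refine ⟨a + b, ?_⟩
        have : f + g - C (a + b) = (f - C a) + (g - C b) := by rw [C_add]; ring
        rw [this]
        exact p.add_mem ha hb
      | mul_X f i _ =>
        refine ⟨0, ?_⟩
        rw [C_0, sub_zero]
        exact p.mul_mem_left _ (hX i)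
    obtain ⟨c, hc⟩ := key
    refine ⟨c, ?_⟩
    rw [RingHom.comp_apply]
    exact (Ideal.Quotient.eq.mpr hc).symm
  apply le_antisymm
  · have := ringKrullDim_le_of_surjective _ hsurj
    rwa [ringKrullDim_eq_zero_of_field] at this
  · haveI : Nontrivial (MvPolynomial σ k ⧸ p) := Ideal.Quotient.nontrivial_iff.mpr hp.ne_top
    exact ringKrullDim_nonneg_of_nontrivial

theorem isHP_zero_of_le {I J : Ideal (MvPolynomial σ k)} (h : I ≤ J) (hI : IsHP I 0) :
    IsHP J 0 := by
  obtain ⟨m₀, h₀⟩ := hI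
  refine ⟨m₀, fun m hm => ?_⟩
  have h1 := h₀ m hm
  rw [Polynomial.eval_zero] at h1 ⊢
  have h2 := hfn_anti h m
  have h3 := hfn_nonneg J m
  linarith

theorem natDegree_le_of_le {I J : Ideal (MvPolynomial σ k)} (h : I ≤ J) {P Q : Polynomial ℚ}
    (hP : IsHP I P) (hQ : IsHP J Q) : Q.natDegree ≤ P.natDegree := by
  apply Groth.Agent.Lib.Helper87.PolyGrowth.natDegree_le_of_eventually_le Q P P.natDegree
  · refine lt_of_le_of_lt Polynomial.degree_le_natDegree ?_
    exact_mod_cast Nat.lt_succ_self _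
  · obtain ⟨m₁, h₁⟩ := hQ
    obtain ⟨m₂, h₂⟩ := hP
    filter_upwards [eventually_ge_atTop m₁, eventually_ge_atTop m₂] with m hm1 hm2
    rw [h₁ m hm1, h₂ m hm2]
    exact ⟨hfn_nonneg _ m, hfn_anti h m⟩

/-- a component of top dimension -/
theorem exists_top_component (I : Ideal (MvPolynomial σ k))
    (hIh : I.IsHomogeneous (homogeneousSubmodule σ k)) (P : Polynomial ℚ) (hP : IsHP I P)
    (hP0 : P ≠ 0) :
    ∃ q ∈ I.minimalPrimes, ∃ Q : Polynomial ℚ, IsHP q Q ∧ Q ≠ 0 ∧ Q.natDegree = P.natDegree := by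
  classical
  obtain ⟨r, p, hpinj, hpmin⟩ := exists_enum I
  have hmem : ∀ i, p i ∈ I.minimalPrimes := fun i => (hpmin (p i)).mpr ⟨i, rfl⟩
  haveI : ∀ i, (p i).IsPrime := fun i => (hmem i).1.1
  have hex : ∀ i, ∃ Q : Polynomial ℚ, IsHP (p i) Q := fun i =>
    exists_isHP (p i) (isHomogeneous_of_mem_minimalPrimes hIh (hmem i))
  choose Qp hQp using hex
  have hsum := degree_eq_sum I hIh P hP r p hpinj hpmin Qp hQp
  have hne : (P.natDegree.factorial : ℚ) * P.leadingCoeff ≠ 0 := by
    apply mul_ne_zero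
    · positivity
    · exact Polynomial.leadingCoeff_ne_zero.mpr hP0
  rw [hsum] at hne
  obtain ⟨i, -, hi⟩ := Finset.exists_ne_zero_of_sum_ne_zero hne
  by_cases hdeg : (Qp i).natDegree = P.natDegree
  · rw [if_pos hdeg] at hi
    refine ⟨p i, hmem i, Qp i, hQp i, ?_, hdeg⟩
    rintro h0
    apply hi
    rw [h0, Polynomial.leadingCoeff_zero, mul_zero, zero_mul]
  · rw [if_neg hdeg] at hi
    exact absurd rfl hi

/-- **dimension of the cone over a projective variety** -/
theorem dim_prime : ∀ (t : ℕ) (p : Ideal (MvPolynomial σ k)) [p.IsPrime],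
    p.IsHomogeneous (homogeneousSubmodule σ k) → ∀ Q : Polynomial ℚ, IsHP p Q → Q ≠ 0 →
    Q.natDegree = t → ringKrullDim (MvPolynomial σ k ⧸ p) = (t : WithBot ℕ∞) + 1 := by
  intro t
  induction t using Nat.strong_induction_on with
  | _ t ih =>
  intro p hp hph Q hQ hQ0 hQt
  -- a variable outside `p`
  have hex : ∃ i, (X i : MvPolynomial σ k) ∉ p := by
    by_contra hall
    push Not at hall
    have h0 : IsHP p 0 :=
      ⟨1, fun m hm => by rw [hfn_eq_zero_of_X_mem hall hm, Polynomial.eval_zero]⟩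
    exact hQ0 (IsHP.unique hQ h0)
  obtain ⟨i, hi⟩ := hex
  have hreg : ∀ y, X i * y ∈ p → y ∈ p := fun y hy => (hp.mem_or_mem hy).resolve_left hi
  have hcut := IsHP.cut hph (isHomogeneous_X k i) (X_ne_zero i) hreg hQ
  have hI'h : (p ⊔ Ideal.span {(X i : MvPolynomial σ k)}).IsHomogeneous
      (homogeneousSubmodule σ k) := by
    refine hph.sup (Ideal.homogeneous_span _ _ ?_)
    intro z hz
    rw [Set.mem_singleton_iff] at hz
    subst hz
    exact ⟨1, isHomogeneous_X k i⟩
  rcases Nat.eq_zero_or_pos t with ht | ht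
  · -- `Q` is constant
    subst ht
    have hΔ : Δ ((1 : ℕ) : ℚ) Q = 0 := by
      rw [← Polynomial.degree_eq_bot]
      have := degree_Δ_lt 1 Q 0 hQt.le
      apply Nat.WithBot.lt_zero_iff.mp
      simpa using this
    rw [hΔ] at hcut
    have hne := sup_span_X_ne_top hph hp.ne_top i
    obtain ⟨q, hq⟩ := Ideal.nonempty_minimalPrimes hne
    haveI : q.IsPrime := hq.1.1
    have hq0 : IsHP q 0 := isHP_zero_of_le hq.1.2 hcut
    have hdim := dim_eq_zero_of_X_mem (X_mem_of_isHP_zero hq0)
    rw [dim_drop_prime (k := k) p q (X i) hi hq, hdim]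
    simp
  · -- positive degree
    obtain ⟨h1, h2⟩ := Δ_spec 1 Nat.one_pos Q (by omega)
    have hΔ0 : Δ ((1 : ℕ) : ℚ) Q ≠ 0 := by
      intro h
      rw [h, Polynomial.leadingCoeff_zero, mul_zero] at h2
      have : (Q.natDegree.factorial : ℚ) * Q.leadingCoeff ≠ 0 := by
        apply mul_ne_zero
        · positivity
        · exact Polynomial.leadingCoeff_ne_zero.mpr hQ0
      apply this
      have h3 : ((1 : ℕ) : ℚ) * ((Q.natDegree.factorial : ℚ) * Q.leadingCoeff) = 0 := h2.symm
      rwa [Nat.cast_one, one_mul] at h3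
    obtain ⟨q, hq, Q', hQ', hQ'0, hQ'deg⟩ := exists_top_component _ hI'h _ hcut hΔ0
    haveI : q.IsPrime := hq.1.1
    have hqh := isHomogeneous_of_mem_minimalPrimes hI'h hq
    have hlt : Q'.natDegree < t := by omega
    have hdim := ih _ hlt q hqh Q' hQ' hQ'0 rfl
    rw [dim_drop_prime (k := k) p q (X i) hi hq, hdim]
    have : Q'.natDegree + 1 = t := by omega
    rw [← this]
    push_cast
    rfl

/-- **Krull dimension of `R/I` is one more than the degree of the Hilbert polynomial.** -/
theorem dim_eq (I : Ideal (MvPolynomial σ k))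
    (hIh : I.IsHomogeneous (homogeneousSubmodule σ k)) (P : Polynomial ℚ) (hP0 : P ≠ 0)
    (hP : IsHP I P) :
    ringKrullDim (MvPolynomial σ k ⧸ I) = (P.natDegree : WithBot ℕ∞) + 1 := by
  apply le_antisymm
  · apply ringKrullDim_quotient_le_of_minimalPrimes
    intro q hq
    haveI : q.IsPrime := hq.1.1
    have hqh := isHomogeneous_of_mem_minimalPrimes hIh hq
    obtain ⟨Q, hQ⟩ := exists_isHP q hqh
    by_cases hQ0 : Q = 0
    · subst hQ0
      rw [dim_eq_zero_of_X_mem (X_mem_of_isHP_zero hQ)]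
      positivity
    · rw [dim_prime _ q hqh Q hQ hQ0 rfl]
      have := natDegree_le_of_le hq.1.2 hP hQ
      gcongr
  · obtain ⟨q, hq, Q, hQ, hQ0, hQdeg⟩ := exists_top_component I hIh P hP hP0
    haveI : q.IsPrime := hq.1.1
    have hqh := isHomogeneous_of_mem_minimalPrimes hIh hq
    rw [← hQdeg, ← dim_prime _ q hqh Q hQ hQ0 rfl]
    exact ringKrullDim_le_of_surjective (Ideal.Quotient.factor hq.1.2)
      (Ideal.Quotient.factor_surjective hq.1.2)

end Groth.Agent.Lib.Helper87.HilbFnG
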