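import Mathlib
import Groth.Agent.Lib.Helper87.HilbFnG
import Groth.Agent.Lib.Helper87.RegHilb
import Groth.Agent.Lib.Helper87.HSArith
import Groth.Agent.Lib.Helper29.CM
import Groth.Agent.Lib.Proj.Helper44_HomogRank

/-!
# Bezout for complete intersections of `n` hypersurfaces in `ℙⁿ`
-/

set_option autoImplicit false
set_option linter.style.haveILetI false
universe u
open MvPolynomial Filter Topology

namespace Groth.Agent.Lib.Helper87.HilbFnI

open Groth.Agent.Lib.Helper87.HilbFnA Groth.Agent.Lib.Helper87.HilbFnB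
open Groth.Agent.Lib.Helper87.HilbFnC Groth.Agent.Lib.Helper87.HilbFnD
open Groth.Agent.Lib.Helper87.HilbFnE Groth.Agent.Lib.Helper87.HilbFnF
open Groth.Agent.Lib.Helper87.HilbFnG
open Groth.Agent.Lib.Helper87.PolyDiff
open Groth.Agent.Lib.Helper73.DimFormula
open RingTheory.Sequence IsLocalRing

section general

/-- the dimension of a quotient of a localization is at most that of the quotient -/
theorem ringKrullDim_quotient_map_le {R : Type*} [CommRing R] (M : Submonoid R) (A : Type*)
    [CommRing A] [Algebra R A] [IsLocalization M A] (J : Ideal R) :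
    ringKrullDim (A ⧸ J.map (algebraMap R A)) ≤ ringKrullDim (R ⧸ J) := by
  rw [ringKrullDim_quotient, ringKrullDim_quotient]
  let g : PrimeSpectrum.zeroLocus (R := A) (J.map (algebraMap R A) : Set A) →
      PrimeSpectrum.zeroLocus (R := R) (J : Set R) := fun p =>
    ⟨PrimeSpectrum.comap (algebraMap R A) p.1, by
      have := p.2
      rw [PrimeSpectrum.mem_zeroLocus, SetLike.coe_subset_coe] at this ⊢
      exact Ideal.map_le_iff_le_comap.mp this⟩
  have hg : StrictMono g := by
    intro p q hpq
    have hle : p.1.asIdeal ≤ q.1.asIdeal := hpq.le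
    refine lt_of_le_of_ne (Ideal.comap_mono hle) ?_
    intro heq
    have h1 : (g p).1.asIdeal = (g q).1.asIdeal := congrArg (fun x => x.1.asIdeal) heq
    have h2 : p.1.asIdeal = q.1.asIdeal := by
      rw [← IsLocalization.map_under M A p.1.asIdeal, ← IsLocalization.map_under M A q.1.asIdeal]
      exact congrArg (Ideal.map (algebraMap R A)) h1
    exact hpq.ne (Subtype.ext (PrimeSpectrum.ext h2))
  exact Order.krullDim_le_of_strictMono g hg

end general

variable {k : Type u} [Field k] {σ : Type} [Finite σ]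

attribute [local instance] MvPolynomial.gradedAlgebra

/-- the irrelevant maximal ideal -/
noncomputable def irr (k : Type u) [Field k] (σ : Type) : Ideal (MvPolynomial σ k) :=
  RingHom.ker (constantCoeff (σ := σ) (R := k))

omit [Finite σ] in
theorem mem_irr {f : MvPolynomial σ k} : f ∈ irr k σ ↔ constantCoeff f = 0 := RingHom.mem_ker

instance irr_isMaximal : (irr k σ).IsMaximal :=
  RingHom.ker_isMaximal_of_surjective _ (fun c => ⟨C c, by simp⟩)

omit [Finite σ] in
theorem mem_irr_of_isHomogeneous {f : MvPolynomial σ k} {d : ℕ} (hf : f.IsHomogeneous d)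
    (hd : 1 ≤ d) : f ∈ irr k σ := by
  rw [mem_irr, constantCoeff_eq]
  apply hf.coeff_eq_zero
  simp
  omega

/-- the local ring at the vertex of the cone -/
abbrev Loc (k : Type u) [Field k] (σ : Type) : Type u := Localization.AtPrime (irr k σ)

/-- homogeneous ideals are saturated with respect to the complement of the irrelevant ideal -/
theorem mem_of_map_mem {J : Ideal (MvPolynomial σ k)}
    (hJ : J.IsHomogeneous (homogeneousSubmodule σ k)) {y : MvPolynomial σ k} {l : ℕ}
    (hy : y.IsHomogeneous l)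
    (h : algebraMap (MvPolynomial σ k) (Loc k σ) y ∈ J.map (algebraMap (MvPolynomial σ k) (Loc k σ))) :
    y ∈ J := by
  rw [IsLocalization.mem_map_algebraMap_iff (irr k σ).primeCompl] at h
  obtain ⟨⟨a, s⟩, hs⟩ := h
  rw [← map_mul, IsLocalization.eq_iff_exists (irr k σ).primeCompl] at hs
  obtain ⟨c, hc⟩ := hs
  set t : MvPolynomial σ k := c.1 * s.1 with ht
  have htm : t ∉ irr k σ := ((irr k σ).primeCompl.mul_mem c.2 s.2 : c.1 * s.1 ∈ (irr k σ).primeCompl)
  have hty : t * y ∈ J := by
    have : t * y = c.1 * (y * s.1) := by rw [ht]; ring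
    rw [this, hc]
    exact J.mul_mem_left _ a.2
  have hcol : t ∈ col J y := hty
  have htop : col J y = ⊤ := by
    by_contra hne
    apply htm
    rw [mem_irr]
    exact constantCoeff_eq_zero_of_mem (col_isHomogeneous hJ hy) hne hcol
  have h1 : (1 : MvPolynomial σ k) ∈ col J y := htop ▸ Submodule.mem_top
  rw [mem_col, one_mul] at h1
  exact h1

/-- regularity modulo a homogeneous ideal can be tested at the vertex -/
theorem reg_of_local {J : Ideal (MvPolynomial σ k)}
    (hJ : J.IsHomogeneous (homogeneousSubmodule σ k)) {g : MvPolynomial σ k} {l : ℕ}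
    (hg : g.IsHomogeneous l)
    (hloc : ∀ z : Loc k σ, algebraMap (MvPolynomial σ k) (Loc k σ) g * z ∈
      J.map (algebraMap (MvPolynomial σ k) (Loc k σ)) →
      z ∈ J.map (algebraMap (MvPolynomial σ k) (Loc k σ))) :
    ∀ y, g * y ∈ J → y ∈ J := by
  intro y hy
  have hcomp : ∀ j, homogeneousComponent j y ∈ J := by
    intro j
    have h1 : g * homogeneousComponent j y ∈ J := by
      rw [← homogeneousComponent_mul hg y j]
      exact homogeneousComponent_mem_of_mem hJ hy _
    apply mem_of_map_mem hJ (homogeneousComponent_isHomogeneous j y)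
    apply hloc
    rw [← map_mul]
    exact Ideal.mem_map_of_mem _ h1
  rw [← sum_homogeneousComponent y]
  exact J.sum_mem fun j _ => hcomp j

section local_regular

variable (n : ℕ)

theorem ringKrullDim_loc : ringKrullDim (Loc k (Fin (n + 1))) = ((n + 1 : ℕ) : WithBot ℕ∞) := by
  rw [IsLocalization.AtPrime.ringKrullDim_eq_height (irr k (Fin (n + 1))) (Loc k (Fin (n + 1)))]
  obtain ⟨N, -, hN, hmax, -⟩ := exists_trdeg_eq_ringKrullDim k (MvPolynomial (Fin (n + 1)) k)
  rw [MvPolynomial.ringKrullDim_of_isNoetherianRing, ringKrullDim_eq_zero_of_field, zero_add,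
    Nat.card_eq_fintype_card, Fintype.card_fin] at hN
  have hN' : n + 1 = N := by exact_mod_cast hN
  rw [hmax (irr k (Fin (n + 1))), ← hN']
  rfl

/-- the sequence is regular at the vertex -/
theorem local_weaklyRegular (f : Fin n → MvPolynomial (Fin (n + 1)) k)
    (hfm : ∀ i, f i ∈ irr k (Fin (n + 1)))
    (hdim : ringKrullDim (MvPolynomial (Fin (n + 1)) k ⧸ Ideal.ofList (List.ofFn f)) ≤ 1) :
    IsWeaklyRegular (Loc k (Fin (n + 1)))
      ((List.ofFn f).map (algebraMap (MvPolynomial (Fin (n + 1)) k) (Loc k (Fin (n + 1))))) := by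
  let A := Loc k (Fin (n + 1))
  set xs := (List.ofFn f).map (algebraMap (MvPolynomial (Fin (n + 1)) k) A) with hxs
  have hCMr : LocCoh.IsCohenMacaulayLocalRing A :=
    Groth.Agent.Lib.Helper87.RegHilb.isCM_of_regular A
  have hCM : LocCoh.IsCohenMacaulayModule A A := hCMr.supportDim_eq_depth
  have hmem : ∀ x ∈ xs, x ∈ maximalIdeal A := by
    intro x hx
    rw [hxs, List.mem_map] at hx
    obtain ⟨y, hy, rfl⟩ := hx
    rw [List.mem_ofFn] at hy
    obtain ⟨i, rfl⟩ := hy
    exact (IsLocalization.AtPrime.to_map_mem_maximal_iff A (irr k (Fin (n + 1))) (f i)).mpr (hfm i)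
  have key := (Groth.Agent.Lib.Helper29.CMLib.isWeaklyRegular_iff_of_isCM A xs A hCM hmem).1
  rw [key]
  have hlen : xs.length = n := by rw [hxs, List.length_map, List.length_ofFn]
  have hself : Module.supportDim A A = ((n + 1 : ℕ) : WithBot ℕ∞) := by
    rw [Module.supportDim_self_eq_ringKrullDim]
    exact ringKrullDim_loc n
  apply le_antisymm
  · -- the quotient has dimension at most one
    have e : (Ideal.ofList xs • (⊤ : Submodule A A)) = Ideal.ofList xs := by
      rw [smul_eq_mul, Ideal.mul_top]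
    have h1 : Module.supportDim A (A ⧸ (Ideal.ofList xs • (⊤ : Submodule A A))) =
        Module.supportDim A (A ⧸ Ideal.ofList xs) :=
      Module.supportDim_eq_of_equiv (Submodule.quotEquivOfEq _ _ e)
    rw [h1, Module.supportDim_quotient_eq_ringKrullDim, hself, hlen]
    have h2 : Ideal.ofList xs = (Ideal.ofList (List.ofFn f)).map
        (algebraMap (MvPolynomial (Fin (n + 1)) k) A) := by
      rw [Ideal.map_ofList]
    rw [h2]
    have h3 := ringKrullDim_quotient_map_le (irr k (Fin (n + 1))).primeCompl A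
      (Ideal.ofList (List.ofFn f))
    have h4 := h3.trans hdim
    calc ringKrullDim (A ⧸ (Ideal.ofList (List.ofFn f)).map
          (algebraMap (MvPolynomial (Fin (n + 1)) k) A)) + (n : WithBot ℕ∞)
        ≤ 1 + (n : WithBot ℕ∞) := by gcongr
      _ = ((n + 1 : ℕ) : WithBot ℕ∞) := by push_cast; ring
  · have := Groth.Agent.Lib.Helper29.CMLib.supportDim_le_quotient_add_length A xs A hmem
    exact this

end local_regular

section main

open Groth.Agent.Lib.Helper87.HSArith

variable (n : ℕ)

theorem isHP_bot : IsHP (⊥ : Ideal (MvPolynomial (Fin (n + 1)) k)) (Bpoly n) := by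
  refine ⟨0, fun m _ => ?_⟩
  rw [Bpoly_eval, B_apply]
  unfold hfn
  have h1 : pc (⊥ : Ideal (MvPolynomial (Fin (n + 1)) k)) m = ⊥ := by
    unfold pc
    rw [Submodule.restrictScalars_bot, bot_inf_eq]
  rw [h1, finrank_bot, Nat.cast_zero, sub_zero]
  have h2 := Groth.Agent.Lib.Proj.HomogRank.finrank_homogeneousSubmodule_fin n k m
  rw [h2]
  push_cast
  rfl

theorem Bpoly_lc : (n.factorial : ℚ) * (Bpoly n).leadingCoeff = 1 := by
  have hk : (n.factorial : ℚ) ≠ 0 := by exact_mod_cast n.factorial_ne_zero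
  unfold Bpoly
  rw [Polynomial.leadingCoeff_mul, Polynomial.leadingCoeff_C]
  have h1 : (Polynomial.X + 1 : Polynomial ℚ).natDegree = 1 := Polynomial.natDegree_X_add_C (1 : ℚ)
  rw [Polynomial.leadingCoeff_comp (by rw [h1]; exact one_ne_zero)]
  have h2 : (Polynomial.X + 1 : Polynomial ℚ).leadingCoeff = 1 := by
    have := Polynomial.leadingCoeff_X_add_C (1 : ℚ)
    simpa using this
  rw [h2, one_pow, mul_one, (monic_ascPochhammer ℚ n).leadingCoeff, mul_one, mul_inv_cancel₀ hk]

omit [Finite σ] in
theorem ofList_isHomogeneous (l : List (MvPolynomial σ k))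
    (h : ∀ x ∈ l, ∃ e, x.IsHomogeneous e) :
    (Ideal.ofList l).IsHomogeneous (homogeneousSubmodule σ k) := by
  refine Ideal.homogeneous_span _ _ ?_
  intro x hx
  obtain ⟨e, he⟩ := h x hx
  exact ⟨e, he⟩

omit [Finite σ] in
theorem ofList_le_irr (l : List (MvPolynomial σ k)) (h : ∀ x ∈ l, x ∈ irr k σ) :
    Ideal.ofList l ≤ irr k σ := by
  rw [Ideal.ofList, Ideal.span_le]
  exact h

/-- the chain of Hilbert polynomials of `(f₁, …, fᵢ)` -/
theorem chain (f : Fin n → MvPolynomial (Fin (n + 1)) k) (d : Fin n → ℕ) (hd : ∀ i, 1 ≤ d i)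
    (hf : ∀ i, (f i).IsHomogeneous (d i))
    (hW : IsWeaklyRegular (Loc k (Fin (n + 1)))
      ((List.ofFn f).map (algebraMap (MvPolynomial (Fin (n + 1)) k) (Loc k (Fin (n + 1)))))) :
    ∀ i, i ≤ n → ∃ P : Polynomial ℚ, IsHP (Ideal.ofList ((List.ofFn f).take i)) P ∧
      P.natDegree + i = n ∧
      (P.natDegree.factorial : ℚ) * P.leadingCoeff = (((List.ofFn d).take i).prod : ℕ) := by
  intro i
  induction i with
  | zero =>
    intro _
    refine ⟨Bpoly n, ?_, ?_, ?_⟩
    · rw [List.take_zero, Ideal.ofList_nil]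
      exact isHP_bot n
    · rw [Bpoly_natDegree, add_zero]
    · rw [Bpoly_natDegree, Bpoly_lc, List.take_zero, List.prod_nil, Nat.cast_one]
  | succ i ih =>
    intro hi
    obtain ⟨P, hP, hdeg, hlc⟩ := ih (by omega)
    have hiL : i < (List.ofFn f).length := by rw [List.length_ofFn]; omega
    have hiD : i < (List.ofFn d).length := by rw [List.length_ofFn]; omega
    set g := f ⟨i, by omega⟩ with hg
    have hgi : (List.ofFn f)[i] = g := by rw [List.getElem_ofFn]
    have hdi : (List.ofFn d)[i] = d ⟨i, by omega⟩ := by rw [List.getElem_ofFn]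
    have htake : (List.ofFn f).take (i + 1) = (List.ofFn f).take i ++ [g] := by
      rw [List.take_succ_eq_append_getElem hiL, hgi]
    have htakeD : (List.ofFn d).take (i + 1) = (List.ofFn d).take i ++ [d ⟨i, by omega⟩] := by
      rw [List.take_succ_eq_append_getElem hiD, hdi]
    have hmemL : ∀ x ∈ (List.ofFn f).take i, ∃ j, x = f j := by
      intro x hx
      have := List.mem_of_mem_take hx
      rw [List.mem_ofFn] at this
      obtain ⟨j, rfl⟩ := this
      exact ⟨j, rfl⟩
    have hJh : (Ideal.ofList ((List.ofFn f).take i)).IsHomogeneous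
        (homogeneousSubmodule (Fin (n + 1)) k) := by
      apply ofList_isHomogeneous
      intro x hx
      obtain ⟨j, rfl⟩ := hmemL x hx
      exact ⟨d j, hf j⟩
    have hJle : Ideal.ofList ((List.ofFn f).take i) ≤ irr k (Fin (n + 1)) := by
      apply ofList_le_irr
      intro x hx
      obtain ⟨j, rfl⟩ := hmemL x hx
      exact mem_irr_of_isHomogeneous (hf j) (hd j)
    have hgh : g.IsHomogeneous (d ⟨i, by omega⟩) := hf _
    -- regularity at the vertex
    have hreg1 := (isWeaklyRegular_iff _ _).mp hW i (by rw [List.length_map]; exact hiL)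
    rw [List.getElem_map, hgi, ← List.map_take, ← Ideal.map_ofList] at hreg1
    have hloc : ∀ z : Loc k (Fin (n + 1)),
        algebraMap (MvPolynomial (Fin (n + 1)) k) (Loc k (Fin (n + 1))) g * z ∈
          (Ideal.ofList ((List.ofFn f).take i)).map
            (algebraMap (MvPolynomial (Fin (n + 1)) k) (Loc k (Fin (n + 1)))) →
        z ∈ (Ideal.ofList ((List.ofFn f).take i)).map
            (algebraMap (MvPolynomial (Fin (n + 1)) k) (Loc k (Fin (n + 1)))) := by
      intro z hz
      have e : ((Ideal.ofList ((List.ofFn f).take i)).map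
            (algebraMap (MvPolynomial (Fin (n + 1)) k) (Loc k (Fin (n + 1)))) •
          (⊤ : Submodule (Loc k (Fin (n + 1))) (Loc k (Fin (n + 1))))) =
          (Ideal.ofList ((List.ofFn f).take i)).map
            (algebraMap (MvPolynomial (Fin (n + 1)) k) (Loc k (Fin (n + 1)))) := by
        rw [smul_eq_mul, Ideal.mul_top]
      have h0 : (algebraMap (MvPolynomial (Fin (n + 1)) k) (Loc k (Fin (n + 1))) g) •
          (Submodule.Quotient.mk (p := ((Ideal.ofList ((List.ofFn f).take i)).map
            (algebraMap (MvPolynomial (Fin (n + 1)) k) (Loc k (Fin (n + 1)))) •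
          (⊤ : Submodule (Loc k (Fin (n + 1))) (Loc k (Fin (n + 1)))))) z) =
          (algebraMap (MvPolynomial (Fin (n + 1)) k) (Loc k (Fin (n + 1))) g) •
          (Submodule.Quotient.mk (p := ((Ideal.ofList ((List.ofFn f).take i)).map
            (algebraMap (MvPolynomial (Fin (n + 1)) k) (Loc k (Fin (n + 1)))) •
          (⊤ : Submodule (Loc k (Fin (n + 1))) (Loc k (Fin (n + 1)))))) 0) := by
        rw [← Submodule.Quotient.mk_smul, ← Submodule.Quotient.mk_smul, smul_zero,
          Submodule.Quotient.mk_zero, Submodule.Quotient.mk_eq_zero, e, smul_eq_mul]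
        exact hz
      have h1 := hreg1 h0
      rw [Submodule.Quotient.mk_zero, Submodule.Quotient.mk_eq_zero, e] at h1
      exact h1
    have hreg := reg_of_local hJh hgh hloc
    have hg0 : g ≠ 0 := by
      intro h0
      have : (1 : MvPolynomial (Fin (n + 1)) k) ∈ Ideal.ofList ((List.ofFn f).take i) := by
        apply hreg
        rw [h0, zero_mul]
        exact Ideal.zero_mem _
      have h1 := hJle this
      rw [mem_irr, map_one] at h1
      exact one_ne_zero h1
    have hcut := IsHP.cut hJh hgh hg0 hreg hP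
    obtain ⟨h1, h2⟩ := Δ_spec (d ⟨i, by omega⟩) (hd _) P (by omega)
    refine ⟨Δ ((d ⟨i, by omega⟩ : ℕ) : ℚ) P, ?_, by omega, ?_⟩
    · rw [htake, Ideal.ofList_append, Ideal.ofList_singleton]
      exact hcut
    · rw [h2, hlc, htakeD, List.prod_append, List.prod_singleton]
      push_cast
      ring

/-- **Bezout**: the Hilbert function of a complete intersection of `n` hypersurfaces in `ℙⁿ` -/
theorem bezout_ci (f : Fin n → MvPolynomial (Fin (n + 1)) k) (d : Fin n → ℕ) (hd : ∀ i, 1 ≤ d i)
    (hf : ∀ i, (f i).IsHomogeneous (d i))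
    (hdim : ringKrullDim (MvPolynomial (Fin (n + 1)) k ⧸ Ideal.span (Set.range f)) = 1) :
    ∃ m₀ : ℕ, ∀ m : ℕ, m₀ ≤ m → hfn (Ideal.span (Set.range f)) m = ((∏ i : Fin n, d i : ℕ) : ℚ) := by
  have hspan : Ideal.ofList (List.ofFn f) = Ideal.span (Set.range f) := by
    rw [Ideal.ofList]
    congr 1
    ext x
    simp [List.mem_ofFn]
  have hW := local_weaklyRegular n f (fun i => mem_irr_of_isHomogeneous (hf i) (hd i))
    (by rw [hspan, hdim])
  obtain ⟨P, hP, hdeg, hlc⟩ := chain n f d hd hf hW n le_rfl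
  have htake : (List.ofFn f).take n = List.ofFn f := by
    rw [List.take_of_length_le]
    rw [List.length_ofFn]
  have htakeD : (List.ofFn d).take n = List.ofFn d := by
    rw [List.take_of_length_le]
    rw [List.length_ofFn]
  rw [htake, hspan] at hP
  rw [htakeD, List.prod_ofFn] at hlc
  have h0 : P.natDegree = 0 := by omega
  rw [h0, Nat.factorial_zero, Nat.cast_one, one_mul] at hlc
  obtain ⟨m₀, hm₀⟩ := hP
  refine ⟨m₀, fun m hm => ?_⟩
  rw [← hm₀ m hm, Polynomial.eq_C_of_natDegree_eq_zero h0, Polynomial.eval_C, ← hlc,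
    Polynomial.leadingCoeff, h0]

end main

end Groth.Agent.Lib.Helper87.HilbFnI
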