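import Groth.Agent.Lib.Helper87.GrHtB

/-!
# The coaction `R → R[ι]` of a graded ring and the graded height formula
-/

set_option autoImplicit false
universe u
open AddMonoidAlgebra DirectSum

namespace Groth.Agent.Lib.Helper87.GrHtC

open Groth.Agent.Lib.Helper87.GrHtA Groth.Agent.Lib.Helper87.GrHtB

variable {ι : Type} [AddCommGroup ι] [DecidableEq ι]
variable {R : Type u} [CommRing R] (𝒜 : ι → AddSubgroup R) [GradedRing 𝒜]

/-- the coaction `x ↦ ∑ x_i X^i` -/
noncomputable def coact : R →+* AddMonoidAlgebra R ι :=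
  (DirectSum.toSemiring (fun i => (AddMonoidAlgebra.singleAddHom i).comp (𝒜 i).subtype)
    (by
      change single (0 : ι) (1 : R) = 1
      rfl)
    (by
      intro i j ai aj
      change single (i + j) ((ai : R) * (aj : R)) = single i (ai : R) * single j (aj : R)
      rw [single_mul_single])).comp
    (DirectSum.decomposeRingEquiv 𝒜).toRingHom

variable {𝒜}

theorem coact_of_mem {i : ι} {x : R} (hx : x ∈ 𝒜 i) : coact 𝒜 x = single i x := by
  unfold coact
  rw [RingHom.comp_apply]
  change (DirectSum.toSemiring _ _ _) (DirectSum.decompose 𝒜 x) = _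
  rw [DirectSum.decompose_of_mem 𝒜 hx, DirectSum.toSemiring_of]
  rfl

theorem coeff_coact (x : R) (i : ι) : (coact 𝒜 x).coeff i = (DirectSum.decompose 𝒜 x i : R) := by
  induction x using DirectSum.Decomposition.inductionOn 𝒜 with
  | zero => simp
  | homogeneous x =>
    rename_i j
    rw [coact_of_mem x.2, coeff_single, Finsupp.single_apply]
    split_ifs with h
    · subst h
      rw [DirectSum.decompose_of_mem_same 𝒜 x.2]
    · rw [DirectSum.decompose_of_mem_ne 𝒜 x.2 h]
  | add x y hx hy =>
    rw [map_add, coeff_add, Finsupp.add_apply, hx, hy, DirectSum.decompose_add,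
      DirectSum.add_apply, AddSubgroup.coe_add]


theorem mem_core_iff (p : Ideal R) (x : R) :
    x ∈ (p.homogeneousCore 𝒜).toIdeal ↔ ∀ i, (DirectSum.decompose 𝒜 x i : R) ∈ p := by
  classical
  constructor
  · intro hx i
    exact Ideal.toIdeal_homogeneousCore_le 𝒜 p ((p.homogeneousCore 𝒜).isHomogeneous i hx)
  · intro h
    rw [← DirectSum.sum_support_decompose 𝒜 x]
    refine Ideal.sum_mem _ fun i _ => ?_
    exact Ideal.mem_homogeneousCore_of_homogeneous_of_mem ⟨i, SetLike.coe_mem _⟩ (h i)

theorem comap_coact_coeffIdeal (p : Ideal R) :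
    (coeffIdeal ι p).comap (coact 𝒜) = (p.homogeneousCore 𝒜).toIdeal := by
  ext x
  rw [Ideal.mem_comap, mem_coeffIdeal, mem_core_iff]
  simp only [coeff_coact]

theorem map_coact_eq {P : Ideal R} (hP : P.IsHomogeneous 𝒜) :
    P.map (coact 𝒜) = coeffIdeal ι P := by
  classical
  apply le_antisymm
  · rw [Ideal.map_le_iff_le_comap]
    intro x hx
    rw [Ideal.mem_comap, mem_coeffIdeal]
    intro i
    rw [coeff_coact]
    exact hP i hx
  · intro f hf
    rw [← sum_coeff_single f]
    refine Ideal.sum_mem _ fun i _ => ?_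
    have hfi : f.coeff i ∈ P := hf i
    have key : ∀ r ∈ P, single i r ∈ P.map (coact 𝒜) := by
      intro r hr
      have h1 : single i r = ∑ j ∈ (DirectSum.decompose 𝒜 r).support,
          single i (DirectSum.decompose 𝒜 r j : R) := by
        conv_lhs => rw [← DirectSum.sum_support_decompose 𝒜 r]
        exact map_sum (singleAddHom i) _ _
      rw [h1]
      refine Ideal.sum_mem _ fun j _ => ?_
      have h2 : single i (DirectSum.decompose 𝒜 r j : R) =
          single (i - j) (1 : R) * coact 𝒜 (DirectSum.decompose 𝒜 r j : R) := by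
        rw [coact_of_mem (SetLike.coe_mem _), single_mul_single, sub_add_cancel, one_mul]
      rw [h2]
      exact Ideal.mul_mem_left _ _ (Ideal.mem_map_of_mem _ (hP j hr))
    exact key _ hfi


section main

variable [Module.Free ℤ ι] [Module.Finite ℤ ι] [IsNoetherianRing R]

omit [IsNoetherianRing R] in
theorem core_isPrime (p : Ideal R) [hp : p.IsPrime] : (p.homogeneousCore 𝒜).toIdeal.IsPrime := by
  rw [← comap_coact_coeffIdeal]
  have := coeffIdeal_isPrime (ι := ι) p
  exact Ideal.comap_isPrime _ _

theorem height_le (p : Ideal R) [hp : p.IsPrime] :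
    p.height ≤ (p.homogeneousCore 𝒜).toIdeal.height +
      (p.map (Ideal.Quotient.mk (p.homogeneousCore 𝒜).toIdeal)).height := by
  have hN : IsNoetherianRing (AddMonoidAlgebra R ι) := isNoetherianRing
  have hpB : (coeffIdeal ι p).IsPrime := coeffIdeal_isPrime p
  have hP : (p.homogeneousCore 𝒜).toIdeal.IsPrime := core_isPrime p
  -- (A)
  have hA : p.height ≤ (coeffIdeal ι p).height := by
    haveI : (coeffIdeal ι p).LiesOver p := ⟨(comap_coeffIdeal p).symm⟩
    rw [Ideal.height_eq_height_add_of_liesOver_of_hasGoingDown p (coeffIdeal ι p)]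
    exact le_self_add
  -- (B)
  have hB := height_le_of_comap (coact 𝒜) (coeffIdeal ι p) (p.homogeneousCore 𝒜).toIdeal
    (comap_coact_coeffIdeal p)
  rw [map_coact_eq (p.homogeneousCore 𝒜).isHomogeneous,
    ← map_algebraMap_eq (p.homogeneousCore 𝒜).toIdeal] at hB
  -- (C)
  have hC := height_map_quotient_le (S := AddMonoidAlgebra R ι) (p.homogeneousCore 𝒜).toIdeal p
    (Ideal.toIdeal_homogeneousCore_le 𝒜 p) (by rw [map_algebraMap_eq]; exact hpB)
    (by rw [map_algebraMap_eq]; exact comap_coeffIdeal p)
  rw [map_algebraMap_eq p] at hC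
  exact hA.trans (hB.trans (add_le_add_right hC _))

theorem height_eq (p : Ideal R) [hp : p.IsPrime] :
    p.height = (p.homogeneousCore 𝒜).toIdeal.height +
      (p.map (Ideal.Quotient.mk (p.homogeneousCore 𝒜).toIdeal)).height := by
  have hP : (p.homogeneousCore 𝒜).toIdeal.IsPrime := core_isPrime p
  exact le_antisymm (height_le p)
    (height_add_height_quotient_le _ p (Ideal.toIdeal_homogeneousCore_le 𝒜 p))

end main

end Groth.Agent.Lib.Helper87.GrHtC
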