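import Mathlib

/-!
# The quotient of a graded ring by a homogeneous ideal is graded
-/

set_option autoImplicit false
universe u
open DirectSum

namespace Groth.Agent.Lib.Helper87.GrQuot

variable {ι : Type} [AddCommGroup ι] [DecidableEq ι]
variable {R : Type u} [CommRing R] (𝒜 : ι → AddSubgroup R) [GradedRing 𝒜] (I : Ideal R)

/-- pieces of the quotient: images of the pieces -/
def qpiece (g : ι) : AddSubgroup (R ⧸ I) := (𝒜 g).map (Ideal.Quotient.mk I).toAddMonoidHom

theorem mk_mem_qpiece {g : ι} {y : R} (hy : y ∈ 𝒜 g) : Ideal.Quotient.mk I y ∈ qpiece 𝒜 I g :=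
  ⟨y, hy, rfl⟩

/-- restriction of `mk` to pieces -/
def mkPiece (g : ι) : 𝒜 g →+ qpiece 𝒜 I g where
  toFun y := ⟨Ideal.Quotient.mk I y.1, mk_mem_qpiece 𝒜 I y.2⟩
  map_zero' := by ext; simp
  map_add' a b := by ext; simp

/-- `R → ⨁ (R/I)_g` -/
noncomputable def preDecomp : R →+ ⨁ g, qpiece 𝒜 I g :=
  (DirectSum.map (mkPiece 𝒜 I)).comp (DirectSum.decomposeAddEquiv 𝒜).toAddMonoidHom

theorem preDecomp_of_mem {g : ι} {y : R} (hy : y ∈ 𝒜 g) :
    preDecomp 𝒜 I y =
      DirectSum.of (fun g => qpiece 𝒜 I g) g ⟨Ideal.Quotient.mk I y, mk_mem_qpiece 𝒜 I hy⟩ := by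
  unfold preDecomp
  rw [AddMonoidHom.comp_apply]
  change DirectSum.map _ (DirectSum.decompose 𝒜 y) = _
  rw [DirectSum.decompose_of_mem 𝒜 hy, DirectSum.map_of]
  rfl

theorem preDecomp_eq_zero (hI : I.IsHomogeneous 𝒜) {x : R} (hx : x ∈ I) :
    preDecomp 𝒜 I x = 0 := by
  classical
  rw [← DirectSum.sum_support_decompose 𝒜 x, map_sum]
  apply Finset.sum_eq_zero
  intro g _
  rw [preDecomp_of_mem 𝒜 I (SetLike.coe_mem _)]
  have : Ideal.Quotient.mk I (DirectSum.decompose 𝒜 x g : R) = 0 :=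
    Ideal.Quotient.eq_zero_iff_mem.mpr (hI g hx)
  have h2 : (⟨Ideal.Quotient.mk I (DirectSum.decompose 𝒜 x g : R),
      mk_mem_qpiece 𝒜 I (SetLike.coe_mem _)⟩ : qpiece 𝒜 I g) = 0 := Subtype.ext this
  rw [h2, map_zero]

/-- decomposition of the quotient -/
noncomputable def qDecomp (hI : I.IsHomogeneous 𝒜) : (R ⧸ I) →+ ⨁ g, qpiece 𝒜 I g :=
  QuotientAddGroup.lift I.toAddSubgroup (preDecomp 𝒜 I) (fun _ hx => preDecomp_eq_zero 𝒜 I hI hx)

theorem qDecomp_mk (hI : I.IsHomogeneous 𝒜) (x : R) :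
    qDecomp 𝒜 I hI (Ideal.Quotient.mk I x) = preDecomp 𝒜 I x := rfl

/-- The decomposition instance on the quotient by a homogeneous ideal. -/
@[reducible] noncomputable def quotDecomposition (hI : I.IsHomogeneous 𝒜) :
    DirectSum.Decomposition (qpiece 𝒜 I) :=
  DirectSum.Decomposition.ofAddHom (qpiece 𝒜 I) (qDecomp 𝒜 I hI)
    (by
      ext x
      obtain ⟨x, rfl⟩ := Ideal.Quotient.mk_surjective x
      rw [AddMonoidHom.comp_apply, qDecomp_mk, AddMonoidHom.id_apply]
      induction x using DirectSum.Decomposition.inductionOn 𝒜 with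
      | zero => simp
      | @homogeneous g y =>
        obtain ⟨y, hy⟩ := y
        rw [preDecomp_of_mem 𝒜 I hy, DirectSum.coeAddMonoidHom_of]
      | add y y' hy hy' => rw [map_add, map_add, hy, hy', map_add])
    (by
      apply DirectSum.addHom_ext
      intro g x
      obtain ⟨x, y, hy, rfl⟩ := x
      rw [AddMonoidHom.comp_apply, DirectSum.coeAddMonoidHom_of]
      change qDecomp 𝒜 I hI (Ideal.Quotient.mk I y) = _
      rw [qDecomp_mk, preDecomp_of_mem 𝒜 I hy]
      rfl)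

instance quotGradedMonoid : SetLike.GradedMonoid (qpiece 𝒜 I) where
  one_mem := ⟨1, SetLike.GradedOne.one_mem, map_one (Ideal.Quotient.mk I)⟩
  mul_mem := by
    rintro i j _ _ ⟨a, ha, rfl⟩ ⟨b, hb, rfl⟩
    exact ⟨a * b, SetLike.GradedMul.mul_mem ha hb, map_mul (Ideal.Quotient.mk I) _ _⟩

/-- The graded ring structure on the quotient by a homogeneous ideal. -/
@[reducible] noncomputable def quotGradedRing (hI : I.IsHomogeneous 𝒜) :
    GradedRing (qpiece 𝒜 I) :=
  { quotGradedMonoid 𝒜 I, quotDecomposition 𝒜 I hI with }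

theorem decompose_mk (hI : I.IsHomogeneous 𝒜) (x : R) (g : ι) :
    letI := quotGradedRing 𝒜 I hI
    (DirectSum.decompose (qpiece 𝒜 I) (Ideal.Quotient.mk I x) g : R ⧸ I) =
      Ideal.Quotient.mk I (DirectSum.decompose 𝒜 x g : R) := by
  letI := quotGradedRing 𝒜 I hI
  change ((qDecomp 𝒜 I hI (Ideal.Quotient.mk I x)) g : R ⧸ I) = _
  rw [qDecomp_mk]
  induction x using DirectSum.Decomposition.inductionOn 𝒜 with
  | zero => simp
  | @homogeneous j y =>
    obtain ⟨y, hy⟩ := y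
    rw [preDecomp_of_mem 𝒜 I hy]
    by_cases h : j = g
    · subst h
      rw [DirectSum.of_eq_same, DirectSum.decompose_of_mem_same 𝒜 hy]
    · rw [DirectSum.of_eq_of_ne _ _ _ (Ne.symm h), DirectSum.decompose_of_mem_ne 𝒜 hy h]
      simp
  | add y y' hy hy' =>
    rw [map_add, DirectSum.add_apply, AddSubgroup.coe_add, hy, hy', DirectSum.decompose_add,
      DirectSum.add_apply, AddSubgroup.coe_add, map_add]

end Groth.Agent.Lib.Helper87.GrQuot
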