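import Mathlib

/-!
# Height inequalities: general lemmas
-/

set_option autoImplicit false
universe u

namespace Groth.Agent.Lib.Helper87.GrHtA

theorem height_le_of_comap {R S : Type*} [CommRing R] [IsNoetherianRing R] [CommRing S]
    (f : R →+* S) [IsNoetherianRing S] (Q : Ideal S) [Q.IsPrime] (P : Ideal R) [P.IsPrime]
    (h : Q.comap f = P) :
    Q.height ≤ P.height + (Q.map (Ideal.Quotient.mk (P.map f))).height := by
  letI : Algebra R S := f.toAlgebra
  haveI : Q.LiesOver P := ⟨h.symm⟩
  exact Ideal.height_le_height_add_of_liesOver P Q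

theorem height_head_add_length_le {α : Type*} [Preorder α] (l : LTSeries α) :
    Order.height l.head + l.length ≤ Order.height l.last := by
  have : ∀ i : Fin (l.length + 1), Order.height l.head + ((i : ℕ) : ℕ∞) ≤ Order.height (l i) := by
    intro i
    induction i using Fin.induction with
    | zero => simp [RelSeries.head]
    | succ i ih =>
      have h1 := Order.height_add_one_le (l.step i)
      calc Order.height l.head + ((i.succ : ℕ) : ℕ∞)
          = (Order.height l.head + ((i.castSucc : ℕ) : ℕ∞)) + 1 := by
            rw [Fin.val_succ, Fin.val_castSucc]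
            push_cast
            rw [add_assoc]
        _ ≤ Order.height (l i.castSucc) + 1 := by gcongr
        _ ≤ _ := h1
  have h2 := this (Fin.last _)
  rwa [Fin.val_last] at h2

theorem height_add_height_quotient_le {R : Type*} [CommRing R] [IsNoetherianRing R]
    (P p : Ideal R) [hP : P.IsPrime]
    [hp : p.IsPrime] (hle : P ≤ p) :
    P.height + (p.map (Ideal.Quotient.mk P)).height ≤ p.height := by
  have hker : RingHom.ker (Ideal.Quotient.mk P) ≤ p := by rwa [Ideal.mk_ker]
  haveI hq : (p.map (Ideal.Quotient.mk P)).IsPrime :=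
    Ideal.map_isPrime_of_surjective Ideal.Quotient.mk_surjective hker
  obtain ⟨lq, hlq, hlenq⟩ := (p.map (Ideal.Quotient.mk P)).exists_ltSeries_length_eq_height
  let l' : LTSeries (PrimeSpectrum R) :=
    lq.map (PrimeSpectrum.comap (Ideal.Quotient.mk P))
      (RingHom.strictMono_comap_of_surjective Ideal.Quotient.mk_surjective)
  have h1 := height_head_add_length_le l'
  have hlast : l'.last = ⟨p, hp⟩ := by
    simp only [l', LTSeries.last_map, hlq]
    ext1
    change Ideal.comap (Ideal.Quotient.mk P) (p.map (Ideal.Quotient.mk P)) = p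
    rw [Ideal.comap_map_of_surjective _ Ideal.Quotient.mk_surjective, ← RingHom.ker_eq_comap_bot]
    exact sup_eq_left.mpr hker
  have hhead : (⟨P, hP⟩ : PrimeSpectrum R) ≤ l'.head := by
    simp only [l', LTSeries.head_map]
    change P ≤ Ideal.comap (Ideal.Quotient.mk P) lq.head.asIdeal
    intro x hx
    rw [Ideal.mem_comap, Ideal.Quotient.eq_zero_iff_mem.mpr hx]
    exact Ideal.zero_mem _
  have h2 : Order.height (⟨P, hP⟩ : PrimeSpectrum R) ≤ Order.height l'.head :=
    Order.height_mono hhead
  rw [hlast] at h1
  rw [show P.height = Order.height (⟨P, hP⟩ : PrimeSpectrum R) from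
      PrimeSpectrum.height_eq_orderHeight ⟨P, hP⟩,
    show p.height = Order.height (⟨p, hp⟩ : PrimeSpectrum R) from
      PrimeSpectrum.height_eq_orderHeight ⟨p, hp⟩, ← hlenq]
  have h3 : l'.length = lq.length := by simp [l']
  rw [h3] at h1
  exact (add_le_add_left h2 _).trans h1


/-- the relative height of an extended prime does not increase -/
theorem height_map_quotient_le {R S : Type*} [CommRing R] [IsNoetherianRing R] [CommRing S]
    [IsNoetherianRing S] [Algebra R S] (P p : Ideal R) (hPp : P ≤ p) [hp : p.IsPrime]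
    (hprime : (p.map (algebraMap R S)).IsPrime)
    (hcomap : (p.map (algebraMap R S)).comap (algebraMap R S) = p) :
    ((p.map (algebraMap R S)).map (Ideal.Quotient.mk (P.map (algebraMap R S)))).height ≤
      (p.map (Ideal.Quotient.mk P)).height := by
  have hker : RingHom.ker (Ideal.Quotient.mk P) ≤ p := by rwa [Ideal.mk_ker]
  haveI hq : (p.map (Ideal.Quotient.mk P)).IsPrime :=
    Ideal.map_isPrime_of_surjective Ideal.Quotient.mk_surjective hker
  have hPS : P.map (algebraMap R S) ≤ p.map (algebraMap R S) := Ideal.map_mono hPp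
  have hker' : RingHom.ker (Ideal.Quotient.mk (P.map (algebraMap R S))) ≤ p.map (algebraMap R S) := by
    rwa [Ideal.mk_ker]
  haveI hQ : ((p.map (algebraMap R S)).map (Ideal.Quotient.mk (P.map (algebraMap R S)))).IsPrime :=
    Ideal.map_isPrime_of_surjective Ideal.Quotient.mk_surjective hker'
  haveI : ((p.map (algebraMap R S)).map (Ideal.Quotient.mk (P.map (algebraMap R S)))).LiesOver
      (p.map (Ideal.Quotient.mk P)) := by
    refine ⟨?_⟩
    ext x
    obtain ⟨x, rfl⟩ := Ideal.Quotient.mk_surjective x
    rw [Ideal.under_def, Ideal.mem_comap, Ideal.Quotient.algebraMap_quotient_map_quotient,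
      Ideal.mem_quotient_iff_mem hPS, Ideal.mem_quotient_iff_mem hPp, ← Ideal.mem_comap, hcomap]
  have h := Ideal.height_le_height_add_of_liesOver (p.map (Ideal.Quotient.mk P))
    ((p.map (algebraMap R S)).map (Ideal.Quotient.mk (P.map (algebraMap R S))))
  have hext : (p.map (Ideal.Quotient.mk P)).map
      (algebraMap (R ⧸ P) (S ⧸ P.map (algebraMap R S))) =
      (p.map (algebraMap R S)).map (Ideal.Quotient.mk (P.map (algebraMap R S))) := by
    rw [Ideal.map_map, Ideal.map_map]
    congr 1
  rw [hext, Ideal.map_quotient_self] at h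
  have h0 : (⊥ : Ideal ((S ⧸ P.map (algebraMap R S)) ⧸
      (p.map (algebraMap R S)).map (Ideal.Quotient.mk (P.map (algebraMap R S))))).height = 0 := by
    have : Nontrivial ((S ⧸ P.map (algebraMap R S)) ⧸
        (p.map (algebraMap R S)).map (Ideal.Quotient.mk (P.map (algebraMap R S)))) :=
      Ideal.Quotient.nontrivial_iff.mpr hQ.ne_top
    exact Ideal.height_bot
  rwa [h0, add_zero] at h

end Groth.Agent.Lib.Helper87.GrHtA
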