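import Mathlib
import Groth.Agent.Lib.Helper87.HilbFnI

/-!
# Homogeneous complete intersections in a polynomial ring are cut out by regular sequences
-/

set_option autoImplicit false
set_option linter.style.haveILetI false
universe u
open MvPolynomial

namespace Groth.Agent.Lib.Helper87.CIReg

open Groth.Agent.Lib.Helper87.HilbFnA Groth.Agent.Lib.Helper87.HilbFnG
open Groth.Agent.Lib.Helper87.HilbFnI
open Groth.Agent.Lib.Helper73.DimFormula
open RingTheory.Sequence IsLocalRing

variable {k : Type u} [Field k] (n : ℕ)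

attribute [local instance] MvPolynomial.gradedAlgebra

/-- `dim S/J ≤ n + 1 - ht J` in the polynomial ring in `n + 1` variables -/
theorem ringKrullDim_quotient_le_of_le_height (J : Ideal (MvPolynomial (Fin (n + 1)) k)) (r : ℕ)
    (hJ : (r : ℕ∞) ≤ J.height) :
    ringKrullDim (MvPolynomial (Fin (n + 1)) k ⧸ J) ≤ ((n + 1 - r : ℕ) : WithBot ℕ∞) := by
  apply ringKrullDim_quotient_le_of_minimalPrimes
  intro q hq
  haveI : q.IsPrime := hq.1.1
  haveI : Algebra.FiniteType k (MvPolynomial (Fin (n + 1)) k ⧸ q) :=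
    Algebra.FiniteType.of_surjective (Ideal.Quotient.mkₐ k q) (Ideal.Quotient.mkₐ_surjective k q)
  obtain ⟨N, hN1, hN2, -, -⟩ := exists_trdeg_eq_ringKrullDim k (MvPolynomial (Fin (n + 1)) k ⧸ q)
  have h := height_add_trdeg_eq_of_field k (MvPolynomial (Fin (n + 1)) k) q
  have h3 : Algebra.trdeg k (MvPolynomial (Fin (n + 1)) k) = ((n + 1 : ℕ) : Cardinal) := by
    rw [MvPolynomial.trdeg_of_isDomain]; simp
  obtain ⟨h', hh'⟩ := ENat.ne_top_iff_exists.mp (Ideal.height_ne_top hq.1.1.ne_top)
  rw [← hh', hN1, h3] at h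
  have h4 : h' + N = n + 1 := by
    have : ((h' : ℕ) : Cardinal) + (N : Cardinal) = ((n + 1 : ℕ) : Cardinal) := by
      simpa using h
    exact_mod_cast this
  have h5 : (r : ℕ∞) ≤ (h' : ℕ∞) := by
    rw [hh']
    exact hJ.trans (Ideal.height_mono hq.1.2)
  have h6 : r ≤ h' := by exact_mod_cast h5
  rw [hN2]
  have : N ≤ n + 1 - r := by omega
  exact_mod_cast this

/-- the sequence is regular at the vertex -/
theorem local_weaklyRegular' (r e : ℕ) (her : e + r = n + 1)
    (f : Fin r → MvPolynomial (Fin (n + 1)) k)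
    (hfm : ∀ i, f i ∈ irr k (Fin (n + 1)))
    (hdim : ringKrullDim (MvPolynomial (Fin (n + 1)) k ⧸ Ideal.ofList (List.ofFn f)) ≤
      (e : WithBot ℕ∞)) :
    IsWeaklyRegular (Loc k (Fin (n + 1)))
      ((List.ofFn f).map (algebraMap (MvPolynomial (Fin (n + 1)) k) (Loc k (Fin (n + 1))))) := by
  let A := Loc k (Fin (n + 1))
  set xs := (List.ofFn f).map (algebraMap (MvPolynomial (Fin (n + 1)) k) A) with hxs
  have hCMr : LocCoh.IsCohenMacaulayLocalRing A :=
    Groth.Agent.Lib.Helper87.RegHilb.isCM_of_regular A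
  have hCM : LocCoh.IsCohenMacaulayModule A A := hCMr.supportDim_eq_depth
  have hmem : ∀ x ∈ xs, x ∈ maximalIdeal A := by
    intro x hx
    rw [hxs, List.mem_map] at hx
    obtain ⟨y, hy, rfl⟩ := hx
    rw [List.mem_ofFn] at hy
    obtain ⟨i, rfl⟩ := hy
    exact (IsLocalization.AtPrime.to_map_mem_maximal_iff A (irr k (Fin (n + 1))) (f i)).mpr (hfm i)
  have key := (Groth.Agent.Lib.Helper29.CMLib.isWeaklyRegular_iff_of_isCM A xs A hCM hmem).1
  rw [key]
  have hlen : xs.length = r := by rw [hxs, List.length_map, List.length_ofFn]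
  have hself : Module.supportDim A A = ((n + 1 : ℕ) : WithBot ℕ∞) := by
    rw [Module.supportDim_self_eq_ringKrullDim]
    exact ringKrullDim_loc n
  apply le_antisymm
  · have e' : (Ideal.ofList xs • (⊤ : Submodule A A)) = Ideal.ofList xs := by
      rw [smul_eq_mul, Ideal.mul_top]
    have h1 : Module.supportDim A (A ⧸ (Ideal.ofList xs • (⊤ : Submodule A A))) =
        Module.supportDim A (A ⧸ Ideal.ofList xs) :=
      Module.supportDim_eq_of_equiv (Submodule.quotEquivOfEq _ _ e')
    rw [h1, Module.supportDim_quotient_eq_ringKrullDim, hself, hlen]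
    have h2 : Ideal.ofList xs = (Ideal.ofList (List.ofFn f)).map
        (algebraMap (MvPolynomial (Fin (n + 1)) k) A) := by
      rw [Ideal.map_ofList]
    rw [h2]
    have h3 := ringKrullDim_quotient_map_le (irr k (Fin (n + 1))).primeCompl A
      (Ideal.ofList (List.ofFn f))
    have h4 := h3.trans hdim
    calc ringKrullDim (A ⧸ (Ideal.ofList (List.ofFn f)).map
          (algebraMap (MvPolynomial (Fin (n + 1)) k) A)) + (r : WithBot ℕ∞)
        ≤ (e : WithBot ℕ∞) + (r : WithBot ℕ∞) := by gcongr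
      _ = ((n + 1 : ℕ) : WithBot ℕ∞) := by rw [← her]; push_cast; rfl
  · exact Groth.Agent.Lib.Helper29.CMLib.supportDim_le_quotient_add_length A xs A hmem

theorem ofList_ofFn_eq_span {α : Type*} [CommRing α] {r : ℕ} (f : Fin r → α) :
    Ideal.ofList (List.ofFn f) = Ideal.span (Set.range f) := by
  rw [Ideal.ofList]
  congr 1
  ext x
  simp [List.mem_ofFn]

/-- the irrelevant ideal has height `n + 1` -/
theorem height_irr : (irr k (Fin (n + 1))).height = ((n + 1 : ℕ) : ℕ∞) := by
  obtain ⟨N, -, hN, hmax, -⟩ := exists_trdeg_eq_ringKrullDim k (MvPolynomial (Fin (n + 1)) k)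
  rw [MvPolynomial.ringKrullDim_of_isNoetherianRing, ringKrullDim_eq_zero_of_field, zero_add,
    Nat.card_eq_fintype_card, Fintype.card_fin] at hN
  have hN' : n + 1 = N := by exact_mod_cast hN
  rw [hmax (irr k (Fin (n + 1))), ← hN']

/-- **homogeneous forms cutting out an ideal of the right height form a regular sequence** -/
theorem reg_of_height (r : ℕ) (f : Fin r → MvPolynomial (Fin (n + 1)) k) (d : Fin r → ℕ)
    (hd : ∀ i, 0 < d i) (hf : ∀ i, (f i).IsHomogeneous (d i))
    (hJ : (Ideal.span (Set.range f)).height = r) :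
    ∀ (i : ℕ) (hi : i < r) (y : MvPolynomial (Fin (n + 1)) k),
      f ⟨i, hi⟩ * y ∈ Ideal.ofList ((List.ofFn f).take i) →
      y ∈ Ideal.ofList ((List.ofFn f).take i) := by
  have hfm : ∀ i, f i ∈ irr k (Fin (n + 1)) := fun i => mem_irr_of_isHomogeneous (hf i) (hd i)
  -- `r ≤ n + 1`
  have hrle : r ≤ n + 1 := by
    have hle : Ideal.span (Set.range f) ≤ irr k (Fin (n + 1)) := by
      rw [Ideal.span_le]
      rintro _ ⟨i, rfl⟩
      exact hfm i
    have h1 := Ideal.height_mono hle
    obtain ⟨N, -, hN, hmax, -⟩ := exists_trdeg_eq_ringKrullDim k (MvPolynomial (Fin (n + 1)) k)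
    rw [MvPolynomial.ringKrullDim_of_isNoetherianRing, ringKrullDim_eq_zero_of_field, zero_add,
      Nat.card_eq_fintype_card, Fintype.card_fin] at hN
    have hN' : n + 1 = N := by exact_mod_cast hN
    rw [hmax (irr k (Fin (n + 1))), hJ, ← hN'] at h1
    exact_mod_cast h1
  have hdim := ringKrullDim_quotient_le_of_le_height n (Ideal.span (Set.range f)) r (le_of_eq hJ.symm)
  rw [← ofList_ofFn_eq_span] at hdim
  have hW := local_weaklyRegular' n r (n + 1 - r) (by omega) f hfm hdim
  intro i hi y hy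
  have hiL : i < (List.ofFn f).length := by rw [List.length_ofFn]; exact hi
  set g := f ⟨i, hi⟩ with hg
  have hgi : (List.ofFn f)[i] = g := by rw [List.getElem_ofFn]
  have hmemL : ∀ x ∈ (List.ofFn f).take i, ∃ j, x = f j := by
    intro x hx
    have := List.mem_of_mem_take hx
    rw [List.mem_ofFn] at this
    obtain ⟨j, rfl⟩ := this
    exact ⟨j, rfl⟩
  have hJh : (Ideal.ofList ((List.ofFn f).take i)).IsHomogeneous
      (homogeneousSubmodule (Fin (n + 1)) k) := by
    apply ofList_isHomogeneous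
    intro x hx
    obtain ⟨j, rfl⟩ := hmemL x hx
    exact ⟨d j, hf j⟩
  have hgh : g.IsHomogeneous (d ⟨i, hi⟩) := hf _
  have hreg1 := (isWeaklyRegular_iff _ _).mp hW i (by rw [List.length_map]; exact hiL)
  rw [List.getElem_map, hgi, ← List.map_take, ← Ideal.map_ofList] at hreg1
  have hloc : ∀ z : Loc k (Fin (n + 1)),
      algebraMap (MvPolynomial (Fin (n + 1)) k) (Loc k (Fin (n + 1))) g * z ∈
        (Ideal.ofList ((List.ofFn f).take i)).map
          (algebraMap (MvPolynomial (Fin (n + 1)) k) (Loc k (Fin (n + 1)))) →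
      z ∈ (Ideal.ofList ((List.ofFn f).take i)).map
          (algebraMap (MvPolynomial (Fin (n + 1)) k) (Loc k (Fin (n + 1)))) := by
    intro z hz
    have e : ((Ideal.ofList ((List.ofFn f).take i)).map
          (algebraMap (MvPolynomial (Fin (n + 1)) k) (Loc k (Fin (n + 1)))) •
        (⊤ : Submodule (Loc k (Fin (n + 1))) (Loc k (Fin (n + 1))))) =
        (Ideal.ofList ((List.ofFn f).take i)).map
          (algebraMap (MvPolynomial (Fin (n + 1)) k) (Loc k (Fin (n + 1)))) := by
      rw [smul_eq_mul, Ideal.mul_top]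
    have h0 : (algebraMap (MvPolynomial (Fin (n + 1)) k) (Loc k (Fin (n + 1))) g) •
        (Submodule.Quotient.mk (p := ((Ideal.ofList ((List.ofFn f).take i)).map
          (algebraMap (MvPolynomial (Fin (n + 1)) k) (Loc k (Fin (n + 1)))) •
        (⊤ : Submodule (Loc k (Fin (n + 1))) (Loc k (Fin (n + 1)))))) z) =
        (algebraMap (MvPolynomial (Fin (n + 1)) k) (Loc k (Fin (n + 1))) g) •
        (Submodule.Quotient.mk (p := ((Ideal.ofList ((List.ofFn f).take i)).map
          (algebraMap (MvPolynomial (Fin (n + 1)) k) (Loc k (Fin (n + 1)))) •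
        (⊤ : Submodule (Loc k (Fin (n + 1))) (Loc k (Fin (n + 1)))))) 0) := by
      rw [← Submodule.Quotient.mk_smul, ← Submodule.Quotient.mk_smul, smul_zero,
        Submodule.Quotient.mk_zero, Submodule.Quotient.mk_eq_zero, e, smul_eq_mul]
      exact hz
    have h1 := hreg1 h0
    rw [Submodule.Quotient.mk_zero, Submodule.Quotient.mk_eq_zero, e] at h1
    exact h1
  exact reg_of_local hJh hgh hloc y hy

end Groth.Agent.Lib.Helper87.CIReg
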