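import Mathlib
import Groth.Prelude.Def_GrLC
import Groth.Agent.Lib.Helper97.AInvC
import Groth.Agent.Lib.Helper77.GLC5
import Groth.Agent.Lib.Helper66.GradedQuot
import Groth.Agent.Lib.Helper87.CIReg
import Groth.Agent.S18645

/-!
# The `a`-invariant of a CM graded ring via an Artinian reduction
-/

set_option autoImplicit false
set_option linter.style.haveILetI false
set_option linter.unusedSectionVars false
universe u

namespace Groth.Agent.Lib.Helper87.APolyF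

open GrLC DirectSum Groth.Agent.Lib.Helper77.GLC Groth.Agent.Lib.Helper66.GradedQuot

theorem endDeg_eq_coe_iff {M : Type*} [AddCommGroup M] (ℳ : ℤ → AddSubgroup M) (s : ℤ) :
    endDeg ℳ = ((s : WithTop ℤ) : WithBot (WithTop ℤ)) ↔ (∀ n, s < n → ℳ n = ⊥) ∧ ℳ s ≠ ⊥ := by
  constructor
  · intro h
    have h1 := (endDeg_le_iff ℳ s).mp h.le
    refine ⟨h1, fun hs => ?_⟩
    have h2 : endDeg ℳ ≤ (((s - 1 : ℤ) : WithTop ℤ) : WithBot (WithTop ℤ)) := by
      rw [endDeg_le_iff]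
      intro n hn
      rcases eq_or_lt_of_le (show s ≤ n by omega) with rfl | hlt
      · exact hs
      · exact h1 n hlt
    rw [h] at h2
    have h3 : s ≤ s - 1 := by exact_mod_cast h2
    omega
  · rintro ⟨h1, h2⟩
    apply le_antisymm
    · exact (endDeg_le_iff ℳ s).mpr h1
    · unfold endDeg
      exact le_iSup₂_of_le s h2 le_rfl

/-- **Key lemma**: the `a`-invariant read off an Artinian reduction. -/
theorem key (R : Type u) [CommRing R] [LocCoh.IsCohenMacaulayRing R] (𝒜 : ℤ → AddSubgroup R)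
    [GradedRing 𝒜] (hpos : ∀ n : ℤ, n < 0 → 𝒜 n = ⊥) (h0 : IsField (GrLC.deg0 𝒜))
    (m : HomogeneousIdeal 𝒜) (hm : GrLC.IsStarLocal 𝒜 m)
    (hmsp : m.toIdeal = Ideal.span (⋃ n ∈ Set.Ioi (0 : ℤ), (𝒜 n : Set R))) (r : ℕ)
    (hr : ringKrullDim R = r) (I : GrLC.StarInjRes 𝒜 𝒜)
    (f : Fin r → R) (deg : Fin r → ℤ) (hfdeg : ∀ i, f i ∈ 𝒜 (deg i))
    (hfm : ∀ i, f i ∈ m.toIdeal)
    (hreg : RingTheory.Sequence.IsWeaklyRegular R (List.ofFn f))
    (p : ℕ) (htors : m.toIdeal ^ p ≤ Ideal.span (Set.range f)) (s : ℤ) :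
    GrLC.endDeg (I.Hgr m r) +
        ((((Finset.univ : Finset (Fin r)).sum deg : ℤ) : WithTop ℤ) : WithBot (WithTop ℤ)) =
      ((s : WithTop ℤ) : WithBot (WithTop ℤ)) ↔
      (∀ n, s < n → ∀ x ∈ 𝒜 n, x ∈ Ideal.span (Set.range f)) ∧
        ¬ (∀ x ∈ 𝒜 s, x ∈ Ideal.span (Set.range f)) := by
  classical
  set J : Submodule R R := Ideal.span (Set.range f) with hJ
  have hJhom : Submodule.IsHomogeneous J 𝒜 := by
    apply Ideal.homogeneous_span
    rintro _ ⟨i, rfl⟩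
    exact ⟨deg i, hfdeg i⟩
  have hJm : J ≤ m.toIdeal := by
    rw [hJ]
    apply Ideal.span_le.mpr
    rintro _ ⟨i, rfl⟩
    exact hfm i
  have hmne : m.toIdeal ≠ ⊤ := by
    intro h
    apply hm.1.1
    apply HomogeneousIdeal.toIdeal_injective
    rw [h, HomogeneousIdeal.toIdeal_top]
  have hregular : RingTheory.Sequence.IsRegular R (List.ofFn f) := by
    refine ⟨hreg, ?_⟩
    rw [Groth.Agent.Lib.Helper87.CIReg.ofList_ofFn_eq_span, smul_eq_mul, Ideal.mul_top]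
    intro h
    apply hmne
    rw [eq_top_iff]
    rw [← hJ] at h
    rw [h]
    exact hJm
  letI := quotDecomposition 𝒜 J hJhom
  letI := quotGradedSMul 𝒜 𝒜 J
  obtain ⟨F⟩ := exists_res (𝒜 := 𝒜) (R ⧸ J) (qpiece 𝒜 J)
  have hmain := Groth.Agent.S18645.result R 𝒜 hpos h0 m hm hmsp r hr I r le_rfl f deg hfdeg hfm
    hregular (R ⧸ J) (qpiece 𝒜 J) J.mkQ (mkQ_grHom 𝒜 J) (Submodule.mkQ_surjective J)
    (Submodule.ker_mkQ J) F
  rw [Nat.sub_self] at hmain
  rw [← hmain, endDeg_eq_coe_iff]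
  have htor : ∀ y : R ⧸ J, y ∈ gam m.toIdeal (R ⧸ J) := by
    intro y
    obtain ⟨x, rfl⟩ := Submodule.mkQ_surjective J y
    refine ⟨p, fun a ha => ?_⟩
    have haJ : a ∈ J := htors ha
    rw [← map_smul, Submodule.mkQ_apply, Submodule.Quotient.mk_eq_zero, smul_eq_mul]
    exact Ideal.mul_mem_right _ _ haJ
  have hiff : ∀ g, F.Hgr m 0 g = ⊥ ↔ ∀ x ∈ 𝒜 g, x ∈ J := by
    intro g
    rw [Hgr_eq_bot_iff, HV_zero_iff]
    constructor
    · intro h x hx
      have := h (J.mkQ x) (mk_mem_qpiece 𝒜 J hx) (htor _)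
      exact (Submodule.Quotient.mk_eq_zero J).mp this
    · rintro h n ⟨x, hx, rfl⟩ _
      exact (Submodule.Quotient.mk_eq_zero J).mpr (h x hx)
  constructor
  · rintro ⟨h1, h2⟩
    exact ⟨fun n hn => (hiff n).mp (h1 n hn), fun h => h2 ((hiff s).mpr h)⟩
  · rintro ⟨h1, h2⟩
    exact ⟨fun n hn => (hiff n).mpr (h1 n hn), fun h => h2 ((hiff s).mp h)⟩

end Groth.Agent.Lib.Helper87.APolyF
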