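import Mathlib

/-!
# Powers of the variables in a polynomial ring: regular sequence, and the colimit
`colim_n S/(X^n)` along multiplication by `∏ X_j` is a free module.
-/

set_option autoImplicit false
universe u
open MvPolynomial

namespace Groth.Agent.Lib.Helper87.KzLimB

variable {A : Type u} [CommRing A] {k : ℕ}

/-- the ideal generated by `X_t ^ n`, `t ∈ T` -/
noncomputable def IT (A : Type u) [CommRing A] (k : ℕ) (T : Set (Fin k)) (n : ℕ) :
    Ideal (MvPolynomial (Fin k) A) :=
  Ideal.span ((fun s => monomial s (1 : A)) '' ((fun t : Fin k => Finsupp.single t n) '' T))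

theorem mem_IT_iff (T : Set (Fin k)) (n : ℕ) (p : MvPolynomial (Fin k) A) :
    p ∈ IT A k T n ↔ ∀ b ∈ p.support, ∃ t ∈ T, n ≤ b t := by
  unfold IT
  rw [mem_ideal_span_monomial_image]
  constructor
  · intro h b hb
    obtain ⟨s, ⟨t, ht, rfl⟩, hs⟩ := h b hb
    exact ⟨t, ht, Finsupp.single_le_iff.mp hs⟩
  · intro h b hb
    obtain ⟨t, ht, hn⟩ := h b hb
    exact ⟨_, ⟨t, ht, rfl⟩, Finsupp.single_le_iff.mpr hn⟩

theorem IT_eq_span (T : Set (Fin k)) (n : ℕ) :
    IT A k T n = Ideal.span ((fun t : Fin k => (X t : MvPolynomial (Fin k) A) ^ n) '' T) := by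
  unfold IT
  rw [Set.image_image]
  congr 1
  ext p
  simp only [Set.mem_image, X_pow_eq_monomial]

theorem mul_mem_IT (T : Set (Fin k)) (j : Fin k) (hj : j ∉ T) (n : ℕ)
    (p : MvPolynomial (Fin k) A) (h : X j ^ n * p ∈ IT A k T n) : p ∈ IT A k T n := by
  rw [mem_IT_iff] at h ⊢
  intro b hb
  have hb' : Finsupp.single j n + b ∈ (X j ^ n * p).support := by
    rw [mem_support_iff, X_pow_eq_monomial, coeff_monomial_mul, one_mul]
    exact mem_support_iff.mp hb
  obtain ⟨t, ht, hn⟩ := h _ hb'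
  refine ⟨t, ht, ?_⟩
  have htj : t ≠ j := fun e => hj (e ▸ ht)
  rw [Finsupp.add_apply, Finsupp.single_apply, if_neg (Ne.symm htj), zero_add] at hn
  exact hn

open RingTheory.Sequence in
theorem isWeaklyRegular_X_pow (A : Type u) [CommRing A] (k n : ℕ) :
    IsWeaklyRegular (MvPolynomial (Fin k) A)
      ((List.ofFn fun j : Fin k => (X j : MvPolynomial (Fin k) A)).map (· ^ n)) := by
  constructor
  intro i hi
  have hik : i < k := by simpa using hi
  set rs := (List.ofFn fun j : Fin k => (X j : MvPolynomial (Fin k) A)).map (· ^ n) with hrs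
  have hget : ∀ (t : ℕ) (ht : t < rs.length), rs[t] = (X ⟨t, by simpa [hrs] using ht⟩ :
      MvPolynomial (Fin k) A) ^ n := by
    intro t ht
    simp [hrs]
  have hI : (Ideal.ofList (rs.take i) • ⊤ : Submodule (MvPolynomial (Fin k) A)
      (MvPolynomial (Fin k) A)) = IT A k {t : Fin k | (t : ℕ) < i} n := by
    rw [IT_eq_span]
    change Ideal.ofList (rs.take i) • (⊤ : Ideal (MvPolynomial (Fin k) A)) = _
    rw [smul_eq_mul, Ideal.mul_top]
    unfold Ideal.ofList
    congr 1
    ext p
    simp only [Set.mem_ofPred_eq, Set.mem_image]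
    rw [List.mem_take_iff_getElem]
    constructor
    · rintro ⟨t, ht, rfl⟩
      have ht1 : t < i := lt_of_lt_of_le ht (min_le_left _ _)
      have ht2 : t < rs.length := lt_of_lt_of_le ht (min_le_right _ _)
      exact ⟨⟨t, by simpa [hrs] using ht2⟩, ht1, (hget t ht2).symm⟩
    · rintro ⟨t, ht, rfl⟩
      have ht2 : (t : ℕ) < rs.length := by simp [hrs]
      exact ⟨t, lt_min ht ht2, hget t ht2⟩
  rw [isSMulRegular_iff_right_eq_zero_of_smul]
  intro z hz
  obtain ⟨p, rfl⟩ := Submodule.Quotient.mk_surjective _ z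
  rw [← Submodule.Quotient.mk_smul, Submodule.Quotient.mk_eq_zero, hI, hget i hi,
    smul_eq_mul] at hz
  rw [Submodule.Quotient.mk_eq_zero, hI]
  exact mul_mem_IT _ ⟨i, hik⟩ (by simp) n p hz


/-! ### The colimit is free -/

/-- the product of the variables -/
noncomputable def P (A : Type u) [CommRing A] (k : ℕ) : MvPolynomial (Fin k) A := ∏ j : Fin k, X j

/-- the exponent vector `(1, …, 1)` -/
noncomputable def one (k : ℕ) : Fin k →₀ ℕ := ∑ j : Fin k, Finsupp.single j 1

theorem one_apply (j : Fin k) : one k j = 1 := by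
  unfold one
  rw [Finsupp.finsetSum_apply]
  simp [Finsupp.single_apply]

theorem P_eq : P A k = monomial (one k) 1 := by
  unfold P one
  rw [monomial_sum_one]
  refine Finset.prod_congr rfl fun j _ => ?_
  rfl

/-- exponent vector `j ↦ n - 1 - c j` -/
noncomputable def ex (n : ℕ) (c : Fin k →₀ ℕ) : Fin k →₀ ℕ :=
  Finsupp.equivFunOnFinite.symm (fun j => n - 1 - c j)

theorem ex_apply (n : ℕ) (c : Fin k →₀ ℕ) (j : Fin k) : ex n c j = n - 1 - c j := rfl

theorem P_pow_mul_monomial (n m : ℕ) (h : n ≤ m) (c : Fin k →₀ ℕ) (hc : ∀ j, c j < n) :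
    P A k ^ (m - n) * monomial (ex n c) 1 = monomial (ex m c) 1 := by
  rw [P_eq, monomial_pow, one_pow, monomial_mul, one_mul]
  have : (m - n) • one k + ex n c = ex m c := by
    refine Finsupp.ext fun j => ?_
    rw [Finsupp.add_apply, Finsupp.smul_apply, one_apply, ex_apply, ex_apply, smul_eq_mul,
      mul_one]
    have := hc j
    omega
  rw [this]

theorem ex_ex (n : ℕ) (b : Fin k →₀ ℕ) (hb : ∀ j, b j < n) : ex n (ex n b) = b := by
  ext j
  rw [ex_apply, ex_apply]
  have := hb j
  omega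

theorem ex_lt (n : ℕ) (b : Fin k →₀ ℕ) (hb : ∀ j, b j < n) (j : Fin k) : ex n b j < n := by
  rw [ex_apply]
  have := hb j
  omega

theorem ex_injOn (m : ℕ) (c c' : Fin k →₀ ℕ) (hc : ∀ j, c j < m) (hc' : ∀ j, c' j < m)
    (h : ex m c = ex m c') : c = c' := by
  ext j
  have := DFunLike.congr_fun h j
  rw [ex_apply, ex_apply] at this
  have := hc j
  have := hc' j
  omega

theorem free_of_presentation (D : Type*) [AddCommGroup D] [Module A D]
    (u : ℕ → MvPolynomial (Fin k) A →ₗ[A] D)
    (h1 : ∀ z : D, ∃ n x, u n x = z)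
    (h2 : ∀ n m, n ≤ m → ∀ x, u n x = u m (P A k ^ (m - n) * x))
    (h3 : ∀ n x, u n x = 0 → ∃ m, n ≤ m ∧ P A k ^ (m - n) * x ∈ IT A k Set.univ m)
    (h4 : ∀ n x, x ∈ IT A k Set.univ n → u n x = 0) : Module.Free A D := by
  classical
  -- the bound
  let N : (Fin k →₀ ℕ) → ℕ := fun c => 1 + ∑ j, c j
  have hN : ∀ c j, c j < N c := by
    intro c j
    have : c j ≤ ∑ j, c j := Finset.single_le_sum (f := fun j => c j) (fun _ _ => Nat.zero_le _)
      (Finset.mem_univ j)
    change c j < 1 + ∑ j, c j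
    omega
  let v : (Fin k →₀ ℕ) → D := fun c => u (N c) (monomial (ex (N c) c) 1)
  have L1 : ∀ n m c, n ≤ m → (∀ j, c j < n) →
      u n (monomial (ex n c) 1) = u m (monomial (ex m c) 1) := by
    intro n m c hnm hc
    rw [h2 n m hnm, P_pow_mul_monomial n m hnm c hc]
  have L1' : ∀ n c, (∀ j, c j < n) → v c = u n (monomial (ex n c) 1) := by
    intro n c hc
    rcases le_total n (N c) with h | h
    · exact (L1 n (N c) c h hc).symm
    · exact L1 (N c) n c h (hN c)
  have hsp : ⊤ ≤ Submodule.span A (Set.range v) := by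
    intro z _
    obtain ⟨n, x, rfl⟩ := h1 z
    rw [as_sum x, map_sum]
    refine Submodule.sum_mem _ fun b _ => ?_
    have hb : monomial b (coeff b x) = coeff b x • (monomial b (1 : A)) := by
      rw [smul_monomial, smul_eq_mul, mul_one]
    rw [hb, map_smul]
    refine Submodule.smul_mem _ _ ?_
    by_cases hbn : ∀ j, b j < n
    · have : u n (monomial b 1) = v (ex n b) := by
        rw [L1' n (ex n b) (ex_lt n b hbn), ex_ex n b hbn]
      rw [this]
      exact Submodule.subset_span ⟨_, rfl⟩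
    · push Not at hbn
      obtain ⟨j, hj⟩ := hbn
      have : (monomial b (1 : A)) ∈ IT A k Set.univ n := by
        rw [mem_IT_iff]
        intro b' hb'
        have := support_monomial_subset hb'
        rw [Finset.mem_singleton] at this
        subst this
        exact ⟨j, Set.mem_univ _, hj⟩
      rw [h4 n _ this]
      exact Submodule.zero_mem _
  have hli : LinearIndependent A v := by
    rw [linearIndependent_iff']
    intro s g hg c₀ hc₀
    set n := 1 + ∑ c ∈ s, ∑ j, c j with hn
    have hcn : ∀ c ∈ s, ∀ j, c j < n := by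
      intro c hc j
      have h1 : c j ≤ ∑ j, c j :=
        Finset.single_le_sum (f := fun j => c j) (fun _ _ => Nat.zero_le _) (Finset.mem_univ j)
      have h2 : ∑ j, c j ≤ ∑ c ∈ s, ∑ j, c j :=
        Finset.single_le_sum (f := fun c : Fin k →₀ ℕ => ∑ j, c j) (fun _ _ => Nat.zero_le _) hc
      omega
    have e1 : ∑ c ∈ s, g c • v c = u n (∑ c ∈ s, g c • monomial (ex n c) (1 : A)) := by
      rw [map_sum]
      refine Finset.sum_congr rfl fun c hc => ?_
      rw [map_smul, L1' n c (hcn c hc)]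
    rw [e1] at hg
    obtain ⟨m, hnm, hm⟩ := h3 n _ hg
    have e2 : P A k ^ (m - n) * ∑ c ∈ s, g c • monomial (ex n c) (1 : A) =
        ∑ c ∈ s, g c • monomial (ex m c) (1 : A) := by
      rw [Finset.mul_sum]
      refine Finset.sum_congr rfl fun c hc => ?_
      rw [mul_smul_comm, P_pow_mul_monomial n m hnm c (hcn c hc)]
    rw [e2] at hm
    have hm1 : 1 ≤ m := by omega
    have hzero : ∑ c ∈ s, g c • monomial (ex m c) (1 : A) = 0 := by
      rw [← support_eq_empty, Finset.eq_empty_iff_forall_notMem]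
      intro b hb
      obtain ⟨t, -, ht⟩ := (mem_IT_iff _ _ _).mp hm b hb
      have hb2 := support_sum hb
      rw [Finset.mem_biUnion] at hb2
      obtain ⟨c, hc, hbc⟩ := hb2
      have hbc' : b = ex m c := by
        have := support_monomial_subset (support_smul hbc)
        rwa [Finset.mem_singleton] at this
      rw [hbc', ex_apply] at ht
      omega
    have hcoef := congrArg (coeff (ex m c₀)) hzero
    rw [coeff_sum, coeff_zero] at hcoef
    rw [Finset.sum_eq_single c₀] at hcoef
    · rwa [coeff_smul, coeff_monomial, if_pos rfl, smul_eq_mul, mul_one] at hcoef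
    · intro c hc hne
      rw [coeff_smul, coeff_monomial, if_neg, smul_zero]
      intro h
      exact hne (ex_injOn m c c₀ (fun j => lt_of_lt_of_le (hcn c hc j) hnm)
        (fun j => lt_of_lt_of_le (hcn c₀ hc₀ j) hnm) h)
    · intro h
      exact absurd hc₀ h
  exact Module.Free.of_basis (Module.Basis.mk hli hsp)


theorem ofList_smul_top_eq (A : Type u) [CommRing A] (k n : ℕ) :
    (Ideal.ofList ((List.ofFn fun j : Fin k => (X j : MvPolynomial (Fin k) A)).map (· ^ n)) • ⊤ :
      Submodule (MvPolynomial (Fin k) A) (MvPolynomial (Fin k) A)) = IT A k Set.univ n := by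
  rw [IT_eq_span]
  change Ideal.ofList _ • (⊤ : Ideal (MvPolynomial (Fin k) A)) = _
  rw [smul_eq_mul, Ideal.mul_top]
  unfold Ideal.ofList
  congr 1
  ext p
  simp only [Set.mem_ofPred_eq, Set.mem_image, List.mem_map, List.mem_ofFn, Set.mem_univ, true_and]
  constructor
  · rintro ⟨_, ⟨t, rfl⟩, rfl⟩
    exact ⟨t, rfl⟩
  · rintro ⟨t, rfl⟩
    exact ⟨_, ⟨t, rfl⟩, rfl⟩

theorem prod_map_pow_ofFn (A : Type u) [CommRing A] (k d : ℕ) :
    ((List.ofFn fun j : Fin k => (X j : MvPolynomial (Fin k) A)).map (· ^ d)).prod =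
      P A k ^ d := by
  unfold P
  rw [List.map_ofFn, List.prod_ofFn, ← Finset.prod_pow]
  rfl

end Groth.Agent.Lib.Helper87.KzLimB
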