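import Mathlib

/-!
# Whiskering cochains with a fixed complex on the right

For cochain complexes of modules `K L Y` and a cochain `γ : Cochain K L n`, we define
`whiskerR γ Y : Cochain (K ⊗ Y) (L ⊗ Y) n` acting as `γ ⊗ id` on each summand, and show that it is
compatible with sums, composition, `ofHom` and the differential `δ`.
-/

set_option autoImplicit false
universe u
open CategoryTheory CategoryTheory.Limits MonoidalCategory HomologicalComplex CochainComplex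
open HomComplex

namespace Groth.Agent.Lib.Helper87.CochainWhisker

variable {A : Type u} [CommRing A]

/-- cochain complexes of modules -/
abbrev Cx (A : Type u) [CommRing A] := CochainComplex (ModuleCat.{u} A) ℤ

/-- tensor product of complexes -/
noncomputable abbrev T (K Y : Cx A) : Cx A := HomologicalComplex.tensorObj K Y

variable {K L M : Cx A}

/-- `γ ⊗ Y` for a cochain `γ`. -/
noncomputable def whiskerR {n : ℤ} (γ : Cochain K L n) (Y : Cx A) :
    Cochain (T K Y) (T L Y) n :=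
  Cochain.mk (fun i j hij => mapBifunctorDesc (K₁ := K) (K₂ := Y) (F := curriedTensor _)
    (c := ComplexShape.up ℤ) (fun p q (hpq : p + q = i) =>
    (γ.v p (p + n) rfl ▷ Y.X q) ≫ ιTensorObj L Y (p + n) q j (by omega)))

lemma ι_whiskerR_v {n : ℤ} (γ : Cochain K L n) (Y : Cx A) (p q i j : ℤ) (hpq : p + q = i)
    (hij : i + n = j) (p' : ℤ) (hp' : p + n = p') :
    ιTensorObj K Y p q i hpq ≫ (whiskerR γ Y).v i j hij =
      (γ.v p p' hp' ▷ Y.X q) ≫ ιTensorObj L Y p' q j (by omega) := by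
  subst hp'
  simp [whiskerR]

lemma cochain_ext {Y : Cx A} {n : ℤ} (γ₁ γ₂ : Cochain (T K Y) M n)
    (h : ∀ (p q i j : ℤ) (hpq : p + q = i) (hij : i + n = j),
      ιTensorObj K Y p q i hpq ≫ γ₁.v i j hij = ιTensorObj K Y p q i hpq ≫ γ₂.v i j hij) :
    γ₁ = γ₂ := by
  refine Cochain.ext _ _ (fun i j hij => ?_)
  apply mapBifunctor.hom_ext
  intro p q hpq
  exact h p q i j hpq hij


lemma neg_whiskerRight' {X Y : ModuleCat.{u} A} (f : X ⟶ Y) (Z : ModuleCat.{u} A) :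
    (-f) ▷ Z = -(f ▷ Z) :=
  (tensorRight Z).map_neg (f := f)

@[simp]
lemma whiskerR_zero (Y : Cx A) {n : ℤ} : whiskerR (0 : Cochain K L n) Y = 0 := by
  apply cochain_ext
  intro p q i j hpq hij
  rw [ι_whiskerR_v _ _ p q i j hpq hij (p + n) rfl]
  simp

lemma whiskerR_add (Y : Cx A) {n : ℤ} (γ₁ γ₂ : Cochain K L n) :
    whiskerR (γ₁ + γ₂) Y = whiskerR γ₁ Y + whiskerR γ₂ Y := by
  apply cochain_ext
  intro p q i j hpq hij
  rw [Cochain.add_v, Preadditive.comp_add, ι_whiskerR_v _ _ p q i j hpq hij (p + n) rfl,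
    ι_whiskerR_v _ _ p q i j hpq hij (p + n) rfl, ι_whiskerR_v _ _ p q i j hpq hij (p + n) rfl,
    Cochain.add_v, MonoidalPreadditive.add_whiskerRight, Preadditive.add_comp]

lemma whiskerR_neg (Y : Cx A) {n : ℤ} (γ : Cochain K L n) :
    whiskerR (-γ) Y = -whiskerR γ Y := by
  apply cochain_ext
  intro p q i j hpq hij
  rw [Cochain.neg_v, Preadditive.comp_neg, ι_whiskerR_v _ _ p q i j hpq hij (p + n) rfl,
    ι_whiskerR_v _ _ p q i j hpq hij (p + n) rfl,
    Cochain.neg_v, neg_whiskerRight', Preadditive.neg_comp]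

lemma whiskerR_units_smul (Y : Cx A) {n : ℤ} (ε : ℤˣ) (γ : Cochain K L n) :
    whiskerR (ε • γ) Y = ε • whiskerR γ Y := by
  rcases Int.units_eq_one_or ε with rfl | rfl
  · simp
  · simp [whiskerR_neg]

lemma whiskerR_comp (Y : Cx A) {n₁ n₂ n₁₂ : ℤ} (γ₁ : Cochain K L n₁) (γ₂ : Cochain L M n₂)
    (h : n₁ + n₂ = n₁₂) :
    whiskerR (γ₁.comp γ₂ h) Y = (whiskerR γ₁ Y).comp (whiskerR γ₂ Y) h := by
  apply cochain_ext
  intro p q i j hpq hij
  rw [ι_whiskerR_v _ _ p q i j hpq hij (p + n₁₂) rfl,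
    Cochain.comp_v _ _ h i (i + n₁) j rfl (by omega),
    ← Category.assoc, ι_whiskerR_v _ _ p q i (i + n₁) hpq rfl (p + n₁) rfl, Category.assoc,
    ι_whiskerR_v _ _ (p + n₁) q (i + n₁) j (by omega) (by omega) (p + n₁₂) (by omega),
    Cochain.comp_v _ _ h p (p + n₁) (p + n₁₂) rfl (by omega), comp_whiskerRight, Category.assoc]


lemma whiskerR_ofHom (Y : Cx A) (f : K ⟶ L) :
    whiskerR (Cochain.ofHom f) Y = Cochain.ofHom (HomologicalComplex.tensorHom f (𝟙 Y)) := by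
  apply cochain_ext
  intro p q i j hpq hij
  obtain rfl : i = j := by omega
  rw [ι_whiskerR_v _ _ p q i i hpq hij p (add_zero p), Cochain.ofHom_v, Cochain.ofHom_v]
  erw [ι_mapBifunctorMap]
  simp

lemma units_smul_whiskerRight' {X Y : ModuleCat.{u} A} (ε : ℤˣ) (f : X ⟶ Y)
    (Z : ModuleCat.{u} A) : (ε • f) ▷ Z = ε • (f ▷ Z) := by
  rcases Int.units_eq_one_or ε with rfl | rfl
  · simp
  · simp [neg_whiskerRight']

lemma ι_d (K Y : Cx A) (p q i i' p' q' : ℤ) (hpq : p + q = i) (hi : i + 1 = i')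
    (hp : p + 1 = p') (hq : q + 1 = q') :
    ιTensorObj K Y p q i hpq ≫ (T K Y).d i i' =
      (K.d p p' ▷ Y.X q) ≫ ιTensorObj K Y p' q i' (by omega) +
        p.negOnePow • ((K.X p ◁ Y.d q q') ≫ ιTensorObj K Y p q' i' (by omega)) := by
  rw [mapBifunctor.d_eq, Preadditive.comp_add, mapBifunctor.ι_D₁, mapBifunctor.ι_D₂,
    mapBifunctor.d₁_eq K Y (curriedTensor _) (ComplexShape.up ℤ) (i₁ := p) (i₁' := p') hp q i'
      (by change p' + q = i'; omega),
    mapBifunctor.d₂_eq K Y (curriedTensor _) (ComplexShape.up ℤ) p (i₂ := q) (i₂' := q') hq i'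
      (by change p + q' = i'; omega)]
  simp


lemma δ_whiskerR (Y : Cx A) {n : ℤ} (m : ℤ) (γ : Cochain K L n) :
    δ n m (whiskerR γ Y) = whiskerR (δ n m γ) Y := by
  by_cases hnm : n + 1 = m
  swap
  · rw [δ_shape _ _ hnm, δ_shape _ _ hnm, whiskerR_zero]
  apply cochain_ext
  intro p q i j hpq hij
  obtain ⟨p1, hp1⟩ : ∃ p1, p + n = p1 := ⟨_, rfl⟩
  obtain ⟨p2, hp2⟩ : ∃ p2, p + m = p2 := ⟨_, rfl⟩
  obtain ⟨pp, hpp⟩ : ∃ pp, p + 1 = pp := ⟨_, rfl⟩
  obtain ⟨qq, hqq⟩ : ∃ qq, q + 1 = qq := ⟨_, rfl⟩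
  obtain ⟨i1, hi1⟩ : ∃ i1, i + n = i1 := ⟨_, rfl⟩
  obtain ⟨ii, hii⟩ : ∃ ii, i + 1 = ii := ⟨_, rfl⟩
  have e1 := ι_whiskerR_v γ Y p q i i1 hpq hi1 p1 hp1
  have e2 := ι_whiskerR_v γ Y pp q ii j (by omega) (by omega) p2 (by omega)
  have e3 := ι_whiskerR_v γ Y p qq ii j (by omega) (by omega) p1 hp1
  have e4 := ι_whiskerR_v (δ n m γ) Y p q i j hpq hij p2 hp2
  have d1 := ι_d L Y p1 q i1 j p2 qq (by omega) (by omega) (by omega) hqq
  have d2 := ι_d K Y p q i ii pp qq hpq hii hpp hqq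
  rw [δ_v n m hnm _ i j hij i1 ii (by omega) hii, Preadditive.comp_add,
    reassoc_of% e1, d1, Linear.comp_units_smul, reassoc_of% d2, e4,
    δ_v n m hnm γ p p2 hp2 p1 pp (by omega) hpp]
  simp only [Preadditive.comp_add, Linear.comp_units_smul, MonoidalPreadditive.add_whiskerRight,
    units_smul_whiskerRight', comp_whiskerRight, Preadditive.add_comp, Category.assoc,
    Linear.units_smul_comp, smul_add, e2, e3]
  have hex : (γ.v p p1 hp1 ▷ Y.X q) ≫ (L.X p1 ◁ Y.d q qq) =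
      (K.X p ◁ Y.d q qq) ≫ (γ.v p p1 hp1 ▷ Y.X qq) := (whisker_exchange _ _).symm
  rw [reassoc_of% hex]
  have hsign : m.negOnePow * p.negOnePow = -p1.negOnePow := by
    rw [← hp1, ← hnm, Int.negOnePow_succ, Int.negOnePow_add]
    simp [mul_comm]
  rw [smul_smul, hsign]
  simp only [Units.neg_smul]
  abel

end Groth.Agent.Lib.Helper87.CochainWhisker
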