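import Mathlib
import Groth.Agent.Lib.Helper87.CochainWhisker

/-!
# Tensoring a mapping cone with a complex: `Cone(φ) ⊗ Y ≅ Cone(φ ⊗ Y)`
-/

set_option autoImplicit false
universe u
open CategoryTheory CategoryTheory.Limits MonoidalCategory HomologicalComplex CochainComplex
open HomComplex

namespace Groth.Agent.Lib.Helper87.ConeTensor

open Groth.Agent.Lib.Helper87.CochainWhisker

variable {A : Type u} [CommRing A]

variable {K L M : Cx A}

/-- `f ⊗ Y` for a morphism of complexes -/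
noncomputable abbrev tH (f : K ⟶ L) (Y : Cx A) : T K Y ⟶ T L Y :=
  HomologicalComplex.tensorHom f (𝟙 Y)

lemma whiskerR_ofHom_id (K Y : Cx A) :
    whiskerR (Cochain.ofHom (𝟙 K)) Y = Cochain.ofHom (𝟙 (T K Y)) := by
  apply cochain_ext
  intro p q i j hpq hij
  obtain rfl : i = j := by omega
  rw [ι_whiskerR_v _ _ p q i i hpq hij p (add_zero p), Cochain.ofHom_v, Cochain.ofHom_v]
  simp

lemma tH_id (K Y : Cx A) : tH (𝟙 K) Y = 𝟙 (T K Y) := by
  apply Cochain.ofHom_injective
  rw [← whiskerR_ofHom, whiskerR_ofHom_id]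

lemma tH_comp (f : K ⟶ L) (g : L ⟶ M) (Y : Cx A) : tH (f ≫ g) Y = tH f Y ≫ tH g Y := by
  apply Cochain.ofHom_injective
  rw [← whiskerR_ofHom, Cochain.ofHom_comp, whiskerR_comp, whiskerR_ofHom, whiskerR_ofHom,
    ← Cochain.ofHom_comp]

lemma whiskerR_v_comp (Y : Cx A) {n₁ n₂ n₁₂ : ℤ} (γ₁ : Cochain K L n₁) (γ₂ : Cochain L M n₂)
    (h : n₁ + n₂ = n₁₂) (γ₁₂ : Cochain K M n₁₂) (hγ : γ₁.comp γ₂ h = γ₁₂)
    (a b c : ℤ) (hab : a + n₁ = b) (hbc : b + n₂ = c) :
    (whiskerR γ₁ Y).v a b hab ≫ (whiskerR γ₂ Y).v b c hbc =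
      (whiskerR γ₁₂ Y).v a c (by omega) := by
  rw [← hγ, whiskerR_comp, Cochain.comp_v _ _ h a b c hab hbc]

variable (φ : K ⟶ L) (Y : Cx A)

/-- the morphism `Cone(φ ⊗ Y) ⟶ Cone(φ) ⊗ Y` -/
noncomputable def toT : mappingCone (tH φ Y) ⟶ T (mappingCone φ) Y :=
  mappingCone.desc _ (whiskerR (mappingCone.inl φ) Y) (tH (mappingCone.inr φ) Y) (by
    rw [δ_whiskerR, mappingCone.δ_inl, whiskerR_ofHom]
    exact congrArg Cochain.ofHom (tH_comp φ (mappingCone.inr φ) Y))

/-- the morphism `Cone(φ) ⊗ Y ⟶ Cone(φ ⊗ Y)` -/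
noncomputable def fromT : T (mappingCone φ) Y ⟶ mappingCone (tH φ Y) :=
  mappingCone.lift _
    (Cocycle.mk (whiskerR (mappingCone.fst φ).1 Y) 2 (by omega) (by
      rw [δ_whiskerR, Cocycle.δ_eq_zero, whiskerR_zero]))
    (whiskerR (mappingCone.snd φ) Y) (by
      rw [δ_whiskerR, mappingCone.δ_snd, whiskerR_neg, whiskerR_comp, whiskerR_ofHom]
      simp)

lemma fromT_toT : fromT φ Y ≫ toT φ Y = 𝟙 _ := by
  ext n : 1
  unfold fromT toT
  rw [HomologicalComplex.comp_f, mappingCone.lift_desc_f _ _ _ _ _ _ _ n (n + 1) rfl]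
  have h := congrArg (fun γ => whiskerR γ Y) (mappingCone.id φ)
  simp only [whiskerR_add, whiskerR_comp, whiskerR_ofHom, tH_id] at h
  have h' := Cochain.congr_v h n n (add_zero n)
  rw [Cochain.add_v, Cochain.comp_v _ _ (add_neg_cancel 1) n (n + 1) n rfl (by omega),
    Cochain.comp_v _ _ (add_zero 0) n n n (add_zero n) (add_zero n), Cochain.ofHom_v,
    Cochain.ofHom_v] at h'
  exact h'

lemma toT_fromT : toT φ Y ≫ fromT φ Y = 𝟙 _ := by
  ext n : 1
  rw [HomologicalComplex.comp_f, HomologicalComplex.id_f]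
  have e1 := whiskerR_v_comp Y _ _ _ _ (mappingCone.inl_fst φ)
  have e2 := whiskerR_v_comp Y _ _ _ _ (mappingCone.inl_snd φ)
  have e3 := whiskerR_v_comp Y _ _ _ _ (mappingCone.inr_fst φ)
  have e4 := whiskerR_v_comp Y _ _ _ _ (mappingCone.inr_snd φ)
  apply mappingCone.ext_from _ (n + 1) n rfl
  · apply mappingCone.ext_to _ n (n + 1) rfl
    · unfold fromT toT
      simp only [Category.assoc, mappingCone.inl_v_desc_f_assoc, mappingCone.lift_f_fst_v,
        Cocycle.mk_coe, Category.comp_id, mappingCone.inl_v_fst_v]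
      rw [e1 (n + 1) n (n + 1) (by omega) rfl, whiskerR_ofHom_id, Cochain.ofHom_v,
        HomologicalComplex.id_f]
    · unfold fromT toT
      simp only [Category.assoc, mappingCone.inl_v_desc_f_assoc, mappingCone.lift_f_snd_v,
        Category.comp_id, mappingCone.inl_v_snd_v]
      rw [e2 (n + 1) n n (by omega) (add_zero n), whiskerR_zero, Cochain.zero_v]
  · apply mappingCone.ext_to _ n (n + 1) rfl
    · unfold fromT toT
      simp only [Category.assoc, mappingCone.inr_f_desc_f_assoc, mappingCone.lift_f_fst_v,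
        Cocycle.mk_coe, Category.comp_id, mappingCone.inr_f_fst_v]
      have := e3 n n (n + 1) (add_zero n) rfl
      rw [whiskerR_ofHom, Cochain.ofHom_v, whiskerR_zero, Cochain.zero_v] at this
      exact this
    · unfold fromT toT
      simp only [Category.assoc, mappingCone.inr_f_desc_f_assoc, mappingCone.lift_f_snd_v,
        Category.comp_id, mappingCone.inr_f_snd_v]
      have := e4 n n n (add_zero n) (add_zero n)
      rw [whiskerR_ofHom, Cochain.ofHom_v, whiskerR_ofHom_id, Cochain.ofHom_v,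
        HomologicalComplex.id_f] at this
      exact this

/-- `Cone(φ) ⊗ Y ≅ Cone(φ ⊗ Y)` -/
noncomputable def coneTensorIso : T (mappingCone φ) Y ≅ mappingCone (tH φ Y) where
  hom := fromT φ Y
  inv := toT φ Y
  hom_inv_id := fromT_toT φ Y
  inv_hom_id := toT_fromT φ Y

end Groth.Agent.Lib.Helper87.ConeTensor
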