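import Mathlib
import Groth.Agent.Lib.Helper87.ConeTensor
import Groth.Agent.Lib.Helper87.KzLES
import Groth.Prelude.Def_Koszul
import Groth.Prelude.Def_DRing2

/-!
# `K(f) ⊗ K(g) ≅ K(f ++ g)` for the iterated mapping cone model of the Koszul complex
-/

set_option autoImplicit false
universe u
open CategoryTheory CategoryTheory.Limits MonoidalCategory HomologicalComplex CochainComplex
open HomComplex

namespace Groth.Agent.Lib.Helper87.KoszulTensor

open Groth.Agent.Lib.Helper87.CochainWhisker Groth.Agent.Lib.Helper87.ConeTensor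
open Groth.Agent.Lib.Helper94.KoszulReg Groth.Agent.Lib.Helper87.KzLES

variable {A : Type u} [CommRing A]

lemma tH_smul_id (a : A) (K Y : Cx A) : tH (a • 𝟙 K) Y = a • 𝟙 (T K Y) := by
  ext j : 1
  apply mapBifunctor.hom_ext
  intro p q hpq
  erw [ι_mapBifunctorMap]
  simp [MonoidalLinear.smul_whiskerRight]

/-- cones of equal morphisms are isomorphic -/
noncomputable def coneCongr {K L : Cx A} {φ φ' : K ⟶ L} (h : φ = φ') :
    mappingCone φ ≅ mappingCone φ' := eqToIso (by rw [h])

/-- `kz` of isomorphic complexes -/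
noncomputable def kzIso {X X' : Cx A} (e : X ≅ X') (l : List A) : kz X l ≅ kz X' l where
  hom := kmap e.hom l
  inv := kmap e.inv l
  hom_inv_id := by rw [← kmap_comp, e.hom_inv_id, kmap_id]
  inv_hom_id := by rw [← kmap_comp, e.inv_hom_id, kmap_id]

theorem cone_congr (a : A) {X Y : Cx A} (h : X = Y) :
    mappingCone (a • 𝟙 X) = mappingCone (a • 𝟙 Y) := by
  subst h; rfl

theorem kz_append (X : Cx A) (g : List A) : ∀ f : List A, kz X (f ++ g) = kz (kz X g) f
  | [] => rfl
  | a :: l => by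
    change mappingCone (a • 𝟙 (kz X (l ++ g))) = mappingCone (a • 𝟙 (kz (kz X g) l))
    exact cone_congr a (kz_append X g l)

theorem koszul_eq : ∀ l : List A, Koszul.koszul A l = kz (Koszul.koszul A []) l
  | [] => rfl
  | a :: l => by
    change mappingCone (a • 𝟙 (Koszul.koszul A l)) = mappingCone (a • 𝟙 (kz (Koszul.koszul A []) l))
    exact cone_congr a (koszul_eq l)

/-- `kz X f ⊗ Y ≅ kz (X ⊗ Y) f` -/
theorem nonempty_kz_tensor (X Y : Cx A) : ∀ f : List A, Nonempty (T (kz X f) Y ≅ kz (T X Y) f)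
  | [] => ⟨Iso.refl _⟩
  | a :: l => by
    obtain ⟨e⟩ := nonempty_kz_tensor X Y l
    refine ⟨(coneTensorIso (a • 𝟙 (kz X l)) Y).trans
      ((coneCongr (tH_smul_id a (kz X l) Y)).trans ?_)⟩
    exact kzIso e [a]

theorem nonempty_koszul_tensor (f g : List A) :
    Nonempty ((MonoidalCategoryStruct.tensorObj (C := DRing.Cx A) (Koszul.koszul A f)
      (Koszul.koszul A g)) ≅ Koszul.koszul A (f ++ g)) := by
  obtain ⟨e⟩ := nonempty_kz_tensor (Koszul.koszul A []) (Koszul.koszul A g) f
  have e2 : T (Koszul.koszul A []) (Koszul.koszul A g) ≅ Koszul.koszul A g :=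
    λ_ (Koszul.koszul A g)
  have h1 : Koszul.koszul A (f ++ g) = kz (Koszul.koszul A g) f := by
    rw [koszul_eq (f ++ g), kz_append, ← koszul_eq g]
  have h2 : (MonoidalCategoryStruct.tensorObj (C := DRing.Cx A) (Koszul.koszul A f)
      (Koszul.koszul A g)) = T (kz (Koszul.koszul A []) f) (Koszul.koszul A g) := by
    rw [← koszul_eq f]
    rfl
  exact ⟨(eqToIso h2).trans (e.trans ((kzIso e2 f).trans (eqToIso h1.symm)))⟩

end Groth.Agent.Lib.Helper87.KoszulTensor
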