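import Mathlib
import Groth.Agent.Lib.Helper87.CIReg
import Groth.Agent.Lib.Helper28.CMRingAux
import Groth.Agent.Lib.Helper49.SkLift
import Groth.Agent.S18865

/-!
# Quotients of Cohen–Macaulay rings by regular sequences
-/

set_option autoImplicit false
set_option linter.style.haveILetI false
universe u

namespace Groth.Agent.Lib.Helper87.CIRing

open Groth.Agent.Lib.Helper28.CMRingAux

/-- quotient of a CM ring by a regular sequence is CM -/
theorem isCM_quotient_ofList (R : Type u) [CommRing R] (hR : LocCoh.IsCohenMacaulayRing R)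
    (l : List R)
    (hreg : ∀ (i : ℕ) (hi : i < l.length) (y : R), l[i] * y ∈ Ideal.ofList (l.take i) →
      y ∈ Ideal.ofList (l.take i)) :
    ∀ i, i ≤ l.length → LocCoh.IsCohenMacaulayRing (R ⧸ Ideal.ofList (l.take i)) := by
  intro i
  induction i with
  | zero =>
    intro _
    have h0 : Ideal.ofList (l.take 0) = ⊥ := by rw [List.take_zero, Ideal.ofList_nil]
    exact isCohenMacaulayRing_of_ringEquiv
      ((Ideal.quotEquivOfEq h0).trans (RingEquiv.quotientBot R)) hR
  | succ i ih =>
    intro hi
    have hi' : i < l.length := by omega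
    have hCM := ih (by omega)
    set J := Ideal.ofList (l.take i) with hJ
    set g := l[i] with hg
    have hnzd : Ideal.Quotient.mk J g ∈ nonZeroDivisors (R ⧸ J) := by
      rw [mem_nonZeroDivisors_iff_left]
      intro x hx
      obtain ⟨y, rfl⟩ := Ideal.Quotient.mk_surjective x
      rw [← map_mul, Ideal.Quotient.eq_zero_iff_mem] at hx
      rw [Ideal.Quotient.eq_zero_iff_mem]
      exact hreg i hi' y hx
    have h1 := isCohenMacaulayRing_quotient_span hCM _ hnzd
    have htake : l.take (i + 1) = l.take i ++ [g] := by
      rw [List.take_succ_eq_append_getElem hi']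
    have hJ' : Ideal.ofList (l.take (i + 1)) = J ⊔ Ideal.span {g} := by
      rw [htake, Ideal.ofList_append, Ideal.ofList_singleton]
    have hmap : (Ideal.span {g}).map (Ideal.Quotient.mk J) = Ideal.span {Ideal.Quotient.mk J g} := by
      rw [Ideal.map_span, Set.image_singleton]
    let e : (R ⧸ Ideal.ofList (l.take (i + 1))) ≃+* ((R ⧸ J) ⧸ Ideal.span {Ideal.Quotient.mk J g}) :=
      (Ideal.quotEquivOfEq hJ').trans
        ((DoubleQuot.quotQuotEquivQuotSup J (Ideal.span {g})).symm.trans
          (Ideal.quotEquivOfEq hmap))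
    exact isCohenMacaulayRing_of_ringEquiv e h1

/-- a CM ring satisfies all `(S_n)` -/
theorem hasSk_of_isCM' (R : Type u) [CommRing R] (hR : LocCoh.IsCohenMacaulayRing R) (n : ℕ) :
    LocCoh.HasSk n R R := by
  haveI : IsNoetherianRing R := hR.toIsNoetherian
  rw [Groth.Agent.Lib.Helper49.SkLift.hasSk_self_iff']
  intro p hp
  have h := (hR.isCohenMacaulayLocalRing_localization p).supportDim_eq_depth
  rw [Module.supportDim_self_eq_ringKrullDim,
    IsLocalization.AtPrime.ringKrullDim_eq_height p (Localization.AtPrime p)] at h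
  have h2 : p.height = LocCoh.depth (Localization.AtPrime p) (Localization.AtPrime p) :=
    WithBot.coe_injective h
  rw [← h2]
  exact min_le_right _ _

end Groth.Agent.Lib.Helper87.CIRing
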