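import Mathlib
import Groth.Agent.Lib.Helper87.CIRing
import Groth.Agent.Lib.Helper33.Unmixed
import Groth.Agent.S0601
import Groth.Agent.S10915

/-!
# Projective normality of complete intersections
-/

set_option autoImplicit false
set_option linter.style.haveILetI false
universe u
open MvPolynomial IsLocalRing

namespace Groth.Agent.Lib.Helper87.CINormal

open Groth.Agent.Lib.Helper87.HilbFnA Groth.Agent.Lib.Helper87.HilbFnE
open Groth.Agent.Lib.Helper87.HilbFnG
open Groth.Agent.Lib.Helper87.HilbFnI Groth.Agent.Lib.Helper87.CIReg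
open Groth.Agent.Lib.Helper87.CIRing

attribute [local instance] MvPolynomial.gradedAlgebra

theorem isRegularLocalRing_of_normal_of_dim_le_one (B : Type u) [CommRing B] [IsLocalRing B]
    [IsNoetherianRing B] [IsDomain B] [IsIntegrallyClosed B] (h : ringKrullDim B ≤ 1) :
    IsRegularLocalRing B := by
  have hmax : (maximalIdeal B).height ≤ 1 := by
    have := IsLocalRing.maximalIdeal_height_eq_ringKrullDim (R := B)
    rw [← this] at h
    exact_mod_cast h
  haveI : Ring.DimensionLEOne B := by
    refine ⟨fun {P} hP0 hP => ?_⟩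
    have hle : P ≤ maximalIdeal B := IsLocalRing.le_maximalIdeal hP.ne_top
    rcases eq_or_lt_of_le hle with heq | hlt
    · rw [heq]; infer_instance
    · exfalso
      have h1 := Ideal.height_add_one_le_of_lt_of_isPrime hlt
      have h2 : P.height ≠ 0 := fun h0 => hP0 (Ideal.height_eq_zero_iff_eq_bot.mp h0)
      have h3 : 1 ≤ P.height := Order.one_le_iff_ne_zero.mpr h2
      have h4 : (1 : ℕ∞) + 1 ≤ 1 := (add_le_add_left h3 1).trans (h1.trans hmax)
      exact absurd h4 (by decide)
  haveI : IsDedekindRing B := {}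
  haveI : IsDedekindDomain B := {}
  exact IsRegularLocalRing.of_isRegularRing_of_isLocalRing B

variable {k : Type u} [Field k] (n r : ℕ)

theorem irr_eq_span : irr k (Fin (n + 1)) =
    Ideal.span (Set.range (X : Fin (n + 1) → MvPolynomial (Fin (n + 1)) k)) :=
  (Groth.Agent.S10915.irr_eq_ker (k := k) (n := n)).symm

section main

variable (hr : r < n) (f : Fin r → MvPolynomial (Fin (n + 1)) k) (d : Fin r → ℕ)
  (hf : ∀ i, (f i).IsHomogeneous (d i)) (hd : ∀ i, 0 < d i)
  (hJ : (Ideal.span (Set.range f)).height = r)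

include hf hd hJ

theorem span_le_irr : Ideal.span (Set.range f) ≤ irr k (Fin (n + 1)) := by
  rw [Ideal.span_le]
  rintro _ ⟨i, rfl⟩
  exact mem_irr_of_isHomogeneous (hf i) (hd i)

theorem span_isHomogeneous :
    (Ideal.span (Set.range f)).IsHomogeneous (homogeneousSubmodule (Fin (n + 1)) k) := by
  refine Ideal.homogeneous_span _ _ ?_
  rintro _ ⟨i, rfl⟩
  exact ⟨d i, hf i⟩

/-- the coordinate ring of a complete intersection is Cohen–Macaulay -/
theorem isCM_quotient :
    LocCoh.IsCohenMacaulayRing (MvPolynomial (Fin (n + 1)) k ⧸ Ideal.span (Set.range f)) := by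
  have hreg := reg_of_height n r f d hd hf hJ
  have hS : LocCoh.IsCohenMacaulayRing (MvPolynomial (Fin (n + 1)) k) :=
    Groth.Agent.S18865.isCohenMacaulayRing_of_isRegularRing _
  have h1 := isCM_quotient_ofList (MvPolynomial (Fin (n + 1)) k) hS (List.ofFn f) (by
    intro i hi y hy
    have hi' : i < r := by rwa [List.length_ofFn] at hi
    rw [List.getElem_ofFn] at hy
    exact hreg i hi' y hy) (List.ofFn f).length le_rfl
  rw [List.take_length] at h1
  exact Groth.Agent.Lib.Helper28.CMRingAux.isCohenMacaulayRing_of_ringEquiv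
    (Ideal.quotEquivOfEq (ofList_ofFn_eq_span f).symm) h1

include hr

/-- the vertex has height at least two in the cone -/
theorem not_height_vertex_le_one :
    ¬ ((irr k (Fin (n + 1))).map (Ideal.Quotient.mk (Ideal.span (Set.range f)))).height ≤ 1 := by
  intro hle
  set J := Ideal.span (Set.range f) with hJdef
  have hJm := span_le_irr n r f d hf hd hJ
  obtain ⟨q, hq, hqm⟩ := Ideal.exists_minimalPrimes_le hJm
  haveI hS : LocCoh.IsCohenMacaulayRing (MvPolynomial (Fin (n + 1)) k) :=
    Groth.Agent.S18865.isCohenMacaulayRing_of_isRegularRing _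
  haveI hS' : LocCoh.IsCohenMacaulayRing (MvPolynomial (Fin (n + 1)) k ⧸ J) :=
    isCM_quotient n r f d hf hd hJ
  have h1 := Groth.Agent.Lib.Helper33.Unmixed.height_eq_add_of_mem_minimalPrimes
    (MvPolynomial (Fin (n + 1)) k) J (irr k (Fin (n + 1))) q hq hqm
  rw [height_irr] at h1
  have h2 : q.height ≤ r := by
    have := Ideal.height_le_card_of_mem_minimalPrimes_span (Set.finite_range f) hq
    refine this.trans ?_
    have hc : (Set.range f).ncard ≤ r := by
      have := Set.ncard_image_le (f := f) (Set.finite_univ (α := Fin r))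
      rw [Set.image_univ, Set.ncard_univ, Nat.card_eq_fintype_card, Fintype.card_fin] at this
      exact this
    exact_mod_cast hc
  have h3 : ((n + 1 : ℕ) : ℕ∞) ≤ (r : ℕ∞) + 1 := by
    rw [h1]
    exact add_le_add h2 hle
  have h4 : n + 1 ≤ r + 1 := by exact_mod_cast h3
  omega

variable (hnorm : ∀ (Q : Ideal (MvPolynomial (Fin (n + 1)) k ⧸ Ideal.span (Set.range f))) [Q.IsPrime],
      (∃ i, Ideal.Quotient.mk (Ideal.span (Set.range f)) (MvPolynomial.X i) ∉ Q) →
        IsDomain (Localization.AtPrime Q) ∧ IsIntegrallyClosed (Localization.AtPrime Q))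

include hnorm

theorem hasR1 : LocCoh.HasRk 1 (MvPolynomial (Fin (n + 1)) k ⧸ Ideal.span (Set.range f)) := by
  intro p hp hht
  by_cases hex : ∃ i, Ideal.Quotient.mk (Ideal.span (Set.range f)) (MvPolynomial.X i) ∉ p
  · obtain ⟨hdom, hic⟩ := hnorm p hex
    haveI := hdom
    haveI := hic
    apply isRegularLocalRing_of_normal_of_dim_le_one
    rw [IsLocalization.AtPrime.ringKrullDim_eq_height p (Localization.AtPrime p)]
    exact_mod_cast hht
  · exfalso
    push Not at hex
    have hJm := span_le_irr n r f d hf hd hJ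
    -- `p` is the vertex
    have h1 : irr k (Fin (n + 1)) ≤ p.comap (Ideal.Quotient.mk (Ideal.span (Set.range f))) := by
      rw [irr_eq_span, Ideal.span_le]
      rintro _ ⟨i, rfl⟩
      exact hex i
    have h2 : irr k (Fin (n + 1)) = p.comap (Ideal.Quotient.mk (Ideal.span (Set.range f))) :=
      (irr_isMaximal (k := k) (σ := Fin (n + 1))).eq_of_le (Ideal.IsPrime.comap _).ne_top h1
    have h3 : p = (irr k (Fin (n + 1))).map (Ideal.Quotient.mk (Ideal.span (Set.range f))) := by
      rw [h2, Ideal.map_comap_of_surjective _ Ideal.Quotient.mk_surjective]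
    apply not_height_vertex_le_one n r hr f d hf hd hJ
    rw [← h3]
    exact_mod_cast hht

/-- all local rings of the cone are normal domains -/
theorem local_normal (p : Ideal (MvPolynomial (Fin (n + 1)) k ⧸ Ideal.span (Set.range f)))
    [p.IsPrime] : IsDomain (Localization.AtPrime p) ∧ IsIntegrallyClosed (Localization.AtPrime p) := by
  have hCM := isCM_quotient n r f d hf hd hJ
  have hS2 := hasSk_of_isCM' _ hCM 2
  have hR1 := hasR1 n r hr f d hf hd hJ hnorm
  exact (Groth.Agent.S0601.result _).mpr ⟨hR1, hS2⟩ p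

theorem vertex_isPrime :
    ((irr k (Fin (n + 1))).map (Ideal.Quotient.mk (Ideal.span (Set.range f)))).IsPrime := by
  apply Ideal.map_isPrime_of_surjective Ideal.Quotient.mk_surjective
  rw [Ideal.mk_ker]
  exact span_le_irr n r f d hf hd hJ

/-- **projective normality** -/
theorem domain_and_normal :
    IsDomain (MvPolynomial (Fin (n + 1)) k ⧸ Ideal.span (Set.range f)) ∧
      IsIntegrallyClosed (MvPolynomial (Fin (n + 1)) k ⧸ Ideal.span (Set.range f)) := by
  have hloc := local_normal n r hr f d hf hd hJ hnorm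
  have hJm := span_le_irr n r f d hf hd hJ
  have hJh := span_isHomogeneous n r f d hf hd hJ
  -- reduced
  haveI hred : IsReduced (MvPolynomial (Fin (n + 1)) k ⧸ (Ideal.span (Set.range f))) := by
    apply isReduced_ofLocalizationMaximal
    intro P hP
    haveI := (hloc P).1
    infer_instance
  haveI hvp := vertex_isPrime n r hr f d hf hd hJ hnorm
  haveI := (hloc ((irr k (Fin (n + 1))).map (Ideal.Quotient.mk (Ideal.span (Set.range f))))).1
  -- the localization map at the vertex is injective
  have hinj : Function.Injective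
      (algebraMap (MvPolynomial (Fin (n + 1)) k ⧸ (Ideal.span (Set.range f))) (Localization.AtPrime ((irr k (Fin (n + 1))).map (Ideal.Quotient.mk (Ideal.span (Set.range f)))))) := by
    refine (injective_iff_map_eq_zero (algebraMap (MvPolynomial (Fin (n + 1)) k ⧸ (Ideal.span (Set.range f)))
      (Localization.AtPrime ((irr k (Fin (n + 1))).map (Ideal.Quotient.mk (Ideal.span (Set.range f))))))).mpr ?_
    intro x hx
    have hmin : ∀ P ∈ (⊥ : Ideal (MvPolynomial (Fin (n + 1)) k ⧸ (Ideal.span (Set.range f)))).minimalPrimes, x ∈ P := by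
      intro P hP
      haveI : P.IsPrime := hP.1.1
      -- `P ≤ ((irr k (Fin (n + 1))).map (Ideal.Quotient.mk (Ideal.span (Set.range f))))`
      have hQ : P.comap (Ideal.Quotient.mk (Ideal.span (Set.range f))) ∈ (Ideal.span (Set.range f)).minimalPrimes := by
        have := Ideal.minimalPrimes_comap_of_surjective
          (f := Ideal.Quotient.mk (Ideal.span (Set.range f))) Ideal.Quotient.mk_surjective hP
        rwa [← RingHom.ker_eq_comap_bot, Ideal.mk_ker] at this
      have hQh := isHomogeneous_of_mem_minimalPrimes hJh hQ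
      have hQm : P.comap (Ideal.Quotient.mk (Ideal.span (Set.range f))) ≤ irr k (Fin (n + 1)) := by
        intro g hg
        rw [mem_irr]
        exact constantCoeff_eq_zero_of_mem hQh hQ.1.1.ne_top hg
      have hPm : P ≤ ((irr k (Fin (n + 1))).map (Ideal.Quotient.mk (Ideal.span (Set.range f)))) := by
        rw [← Ideal.map_comap_of_surjective _ Ideal.Quotient.mk_surjective P]
        exact Ideal.map_mono hQm
      obtain ⟨s, hs⟩ := (IsLocalization.map_eq_zero_iff ((irr k (Fin (n + 1))).map (Ideal.Quotient.mk (Ideal.span (Set.range f)))).primeCompl (Localization.AtPrime ((irr k (Fin (n + 1))).map (Ideal.Quotient.mk (Ideal.span (Set.range f))))) x).mp hx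
      have hsx : (s : MvPolynomial (Fin (n + 1)) k ⧸ (Ideal.span (Set.range f))) * x ∈ P := by rw [hs]; exact P.zero_mem
      rcases Ideal.IsPrime.mem_or_mem ‹P.IsPrime› hsx with h | h
      · exact absurd (hPm h) s.2
      · exact h
    have hx' : x ∈ sInf (⊥ : Ideal (MvPolynomial (Fin (n + 1)) k ⧸ (Ideal.span (Set.range f)))).minimalPrimes := by
      rw [Submodule.mem_sInf]
      exact hmin
    rw [Ideal.sInf_minimalPrimes] at hx'
    have : (⊥ : Ideal (MvPolynomial (Fin (n + 1)) k ⧸ (Ideal.span (Set.range f)))).radical = ⊥ := by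
      have := nilradical_eq_zero (MvPolynomial (Fin (n + 1)) k ⧸ (Ideal.span (Set.range f)))
      exact this
    rw [this, Ideal.mem_bot] at hx'
    exact hx'
  haveI hdom : IsDomain (MvPolynomial (Fin (n + 1)) k ⧸ (Ideal.span (Set.range f))) :=
    Function.Injective.isDomain _ hinj
  refine ⟨hdom, ?_⟩
  apply IsIntegrallyClosed.of_localization_maximal
  intro p _ hp
  exact (hloc p).2

end main

end Groth.Agent.Lib.Helper87.CINormal
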