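import Mathlib
import Groth.Prelude.Def_Curves

open MvPolynomial

namespace Groth.Agent.Lib.Helper87.TsenLang

section General

variable {K : Type*} [Field K]

/-- `IsCi` for arbitrary finite index types. -/
theorem isCi_general {i : ℕ} (hK : Curves.IsCi K i) {ρ σ : Type*} [Fintype ρ] [Fintype σ]
    (f : ρ → MvPolynomial σ K) (d : ρ → ℕ) (hf : ∀ r, (f r).IsHomogeneous (d r))
    (hd : ∀ r, 0 < d r) (hlt : ∑ r, d r ^ i < Fintype.card σ) :
    ∃ a : σ → K, a ≠ 0 ∧ ∀ r, eval a (f r) = 0 := by
  classical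
  let eρ : ρ ≃ Fin (Fintype.card ρ) := Fintype.equivFin ρ
  let eσ : σ ≃ Fin (Fintype.card σ) := Fintype.equivFin σ
  obtain ⟨a, ha, hz⟩ := hK (Fintype.card ρ) (Fintype.card σ)
    (fun k => rename eσ (f (eρ.symm k))) (fun k => d (eρ.symm k))
    (fun k => (hf _).rename_isHomogeneous) (fun k => hd _)
    (by rw [Equiv.sum_comp eρ.symm (fun r => d r ^ i)]; exact hlt)
  refine ⟨a ∘ eσ, ?_, fun r => ?_⟩
  · intro h
    apply ha
    funext k
    have := congrFun h (eσ.symm k)
    simpa using this
  · have := hz (eρ r)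
    rwa [eval_rename, Equiv.symm_apply_apply] at this

/-- `IsCr` for an arbitrary finite index type. -/
theorem isCr_general {r : ℕ} (hK : Curves.IsCr K r) {σ : Type*} [Fintype σ]
    (f : MvPolynomial σ K) (d : ℕ) (hf : f.IsHomogeneous d)
    (hd : 0 < d) (hlt : d ^ r < Fintype.card σ) :
    ∃ a : σ → K, a ≠ 0 ∧ eval a f = 0 := by
  classical
  let eσ : σ ≃ Fin (Fintype.card σ) := Fintype.equivFin σ
  obtain ⟨a, ha, hz⟩ := hK (Fintype.card σ) d (rename eσ f) hf.rename_isHomogeneous hd hlt
  refine ⟨a ∘ eσ, ?_, ?_⟩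
  · intro h
    apply ha
    funext k
    have := congrFun h (eσ.symm k)
    simpa using this
  · rwa [eval_rename] at hz

end General

section CoeffMap

variable {K : Type*} [CommSemiring K] {R : Type*} [CommSemiring R] [Algebra K R] {σ : Type*}

/-- Apply a `K`-linear functional to every coefficient of a polynomial. -/
noncomputable def coeffMap (φ : R →ₗ[K] K) (G : MvPolynomial σ R) : MvPolynomial σ K :=
  ∑ m ∈ G.support, monomial m (φ (coeff m G))

theorem coeff_coeffMap (φ : R →ₗ[K] K) (G : MvPolynomial σ R) (m : σ →₀ ℕ) :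
    coeff m (coeffMap φ G) = φ (coeff m G) := by
  classical
  unfold coeffMap
  rw [coeff_sum]
  simp only [coeff_monomial]
  rw [Finset.sum_ite_eq' G.support m]
  split_ifs with h
  · rfl
  · rw [notMem_support_iff.mp h, map_zero]

theorem support_coeffMap_subset (φ : R →ₗ[K] K) (G : MvPolynomial σ R) :
    (coeffMap φ G).support ⊆ G.support := by
  intro m hm
  rw [mem_support_iff, coeff_coeffMap] at hm
  rw [mem_support_iff]
  intro h
  exact hm (by rw [h, map_zero])

theorem isHomogeneous_coeffMap (φ : R →ₗ[K] K) {G : MvPolynomial σ R} {d : ℕ}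
    (hG : G.IsHomogeneous d) : (coeffMap φ G).IsHomogeneous d := by
  intro m hm
  rw [coeff_coeffMap] at hm
  exact hG (fun h => hm (by rw [h, map_zero]))

theorem eval_coeffMap [Fintype σ] (φ : R →ₗ[K] K) (G : MvPolynomial σ R) (y : σ → K) :
    eval y (coeffMap φ G) = φ (eval (fun j => algebraMap K R (y j)) G) := by
  classical
  rw [eval_eq' (fun j => algebraMap K R (y j)) G, map_sum]
  rw [eval_eq' y, Finset.sum_subset (support_coeffMap_subset φ G)]
  · refine Finset.sum_congr rfl fun m _ => ?_
    rw [coeff_coeffMap]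
    simp_rw [← map_pow, ← map_prod]
    rw [← Algebra.commutes, ← Algebra.smul_def, map_smul, smul_eq_mul, mul_comm]
  · intro m _ hm
    rw [notMem_support_iff.mp hm, zero_mul]

end CoeffMap

section Subst

variable {R : Type*} [CommSemiring R] {σ τ : Type*} [Fintype τ]

/-- The substitution `x_j = ∑ l, e l * Y (j, l)`. -/
noncomputable def subst (e : τ → R) (f : MvPolynomial σ R) : MvPolynomial (σ × τ) R :=
  aeval (fun j : σ => ∑ l : τ, C (e l) * X (j, l)) f

theorem isHomogeneous_subst (e : τ → R) {f : MvPolynomial σ R} {d : ℕ}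
    (hf : f.IsHomogeneous d) : (subst e f).IsHomogeneous d := by
  have := hf.aeval (S := R) (n := 1) (fun j : σ => ∑ l : τ, C (e l) * X ((j, l) : σ × τ))
    (fun j => IsHomogeneous.sum _ _ _ fun l _ => isHomogeneous_C_mul_X _ _)
  rwa [one_mul] at this

theorem eval_subst (e : τ → R) (f : MvPolynomial σ R) (z : σ × τ → R) :
    eval z (subst e f) = eval (fun j => ∑ l, e l * z (j, l)) f := by
  unfold subst
  induction f using MvPolynomial.induction_on with
  | C a => simp
  | add p q hp hq => rw [map_add, map_add, hp, hq, map_add]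
  | mul_X p j hp => rw [map_mul, map_mul, hp, map_mul, aeval_X, eval_X, map_sum]; simp

end Subst

end Groth.Agent.Lib.Helper87.TsenLang
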