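import Mathlib
import Groth.Agent.Lib.Helper87.HilbFnG
import Groth.Agent.Lib.Helper11.IntegralDim

/-!
# Presenting a "standard" graded algebra as a quotient of a polynomial ring, with its Hilbert function
-/

set_option autoImplicit false
set_option linter.style.haveILetI false
universe u
open MvPolynomial

namespace Groth.Agent.Lib.Helper87.SegreA

open Groth.Agent.Lib.Helper87.HilbFnA Groth.Agent.Lib.Helper87.HilbFnB

attribute [local instance] MvPolynomial.gradedAlgebra

section Pres

variable {k : Type u} [Field k] {A : Type u} [CommRing A] [Algebra k A]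
  (W : ℕ → Submodule k A) (hW0 : W 0 = 1) (hWs : ∀ n, W (n + 1) = W 1 * W n)
  {a : ℕ} (b : Fin a → A) (hb : Submodule.span k (Set.range b) = W 1)

include hW0 hWs in
theorem W_eq_pow (n : ℕ) : W n = (W 1) ^ n := by
  induction n with
  | zero => rw [hW0, pow_zero]
  | succ n ih => rw [hWs, ih, pow_succ']

include hW0 hWs hb in
theorem prod_pow_mem (d : Fin a →₀ ℕ) (s : Finset (Fin a)) :
    ∏ i ∈ s, b i ^ d i ∈ W (∑ i ∈ s, d i) := by
  classical
  rw [W_eq_pow W hW0 hWs]
  induction s using Finset.induction_on with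
  | empty =>
    rw [Finset.prod_empty, Finset.sum_empty, pow_zero]
    exact Submodule.one_le.mp le_rfl
  | insert i s hi ih =>
    rw [Finset.prod_insert hi, Finset.sum_insert hi, pow_add]
    refine Submodule.mul_mem_mul (Submodule.pow_mem_pow _ ?_ _) ih
    rw [← hb]
    exact Submodule.subset_span ⟨i, rfl⟩

include hW0 hWs hb in
theorem aeval_mem {f : MvPolynomial (Fin a) k} {n : ℕ} (hf : f.IsHomogeneous n) :
    aeval b f ∈ W n := by
  rw [aeval_def, eval₂_eq']
  refine Submodule.sum_mem _ fun d hd => ?_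
  rw [← Algebra.smul_def]
  refine Submodule.smul_mem _ _ ?_
  have hdn : ∑ i, d i = n := by
    have h1 := hf (mem_support_iff.mp hd)
    rw [← h1, ← Finsupp.degree_eq_sum, Finsupp.degree_eq_weight_one]
    rfl
  rw [← hdn]
  exact prod_pow_mem W hW0 hWs b hb d Finset.univ

include hW0 hWs hb in
theorem map_gr_eq (n : ℕ) :
    (gr k (Fin a) n).map (aeval b : MvPolynomial (Fin a) k →ₐ[k] A).toLinearMap = W n := by
  apply le_antisymm
  · rintro _ ⟨f, hf, rfl⟩
    exact aeval_mem W hW0 hWs b hb ((mem_homogeneousSubmodule _ _).mp hf)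
  · induction n with
    | zero =>
      rw [hW0, Submodule.one_le]
      exact ⟨1, (mem_homogeneousSubmodule _ _).mpr (isHomogeneous_one _ _),
        map_one (aeval b : MvPolynomial (Fin a) k →ₐ[k] A)⟩
    | succ n ih =>
      have h1 : W 1 ≤ (gr k (Fin a) 1).map
          (aeval b : MvPolynomial (Fin a) k →ₐ[k] A).toLinearMap := by
        rw [← hb, Submodule.span_le]
        rintro _ ⟨i, rfl⟩
        exact ⟨X i, (mem_homogeneousSubmodule _ _).mpr (isHomogeneous_X _ _), aeval_X _ _⟩
      calc W (n + 1) = W 1 * W n := hWs n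
        _ ≤ (gr k (Fin a) 1).map (aeval b : MvPolynomial (Fin a) k →ₐ[k] A).toLinearMap *
            (gr k (Fin a) n).map (aeval b : MvPolynomial (Fin a) k →ₐ[k] A).toLinearMap :=
          mul_le_mul' h1 ih
        _ = (gr k (Fin a) 1 * gr k (Fin a) n).map
            (aeval b : MvPolynomial (Fin a) k →ₐ[k] A).toLinearMap :=
          (Submodule.map_mul _ _ _).symm
        _ ≤ (gr k (Fin a) (n + 1)).map
            (aeval b : MvPolynomial (Fin a) k →ₐ[k] A).toLinearMap := by
          apply Submodule.map_mono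
          rw [add_comm n 1]
          exact homogeneousSubmodule_mul 1 n

variable (p : ℕ → A →ₗ[k] A) (hp1 : ∀ n x, x ∈ W n → p n x = x)
  (hp0 : ∀ n m x, m ≠ n → x ∈ W m → p n x = 0)

include hW0 hWs hb hp1 hp0 in
theorem ker_isHomogeneous :
    (RingHom.ker (aeval b : MvPolynomial (Fin a) k →ₐ[k] A)).IsHomogeneous
      (homogeneousSubmodule (Fin a) k) := by
  classical
  intro n f hf
  have h1 : (DirectSum.decompose (homogeneousSubmodule (Fin a) k) f n : MvPolynomial (Fin a) k) =
      homogeneousComponent n f := decomposition.decompose'_apply f n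
  rw [h1, RingHom.mem_ker]
  rw [RingHom.mem_ker] at hf
  have h2 : p n (aeval b f) = aeval b (homogeneousComponent n f) := by
    conv_lhs => rw [← sum_homogeneousComponent f, map_sum, map_sum]
    rw [Finset.sum_eq_single n]
    · exact hp1 n _ (aeval_mem W hW0 hWs b hb (homogeneousComponent_isHomogeneous n f))
    · intro m _ hmn
      exact hp0 n m _ hmn (aeval_mem W hW0 hWs b hb (homogeneousComponent_isHomogeneous m f))
    · intro hn
      rw [homogeneousComponent_eq_zero _ _ (by
        by_contra hlt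
        exact hn (Finset.mem_range.mpr (by omega))), map_zero, map_zero]
  rw [← h2, hf, map_zero]

include hW0 hWs hb in
theorem hfn_ker (n : ℕ) :
    hfn (RingHom.ker (aeval b : MvPolynomial (Fin a) k →ₐ[k] A)) n = Module.finrank k (W n) := by
  set π : MvPolynomial (Fin a) k →ₗ[k] A :=
    (aeval b : MvPolynomial (Fin a) k →ₐ[k] A).toLinearMap with hπ
  set g : gr k (Fin a) n →ₗ[k] A := π.domRestrict (gr k (Fin a) n) with hg
  have h1 := LinearMap.finrank_range_add_finrank_ker g
  have h2 : LinearMap.range g = W n := by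
    rw [hg, LinearMap.range_domRestrict]
    exact map_gr_eq W hW0 hWs b hb n
  have h3 : Module.finrank k (LinearMap.ker g) =
      Module.finrank k (pc (RingHom.ker (aeval b : MvPolynomial (Fin a) k →ₐ[k] A)) n) := by
    have e : LinearMap.ker g ≃ₗ[k]
        pc (RingHom.ker (aeval b : MvPolynomial (Fin a) k →ₐ[k] A)) n :=
      { toFun := fun x => ⟨x.1.1, ⟨by
          have hx : g x.1 = 0 := LinearMap.mem_ker.mp x.2
          show x.1.1 ∈ RingHom.ker (aeval b : MvPolynomial (Fin a) k →ₐ[k] A)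
          rw [RingHom.mem_ker]
          exact hx, x.1.2⟩⟩
        map_add' := fun x y => rfl
        map_smul' := fun c x => rfl
        invFun := fun x => ⟨⟨x.1, x.2.2⟩, by
          have hx : x.1 ∈ RingHom.ker (aeval b : MvPolynomial (Fin a) k →ₐ[k] A) := x.2.1
          rw [RingHom.mem_ker] at hx
          rw [LinearMap.mem_ker]
          exact hx⟩
        left_inv := fun x => rfl
        right_inv := fun x => rfl }
    exact e.finrank_eq
  unfold hfn
  rw [← h1, h2, h3]
  push_cast
  ring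

end Pres

section Graded

variable {k : Type u} [Field k] {A : Type u} [CommRing A] [Algebra k A]
  (𝒜 : ℤ → Submodule k A) [GradedAlgebra 𝒜]

/-- `A` is integral over any subalgebra containing `𝒜 (m d)` for all `m ≥ 0`. -/
theorem isIntegral_of_veronese (hneg : ∀ n : ℤ, n < 0 → 𝒜 n = ⊥) (d : ℕ) (hd : 1 ≤ d)
    (B : Subalgebra k A) (hB : ∀ m : ℕ, 𝒜 ((m * d : ℕ) : ℤ) ≤ Subalgebra.toSubmodule B) :
    Algebra.IsIntegral B A := by
  classical
  refine ⟨fun x => ?_⟩
  rw [← DirectSum.sum_support_decompose 𝒜 x]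
  refine IsIntegral.sum _ fun m _ => ?_
  have hy : (DirectSum.decompose 𝒜 x m : A) ∈ 𝒜 m := SetLike.coe_mem _
  generalize (DirectSum.decompose 𝒜 x m : A) = y at hy
  by_cases hm : m < 0
  · rw [hneg m hm, Submodule.mem_bot] at hy
    rw [hy]
    exact isIntegral_zero
  · obtain ⟨m', rfl⟩ := Int.eq_ofNat_of_zero_le (not_lt.mp hm)
    apply IsIntegral.of_pow (n := d) (by omega)
    have h1 : y ^ d ∈ 𝒜 (d • (m' : ℤ)) := SetLike.pow_mem_graded d hy
    have h2 : (d • (m' : ℤ)) = ((m' * d : ℕ) : ℤ) := by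
      rw [nsmul_eq_mul]; push_cast; ring
    rw [h2] at h1
    have h3 : y ^ d ∈ B := hB m' h1
    have h4 : y ^ d = algebraMap B A ⟨y ^ d, h3⟩ := rfl
    rw [h4]
    exact isIntegral_algebraMap

/-- the main presentation theorem -/
theorem exists_presentation (hneg : ∀ n : ℤ, n < 0 → 𝒜 n = ⊥)
    (h0 : 𝒜 0 = Submodule.span k {(1 : A)})
    (d : ℕ) (hd : 1 ≤ d) [Module.Finite k (𝒜 (d : ℤ))]
    (hstd : ∀ n : ℕ, 𝒜 (((n + 1) * d : ℕ) : ℤ) = 𝒜 (d : ℤ) * 𝒜 ((n * d : ℕ) : ℤ)) :
    ∃ (a : ℕ) (I : Ideal (MvPolynomial (Fin a) k)),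
      I.IsHomogeneous (homogeneousSubmodule (Fin a) k) ∧
      (∀ n : ℕ, hfn I n = Module.finrank k (𝒜 ((n * d : ℕ) : ℤ))) ∧
      ringKrullDim A = ringKrullDim (MvPolynomial (Fin a) k ⧸ I) := by
  classical
  set W : ℕ → Submodule k A := fun n => 𝒜 ((n * d : ℕ) : ℤ) with hW
  have hW1 : W 1 = 𝒜 (d : ℤ) := by simp only [hW, one_mul]
  have hW0 : W 0 = 1 := by
    simp only [hW, zero_mul, Nat.cast_zero]
    rw [h0, Submodule.one_eq_span]
  have hWs : ∀ n, W (n + 1) = W 1 * W n := by
    intro n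
    rw [hW1]
    exact hstd n
  have hfg : (W 1).FG := by
    rw [hW1]
    exact Module.Finite.iff_fg.mp inferInstance
  obtain ⟨a, b, hb⟩ := Submodule.fg_iff_exists_fin_generating_family.mp hfg
  set p : ℕ → A →ₗ[k] A := fun n => GradedAlgebra.proj 𝒜 ((n * d : ℕ) : ℤ) with hp
  have hp1 : ∀ n x, x ∈ W n → p n x = x := by
    intro n x hx
    simp only [hp, GradedAlgebra.proj_apply]
    exact DirectSum.decompose_of_mem_same 𝒜 hx
  have hp0 : ∀ n m x, m ≠ n → x ∈ W m → p n x = 0 := by
    intro n m x hmn hx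
    simp only [hp, GradedAlgebra.proj_apply]
    refine DirectSum.decompose_of_mem_ne 𝒜 hx ?_
    intro h
    have h' : m * d = n * d := by exact_mod_cast h
    exact hmn (Nat.eq_of_mul_eq_mul_right (by omega) h')
  refine ⟨a, RingHom.ker (aeval b : MvPolynomial (Fin a) k →ₐ[k] A),
    ker_isHomogeneous W hW0 hWs b hb p hp1 hp0, fun n => hfn_ker W hW0 hWs b hb n, ?_⟩
  set π : MvPolynomial (Fin a) k →ₐ[k] A := aeval b with hπ
  have e := Ideal.quotientKerEquivRange π
  rw [ringKrullDim_eq_of_ringEquiv e.toRingEquiv]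
  haveI : Algebra.IsIntegral π.range A := by
    apply isIntegral_of_veronese 𝒜 hneg d hd
    intro m x hx
    have h1 := map_gr_eq W hW0 hWs b hb m
    have h2 : x ∈ (gr k (Fin a) m).map π.toLinearMap := by
      rw [h1]; exact hx
    obtain ⟨f, _, rfl⟩ := h2
    exact ⟨f, rfl⟩
  exact Groth.Agent.Lib.Helper11.IntegralDim.ringKrullDim_eq_of_isIntegral_of_injective
    (R := π.range) (S := A) Subtype.val_injective

end Graded

end Groth.Agent.Lib.Helper87.SegreA
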