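import Mathlib

/-!
# A finitely generated nonnegatively graded algebra over a field has a standard Veronese
-/

set_option autoImplicit false
set_option linter.style.haveILetI false
universe u
open MvPolynomial

namespace Groth.Agent.Lib.Helper87.SegreB

variable {k : Type u} [Field k] {R : Type u} [CommRing R] [Algebra k R]
  (𝒜 : ℤ → Submodule k R) [GradedAlgebra 𝒜]

/-- homogeneous generators of positive degree -/
theorem exists_generators (hneg : ∀ n : ℤ, n < 0 → 𝒜 n = ⊥)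
    (h0 : 𝒜 0 = Submodule.span k {(1 : R)}) [Algebra.FiniteType k R] :
    ∃ (g : ℕ) (x : Fin g → R) (e : Fin g → ℕ), (∀ i, 1 ≤ e i) ∧ (∀ i, x i ∈ 𝒜 (e i : ℤ)) ∧
      Algebra.adjoin k (Set.range x) = ⊤ := by
  classical
  obtain ⟨F, hF⟩ := Algebra.FiniteType.out (R := k) (A := R)
  set G : Finset R := F.biUnion (fun f => ((DirectSum.decompose 𝒜 f).support.filter
    (fun n => 0 < n)).image (fun n => (DirectSum.decompose 𝒜 f n : R))) with hG
  have hGdeg : ∀ y : G, ∃ n : ℕ, 1 ≤ n ∧ (y : R) ∈ 𝒜 (n : ℤ) := by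
    rintro ⟨y, hy⟩
    rw [hG, Finset.mem_biUnion] at hy
    obtain ⟨f, _, hy⟩ := hy
    rw [Finset.mem_image] at hy
    obtain ⟨n, hn, rfl⟩ := hy
    rw [Finset.mem_filter] at hn
    obtain ⟨n', rfl⟩ := Int.eq_ofNat_of_zero_le hn.2.le
    exact ⟨n', by omega, SetLike.coe_mem _⟩
  choose deg hdeg1 hdeg2 using hGdeg
  refine ⟨G.card, fun i => (G.equivFin.symm i : R), fun i => deg (G.equivFin.symm i),
    fun i => hdeg1 _, fun i => hdeg2 _, ?_⟩
  have hrange : Set.range (fun i => (G.equivFin.symm i : R)) = (G : Set R) := by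
    ext y
    constructor
    · rintro ⟨i, rfl⟩
      exact (G.equivFin.symm i).2
    · intro hy
      exact ⟨G.equivFin ⟨y, hy⟩, by simp⟩
  rw [hrange, ← top_le_iff, ← hF, Algebra.adjoin_le_iff]
  intro f hf
  rw [← DirectSum.sum_support_decompose 𝒜 f]
  refine Subalgebra.sum_mem _ fun n hn => ?_
  rcases lt_trichotomy n 0 with hlt | heq | hgt
  · have h1 : (DirectSum.decompose 𝒜 f n : R) ∈ 𝒜 n := SetLike.coe_mem _
    generalize (DirectSum.decompose 𝒜 f n : R) = y at h1 ⊢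
    rw [hneg n hlt, Submodule.mem_bot] at h1
    rw [h1]
    exact Subalgebra.zero_mem _
  · have h1 : (DirectSum.decompose 𝒜 f n : R) ∈ 𝒜 n := SetLike.coe_mem _
    generalize (DirectSum.decompose 𝒜 f n : R) = y at h1 ⊢
    rw [heq, h0, Submodule.mem_span_singleton] at h1
    obtain ⟨c, hc⟩ := h1
    rw [← hc]
    exact Subalgebra.smul_mem _ (Subalgebra.one_mem _) c
  · apply Algebra.subset_adjoin
    rw [Finset.mem_coe, hG, Finset.mem_biUnion]
    refine ⟨f, hf, ?_⟩
    rw [Finset.mem_image]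
    exact ⟨n, Finset.mem_filter.mpr ⟨hn, hgt⟩, rfl⟩

section Gens

variable {g : ℕ} (x : Fin g → R) (e : Fin g → ℕ) (hx : ∀ i, x i ∈ 𝒜 (e i : ℤ))

include hx in
theorem mon_mem (a : Fin g →₀ ℕ) :
    aeval x (monomial a (1 : k)) ∈ 𝒜 ((Finsupp.weight e a : ℕ) : ℤ) := by
  rw [aeval_monomial, map_one, one_mul, Finsupp.prod_pow]
  have h1 := SetLike.prod_pow_mem_graded 𝒜 (fun i => (e i : ℤ)) x (fun i => a i)
    (F := Finset.univ) (fun i _ => hx i)
  have h2 : (∑ i : Fin g, a i • (e i : ℤ)) = ((Finsupp.weight e a : ℕ) : ℤ) := by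
    rw [Finsupp.weight_eq_sum]
    simp only [nsmul_eq_mul, smul_eq_mul]
    push_cast
    rfl
  rw [h2] at h1
  exact h1

/-- the span of the monomials of given weight -/
def monSpan (M : ℤ) : Submodule k R :=
  Submodule.span k {y | ∃ a : Fin g →₀ ℕ, ((Finsupp.weight e a : ℕ) : ℤ) = M ∧
    y = aeval x (monomial a (1 : k))}

include hx in
theorem le_monSpan (hgen : Algebra.adjoin k (Set.range x) = ⊤) (M : ℤ) :
    𝒜 M ≤ monSpan x e M := by
  classical
  intro r hr
  have hsurj : Function.Surjective (aeval x : MvPolynomial (Fin g) k →ₐ[k] R) := by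
    rw [← AlgHom.range_eq_top, ← Algebra.adjoin_range_eq_range_aeval, hgen]
  obtain ⟨f, rfl⟩ := hsurj r
  have h1 : aeval x f = GradedAlgebra.proj 𝒜 M (aeval x f) :=
    (DirectSum.decompose_of_mem_same 𝒜 hr).symm
  have h3 : aeval x f = ∑ a ∈ f.support, coeff a f • aeval x (monomial a (1 : k)) := by
    conv_lhs => rw [f.as_sum]
    rw [map_sum]
    refine Finset.sum_congr rfl fun a _ => ?_
    rw [← map_smul, smul_monomial, smul_eq_mul, mul_one]
  rw [h1, h3, map_sum]
  refine Submodule.sum_mem _ fun a _ => ?_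
  rw [map_smul]
  refine Submodule.smul_mem _ _ ?_
  by_cases h : ((Finsupp.weight e a : ℕ) : ℤ) = M
  · rw [GradedAlgebra.proj_apply, DirectSum.decompose_of_mem_same 𝒜 (h ▸ mon_mem 𝒜 x e hx a)]
    exact Submodule.subset_span ⟨a, h, rfl⟩
  · rw [GradedAlgebra.proj_apply, DirectSum.decompose_of_mem_ne 𝒜 (mon_mem 𝒜 x e hx a) h]
    exact zero_mem _

theorem monSpan_finite (he : ∀ i, 1 ≤ e i) (M : ℤ) :
    Module.Finite k (monSpan (k := k) x e M) := by
  have hfin : {y | ∃ a : Fin g →₀ ℕ, ((Finsupp.weight e a : ℕ) : ℤ) = M ∧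
      y = aeval x (monomial a (1 : k))}.Finite := by
    have h1 := Finsupp.finite_of_nat_weight_eq e (fun i => by have := he i; omega) M.toNat
    refine (h1.image (fun a => aeval x (monomial a (1 : k)))).subset ?_
    rintro y ⟨a, ha, rfl⟩
    refine ⟨a, ?_, rfl⟩
    show Finsupp.weight e a = M.toNat
    omega
  unfold monSpan
  exact FiniteDimensional.span_of_finite k hfin

include hx in
theorem piece_finite (he : ∀ i, 1 ≤ e i) (hgen : Algebra.adjoin k (Set.range x) = ⊤) (M : ℤ) :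
    Module.Finite k (𝒜 M) := by
  haveI := monSpan_finite (k := k) x e he M
  exact Submodule.finiteDimensional_of_le (le_monSpan 𝒜 x e hx hgen M)

theorem mul_le (i j : ℕ) : 𝒜 (i : ℤ) * 𝒜 (j : ℤ) ≤ 𝒜 ((i + j : ℕ) : ℤ) := by
  rw [Submodule.mul_le]
  intro m hm n hn
  rw [Nat.cast_add]
  exact SetLike.mul_mem_graded hm hn

include hx in
theorem step (hgen : Algebra.adjoin k (Set.range x) = ⊤)
    (L : ℕ) (q : Fin g → ℕ) (hq : ∀ i, q i * e i = L) (hL : 1 ≤ L) (N : ℕ) (hN : g * L ≤ N) :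
    𝒜 ((N + L : ℕ) : ℤ) ≤ 𝒜 (L : ℤ) * 𝒜 (N : ℤ) := by
  classical
  refine (le_monSpan 𝒜 x e hx hgen _).trans ?_
  unfold monSpan
  rw [Submodule.span_le]
  rintro y ⟨a, ha, rfl⟩
  have ha' : Finsupp.weight e a = N + L := by exact_mod_cast ha
  obtain ⟨i, hi⟩ : ∃ i, q i ≤ a i := by
    by_contra hcon
    push Not at hcon
    have h1 : Finsupp.weight e a ≤ g * (L - 1) := by
      rw [Finsupp.weight_eq_sum]
      calc ∑ i, a i • e i ≤ ∑ _i : Fin g, (L - 1) := by
            refine Finset.sum_le_sum fun i _ => ?_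
            have h2 := hcon i
            have h3 : a i * e i < q i * e i := by
              apply Nat.mul_lt_mul_of_pos_right h2
              by_contra h0
              have h4 : e i = 0 := by omega
              have h5 := hq i
              rw [h4, mul_zero] at h5
              omega
            rw [smul_eq_mul]
            rw [hq i] at h3
            omega
        _ = g * (L - 1) := by simp
    have : g * (L - 1) ≤ g * L := Nat.mul_le_mul_left _ (by omega)
    omega
  have hsplit : Finsupp.single i (q i) + (a - Finsupp.single i (q i)) = a :=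
    add_tsub_cancel_of_le (Finsupp.single_le_iff.mpr hi)
  set a' := a - Finsupp.single i (q i) with ha'def
  have hw : Finsupp.weight e a' = N := by
    have h1 : Finsupp.weight e a =
        Finsupp.weight e (Finsupp.single i (q i)) + Finsupp.weight e a' := by
      rw [← map_add, hsplit]
    rw [Finsupp.weight_single, smul_eq_mul, hq i] at h1
    omega
  have hmon : monomial a (1 : k) = monomial (Finsupp.single i (q i)) 1 * monomial a' 1 := by
    rw [monomial_mul, one_mul, hsplit]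
  rw [hmon, map_mul]
  refine Submodule.mul_mem_mul ?_ ?_
  · have := mon_mem 𝒜 x e hx (Finsupp.single i (q i))
    rwa [Finsupp.weight_single, smul_eq_mul, hq i] at this
  · have := mon_mem 𝒜 x e hx a'
    rwa [hw] at this

include hx in
theorem exists_std_aux (h0 : 𝒜 0 = Submodule.span k {(1 : R)}) (he : ∀ i, 1 ≤ e i)
    (hgen : Algebra.adjoin k (Set.range x) = ⊤) :
    ∃ d₀ : ℕ, 1 ≤ d₀ ∧ ∀ c : ℕ, 1 ≤ c → ∀ n : ℕ,
      𝒜 (((n + 1) * (c * d₀) : ℕ) : ℤ) =
        𝒜 ((c * d₀ : ℕ) : ℤ) * 𝒜 ((n * (c * d₀) : ℕ) : ℤ) := by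
  classical
  set L := ∏ i, e i with hLdef
  have hL : 1 ≤ L := Nat.succ_le_of_lt (Finset.prod_pos (fun i _ => he i))
  set q : Fin g → ℕ := fun i => L / e i with hqdef
  have hq : ∀ i, q i * e i = L := fun i =>
    Nat.div_mul_cancel (Finset.dvd_prod_of_mem e (Finset.mem_univ i))
  have h01 : 𝒜 ((0 : ℕ) : ℤ) = 1 := by
    rw [Nat.cast_zero, h0, Submodule.one_eq_span]
  refine ⟨(g + 1) * L, Nat.mul_pos (Nat.succ_pos g) hL, ?_⟩
  intro c hc n
  apply le_antisymm
  · rcases Nat.eq_zero_or_pos n with rfl | hn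
    · rw [zero_add, one_mul, zero_mul, h01, mul_one]
    · have key : ∀ j : ℕ, 𝒜 ((n * (c * ((g + 1) * L)) + j * L : ℕ) : ℤ) ≤
          𝒜 ((j * L : ℕ) : ℤ) * 𝒜 ((n * (c * ((g + 1) * L)) : ℕ) : ℤ) := by
        intro j
        induction j with
        | zero => rw [zero_mul, add_zero, h01, one_mul]
        | succ j ih =>
          have hNL : g * L ≤ n * (c * ((g + 1) * L)) + j * L := by
            have h1 : c * ((g + 1) * L) ≤ n * (c * ((g + 1) * L)) := Nat.le_mul_of_pos_left _ hn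
            have h2 : (g + 1) * L ≤ c * ((g + 1) * L) := Nat.le_mul_of_pos_left _ hc
            have h3 : g * L ≤ (g + 1) * L := Nat.mul_le_mul_right _ (Nat.le_succ g)
            omega
          have h1 := step 𝒜 x e hx hgen L q hq hL (n * (c * ((g + 1) * L)) + j * L) hNL
          have e1 : n * (c * ((g + 1) * L)) + (j + 1) * L =
              n * (c * ((g + 1) * L)) + j * L + L := by ring
          have e2 : L + j * L = (j + 1) * L := by ring
          calc 𝒜 ((n * (c * ((g + 1) * L)) + (j + 1) * L : ℕ) : ℤ)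
              = 𝒜 ((n * (c * ((g + 1) * L)) + j * L + L : ℕ) : ℤ) := by rw [e1]
            _ ≤ 𝒜 (L : ℤ) * 𝒜 ((n * (c * ((g + 1) * L)) + j * L : ℕ) : ℤ) := h1
            _ ≤ 𝒜 (L : ℤ) * (𝒜 ((j * L : ℕ) : ℤ) *
                𝒜 ((n * (c * ((g + 1) * L)) : ℕ) : ℤ)) := mul_le_mul' le_rfl ih
            _ = (𝒜 (L : ℤ) * 𝒜 ((j * L : ℕ) : ℤ)) *
                𝒜 ((n * (c * ((g + 1) * L)) : ℕ) : ℤ) := (mul_assoc _ _ _).symm
            _ ≤ 𝒜 ((L + j * L : ℕ) : ℤ) * 𝒜 ((n * (c * ((g + 1) * L)) : ℕ) : ℤ) :=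
                mul_le_mul' (mul_le 𝒜 L (j * L)) le_rfl
            _ = 𝒜 (((j + 1) * L : ℕ) : ℤ) * 𝒜 ((n * (c * ((g + 1) * L)) : ℕ) : ℤ) := by
                rw [e2]
      have h2 := key (c * (g + 1))
      have e3 : n * (c * ((g + 1) * L)) + c * (g + 1) * L = (n + 1) * (c * ((g + 1) * L)) := by
        ring
      have e4 : c * (g + 1) * L = c * ((g + 1) * L) := by ring
      rw [e3, e4] at h2
      exact h2
  · refine (mul_le 𝒜 _ _).trans (le_of_eq ?_)
    have e5 : c * ((g + 1) * L) + n * (c * ((g + 1) * L)) = (n + 1) * (c * ((g + 1) * L)) := by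
      ring
    rw [e5]

end Gens

/-- **Standardness of a high Veronese.** -/
theorem exists_std (hneg : ∀ n : ℤ, n < 0 → 𝒜 n = ⊥)
    (h0 : 𝒜 0 = Submodule.span k {(1 : R)}) [Algebra.FiniteType k R] :
    (∀ M : ℤ, Module.Finite k (𝒜 M)) ∧
    ∃ d₀ : ℕ, 1 ≤ d₀ ∧ ∀ c : ℕ, 1 ≤ c → ∀ n : ℕ,
      𝒜 (((n + 1) * (c * d₀) : ℕ) : ℤ) =
        𝒜 ((c * d₀ : ℕ) : ℤ) * 𝒜 ((n * (c * d₀) : ℕ) : ℤ) := by
  obtain ⟨g, x, e, he, hx, hgen⟩ := exists_generators 𝒜 hneg h0
  exact ⟨fun M => piece_finite 𝒜 x e hx he hgen M, exists_std_aux 𝒜 x e hx h0 he hgen⟩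

end Groth.Agent.Lib.Helper87.SegreB
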