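import Mathlib
import Groth.Agent.Lib.Helper87.SegreA
import Groth.Agent.Lib.Helper87.SegreB

/-!
# Dimension of the Segre product of graded algebras over a field
-/

set_option autoImplicit false
set_option linter.style.haveILetI false
universe u
open MvPolynomial
open scoped TensorProduct

namespace Groth.Agent.Lib.Helper87.SegreC

open Groth.Agent.Lib.Helper87.HilbFnA Groth.Agent.Lib.Helper87.HilbFnB
open Groth.Agent.Lib.Helper87.HilbFnF Groth.Agent.Lib.Helper87.HilbFnG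

attribute [local instance] MvPolynomial.gradedAlgebra

section HP

variable {k : Type u} [Field k] {σ : Type} [Finite σ]

theorem dim_le_zero_of_isHP_zero (I : Ideal (MvPolynomial σ k)) (h : IsHP I 0) :
    ringKrullDim (MvPolynomial σ k ⧸ I) ≤ 0 := by
  apply ringKrullDim_quotient_le_of_minimalPrimes
  intro q hq
  haveI : q.IsPrime := hq.1.1
  rw [dim_eq_zero_of_X_mem (X_mem_of_isHP_zero (isHP_zero_of_le hq.1.2 h))]

end HP

variable {k : Type u} [Field k] {R : Type u} [CommRing R] [Algebra k R]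
  (𝒜 : ℤ → Submodule k R)
  {S : Type u} [CommRing S] [Algebra k S] (ℬ : ℤ → Submodule k S)

/-- the Segre piece -/
def seg (n : ℤ) : Submodule k (R ⊗[k] S) :=
  Submodule.span k {x : R ⊗[k] S | ∃ a ∈ 𝒜 n, ∃ b ∈ ℬ n, x = a ⊗ₜ[k] b}

theorem tmul_mem_seg {n : ℤ} {a : R} {b : S} (ha : a ∈ 𝒜 n) (hb : b ∈ ℬ n) :
    a ⊗ₜ[k] b ∈ seg 𝒜 ℬ n :=
  Submodule.subset_span ⟨a, ha, b, hb, rfl⟩

theorem seg_eq_range (n : ℤ) :
    seg 𝒜 ℬ n = LinearMap.range (TensorProduct.map (𝒜 n).subtype (ℬ n).subtype) := by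
  rw [TensorProduct.range_map_eq_span_tmul]
  unfold seg
  congr 1
  ext x
  constructor
  · rintro ⟨a, ha, b, hb, rfl⟩
    exact ⟨⟨a, ha⟩, ⟨b, hb⟩, rfl⟩
  · rintro ⟨a, b, rfl⟩
    exact ⟨a.1, a.2, b.1, b.2, rfl⟩

theorem finrank_seg (n : ℤ) :
    Module.finrank k (seg 𝒜 ℬ n) = Module.finrank k (𝒜 n) * Module.finrank k (ℬ n) := by
  rw [seg_eq_range]
  have hinj : Function.Injective (TensorProduct.map (𝒜 n).subtype (ℬ n).subtype) :=
    TensorProduct.map_injective_of_flat_flat _ _ (Submodule.subtype_injective _)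
      (Submodule.subtype_injective _)
  rw [← (LinearEquiv.ofInjective _ hinj).finrank_eq, Module.finrank_tensorProduct]

theorem seg_finite (n : ℤ) [Module.Finite k (𝒜 n)] [Module.Finite k (ℬ n)] :
    Module.Finite k (seg 𝒜 ℬ n) := by
  rw [seg_eq_range]
  exact Module.Finite.range _

theorem seg_mul_le (i j : ℤ) [SetLike.GradedMonoid 𝒜] [SetLike.GradedMonoid ℬ] :
    seg 𝒜 ℬ i * seg 𝒜 ℬ j ≤ seg 𝒜 ℬ (i + j) := by
  unfold seg
  rw [Submodule.span_mul_span, Submodule.span_le]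
  rintro _ ⟨_, ⟨a, ha, b, hb, rfl⟩, _, ⟨a', ha', b', hb', rfl⟩, rfl⟩
  show a ⊗ₜ[k] b * a' ⊗ₜ[k] b' ∈ _
  rw [Algebra.TensorProduct.tmul_mul_tmul]
  exact Submodule.subset_span ⟨_, SetLike.mul_mem_graded ha ha', _, SetLike.mul_mem_graded hb hb', rfl⟩

theorem seg_le_mul {i j l : ℤ} (hA : 𝒜 l = 𝒜 i * 𝒜 j) (hB : ℬ l = ℬ i * ℬ j) :
    seg 𝒜 ℬ l ≤ seg 𝒜 ℬ i * seg 𝒜 ℬ j := by
  conv_lhs => unfold seg
  rw [Submodule.span_le]
  rintro _ ⟨a, ha, b, hb, rfl⟩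
  rw [hA] at ha
  rw [hB] at hb
  show a ⊗ₜ[k] b ∈ seg 𝒜 ℬ i * seg 𝒜 ℬ j
  refine Submodule.mul_induction_on ha ?_ ?_
  · intro m hm m' hm'
    refine Submodule.mul_induction_on hb ?_ ?_
    · intro p hp p' hp'
      rw [← Algebra.TensorProduct.tmul_mul_tmul]
      exact Submodule.mul_mem_mul (tmul_mem_seg 𝒜 ℬ hm hp) (tmul_mem_seg 𝒜 ℬ hm' hp')
    · intro x y hx hy
      rw [TensorProduct.tmul_add]
      exact add_mem hx hy
  · intro x y hx hy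
    rw [TensorProduct.add_tmul]
    exact add_mem hx hy

theorem seg_neg {n : ℤ} (hA : 𝒜 n = ⊥) : seg 𝒜 ℬ n = ⊥ := by
  unfold seg
  rw [Submodule.span_eq_bot]
  rintro _ ⟨a, ha, b, _, rfl⟩
  rw [hA, Submodule.mem_bot] at ha
  rw [ha, TensorProduct.zero_tmul]

theorem seg_zero (hA : 𝒜 0 = Submodule.span k {(1 : R)}) (hB : ℬ 0 = Submodule.span k {(1 : S)}) :
    seg 𝒜 ℬ 0 = Submodule.span k {(1 : R ⊗[k] S)} := by
  apply le_antisymm
  · unfold seg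
    rw [Submodule.span_le]
    rintro _ ⟨a, ha, b, hb, rfl⟩
    rw [hA, Submodule.mem_span_singleton] at ha
    rw [hB, Submodule.mem_span_singleton] at hb
    obtain ⟨c, rfl⟩ := ha
    obtain ⟨c', rfl⟩ := hb
    rw [SetLike.mem_coe, Submodule.mem_span_singleton]
    refine ⟨c * c', ?_⟩
    rw [TensorProduct.smul_tmul_smul, Algebra.TensorProduct.one_def]
  · rw [Submodule.span_le, Set.singleton_subset_iff, Algebra.TensorProduct.one_def]
    refine tmul_mem_seg 𝒜 ℬ ?_ ?_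
    · rw [hA]; exact Submodule.mem_span_singleton_self _
    · rw [hB]; exact Submodule.mem_span_singleton_self _

section Main

variable [GradedAlgebra 𝒜] [GradedAlgebra ℬ]
  {T : Type u} [CommRing T] [Algebra k T] (𝒯 : ℤ → Submodule k T) [GradedAlgebra 𝒯]
  (ψ : T →ₐ[k] R ⊗[k] S) (hψ : Function.Injective ψ)
  (hdegT : ∀ n : ℤ, (𝒯 n).map ψ.toLinearMap = seg 𝒜 ℬ n)

include hψ hdegT

theorem T_neg {n : ℤ} (hA : 𝒜 n = ⊥) : 𝒯 n = ⊥ := by
  rw [eq_bot_iff]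
  intro x hx
  have h1 : ψ x ∈ (𝒯 n).map ψ.toLinearMap := ⟨x, hx, rfl⟩
  rw [hdegT, seg_neg 𝒜 ℬ hA, Submodule.mem_bot] at h1
  rw [Submodule.mem_bot]
  exact hψ (by rw [h1, map_zero])

theorem T_zero (hA : 𝒜 0 = Submodule.span k {(1 : R)}) (hB : ℬ 0 = Submodule.span k {(1 : S)}) :
    𝒯 0 = Submodule.span k {(1 : T)} := by
  apply Submodule.map_injective_of_injective (f := ψ.toLinearMap) hψ
  rw [hdegT, seg_zero 𝒜 ℬ hA hB, Submodule.map_span, Set.image_singleton]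
  congr 2
  exact (map_one ψ).symm

theorem T_mul {i j l : ℤ} (hl : l = i + j) (hA : 𝒜 l = 𝒜 i * 𝒜 j) (hB : ℬ l = ℬ i * ℬ j) :
    𝒯 l = 𝒯 i * 𝒯 j := by
  apply Submodule.map_injective_of_injective (f := ψ.toLinearMap) hψ
  rw [Submodule.map_mul, hdegT, hdegT, hdegT]
  apply le_antisymm (seg_le_mul 𝒜 ℬ hA hB)
  rw [hl]
  exact seg_mul_le 𝒜 ℬ i j

theorem finrank_T (n : ℤ) :
    Module.finrank k (𝒯 n) = Module.finrank k (𝒜 n) * Module.finrank k (ℬ n) := by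
  rw [← finrank_seg, ← hdegT]
  exact (Submodule.equivMapOfInjective ψ.toLinearMap hψ (𝒯 n)).finrank_eq

theorem T_finite (n : ℤ) [Module.Finite k (𝒜 n)] [Module.Finite k (ℬ n)] :
    Module.Finite k (𝒯 n) := by
  haveI := seg_finite 𝒜 ℬ n
  have e := Submodule.equivMapOfInjective ψ.toLinearMap hψ (𝒯 n)
  rw [hdegT] at e
  exact Module.Finite.equiv e.symm

/-- **Dimension of the Segre product.** -/
theorem main (hposR : ∀ n : ℤ, n < 0 → 𝒜 n = ⊥) (h0R : 𝒜 0 = Submodule.span k {(1 : R)})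
    [Algebra.FiniteType k R] (hposS : ∀ n : ℤ, n < 0 → ℬ n = ⊥)
    (h0S : ℬ 0 = Submodule.span k {(1 : S)}) [Algebra.FiniteType k S]
    (r s : ℕ) (hr : ringKrullDim R = r) (hs : ringKrullDim S = s) (h1r : 1 ≤ r) (h1s : 1 ≤ s) :
    ringKrullDim T = ((r + s - 1 : ℕ) : WithBot ℕ∞) := by
  obtain ⟨hfinR, dR, hdR, hstdR⟩ := SegreB.exists_std 𝒜 hposR h0R
  obtain ⟨hfinS, dS, hdS, hstdS⟩ := SegreB.exists_std ℬ hposS h0S
  have hd : 1 ≤ dS * dR := Nat.mul_pos hdS hdR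
  have hR' := hstdR dS hdS
  have hS' : ∀ n : ℕ, ℬ (((n + 1) * (dS * dR) : ℕ) : ℤ) =
      ℬ ((dS * dR : ℕ) : ℤ) * ℬ ((n * (dS * dR) : ℕ) : ℤ) := by
    rw [mul_comm dS dR]
    exact hstdS dR hdR
  generalize dS * dR = d at hd hR' hS'
  haveI := hfinR (d : ℤ)
  haveI := hfinS (d : ℤ)
  haveI : Module.Finite k (𝒯 (d : ℤ)) := T_finite 𝒜 ℬ 𝒯 ψ hψ hdegT d
  have hT' : ∀ n : ℕ, 𝒯 (((n + 1) * d : ℕ) : ℤ) = 𝒯 (d : ℤ) * 𝒯 ((n * d : ℕ) : ℤ) := fun n =>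
    T_mul 𝒜 ℬ 𝒯 ψ hψ hdegT (by push_cast; ring) (hR' n) (hS' n)
  have hnegT : ∀ n : ℤ, n < 0 → 𝒯 n = ⊥ := fun n hn => T_neg 𝒜 ℬ 𝒯 ψ hψ hdegT (hposR n hn)
  have h0T := T_zero 𝒜 ℬ 𝒯 ψ hψ hdegT h0R h0S
  obtain ⟨aR, IR, hIR, hfR, hdimR⟩ := SegreA.exists_presentation 𝒜 hposR h0R d hd hR'
  obtain ⟨aS, IS, hIS, hfS, hdimS⟩ := SegreA.exists_presentation ℬ hposS h0S d hd hS'
  obtain ⟨aT, IT, hIT, hfT, hdimT⟩ := SegreA.exists_presentation 𝒯 hnegT h0T d hd hT'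
  obtain ⟨PR, hPR⟩ := exists_isHP IR hIR
  obtain ⟨PS, hPS⟩ := exists_isHP IS hIS
  have hPR0 : PR ≠ 0 := by
    rintro rfl
    have h1 := dim_le_zero_of_isHP_zero IR hPR
    rw [← hdimR, hr] at h1
    have h2 : r ≤ 0 := by exact_mod_cast h1
    omega
  have hPS0 : PS ≠ 0 := by
    rintro rfl
    have h1 := dim_le_zero_of_isHP_zero IS hPS
    rw [← hdimS, hs] at h1
    have h2 : s ≤ 0 := by exact_mod_cast h1
    omega
  have hPT : IsHP IT (PR * PS) := by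
    obtain ⟨m1, h1⟩ := hPR
    obtain ⟨m2, h2⟩ := hPS
    refine ⟨max m1 m2, fun m hm => ?_⟩
    rw [Polynomial.eval_mul, h1 m (le_trans (le_max_left _ _) hm),
      h2 m (le_trans (le_max_right _ _) hm), hfR, hfS, hfT, finrank_T 𝒜 ℬ 𝒯 ψ hψ hdegT]
    push_cast
    rfl
  have hdR' := dim_eq IR hIR PR hPR0 hPR
  have hdS' := dim_eq IS hIS PS hPS0 hPS
  have hdT' := dim_eq IT hIT (PR * PS) (mul_ne_zero hPR0 hPS0) hPT
  rw [hdimT, hdT', Polynomial.natDegree_mul hPR0 hPS0]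
  rw [← hdimR, hr] at hdR'
  rw [← hdimS, hs] at hdS'
  have e1 : r = PR.natDegree + 1 := by exact_mod_cast hdR'
  have e2 : s = PS.natDegree + 1 := by exact_mod_cast hdS'
  have e3 : r + s - 1 = PR.natDegree + PS.natDegree + 1 := by omega
  rw [e3]
  push_cast
  rfl

end Main

end Groth.Agent.Lib.Helper87.SegreC
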