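import Mathlib
import Groth.Agent.Lib.Helper87.SegreC
import Groth.Agent.Lib.Helper87.ModHilbA

/-!
# Standard graded algebras over a field: Hilbert function of a cyclic graded module `R/J`
-/

set_option autoImplicit false
set_option linter.style.haveILetI false
universe u
open MvPolynomial

namespace Groth.Agent.Lib.Helper87.ModHilbB

open Groth.Agent.Lib.Helper87.HilbFnA Groth.Agent.Lib.Helper87.HilbFnB
open Groth.Agent.Lib.Helper87.HilbFnF Groth.Agent.Lib.Helper87.HilbFnG
open Groth.Agent.Lib.Helper87.SegreA Groth.Agent.Lib.Helper87.SegreC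

attribute [local instance] MvPolynomial.gradedAlgebra

variable {k : Type u} [Field k] {R : Type u} [CommRing R] [Algebra k R]
  (𝒜 : ℤ → Submodule k R) [GradedAlgebra 𝒜]

/-- standard graded over the field `k` -/
structure Std : Prop where
  neg : ∀ n : ℤ, n < 0 → 𝒜 n = ⊥
  zero : 𝒜 0 = Submodule.span k {(1 : R)}
  succ : ∀ n : ℕ, 𝒜 ((n + 1 : ℕ) : ℤ) = 𝒜 1 * 𝒜 (n : ℤ)
  fin : Module.Finite k (𝒜 1)

/-- generation of the irrelevant ideal in degree one gives `R_{n+1} = R_1 R_n`. -/
theorem succ_of_span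
    (hstd : Ideal.span (⋃ n ∈ Set.Ioi (0 : ℤ), (𝒜 n : Set R)) =
      Ideal.span ((𝒜 1 : Submodule k R) : Set R)) (n : ℕ) :
    𝒜 ((n + 1 : ℕ) : ℤ) = 𝒜 1 * 𝒜 (n : ℤ) := by
  classical
  apply le_antisymm
  · intro x hx
    have h1 : x ∈ Ideal.span (⋃ n ∈ Set.Ioi (0 : ℤ), (𝒜 n : Set R)) := by
      apply Ideal.subset_span
      simp only [Set.mem_iUnion]
      exact ⟨((n + 1 : ℕ) : ℤ), by simp only [Set.mem_Ioi]; positivity, hx⟩
    rw [hstd] at h1
    obtain ⟨c, s, hs, -, hsum⟩ := Submodule.mem_span_iff_exists_finset_subset.mp h1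
    have h2 : x = GradedAlgebra.proj 𝒜 ((n + 1 : ℕ) : ℤ) x :=
      (DirectSum.decompose_of_mem_same 𝒜 hx).symm
    rw [h2, ← hsum, map_sum]
    refine Submodule.sum_mem _ fun a ha => ?_
    have ha1 : a ∈ 𝒜 1 := hs ha
    rw [GradedAlgebra.proj_apply, smul_eq_mul]
    have h3 : ((n + 1 : ℕ) : ℤ) = (n : ℤ) + 1 := by push_cast; ring
    rw [h3, DirectSum.coe_decompose_mul_add_of_right_mem 𝒜 ha1, mul_comm (𝒜 1 : Submodule k R)]
    exact Submodule.mul_mem_mul (SetLike.coe_mem _) ha1
  · rw [Submodule.mul_le]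
    intro a ha b hb
    have h3 : ((n + 1 : ℕ) : ℤ) = 1 + (n : ℤ) := by push_cast; ring
    rw [h3]
    exact SetLike.mul_mem_graded ha hb

/-- the Hilbert function of `R/J` -/
noncomputable def hq (J : Ideal R) (m : ℤ) : ℕ :=
  Module.finrank k ((𝒜 m).map (Ideal.Quotient.mkₐ k J).toLinearMap)

variable {𝒜}

theorem dim_le_iff_degree_lt {σ : Type} [Finite σ] (I : Ideal (MvPolynomial σ k))
    (hI : I.IsHomogeneous (homogeneousSubmodule σ k)) (Q : Polynomial ℚ) (hQ : IsHP I Q) (t : ℕ) :
    ringKrullDim (MvPolynomial σ k ⧸ I) ≤ (t : WithBot ℕ∞) ↔ Q.degree < (t : WithBot ℕ) := by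
  by_cases hQ0 : Q = 0
  · subst hQ0
    rw [Polynomial.degree_zero]
    constructor
    · intro _
      exact WithBot.bot_lt_coe t
    · intro _
      refine (dim_le_zero_of_isHP_zero I hQ).trans ?_
      exact_mod_cast Nat.zero_le t
  · rw [dim_eq I hI Q hQ0 hQ, Polynomial.degree_eq_natDegree hQ0]
    constructor
    · intro h
      have h' : Q.natDegree + 1 ≤ t := by exact_mod_cast h
      exact_mod_cast Nat.lt_of_succ_le h'
    · intro h
      have h' : Q.natDegree < t := by exact_mod_cast h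
      exact_mod_cast Nat.succ_le_of_lt h'

/-- **Hilbert polynomial and dimension of a cyclic graded module `R/J`.** -/
theorem cyclic (h : Std 𝒜) (J : Ideal R) (hJ : J.IsHomogeneous 𝒜) :
    ∃ Q : Polynomial ℚ, (∃ m₀ : ℕ, ∀ m : ℕ, m₀ ≤ m → Q.eval (m : ℚ) = hq 𝒜 J (m : ℤ)) ∧
      ∀ t : ℕ, ringKrullDim (R ⧸ J) ≤ (t : WithBot ℕ∞) ↔ Q.degree < (t : WithBot ℕ) := by
  classical
  set W : ℕ → Submodule k R := fun n => 𝒜 (n : ℤ) with hW
  have hW0 : W 0 = 1 := by
    simp only [hW, Nat.cast_zero]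
    rw [h.zero, Submodule.one_eq_span]
  have hW1 : W 1 = 𝒜 1 := by simp only [hW, Nat.cast_one]
  have hWs : ∀ n, W (n + 1) = W 1 * W n := by
    intro n
    rw [hW1]
    exact h.succ n
  haveI := h.fin
  have hfg : (W 1).FG := by
    rw [hW1]
    exact Module.Finite.iff_fg.mp inferInstance
  obtain ⟨a, b, hb⟩ := Submodule.fg_iff_exists_fin_generating_family.mp hfg
  set π : MvPolynomial (Fin a) k →ₐ[k] R := aeval b with hπ
  have hmap : ∀ n, (gr k (Fin a) n).map π.toLinearMap = W n := map_gr_eq W hW0 hWs b hb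
  have hsurj : Function.Surjective π := by
    intro x
    have hx : x ∈ π.range := by
      rw [← DirectSum.sum_support_decompose 𝒜 x]
      refine Subalgebra.sum_mem _ fun i _ => ?_
      have hy : (DirectSum.decompose 𝒜 x i : R) ∈ 𝒜 i := SetLike.coe_mem _
      generalize (DirectSum.decompose 𝒜 x i : R) = y at hy
      by_cases hi : i < 0
      · rw [h.neg i hi, Submodule.mem_bot] at hy
        rw [hy]
        exact Subalgebra.zero_mem _
      · obtain ⟨n, rfl⟩ := Int.eq_ofNat_of_zero_le (not_lt.mp hi)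
        have h2 : y ∈ (gr k (Fin a) n).map π.toLinearMap := by
          rw [hmap]
          exact hy
        obtain ⟨f, _, rfl⟩ := h2
        exact ⟨f, rfl⟩
    exact hx
  set ρ : MvPolynomial (Fin a) k →ₐ[k] R ⧸ J := (Ideal.Quotient.mkₐ k J).comp π with hρ
  have hρsurj : Function.Surjective ρ :=
    (Ideal.Quotient.mkₐ_surjective k J).comp hsurj
  set I : Ideal (MvPolynomial (Fin a) k) := RingHom.ker ρ with hI
  have hmemI : ∀ f, f ∈ I ↔ π f ∈ J := by
    intro f
    rw [hI, RingHom.mem_ker]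
    show (Ideal.Quotient.mk J) (π f) = 0 ↔ _
    exact Ideal.Quotient.eq_zero_iff_mem
  have hIhom : I.IsHomogeneous (homogeneousSubmodule (Fin a) k) := by
    intro n f hf
    have h1 : (DirectSum.decompose (homogeneousSubmodule (Fin a) k) f n :
        MvPolynomial (Fin a) k) = homogeneousComponent n f := decomposition.decompose'_apply f n
    rw [h1, hmemI]
    rw [hmemI] at hf
    have h2 : GradedAlgebra.proj 𝒜 (n : ℤ) (π f) = π (homogeneousComponent n f) := by
      conv_lhs => rw [← sum_homogeneousComponent f, map_sum, map_sum]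
      rw [Finset.sum_eq_single n]
      · rw [GradedAlgebra.proj_apply]
        exact DirectSum.decompose_of_mem_same 𝒜
          (aeval_mem W hW0 hWs b hb (homogeneousComponent_isHomogeneous n f))
      · intro m _ hmn
        rw [GradedAlgebra.proj_apply]
        refine DirectSum.decompose_of_mem_ne 𝒜
          (aeval_mem W hW0 hWs b hb (homogeneousComponent_isHomogeneous m f)) ?_
        exact_mod_cast hmn
      · intro hn
        rw [homogeneousComponent_eq_zero _ _ (by
          by_contra hlt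
          exact hn (Finset.mem_range.mpr (by omega))), map_zero, map_zero]
    rw [← h2, GradedAlgebra.proj_apply]
    exact hJ (n : ℤ) hf
  have hfn_eq : ∀ n : ℕ, hfn I n = hq 𝒜 J (n : ℤ) := by
    intro n
    set g : gr k (Fin a) n →ₗ[k] R ⧸ J := ρ.toLinearMap.domRestrict (gr k (Fin a) n) with hg
    have h1 := LinearMap.finrank_range_add_finrank_ker g
    have h2 : LinearMap.range g = (𝒜 (n : ℤ)).map (Ideal.Quotient.mkₐ k J).toLinearMap := by
      rw [hg, LinearMap.range_domRestrict]
      have h3 : ρ.toLinearMap = (Ideal.Quotient.mkₐ k J).toLinearMap ∘ₗ π.toLinearMap := rfl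
      rw [h3, Submodule.map_comp, hmap]
    have h3 : Module.finrank k (LinearMap.ker g) = Module.finrank k (pc I n) := by
      have e : LinearMap.ker g ≃ₗ[k] pc I n :=
        { toFun := fun x => ⟨x.1.1, ⟨by
            have hx : g x.1 = 0 := LinearMap.mem_ker.mp x.2
            show x.1.1 ∈ RingHom.ker ρ
            rw [RingHom.mem_ker]
            exact hx, x.1.2⟩⟩
          map_add' := fun x y => rfl
          map_smul' := fun c x => rfl
          invFun := fun x => ⟨⟨x.1, x.2.2⟩, by
            have hx : x.1 ∈ RingHom.ker ρ := x.2.1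
            rw [RingHom.mem_ker] at hx
            rw [LinearMap.mem_ker]
            exact hx⟩
          left_inv := fun x => rfl
          right_inv := fun x => rfl }
      exact e.finrank_eq
    unfold hfn hq
    rw [← h1, h2, h3]
    push_cast
    ring
  obtain ⟨Q, hQ⟩ := exists_isHP I hIhom
  refine ⟨Q, ?_, ?_⟩
  · obtain ⟨m₀, hm₀⟩ := hQ
    exact ⟨m₀, fun m hm => by rw [hm₀ m hm, hfn_eq]⟩
  · intro t
    have e := Ideal.quotientKerAlgEquivOfSurjective hρsurj
    rw [← ringKrullDim_eq_of_ringEquiv e.toRingEquiv]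
    exact dim_le_iff_degree_lt I hIhom Q hQ t

end Groth.Agent.Lib.Helper87.ModHilbB
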