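import Mathlib
import Groth.Agent.Lib.Helper87.ModHilbB
import Groth.Agent.Lib.Helper99.SegreFin

/-!
# Hilbert polynomial and dimension of a finitely generated graded module over a standard graded
algebra over a field
-/

set_option autoImplicit false
set_option linter.style.haveILetI false
set_option linter.unusedSectionVars false
universe u

namespace Groth.Agent.Lib.Helper87.ModHilbC

open Groth.Agent.Lib.Helper87.ModHilbA Groth.Agent.Lib.Helper87.ModHilbB
open Groth.Agent.Lib.Helper99.GrDual Groth.Agent.Lib.Helper99.SegreFin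
open Polynomial

section LinAlg

variable {k : Type*} [Field k] {V A B : Type*} [AddCommGroup V] [Module k V]
  [AddCommGroup A] [Module k A] [AddCommGroup B] [Module k B]

theorem finrank_eq_map_add_inf (f : V →ₗ[k] A) (S : Submodule k V) [Module.Finite k S] :
    Module.finrank k S =
      Module.finrank k (S.map f) + Module.finrank k (S ⊓ LinearMap.ker f : Submodule k V) := by
  have h1 := LinearMap.finrank_range_add_finrank_ker (f.domRestrict S)
  rw [LinearMap.range_domRestrict, LinearMap.ker_domRestrict] at h1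
  have h2 : (LinearMap.ker f).comap S.subtype = (S ⊓ LinearMap.ker f).comap S.subtype := by
    rw [Submodule.comap_inf, Submodule.comap_subtype_self, top_inf_eq]
  have e := Submodule.comapSubtypeEquivOfLe (inf_le_left : S ⊓ LinearMap.ker f ≤ S)
  rw [h2, e.finrank_eq] at h1
  exact h1.symm

theorem finrank_map_eq_of_ker_eq (f : V →ₗ[k] A) (g : V →ₗ[k] B)
    (hfg : LinearMap.ker f = LinearMap.ker g) (S : Submodule k V) [Module.Finite k S] :
    Module.finrank k (S.map f) = Module.finrank k (S.map g) := by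
  have h1 := finrank_eq_map_add_inf f S
  have h2 := finrank_eq_map_add_inf g S
  rw [hfg] at h1
  omega

end LinAlg

variable {k : Type u} [Field k] {R : Type u} [CommRing R] [Algebra k R]
  (𝒜 : ℤ → Submodule k R) [GradedAlgebra 𝒜]
  {M : Type u} [AddCommGroup M] [Module R M] [Module k M] [IsScalarTower k R M]
  (ℳ : ℤ → AddSubgroup M) [DirectSum.Decomposition ℳ] [SetLike.GradedSMul 𝒜 ℳ]

/-- the degree `n` piece of an `R`-submodule, as a `k`-subspace -/
def fp (F : Submodule R M) (n : ℤ) : Submodule k M :=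
  F.restrictScalars k ⊓ pieceSub 𝒜 ℳ n

/-- homogeneous submodule -/
def HomSub (F : Submodule R M) : Prop :=
  ∀ x ∈ F, ∀ n : ℤ, ((DirectSum.decompose ℳ x n : ℳ n) : M) ∈ F

/-- the colon ideal `(F : x)` -/
def colon (F : Submodule R M) (x : M) : Ideal R :=
  F.comap (LinearMap.toSpanSingleton R M x)

theorem mem_colon {F : Submodule R M} {x : M} {r : R} : r ∈ colon F x ↔ r • x ∈ F := Iff.rfl

variable {ℳ}

theorem colon_isHomogeneous {F : Submodule R M} (hF : HomSub ℳ F) {x : M} {e : ℤ}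
    (hx : x ∈ ℳ e) : (colon F x).IsHomogeneous 𝒜 := by
  intro m r hr
  rw [mem_colon] at hr ⊢
  have h1 := hF _ hr (m + e)
  have h2 := proj_smul_of_mem 𝒜 ℳ hx (m + e) r
  rw [proj_apply] at h2
  rw [h2, add_sub_cancel_right, proj_apply] at h1
  exact h1

include 𝒜 in
theorem sup_homSub {F : Submodule R M} (hF : HomSub ℳ F) {x : M} {e : ℤ}
    (hx : x ∈ ℳ e) : HomSub ℳ (F ⊔ Submodule.span R {x}) := by
  intro y hy n
  obtain ⟨f, hf, z, hz, rfl⟩ := Submodule.mem_sup.mp hy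
  obtain ⟨r, rfl⟩ := Submodule.mem_span_singleton.mp hz
  rw [DirectSum.decompose_add, DirectSum.add_apply, AddMemClass.coe_add]
  refine Submodule.add_mem_sup (hF f hf n) ?_
  have h2 := proj_smul_of_mem 𝒜 ℳ hx n r
  rw [proj_apply] at h2
  rw [h2]
  exact Submodule.smul_mem _ _ (Submodule.mem_span_singleton_self x)

section Step

variable (k) in
/-- quotient map as a `k`-linear map -/
noncomputable def qF (F : Submodule R M) : M →ₗ[k] M ⧸ F := F.mkQ.restrictScalars k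

theorem ker_qF (F : Submodule R M) : LinearMap.ker (qF k F) = F.restrictScalars k := by
  ext y
  simp only [qF, LinearMap.mem_ker, LinearMap.restrictScalars_apply, Submodule.mkQ_apply,
    Submodule.Quotient.mk_eq_zero, Submodule.restrictScalars_mem]

variable (k) in
/-- `r ↦ [r • x]` as a `k`-linear map -/
noncomputable def mu (F : Submodule R M) (x : M) : R →ₗ[k] M ⧸ F :=
  qF k F ∘ₗ (LinearMap.toSpanSingleton R M x).restrictScalars k

theorem mu_apply (F : Submodule R M) (x : M) (r : R) :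
    mu k F x r = Submodule.Quotient.mk (r • x) := rfl

theorem ker_mu (F : Submodule R M) (x : M) :
    LinearMap.ker (mu k F x) = (colon F x).restrictScalars k := by
  ext r
  rw [LinearMap.mem_ker, mu_apply, Submodule.Quotient.mk_eq_zero, Submodule.restrictScalars_mem,
    mem_colon]

theorem ker_mk (J : Ideal R) :
    LinearMap.ker (Ideal.Quotient.mkₐ k J).toLinearMap = J.restrictScalars k := by
  ext r
  rw [LinearMap.mem_ker, Submodule.restrictScalars_mem]
  show (Ideal.Quotient.mk J) r = 0 ↔ _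
  exact Ideal.Quotient.eq_zero_iff_mem

include 𝒜 in
theorem finrank_map_mu (F : Submodule R M) (x : M) (m : ℤ) [Module.Finite k (𝒜 m)] :
    Module.finrank k ((𝒜 m).map (mu k F x)) = hq 𝒜 (colon F x) m := by
  unfold hq
  exact finrank_map_eq_of_ker_eq _ _ (by rw [ker_mu, ker_mk]) (𝒜 m)

theorem map_qF_fp {F : Submodule R M} (hF : HomSub ℳ F) {x : M} {e : ℤ} (hx : x ∈ ℳ e)
    (n : ℤ) :
    (fp 𝒜 ℳ (F ⊔ Submodule.span R {x}) n).map (qF k F) = (𝒜 (n - e)).map (mu k F x) := by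
  apply le_antisymm
  · rintro _ ⟨y, ⟨hy1, hy2⟩, rfl⟩
    have hy1' : y ∈ F ⊔ Submodule.span R {x} := hy1
    have hy2' : y ∈ ℳ n := hy2
    obtain ⟨f, hf, z, hz, rfl⟩ := Submodule.mem_sup.mp hy1'
    obtain ⟨r, rfl⟩ := Submodule.mem_span_singleton.mp hz
    refine ⟨proj 𝒜 𝒜 (n - e) r, proj_mem 𝒜 𝒜 (n - e) r, ?_⟩
    have h1 : f + r • x = proj 𝒜 ℳ n (f + r • x) := (proj_of_mem 𝒜 ℳ hy2').symm
    rw [mu_apply, h1, map_add, proj_smul_of_mem 𝒜 ℳ hx n r]
    show _ = F.mkQ _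
    rw [map_add]
    have h2 : F.mkQ (proj 𝒜 ℳ n f) = 0 := by
      rw [Submodule.mkQ_apply, Submodule.Quotient.mk_eq_zero, proj_apply]
      exact hF f hf n
    rw [h2, zero_add]
    rfl
  · rintro _ ⟨r, hr, rfl⟩
    refine ⟨r • x, ⟨?_, ?_⟩, rfl⟩
    · exact Submodule.mem_sup_right
        (Submodule.smul_mem _ _ (Submodule.mem_span_singleton_self x))
    · have := smul_mem_piece 𝒜 ℳ hr hx
      rw [sub_add_cancel] at this
      exact this

theorem finrank_step {F : Submodule R M} (hF : HomSub ℳ F) {x : M} {e : ℤ} (hx : x ∈ ℳ e)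
    (n : ℤ) [Module.Finite k (𝒜 (n - e))] [Module.Finite k (pieceSub 𝒜 ℳ n)] :
    Module.finrank k (fp 𝒜 ℳ (F ⊔ Submodule.span R {x}) n) =
      Module.finrank k (fp 𝒜 ℳ F n) + hq 𝒜 (colon F x) (n - e) := by
  haveI : Module.Finite k (fp 𝒜 ℳ (F ⊔ Submodule.span R {x}) n) :=
    Submodule.finiteDimensional_of_le (inf_le_right : fp 𝒜 ℳ _ n ≤ pieceSub 𝒜 ℳ n)
  have h1 := finrank_eq_map_add_inf (qF k F) (fp 𝒜 ℳ (F ⊔ Submodule.span R {x}) n)
  rw [map_qF_fp 𝒜 hF hx n, finrank_map_mu 𝒜 F x (n - e), ker_qF] at h1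
  have h2 : fp 𝒜 ℳ (F ⊔ Submodule.span R {x}) n ⊓ F.restrictScalars k = fp 𝒜 ℳ F n := by
    unfold fp
    ext y
    simp only [Submodule.mem_inf, Submodule.restrictScalars_mem]
    constructor
    · rintro ⟨⟨_, h2⟩, h3⟩
      exact ⟨h3, h2⟩
    · rintro ⟨h3, h2⟩
      exact ⟨⟨Submodule.mem_sup_left h3, h2⟩, h3⟩
  rw [h2] at h1
  omega

theorem supportDim_step (F : Submodule R M) (x : M) (t : WithBot ℕ∞) :
    Module.supportDim R ↥(F ⊔ Submodule.span R {x}) ≤ t ↔
      Module.supportDim R F ≤ t ∧ ringKrullDim (R ⧸ colon F x) ≤ t := by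
  set F' := F ⊔ Submodule.span R {x} with hF'
  set K : Submodule R F' := F.comap F'.subtype with hK
  rw [supportDim_le_iff K t]
  have e1 : K ≃ₗ[R] F := Submodule.comapSubtypeEquivOfLe (le_sup_left : F ≤ F')
  rw [Module.supportDim_eq_of_equiv e1]
  have hx' : x ∈ F' := Submodule.mem_sup_right (Submodule.mem_span_singleton_self x)
  set ν : R →ₗ[R] (F' ⧸ K) := K.mkQ ∘ₗ LinearMap.toSpanSingleton R F' ⟨x, hx'⟩ with hν
  have hνsurj : Function.Surjective ν := by
    intro z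
    obtain ⟨⟨y, hy⟩, rfl⟩ := K.mkQ_surjective z
    obtain ⟨f, hf, w, hw, rfl⟩ := Submodule.mem_sup.mp hy
    obtain ⟨r, rfl⟩ := Submodule.mem_span_singleton.mp hw
    refine ⟨r, ?_⟩
    rw [hν, LinearMap.comp_apply, LinearMap.toSpanSingleton_apply, Submodule.mkQ_apply,
      Submodule.mkQ_apply, Submodule.Quotient.eq]
    show F'.subtype (r • (⟨x, hx'⟩ : F') - ⟨f + r • x, hy⟩) ∈ F
    have : F'.subtype (r • (⟨x, hx'⟩ : F') - ⟨f + r • x, hy⟩) = -f := by
      simp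
    rw [this]
    exact F.neg_mem hf
  have hker : LinearMap.ker ν = colon F x := by
    ext r
    rw [LinearMap.mem_ker, hν, LinearMap.comp_apply, Submodule.mkQ_apply,
      Submodule.Quotient.mk_eq_zero, mem_colon]
    rfl
  have e2 : (R ⧸ colon F x) ≃ₗ[R] (F' ⧸ K) :=
    (Submodule.quotEquivOfEq _ _ hker.symm).trans (ν.quotKerEquivOfSurjective hνsurj)
  rw [← Module.supportDim_eq_of_equiv e2, Module.supportDim_quotient_eq_ringKrullDim]

end Step

section Main

variable (ℳ) in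
/-- the invariant -/
def Good (F : Submodule R M) : Prop :=
  HomSub ℳ F ∧ ∃ Q : ℚ[X],
    (∃ n₀ : ℕ, ∀ n : ℕ, n₀ ≤ n →
      Q.eval (n : ℚ) = Module.finrank k (fp 𝒜 ℳ F (n : ℤ))) ∧
    ∀ t : ℕ, Module.supportDim R F ≤ (t : WithBot ℕ∞) ↔ Q.degree < (t : WithBot ℕ)

theorem good_bot : Good 𝒜 ℳ (⊥ : Submodule R M) := by
  refine ⟨?_, 0, ⟨0, fun n _ => ?_⟩, fun t => ?_⟩
  · intro x hx n
    rw [Submodule.mem_bot] at hx
    subst hx
    rw [DirectSum.decompose_zero, DirectSum.zero_apply]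
    exact zero_mem _
  · have h1 : fp 𝒜 ℳ (⊥ : Submodule R M) (n : ℤ) = ⊥ := by
      unfold fp
      rw [Submodule.restrictScalars_bot, bot_inf_eq]
    rw [h1, finrank_bot, eval_zero, Nat.cast_zero]
  · rw [degree_zero, Module.supportDim_eq_bot_of_subsingleton]
    exact ⟨fun _ => WithBot.bot_lt_coe t, fun _ => bot_le⟩

theorem eval_shift (QJ : ℚ[X]) (g : ℤ → ℕ) (m₀ : ℕ) (e : ℤ)
    (hm₀ : ∀ m : ℕ, m₀ ≤ m → QJ.eval (m : ℚ) = g (m : ℤ)) (n : ℕ)
    (hn : ((m₀ : ℤ) + e).toNat ≤ n) :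
    (QJ.comp (X - C (e : ℚ))).eval (n : ℚ) = g ((n : ℤ) - e) := by
  rw [eval_comp_X_sub_C]
  have hne : (m₀ : ℤ) ≤ (n : ℤ) - e := by omega
  obtain ⟨m, hm⟩ := Int.eq_ofNat_of_zero_le (le_trans (Int.natCast_nonneg m₀) hne)
  have hm' : m₀ ≤ m := by omega
  have h1 : ((n : ℚ) - (e : ℚ)) = (m : ℚ) := by
    have h2 : (((n : ℤ) - e : ℤ) : ℚ) = ((m : ℤ) : ℚ) := by rw [hm]
    push_cast at h2
    exact h2
  rw [h1, hm₀ m hm', hm]

variable (h : Std 𝒜) (hAfin : ∀ m : ℤ, Module.Finite k (𝒜 m))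
  (hMfin : ∀ n : ℤ, Module.Finite k (pieceSub 𝒜 ℳ n))

include h hAfin hMfin

theorem good_sup {F : Submodule R M} (hG : Good 𝒜 ℳ F) {x : M} {e : ℤ} (hx : x ∈ ℳ e) :
    Good 𝒜 ℳ (F ⊔ Submodule.span R {x}) := by
  obtain ⟨hF, Q, ⟨n₀, hn₀⟩, hdim⟩ := hG
  obtain ⟨QJ, ⟨m₀, hm₀⟩, hdimJ⟩ := cyclic h (colon F x) (colon_isHomogeneous 𝒜 hF hx)
  have hsh := eval_shift QJ (hq 𝒜 (colon F x)) m₀ e hm₀
  have hE1 : ENN Q := ⟨n₀, fun n hn => by rw [hn₀ n hn]; positivity⟩
  have hE2 : ENN (QJ.comp (X - C (e : ℚ))) :=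
    ⟨((m₀ : ℤ) + e).toNat, fun n hn => by rw [hsh n hn]; positivity⟩
  refine ⟨sup_homSub 𝒜 hF hx, Q + QJ.comp (X - C (e : ℚ)),
    ⟨max n₀ ((m₀ : ℤ) + e).toNat, fun n hn => ?_⟩, fun t => ?_⟩
  · haveI := hAfin ((n : ℤ) - e)
    haveI := hMfin (n : ℤ)
    rw [finrank_step 𝒜 hF hx (n : ℤ), eval_add, hn₀ n (le_of_max_le_left hn),
      hsh n (le_of_max_le_right hn)]
    push_cast
    rfl
  · rw [supportDim_step F x, hdim t, hdimJ t, degree_add_lt_iff hE1 hE2, degree_comp_X_sub_C]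

theorem good_span (s : Finset M) (hs : ∀ x ∈ s, ∃ e : ℤ, x ∈ ℳ e) :
    Good 𝒜 ℳ (Submodule.span R (s : Set M)) := by
  classical
  induction s using Finset.induction_on with
  | empty =>
    rw [Finset.coe_empty, Submodule.span_empty]
    exact good_bot 𝒜
  | insert x s hxs ih =>
    rw [Finset.coe_insert, Submodule.span_insert, sup_comm]
    obtain ⟨e, he⟩ := hs x (Finset.mem_insert_self x s)
    exact good_sup 𝒜 h hAfin hMfin (ih fun y hy => hs y (Finset.mem_insert_of_mem hy)) he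

/-- **Hilbert polynomial and dimension of a finitely generated graded module.** -/
theorem hilbert_module [Module.Finite R M] :
    ∃ Q : ℚ[X], (∃ n₀ : ℕ, ∀ n : ℕ, n₀ ≤ n →
        Q.eval (n : ℚ) = Module.finrank k (pieceSub 𝒜 ℳ (n : ℤ))) ∧
      ∀ t : ℕ, Module.supportDim R M ≤ (t : WithBot ℕ∞) ↔ Q.degree < (t : WithBot ℕ) := by
  classical
  obtain ⟨S, hS⟩ := (Module.Finite.fg_top : (⊤ : Submodule R M).FG)
  set S' : Finset M := S.biUnion (fun y => (DirectSum.decompose ℳ y).support.image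
    (fun n => ((DirectSum.decompose ℳ y n : ℳ n) : M))) with hS'
  have hS'hom : ∀ x ∈ S', ∃ e : ℤ, x ∈ ℳ e := by
    intro x hx
    rw [hS', Finset.mem_biUnion] at hx
    obtain ⟨y, _, hx⟩ := hx
    rw [Finset.mem_image] at hx
    obtain ⟨n, _, rfl⟩ := hx
    exact ⟨n, SetLike.coe_mem _⟩
  have hS'top : Submodule.span R (S' : Set M) = ⊤ := by
    rw [eq_top_iff, ← hS, Submodule.span_le]
    intro y hy
    rw [← DirectSum.sum_support_decompose ℳ y]
    refine Submodule.sum_mem _ fun n hn => Submodule.subset_span ?_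
    rw [Finset.mem_coe, hS', Finset.mem_biUnion]
    exact ⟨y, hy, Finset.mem_image.mpr ⟨n, hn, rfl⟩⟩
  have key : ∀ F : Submodule R M, F = ⊤ → Good 𝒜 ℳ F →
      ∃ Q : ℚ[X], (∃ n₀ : ℕ, ∀ n : ℕ, n₀ ≤ n →
        Q.eval (n : ℚ) = Module.finrank k (pieceSub 𝒜 ℳ (n : ℤ))) ∧
      ∀ t : ℕ, Module.supportDim R M ≤ (t : WithBot ℕ∞) ↔ Q.degree < (t : WithBot ℕ) := by
    rintro F rfl ⟨_, Q, ⟨n₀, hn₀⟩, hdim⟩
    refine ⟨Q, ⟨n₀, fun n hn => ?_⟩, fun t => ?_⟩
    · rw [hn₀ n hn]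
      unfold fp
      rw [Submodule.restrictScalars_top, top_inf_eq]
    · rw [← hdim t, Module.supportDim_eq_of_equiv (Submodule.topEquiv (R := R) (M := M))]
  exact key _ hS'top (good_span 𝒜 h hAfin hMfin S' hS'hom)

end Main

end Groth.Agent.Lib.Helper87.ModHilbC
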