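import Mathlib
import Groth.Agent.Lib.Helper87.ModHilbC

/-!
# `d`-standard graded algebras: Veronese Hilbert polynomial of a cyclic graded module `R/J`
-/

set_option autoImplicit false
set_option linter.style.haveILetI false
universe u
open MvPolynomial

namespace Groth.Agent.Lib.Helper87.ModHilbE

open Groth.Agent.Lib.Helper87.HilbFnA Groth.Agent.Lib.Helper87.HilbFnB
open Groth.Agent.Lib.Helper87.HilbFnF Groth.Agent.Lib.Helper87.HilbFnG
open Groth.Agent.Lib.Helper87.SegreA Groth.Agent.Lib.Helper87.SegreC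
open Groth.Agent.Lib.Helper87.ModHilbB

attribute [local instance] MvPolynomial.gradedAlgebra

variable {k : Type u} [Field k] {R : Type u} [CommRing R] [Algebra k R]
  (𝒜 : ℤ → Submodule k R) [GradedAlgebra 𝒜]

/-- the `d`-th Veronese is standard graded over the field `k` -/
structure StdD (d : ℕ) : Prop where
  pos : 1 ≤ d
  neg : ∀ n : ℤ, n < 0 → 𝒜 n = ⊥
  zero : 𝒜 0 = Submodule.span k {(1 : R)}
  succ : ∀ n : ℕ, 𝒜 (((n + 1) * d : ℕ) : ℤ) = 𝒜 (d : ℤ) * 𝒜 ((n * d : ℕ) : ℤ)
  fin : Module.Finite k (𝒜 (d : ℤ))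

variable {𝒜}

/-- **Veronese Hilbert polynomial and dimension of a cyclic graded module `R/J`.** -/
theorem cyclicD {d : ℕ} (h : StdD 𝒜 d) (J : Ideal R) (hJ : J.IsHomogeneous 𝒜) :
    ∃ Q : Polynomial ℚ,
      (∃ m₀ : ℕ, ∀ m : ℕ, m₀ ≤ m → Q.eval (m : ℚ) = hq 𝒜 J ((m : ℤ) * (d : ℤ))) ∧
      ∀ t : ℕ, ringKrullDim (R ⧸ J) ≤ (t : WithBot ℕ∞) ↔ Q.degree < (t : WithBot ℕ) := by
  classical
  have hd := h.pos
  set W : ℕ → Submodule k R := fun n => 𝒜 ((n * d : ℕ) : ℤ) with hW
  have hW0 : W 0 = 1 := by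
    simp only [hW, zero_mul, Nat.cast_zero]
    rw [h.zero, Submodule.one_eq_span]
  have hW1 : W 1 = 𝒜 (d : ℤ) := by simp only [hW, one_mul]
  have hWs : ∀ n, W (n + 1) = W 1 * W n := by
    intro n
    rw [hW1]
    exact h.succ n
  haveI := h.fin
  have hfg : (W 1).FG := by
    rw [hW1]
    exact Module.Finite.iff_fg.mp inferInstance
  obtain ⟨a, b, hb⟩ := Submodule.fg_iff_exists_fin_generating_family.mp hfg
  set π : MvPolynomial (Fin a) k →ₐ[k] R := aeval b with hπ
  have hmap : ∀ n, (gr k (Fin a) n).map π.toLinearMap = W n := map_gr_eq W hW0 hWs b hb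
  set ρ : MvPolynomial (Fin a) k →ₐ[k] R ⧸ J := (Ideal.Quotient.mkₐ k J).comp π with hρ
  set I : Ideal (MvPolynomial (Fin a) k) := RingHom.ker ρ with hI
  have hmemI : ∀ f, f ∈ I ↔ π f ∈ J := by
    intro f
    rw [hI, RingHom.mem_ker]
    show (Ideal.Quotient.mk J) (π f) = 0 ↔ _
    exact Ideal.Quotient.eq_zero_iff_mem
  have hIhom : I.IsHomogeneous (homogeneousSubmodule (Fin a) k) := by
    intro n f hf
    have h1 : (DirectSum.decompose (homogeneousSubmodule (Fin a) k) f n :
        MvPolynomial (Fin a) k) = homogeneousComponent n f := decomposition.decompose'_apply f n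
    rw [h1, hmemI]
    rw [hmemI] at hf
    have h2 : GradedAlgebra.proj 𝒜 ((n * d : ℕ) : ℤ) (π f) = π (homogeneousComponent n f) := by
      conv_lhs => rw [← sum_homogeneousComponent f, map_sum, map_sum]
      rw [Finset.sum_eq_single n]
      · rw [GradedAlgebra.proj_apply]
        exact DirectSum.decompose_of_mem_same 𝒜
          (aeval_mem W hW0 hWs b hb (homogeneousComponent_isHomogeneous n f))
      · intro m _ hmn
        rw [GradedAlgebra.proj_apply]
        refine DirectSum.decompose_of_mem_ne 𝒜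
          (aeval_mem W hW0 hWs b hb (homogeneousComponent_isHomogeneous m f)) ?_
        intro hh
        have h' : m * d = n * d := by exact_mod_cast hh
        exact hmn (Nat.eq_of_mul_eq_mul_right (by omega) h')
      · intro hn
        rw [homogeneousComponent_eq_zero _ _ (by
          by_contra hlt
          exact hn (Finset.mem_range.mpr (by omega))), map_zero, map_zero]
    rw [← h2, GradedAlgebra.proj_apply]
    exact hJ _ hf
  have hfn_eq : ∀ n : ℕ, hfn I n = hq 𝒜 J ((n : ℤ) * (d : ℤ)) := by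
    intro n
    set g : gr k (Fin a) n →ₗ[k] R ⧸ J := ρ.toLinearMap.domRestrict (gr k (Fin a) n) with hg
    have h1 := LinearMap.finrank_range_add_finrank_ker g
    have h2 : LinearMap.range g =
        (𝒜 ((n : ℤ) * (d : ℤ))).map (Ideal.Quotient.mkₐ k J).toLinearMap := by
      rw [hg, LinearMap.range_domRestrict]
      have h3 : ρ.toLinearMap = (Ideal.Quotient.mkₐ k J).toLinearMap ∘ₗ π.toLinearMap := rfl
      rw [h3, Submodule.map_comp, hmap]
      simp only [hW, Nat.cast_mul]
    have h3 : Module.finrank k (LinearMap.ker g) = Module.finrank k (pc I n) := by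
      have e : LinearMap.ker g ≃ₗ[k] pc I n :=
        { toFun := fun x => ⟨x.1.1, ⟨by
            have hx : g x.1 = 0 := LinearMap.mem_ker.mp x.2
            show x.1.1 ∈ RingHom.ker ρ
            rw [RingHom.mem_ker]
            exact hx, x.1.2⟩⟩
          map_add' := fun x y => rfl
          map_smul' := fun c x => rfl
          invFun := fun x => ⟨⟨x.1, x.2.2⟩, by
            have hx : x.1 ∈ RingHom.ker ρ := x.2.1
            rw [RingHom.mem_ker] at hx
            rw [LinearMap.mem_ker]
            exact hx⟩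
          left_inv := fun x => rfl
          right_inv := fun x => rfl }
      exact e.finrank_eq
    unfold hfn hq
    rw [← h1, h2, h3]
    push_cast
    ring
  obtain ⟨Q, hQ⟩ := exists_isHP I hIhom
  refine ⟨Q, ?_, ?_⟩
  · obtain ⟨m₀, hm₀⟩ := hQ
    exact ⟨m₀, fun m hm => by rw [hm₀ m hm, hfn_eq]⟩
  · intro t
    have e := Ideal.quotientKerEquivRange ρ
    haveI : Algebra.IsIntegral ρ.range (R ⧸ J) := by
      refine ⟨fun z => ?_⟩
      obtain ⟨r, rfl⟩ := Ideal.Quotient.mk_surjective z
      rw [← DirectSum.sum_support_decompose 𝒜 r, map_sum]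
      refine IsIntegral.sum _ fun m _ => ?_
      have hy : (DirectSum.decompose 𝒜 r m : R) ∈ 𝒜 m := SetLike.coe_mem _
      generalize (DirectSum.decompose 𝒜 r m : R) = y at hy
      by_cases hm : m < 0
      · rw [h.neg m hm, Submodule.mem_bot] at hy
        rw [hy, map_zero]
        exact isIntegral_zero
      · obtain ⟨m', rfl⟩ := Int.eq_ofNat_of_zero_le (not_lt.mp hm)
        apply IsIntegral.of_pow (n := d) (by omega)
        have h1 : y ^ d ∈ 𝒜 (d • (m' : ℤ)) := SetLike.pow_mem_graded d hy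
        have h2 : (d • (m' : ℤ)) = ((m' * d : ℕ) : ℤ) := by
          rw [nsmul_eq_mul]; push_cast; ring
        rw [h2] at h1
        have h3 : y ^ d ∈ (gr k (Fin a) m').map π.toLinearMap := by
          rw [hmap]; exact h1
        obtain ⟨f, _, hf⟩ := h3
        have h4 : (Ideal.Quotient.mk J) y ^ d ∈ ρ.range := by
          refine ⟨f, ?_⟩
          show (Ideal.Quotient.mk J) (π f) = _
          rw [← map_pow]
          congr 1
        have h5 : (Ideal.Quotient.mk J) y ^ d =
            algebraMap ρ.range (R ⧸ J) ⟨(Ideal.Quotient.mk J) y ^ d, h4⟩ := rfl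
        rw [h5]
        exact isIntegral_algebraMap
    have hdim : ringKrullDim (R ⧸ J) = ringKrullDim (MvPolynomial (Fin a) k ⧸ I) := by
      rw [ringKrullDim_eq_of_ringEquiv e.toRingEquiv]
      exact Groth.Agent.Lib.Helper11.IntegralDim.ringKrullDim_eq_of_isIntegral_of_injective
        (R := ρ.range) (S := R ⧸ J) Subtype.val_injective
    rw [hdim]
    exact dim_le_iff_degree_lt I hIhom Q hQ t

end Groth.Agent.Lib.Helper87.ModHilbE
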