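import Mathlib
import Groth.Agent.Lib.Helper87.ModHilbE

/-!
# Hilbert polynomials along residue classes for graded modules over `d`-standard graded algebras
-/

set_option autoImplicit false
set_option linter.style.haveILetI false
set_option linter.unusedSectionVars false
universe u

namespace Groth.Agent.Lib.Helper87.ModHilbF

open Groth.Agent.Lib.Helper87.ModHilbA Groth.Agent.Lib.Helper87.ModHilbB
open Groth.Agent.Lib.Helper87.ModHilbC Groth.Agent.Lib.Helper87.ModHilbE
open Groth.Agent.Lib.Helper99.GrDual Groth.Agent.Lib.Helper99.SegreFin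
open Polynomial

section Supp

variable {R : Type*} [CommRing R] {M : Type*} [AddCommGroup M] [Module R M]

theorem support_sup_subset (K L : Submodule R M) :
    Module.support R ↥(K ⊔ L) ⊆ Module.support R K ∪ Module.support R L := by
  intro p hp
  rw [Module.mem_support_iff_exists_annihilator] at hp
  obtain ⟨⟨y, hy⟩, hann⟩ := hp
  obtain ⟨a, ha, b, hb, rfl⟩ := Submodule.mem_sup.mp hy
  have hle : (Submodule.span R {(⟨a, ha⟩ : K)}).annihilator ⊓
      (Submodule.span R {(⟨b, hb⟩ : L)}).annihilator ≤ p.asIdeal := by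
    refine le_trans ?_ hann
    intro r hr
    rw [Submodule.mem_inf, Submodule.mem_annihilator_span_singleton,
      Submodule.mem_annihilator_span_singleton] at hr
    rw [Submodule.mem_annihilator_span_singleton]
    apply Subtype.ext
    have h1 : r • a = 0 := congrArg Subtype.val hr.1
    have h2 : r • b = 0 := congrArg Subtype.val hr.2
    show r • (a + b) = 0
    rw [smul_add, h1, h2, add_zero]
  rcases (Ideal.IsPrime.inf_le p.2).mp hle with h | h
  · left
    rw [Module.mem_support_iff_exists_annihilator]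
    exact ⟨_, h⟩
  · right
    rw [Module.mem_support_iff_exists_annihilator]
    exact ⟨_, h⟩

theorem supportDim_sup_le (K L : Submodule R M) (t : WithBot ℕ∞)
    (hK : Module.supportDim R K ≤ t) (hL : Module.supportDim R L ≤ t) :
    Module.supportDim R ↥(K ⊔ L) ≤ t := by
  unfold Module.supportDim at *
  have h1 := krullDim_union_le (Module.support R K) (Module.support R L)
    (fun p q hpq hp => Module.mem_support_mono hpq hp)
    (fun p q hpq hp => Module.mem_support_mono hpq hp) t hK hL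
  refine le_trans ?_ h1
  exact Order.krullDim_le_of_strictMono
    (fun x => (⟨x.1, support_sup_subset K L x.2⟩ :
      (Module.support R K ∪ Module.support R L : Set (PrimeSpectrum R))))
    (fun x y hxy => hxy)

theorem supportDim_finset_sup_le {ι : Type*} (s : Finset ι) (G : ι → Submodule R M)
    (t : WithBot ℕ∞) (h : ∀ i ∈ s, Module.supportDim R (G i) ≤ t) :
    Module.supportDim R ↥(s.sup G) ≤ t := by
  classical
  induction s using Finset.induction_on with
  | empty =>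
    rw [Finset.sup_empty, Module.supportDim_eq_bot_of_subsingleton]
    exact bot_le
  | insert a s ha ih =>
    rw [Finset.sup_insert]
    exact supportDim_sup_le _ _ t (h a (Finset.mem_insert_self a s))
      (ih fun i hi => h i (Finset.mem_insert_of_mem hi))

end Supp

variable {k : Type u} [Field k] {R : Type u} [CommRing R] [Algebra k R]
  (𝒜 : ℤ → Submodule k R) [GradedAlgebra 𝒜]
  {M : Type u} [AddCommGroup M] [Module R M] [Module k M] [IsScalarTower k R M]
  (ℳ : ℤ → AddSubgroup M) [DirectSum.Decomposition ℳ] [SetLike.GradedSMul 𝒜 ℳ]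

/-- the invariant, along the residue class `i` modulo `d` -/
def GoodD (d : ℕ) (i : ℤ) (F : Submodule R M) : Prop :=
  HomSub ℳ F ∧ ∃ Q : ℚ[X],
    (∃ n₀ : ℕ, ∀ n : ℕ, n₀ ≤ n →
      Q.eval (n : ℚ) = Module.finrank k (fp 𝒜 ℳ F ((n : ℤ) * (d : ℤ) + i))) ∧
    ∀ t : ℕ, Module.supportDim R F ≤ (t : WithBot ℕ∞) ↔ Q.degree < (t : WithBot ℕ)

variable {ℳ}

theorem goodD_bot (d : ℕ) (i : ℤ) : GoodD 𝒜 ℳ d i (⊥ : Submodule R M) := by
  refine ⟨?_, 0, ⟨0, fun n _ => ?_⟩, fun t => ?_⟩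
  · intro x hx n
    rw [Submodule.mem_bot] at hx
    subst hx
    rw [DirectSum.decompose_zero, DirectSum.zero_apply]
    exact zero_mem _
  · have h1 : fp 𝒜 ℳ (⊥ : Submodule R M) ((n : ℤ) * (d : ℤ) + i) = ⊥ := by
      unfold fp
      rw [Submodule.restrictScalars_bot, bot_inf_eq]
    rw [h1, finrank_bot, eval_zero, Nat.cast_zero]
  · rw [degree_zero, Module.supportDim_eq_bot_of_subsingleton]
    exact ⟨fun _ => WithBot.bot_lt_coe t, fun _ => bot_le⟩

variable {d : ℕ} (h : StdD 𝒜 d) (hAfin : ∀ m : ℤ, Module.Finite k (𝒜 m))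
  (hMfin : ∀ n : ℤ, Module.Finite k (pieceSub 𝒜 ℳ n)) (i : ℤ)

include h hAfin hMfin

theorem goodD_sup {F : Submodule R M} (hG : GoodD 𝒜 ℳ d i F) {x : M} {e' : ℤ}
    (hx : x ∈ ℳ (e' * (d : ℤ) + i)) :
    GoodD 𝒜 ℳ d i (F ⊔ Submodule.span R {x}) := by
  obtain ⟨hF, Q, ⟨n₀, hn₀⟩, hdim⟩ := hG
  obtain ⟨QJ, ⟨m₀, hm₀⟩, hdimJ⟩ := cyclicD h (colon F x) (colon_isHomogeneous 𝒜 hF hx)
  have hsh := eval_shift QJ (fun m : ℤ => hq 𝒜 (colon F x) (m * (d : ℤ))) m₀ e' hm₀
  have hE1 : ENN Q := ⟨n₀, fun n hn => by rw [hn₀ n hn]; positivity⟩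
  have hE2 : ENN (QJ.comp (X - C (e' : ℚ))) :=
    ⟨((m₀ : ℤ) + e').toNat, fun n hn => by rw [hsh n hn]; positivity⟩
  refine ⟨sup_homSub 𝒜 hF hx, Q + QJ.comp (X - C (e' : ℚ)),
    ⟨max n₀ ((m₀ : ℤ) + e').toNat, fun n hn => ?_⟩, fun t => ?_⟩
  · haveI := hAfin ((n : ℤ) * (d : ℤ) + i - (e' * (d : ℤ) + i))
    haveI := hMfin ((n : ℤ) * (d : ℤ) + i)
    rw [finrank_step 𝒜 hF hx ((n : ℤ) * (d : ℤ) + i), eval_add, hn₀ n (le_of_max_le_left hn),
      hsh n (le_of_max_le_right hn)]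
    have e1 : (n : ℤ) * (d : ℤ) + i - (e' * (d : ℤ) + i) = ((n : ℤ) - e') * (d : ℤ) := by ring
    rw [e1]
    push_cast
    rfl
  · rw [supportDim_step F x, hdim t, hdimJ t, degree_add_lt_iff hE1 hE2, degree_comp_X_sub_C]

theorem goodD_span (s : Finset M) (hs : ∀ x ∈ s, ∃ e' : ℤ, x ∈ ℳ (e' * (d : ℤ) + i)) :
    GoodD 𝒜 ℳ d i (Submodule.span R (s : Set M)) := by
  classical
  induction s using Finset.induction_on with
  | empty =>
    rw [Finset.coe_empty, Submodule.span_empty]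
    exact goodD_bot 𝒜 d i
  | insert x s hxs ih =>
    rw [Finset.coe_insert, Submodule.span_insert, sup_comm]
    obtain ⟨e, he⟩ := hs x (Finset.mem_insert_self x s)
    exact goodD_sup 𝒜 h hAfin hMfin i (ih fun y hy => hs y (Finset.mem_insert_of_mem hy)) he

variable (ℳ) in
/-- the `R`-submodule generated by the pieces of degree `≡ i` mod `d` -/
def resSub (d : ℕ) (i : ℤ) : Submodule R M :=
  Submodule.span R (⋃ n : ℤ, (ℳ (n * (d : ℤ) + i) : Set M))

/-- **Hilbert polynomial along a residue class.** -/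
theorem hilbert_residue [IsNoetherian R M] :
    ∃ Q : ℚ[X], (∃ n₀ : ℕ, ∀ n : ℕ, n₀ ≤ n →
        Q.eval (n : ℚ) = Module.finrank k (pieceSub 𝒜 ℳ ((n : ℤ) * (d : ℤ) + i))) ∧
      ∀ t : ℕ, Module.supportDim R (resSub (R := R) ℳ d i) ≤ (t : WithBot ℕ∞) ↔
        Q.degree < (t : WithBot ℕ) := by
  classical
  have hfg : (resSub (R := R) ℳ d i).FG := IsNoetherian.noetherian _
  unfold resSub at hfg
  obtain ⟨s, hs1, hs2⟩ := (Submodule.fg_span_iff_fg_span_finset_subset _).mp hfg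
  have hs : ∀ x ∈ s, ∃ e' : ℤ, x ∈ ℳ (e' * (d : ℤ) + i) := by
    intro x hx
    have := hs1 hx
    rw [Set.mem_iUnion] at this
    exact this
  obtain ⟨_, Q, ⟨n₀, hn₀⟩, hdim⟩ := goodD_span 𝒜 h hAfin hMfin i s hs
  have hres : resSub (R := R) ℳ d i = Submodule.span R (s : Set M) := hs2
  refine ⟨Q, ⟨n₀, fun n hn => ?_⟩, fun t => ?_⟩
  · rw [hn₀ n hn, ← hres]
    have hfp : fp 𝒜 ℳ (resSub (R := R) ℳ d i) ((n : ℤ) * (d : ℤ) + i) =
        pieceSub 𝒜 ℳ ((n : ℤ) * (d : ℤ) + i) := by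
      unfold fp
      apply inf_eq_right.mpr
      intro y hy
      show y ∈ resSub (R := R) ℳ d i
      exact Submodule.subset_span (Set.mem_iUnion.mpr ⟨(n : ℤ), hy⟩)
    rw [hfp]
  · rw [hres]
    exact hdim t

end Groth.Agent.Lib.Helper87.ModHilbF
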