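import Mathlib
import Groth.Agent.Lib.Helper87.ModHilbF
import Groth.Agent.Lib.Helper87.GrSuppDimB
import Groth.Agent.Lib.Helper29.Depth
import Groth.Agent.Lib.Helper73.DimField

/-!
# Unmixedness of graded Cohen–Macaulay modules over a graded ring defined over a field

For a nonnegatively graded `k`-algebra `R` of finite type with `R_0 = k` and irrelevant maximal
ideal `m`, a finitely generated module `X` with homogeneous annihilator has `dim X = dim X_m`;
if `M_m` is Cohen–Macaulay, every nonzero submodule of `M` with homogeneous annihilator has the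
same dimension as `M`.
-/

set_option autoImplicit false
set_option linter.style.haveILetI false
set_option linter.unusedSectionVars false
universe u

namespace Groth.Agent.Lib.Helper87.ModHilbG

open Groth.Agent.Lib.Helper87.HilbFnG Groth.Agent.Lib.Helper87.GrHtA
open Groth.Agent.Lib.Helper87.GrSuppDimB Groth.Agent.Lib.Helper87.SuppDimLoc
open Groth.Agent.Lib.Helper29.DepthLib Groth.Agent.Lib.Helper73.DimFormula

section Local

/-- a nonzero submodule of a Cohen–Macaulay module has the same dimension -/
theorem supportDim_submodule_eq_of_isCM {A : Type u} [CommRing A] [IsLocalRing A]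
    [IsNoetherianRing A] {X : Type u} [AddCommGroup X] [Module A X] [Module.Finite A X]
    (hX : LocCoh.IsCohenMacaulayModule A X) (L : Submodule A X) (hL : L ≠ ⊥) :
    Module.supportDim A L = Module.supportDim A X := by
  haveI : Nontrivial L := Submodule.nontrivial_iff_ne_bot.mpr hL
  haveI : Nontrivial X := L.subtype_injective.nontrivial
  haveI : IsNoetherian A X := isNoetherian_of_isNoetherianRing_of_finite A X
  haveI : Module.Finite A L := inferInstance
  apply le_antisymm (Module.supportDim_le_of_injective L.subtype L.subtype_injective)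
  obtain ⟨p, hp⟩ := associatedPrimes.nonempty A L
  have hp' : p ∈ associatedPrimes A X :=
    associatedPrimes.subset_of_injective L.subtype_injective hp
  calc Module.supportDim A X = ((LocCoh.depth A X : ℕ∞) : WithBot ℕ∞) := hX
    _ ≤ ringKrullDim (A ⧸ p) := depth_le_ringKrullDim_quotient A X hp'
    _ ≤ Module.supportDim A L := ringKrullDim_quotient_le_supportDim A L hp

end Local

variable {k : Type u} [Field k] {R : Type u} [CommRing R] [Algebra k R]
  (𝒜 : ℤ → Submodule k R) [GradedAlgebra 𝒜]

/-- the irrelevant ideal -/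
def irr : Ideal R := Ideal.span (⋃ n ∈ Set.Ioi (0 : ℤ), (𝒜 n : Set R))

variable (hpos : ∀ n : ℤ, n < 0 → 𝒜 n = ⊥) (h0 : 𝒜 0 = Submodule.span k {(1 : R)})

include hpos

theorem eq_zero_of_mem_neg {i : ℤ} (hi : i < 0) {y : R} (hy : y ∈ 𝒜 i) : y = 0 := by
  rw [hpos i hi, Submodule.mem_bot] at hy
  exact hy

theorem decompose_mul_zero_of_mem {n : ℤ} (hn : 0 < n) {y : R} (hy : y ∈ 𝒜 n) (r : R) :
    (DirectSum.decompose 𝒜 (r * y) 0 : R) = 0 := by
  have h := DirectSum.coe_decompose_mul_add_of_right_mem 𝒜 (a := r) (i := -n) hy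
  rw [neg_add_cancel] at h
  rw [h]
  have h2 : (DirectSum.decompose 𝒜 r (-n) : R) = 0 :=
    eq_zero_of_mem_neg 𝒜 hpos (by omega) (SetLike.coe_mem _)
  rw [h2, zero_mul]

theorem decompose_zero_of_mem_irr {x : R} (hx : x ∈ irr 𝒜) :
    (DirectSum.decompose 𝒜 x 0 : R) = 0 := by
  have key : ∀ r : R, (DirectSum.decompose 𝒜 (r * x) 0 : R) = 0 := by
    unfold irr at hx
    induction hx using Submodule.span_induction with
    | mem y hy =>
      simp only [Set.mem_iUnion, Set.mem_Ioi] at hy
      obtain ⟨n, hn, hy⟩ := hy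
      intro r
      exact decompose_mul_zero_of_mem 𝒜 hpos hn hy r
    | zero => intro r; simp
    | add y z _ _ hy hz =>
      intro r
      rw [mul_add, DirectSum.decompose_add, DirectSum.add_apply, AddMemClass.coe_add, hy, hz,
        add_zero]
    | smul a y _ hy =>
      intro r
      rw [smul_eq_mul, ← mul_assoc]
      exact hy (r * a)
  simpa using key 1

theorem component_mem_irr (x : R) (i : ℤ) (hi : i ≠ 0) :
    (DirectSum.decompose 𝒜 x i : R) ∈ irr 𝒜 := by
  rcases lt_or_gt_of_ne hi with h | h
  · rw [eq_zero_of_mem_neg 𝒜 hpos h (SetLike.coe_mem (DirectSum.decompose 𝒜 x i))]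
    exact zero_mem _
  · apply Ideal.subset_span
    simp only [Set.mem_iUnion, Set.mem_Ioi]
    exact ⟨i, h, SetLike.coe_mem _⟩

theorem sub_mem_irr (x : R) : x - (DirectSum.decompose 𝒜 x 0 : R) ∈ irr 𝒜 := by
  classical
  have h1 : x = ∑ i ∈ (DirectSum.decompose 𝒜 x).support, (DirectSum.decompose 𝒜 x i : R) :=
    (DirectSum.sum_support_decompose 𝒜 x).symm
  by_cases hz : (0 : ℤ) ∈ (DirectSum.decompose 𝒜 x).support
  · have h2 : x - (DirectSum.decompose 𝒜 x 0 : R) =
        ∑ i ∈ (DirectSum.decompose 𝒜 x).support.erase 0, (DirectSum.decompose 𝒜 x i : R) := by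
      rw [Finset.sum_erase_eq_sub hz, ← h1]
    rw [h2]
    exact Ideal.sum_mem _ fun i hi => component_mem_irr 𝒜 hpos x i (Finset.ne_of_mem_erase hi)
  · have h3 : (DirectSum.decompose 𝒜 x 0 : R) = 0 := by
      have := DFinsupp.notMem_support_iff.mp hz
      rw [this]; rfl
    rw [h3, sub_zero, h1]
    exact Ideal.sum_mem _ fun i hi => component_mem_irr 𝒜 hpos x i (fun h => hz (h ▸ hi))

include h0

omit hpos in
theorem exists_smul_of_mem_zero {y : R} (hy : y ∈ 𝒜 0) : ∃ c : k, c • (1 : R) = y := by
  rw [h0, Submodule.mem_span_singleton] at hy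
  exact hy

theorem irr_isMaximal [Nontrivial R] : (irr 𝒜).IsMaximal := by
  rw [Ideal.isMaximal_iff]
  refine ⟨fun h1 => ?_, fun J x hJ hx hxJ => ?_⟩
  · have := decompose_zero_of_mem_irr 𝒜 hpos h1
    rw [DirectSum.decompose_of_mem_same 𝒜 SetLike.GradedOne.one_mem] at this
    exact one_ne_zero this
  · obtain ⟨c, hc⟩ := exists_smul_of_mem_zero 𝒜 h0
      (SetLike.coe_mem (DirectSum.decompose 𝒜 x 0))
    have hsub := sub_mem_irr 𝒜 hpos x
    have hc0 : c ≠ 0 := by
      rintro rfl
      apply hx
      rw [← hc, zero_smul, sub_zero] at hsub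
      exact hsub
    have h2 : c • (1 : R) ∈ J := by
      rw [hc]
      have h3 := J.sub_mem hxJ (hJ hsub)
      rwa [sub_sub_cancel] at h3
    have h4 : (1 : R) = c⁻¹ • (c • (1 : R)) := by rw [smul_smul, inv_mul_cancel₀ hc0, one_smul]
    rw [h4, Algebra.smul_def]
    exact J.mul_mem_left _ h2

theorem le_irr {I : Ideal R} (hI : I.IsHomogeneous 𝒜) (hne : I ≠ ⊤) : I ≤ irr 𝒜 := by
  intro x hx
  have hx0 : (DirectSum.decompose 𝒜 x 0 : R) ∈ I := hI 0 hx
  obtain ⟨c, hc⟩ := exists_smul_of_mem_zero 𝒜 h0
    (SetLike.coe_mem (DirectSum.decompose 𝒜 x 0))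
  have hsub := sub_mem_irr 𝒜 hpos x
  by_cases hc0 : c = 0
  · rw [← hc, hc0, zero_smul, sub_zero] at hsub
    exact hsub
  · exfalso
    apply hne
    rw [Ideal.eq_top_iff_one]
    have h4 : (1 : R) = c⁻¹ • (c • (1 : R)) := by rw [smul_smul, inv_mul_cancel₀ hc0, one_smul]
    rw [h4, Algebra.smul_def, hc]
    exact I.mul_mem_left _ hx0

theorem isHomogeneous_of_mem_minimalPrimes {I p : Ideal R} (hI : I.IsHomogeneous 𝒜)
    (hp : p ∈ I.minimalPrimes) : p.IsHomogeneous 𝒜 := by
  have hpp : p.IsPrime := hp.1.1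
  have hcore : (p.homogeneousCore 𝒜).toIdeal.IsPrime := Ideal.IsPrime.homogeneousCore hpp
  have hle : (p.homogeneousCore 𝒜).toIdeal ≤ p := Ideal.toIdeal_homogeneousCore_le _ p
  have hI' : I ≤ (p.homogeneousCore 𝒜).toIdeal := by
    have := Ideal.homogeneousCore_mono 𝒜 hp.1.2
    have h2 : (I.homogeneousCore 𝒜).toIdeal = I := hI.toIdeal_homogeneousCore_eq_self
    rw [← h2]
    exact this
  have := hp.2 ⟨hcore, hI'⟩ hle
  have heq : (p.homogeneousCore 𝒜).toIdeal = p := le_antisymm hle this
  rw [← heq]
  exact (p.homogeneousCore 𝒜).isHomogeneous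

/-- **`dim R/I = ht (m/I)` for a proper homogeneous ideal `I`.** -/
theorem ringKrullDim_quotient_eq_height [Nontrivial R] [Algebra.FiniteType k R] {I : Ideal R}
    (hI : I.IsHomogeneous 𝒜) (hne : I ≠ ⊤) :
    ringKrullDim (R ⧸ I) = (((irr 𝒜).map (Ideal.Quotient.mk I)).height : WithBot ℕ∞) := by
  haveI hmax := irr_isMaximal 𝒜 hpos h0
  have hIm := le_irr 𝒜 hpos h0 hI hne
  haveI : IsNoetherianRing R := Algebra.FiniteType.isNoetherianRing k R
  haveI hmI : ((irr 𝒜).map (Ideal.Quotient.mk I)).IsMaximal :=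
    Ideal.IsMaximal.map_of_surjective_of_ker_le Ideal.Quotient.mk_surjective
      (by rwa [Ideal.mk_ker])
  apply le_antisymm
  · apply ringKrullDim_quotient_le_of_minimalPrimes
    intro q hq
    haveI hqp : q.IsPrime := hq.1.1
    have hqh : q.IsHomogeneous 𝒜 := isHomogeneous_of_mem_minimalPrimes 𝒜 hpos h0 hI hq
    have hqm : q ≤ irr 𝒜 := le_irr 𝒜 hpos h0 hqh hqp.ne_top
    haveI : Algebra.FiniteType k (R ⧸ q) :=
      Algebra.FiniteType.of_surjective (Ideal.Quotient.mkₐ k q) (Ideal.Quotient.mkₐ_surjective k q)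
    obtain ⟨n, -, hn, hmaxn, -⟩ := exists_trdeg_eq_ringKrullDim k (R ⧸ q)
    haveI hmq : ((irr 𝒜).map (Ideal.Quotient.mk q)).IsMaximal :=
      Ideal.IsMaximal.map_of_surjective_of_ker_le Ideal.Quotient.mk_surjective
        (by rwa [Ideal.mk_ker])
    rw [hn]
    have hmn := hmaxn ((irr 𝒜).map (Ideal.Quotient.mk q))
    haveI : (q.map (Ideal.Quotient.mk I)).IsPrime :=
      Ideal.map_isPrime_of_surjective Ideal.Quotient.mk_surjective (by rw [Ideal.mk_ker]; exact hq.1.2)
    have h1 := height_add_height_quotient_le (q.map (Ideal.Quotient.mk I))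
      ((irr 𝒜).map (Ideal.Quotient.mk I)) (Ideal.map_mono hqm)
    rw [height_map_doubleQuot hq.1.2, hmn] at h1
    have h3 : (n : ℕ∞) ≤ ((irr 𝒜).map (Ideal.Quotient.mk I)).height := le_trans le_add_self h1
    exact_mod_cast h3
  · exact Ideal.height_le_ringKrullDim_of_ne_top hmI.ne_top

/-- **graded modules: global dimension equals the dimension at the irrelevant ideal** -/
theorem supportDim_eq_localization [Algebra.FiniteType k R] (m : Ideal R) [m.IsPrime]
    (hm : m = irr 𝒜) (X : Type u) [AddCommGroup X] [Module R X] [Module.Finite R X]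
    [Nontrivial X] (hann : (Module.annihilator R X).IsHomogeneous 𝒜) :
    Module.supportDim R X =
        Module.supportDim (Localization.AtPrime m) (LocalizedModule m.primeCompl X) ∧
      Nontrivial (LocalizedModule m.primeCompl X) := by
  subst hm
  haveI : Nontrivial R := Module.nontrivial R X
  have hne : Module.annihilator R X ≠ ⊤ := by
    rw [Ne, Module.annihilator_eq_top_iff]
    exact not_subsingleton X
  have hle := le_irr 𝒜 hpos h0 hann hne
  refine ⟨?_, ?_⟩
  · rw [supportDim_localization_eq X (irr 𝒜) hle,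
      Module.supportDim_eq_ringKrullDim_quotient_annihilator,
      ringKrullDim_quotient_eq_height 𝒜 hpos h0 hann hne]
  · have h1 : (⟨irr 𝒜, inferInstance⟩ : PrimeSpectrum R) ∈ Module.support R X := by
      rw [Module.mem_support_iff_of_finite]
      exact hle
    exact Module.mem_support_iff.mp h1

/-- **unmixedness** -/
theorem supportDim_submodule_eq [Algebra.FiniteType k R] (m : Ideal R) [m.IsPrime]
    (hm : m = irr 𝒜) (M : Type u) [AddCommGroup M] [Module R M] [Module.Finite R M]
    (hannM : (Module.annihilator R M).IsHomogeneous 𝒜)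
    (hcm : Subsingleton (LocalizedModule m.primeCompl M) ∨
      LocCoh.IsCohenMacaulayModule (Localization.AtPrime m) (LocalizedModule m.primeCompl M))
    (L : Submodule R M) (hL : L ≠ ⊥) (hannL : (Module.annihilator R L).IsHomogeneous 𝒜) :
    Module.supportDim R L = Module.supportDim R M := by
  haveI : IsNoetherianRing R := Algebra.FiniteType.isNoetherianRing k R
  haveI : IsNoetherian R M := isNoetherian_of_isNoetherianRing_of_finite R M
  haveI : Module.Finite R L := inferInstance
  haveI : Nontrivial L := Submodule.nontrivial_iff_ne_bot.mpr hL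
  haveI : Nontrivial M := L.subtype_injective.nontrivial
  obtain ⟨h1, hn1⟩ := supportDim_eq_localization 𝒜 hpos h0 m hm M hannM
  obtain ⟨h2, hn2⟩ := supportDim_eq_localization 𝒜 hpos h0 m hm L hannL
  have hcm' : LocCoh.IsCohenMacaulayModule (Localization.AtPrime m)
      (LocalizedModule m.primeCompl M) := by
    rcases hcm with h | h
    · exact absurd h (not_subsingleton _)
    · exact h
  have hinj : Function.Injective (LocalizedModule.map m.primeCompl L.subtype) :=
    LocalizedModule.map_injective m.primeCompl L.subtype L.subtype_injective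
  set L' : Submodule (Localization.AtPrime m) (LocalizedModule m.primeCompl M) :=
    LinearMap.range (LocalizedModule.map m.primeCompl L.subtype) with hL'
  have e : LocalizedModule m.primeCompl L ≃ₗ[Localization.AtPrime m] L' :=
    LinearEquiv.ofInjective _ hinj
  have hL'ne : L' ≠ ⊥ := by
    intro hbot
    haveI : Nontrivial L' := e.injective.nontrivial
    exact (Submodule.nontrivial_iff_ne_bot.mp inferInstance) hbot
  rw [h1, h2, Module.supportDim_eq_of_equiv e]
  exact supportDim_submodule_eq_of_isCM hcm' L' hL'ne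

section Ann

omit hpos h0

variable {M : Type u} [AddCommGroup M] [Module R M]
  (ℳ : ℤ → AddSubgroup M) [DirectSum.Decomposition ℳ] [SetLike.GradedSMul 𝒜 ℳ]

theorem comp_smul_eq_zero {j : ℤ} {x : M} (hx : x ∈ ℳ j) (r : R) (h : r • x = 0) (g : ℤ) :
    (DirectSum.decompose 𝒜 r g : R) • x = 0 := by
  classical
  have h1 : r • x =
      ∑ i ∈ (DirectSum.decompose 𝒜 r).support, (DirectSum.decompose 𝒜 r i : R) • x := by
    conv_lhs => rw [← DirectSum.sum_support_decompose 𝒜 r, Finset.sum_smul]
  have hmem : ∀ i, (DirectSum.decompose 𝒜 r i : R) • x ∈ ℳ (i + j) := fun i => by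
    have := SetLike.GradedSMul.smul_mem (A := 𝒜) (B := ℳ)
      (SetLike.coe_mem (DirectSum.decompose 𝒜 r i)) hx
    rwa [vadd_eq_add] at this
  have h2 : (DirectSum.decompose ℳ (r • x) (g + j) : M) = (DirectSum.decompose 𝒜 r g : R) • x := by
    rw [h1, DirectSum.decompose_sum, DFinsupp.finsetSum_apply, AddSubmonoidClass.coe_finsetSum,
      Finset.sum_eq_single g]
    · exact DirectSum.decompose_of_mem_same ℳ (hmem g)
    · intro i _ hig
      exact DirectSum.decompose_of_mem_ne ℳ (hmem i) (fun h => hig (add_right_cancel h))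
    · intro hg
      have h0 : (DirectSum.decompose 𝒜 r g : R) = 0 := by
        have := DFinsupp.notMem_support_iff.mp hg
        rw [this]; rfl
      rw [h0, zero_smul, DirectSum.decompose_zero]
      rfl
  rw [← h2, h, DirectSum.decompose_zero]
  rfl

/-- the annihilator of a submodule generated by homogeneous elements is homogeneous -/
theorem annihilator_span_isHomogeneous (G : Set M) (hG : ∀ g ∈ G, ∃ j : ℤ, g ∈ ℳ j) :
    (Module.annihilator R (Submodule.span R G)).IsHomogeneous 𝒜 := by
  intro i r hr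
  change r ∈ (Submodule.span R G).annihilator at hr
  change _ ∈ (Submodule.span R G).annihilator
  rw [Submodule.mem_annihilator_span] at hr ⊢
  intro g
  obtain ⟨j, hj⟩ := hG g.1 g.2
  exact comp_smul_eq_zero 𝒜 ℳ hj r (hr g) i

include ℳ in
/-- the annihilator of a graded module is homogeneous -/
theorem annihilator_isHomogeneous : (Module.annihilator R M).IsHomogeneous 𝒜 := by
  intro g r hr
  rw [Module.mem_annihilator] at hr ⊢
  intro x
  induction x using DirectSum.Decomposition.inductionOn ℳ with
  | zero => simp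
  | @homogeneous j y => exact comp_smul_eq_zero 𝒜 ℳ y.2 r (hr _) g
  | add y y' hy hy' => rw [smul_add, hy, hy', add_zero]

end Ann

end Groth.Agent.Lib.Helper87.ModHilbG
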