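import Mathlib
import Groth.Agent.Lib.Helper87.ModHilbG
import Groth.Agent.Lib.Helper29.Linkage4

/-!
# Graded rings defined over a field: finite type, homogeneous prime avoidance, homogeneous regular
elements, one-dimensional standard graded rings
-/

set_option autoImplicit false
set_option linter.style.haveILetI false
set_option linter.unusedSectionVars false
universe u

namespace Groth.Agent.Lib.Helper87.SegPolyA

open Groth.Agent.Lib.Helper87.ModHilbG Groth.Agent.Lib.Helper87.ModHilbB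

variable {k : Type u} [Field k] {R : Type u} [CommRing R] [Algebra k R]
  (𝒜 : ℤ → Submodule k R) [GradedAlgebra 𝒜]

/-- the ideal generated by the pieces of degree at least `N` -/
def geIdeal (N : ℤ) : Ideal R := Ideal.span (⋃ m ∈ Set.Ici N, (𝒜 m : Set R))

theorem irr_mul_geIdeal_le (N : ℤ) : irr 𝒜 * geIdeal 𝒜 N ≤ geIdeal 𝒜 (N + 1) := by
  unfold irr geIdeal
  rw [Ideal.span_mul_span']
  apply Ideal.span_le.mpr
  rintro _ ⟨a, ha, b, hb, rfl⟩
  simp only [Set.mem_iUnion, Set.mem_Ioi, Set.mem_Ici] at ha hb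
  obtain ⟨i, hi, ha⟩ := ha
  obtain ⟨m, hm, hb⟩ := hb
  apply Ideal.subset_span
  simp only [Set.mem_iUnion, Set.mem_Ici]
  exact ⟨i + m, by omega, SetLike.GradedMul.mul_mem ha hb⟩

theorem irr_pow_le_geIdeal (N : ℕ) : irr 𝒜 ^ N ≤ geIdeal 𝒜 (N : ℤ) := by
  induction N with
  | zero =>
    intro x _
    have h1 : (1 : R) ∈ geIdeal 𝒜 ((0 : ℕ) : ℤ) := by
      apply Ideal.subset_span
      simp only [Set.mem_iUnion, Set.mem_Ici]
      exact ⟨0, by simp, SetLike.GradedOne.one_mem⟩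
    have := Ideal.mul_mem_left _ x h1
    rwa [mul_one] at this
  | succ n ih =>
    rw [pow_succ']
    refine le_trans (Ideal.mul_mono_right ih) ?_
    have := irr_mul_geIdeal_le 𝒜 (n : ℤ)
    push_cast
    exact this

variable (hpos : ∀ n : ℤ, n < 0 → 𝒜 n = ⊥) (h0 : 𝒜 0 = Submodule.span k {(1 : R)})

include hpos h0

/-- a Noetherian graded ring defined over a field is of finite type -/
theorem finiteType_of_isNoetherianRing [IsNoetherianRing R] : Algebra.FiniteType k R := by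
  classical
  have hfg : (irr 𝒜).FG := IsNoetherian.noetherian _
  obtain ⟨G₀, hG₀⟩ := hfg
  set G : Finset R := G₀.biUnion (fun g => (DirectSum.decompose 𝒜 g).support.image
    (fun i => (DirectSum.decompose 𝒜 g i : R))) with hG
  have hGdeg : ∀ h ∈ G, ∃ i : ℤ, 0 < i ∧ h ∈ 𝒜 i := by
    intro h hh
    rw [hG, Finset.mem_biUnion] at hh
    obtain ⟨g, hg, hh⟩ := hh
    rw [Finset.mem_image] at hh
    obtain ⟨i, -, rfl⟩ := hh
    have hgirr : g ∈ irr 𝒜 := by
      rw [← hG₀]
      exact Submodule.subset_span hg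
    rcases lt_trichotomy i 0 with hi | hi | hi
    · refine ⟨1, one_pos, ?_⟩
      rw [eq_zero_of_mem_neg 𝒜 hpos hi (SetLike.coe_mem (DirectSum.decompose 𝒜 g i))]
      exact zero_mem _
    · subst hi
      refine ⟨1, one_pos, ?_⟩
      rw [decompose_zero_of_mem_irr 𝒜 hpos hgirr]
      exact zero_mem _
    · exact ⟨i, hi, SetLike.coe_mem _⟩
  have hGspan : irr 𝒜 ≤ Ideal.span (G : Set R) := by
    rw [← hG₀]
    apply Ideal.span_le.mpr
    intro g hg
    rw [SetLike.mem_coe, ← DirectSum.sum_support_decompose 𝒜 g]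
    refine Ideal.sum_mem _ fun i hi => Ideal.subset_span ?_
    rw [Finset.mem_coe, hG, Finset.mem_biUnion]
    exact ⟨g, hg, Finset.mem_image.mpr ⟨i, hi, rfl⟩⟩
  set B : Subalgebra k R := Algebra.adjoin k (G : Set R) with hB
  have key : ∀ n : ℕ, ∀ m : ℤ, m ≤ n → ∀ x ∈ 𝒜 m, x ∈ B := by
    intro n
    induction n with
    | zero =>
      intro m hm x hx
      rcases lt_or_eq_of_le hm with h | h
      · rw [eq_zero_of_mem_neg 𝒜 hpos (by exact_mod_cast h) hx]
        exact zero_mem _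
      · have hm0 : m = 0 := by exact_mod_cast h
        subst hm0
        obtain ⟨c, rfl⟩ := exists_smul_of_mem_zero 𝒜 h0 hx
        exact Subalgebra.smul_mem _ (one_mem _) c
    | succ n ih =>
      intro m hm x hx
      by_cases hmn : m ≤ n
      · exact ih m hmn x hx
      have hm1 : m = n + 1 := by push_cast at hm; omega
      have hxirr : x ∈ irr 𝒜 := by
        apply Ideal.subset_span
        simp only [Set.mem_iUnion, Set.mem_Ioi]
        exact ⟨m, by omega, hx⟩
      obtain ⟨f, -, hf⟩ := Submodule.mem_span_finset.mp (hGspan hxirr)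
      have hxm : x = (DirectSum.decompose 𝒜 x m : R) :=
        (DirectSum.decompose_of_mem_same 𝒜 hx).symm
      rw [hxm, ← hf, DirectSum.decompose_sum, DFinsupp.finsetSum_apply,
        AddSubmonoidClass.coe_finsetSum]
      refine Subalgebra.sum_mem _ fun h hh => ?_
      obtain ⟨i, hi, hhi⟩ := hGdeg h hh
      have h1 := DirectSum.coe_decompose_mul_add_of_right_mem 𝒜 (a := f h) (i := m - i) hhi
      rw [sub_add_cancel] at h1
      rw [smul_eq_mul, h1]
      refine Subalgebra.mul_mem _ (ih (m - i) (by omega) _ (SetLike.coe_mem _)) ?_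
      exact Algebra.subset_adjoin hh
  refine ⟨⟨G, ?_⟩⟩
  rw [eq_top_iff]
  intro x _
  rw [← DirectSum.sum_support_decompose 𝒜 x]
  refine Subalgebra.sum_mem _ fun i _ => ?_
  by_cases hi : i < 0
  · rw [eq_zero_of_mem_neg 𝒜 hpos hi (SetLike.coe_mem (DirectSum.decompose 𝒜 x i))]
    exact zero_mem _
  · exact key i.toNat i (by omega) _ (SetLike.coe_mem _)

/-- `dim R = ht R_+` -/
theorem ringKrullDim_eq_height_irr [Nontrivial R] [Algebra.FiniteType k R] :
    ringKrullDim R = ((irr 𝒜).height : WithBot ℕ∞) := by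
  have h1 := ringKrullDim_quotient_eq_height 𝒜 hpos h0 (I := ⊥) (Ideal.IsHomogeneous.bot 𝒜)
    bot_ne_top
  rw [← ringKrullDim_eq_of_ringEquiv (RingEquiv.quotientBot R), h1]
  congr 1
  have h2 : (irr 𝒜).map (Ideal.Quotient.mk (⊥ : Ideal R)) =
      (irr 𝒜).map ((RingEquiv.quotientBot R).symm : R →+* R ⧸ (⊥ : Ideal R)) := rfl
  rw [h2]
  exact RingEquiv.height_map (RingEquiv.quotientBot R).symm (irr 𝒜)

omit h0 in
/-- **homogeneous prime avoidance** -/
theorem exists_homogeneous_not_mem (s : Finset (Ideal R)) (hprime : ∀ p ∈ s, p.IsPrime)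
    (hhom : ∀ p ∈ s, p.IsHomogeneous 𝒜)
    (hI : ∀ p ∈ s, ∃ n : ℕ, 0 < n ∧ ∃ x ∈ 𝒜 (n : ℤ), x ∉ p) :
    ∃ n : ℕ, 0 < n ∧ ∃ x ∈ 𝒜 (n : ℤ), ∀ p ∈ s, x ∉ p := by
  classical
  induction s using Finset.strongInduction with
  | H s ih =>
    by_cases hs : s = ∅
    · subst hs
      exact ⟨1, one_pos, 0, zero_mem _, by simp⟩
    obtain ⟨q, hq, hqmin⟩ := s.exists_minimal (Finset.nonempty_iff_ne_empty.mpr hs)
    obtain ⟨n, hn, x, hx, hxs⟩ := ih (s.erase q) (Finset.erase_ssubset hq)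
      (fun p hp => hprime p (Finset.mem_of_mem_erase hp))
      (fun p hp => hhom p (Finset.mem_of_mem_erase hp))
      (fun p hp => hI p (Finset.mem_of_mem_erase hp))
    by_cases hxq : x ∉ q
    · refine ⟨n, hn, x, hx, fun p hp => ?_⟩
      by_cases hpq : p = q
      · rw [hpq]; exact hxq
      · exact hxs p (Finset.mem_erase.mpr ⟨hpq, hp⟩)
    rw [not_not] at hxq
    haveI hqp : q.IsPrime := hprime q hq
    obtain ⟨n₀, hn₀, y₀, hy₀, hy₀q⟩ := hI q hq
    have hz : ∀ p ∈ s.erase q, ∃ d : ℕ, ∃ z ∈ 𝒜 (d : ℤ), z ∈ p ∧ z ∉ q := by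
      intro p hp
      have hps : p ∈ s := Finset.mem_of_mem_erase hp
      have hpq : p ≠ q := Finset.ne_of_mem_erase hp
      have hnle : ¬ p ≤ q := by
        intro hle
        exact hpq (le_antisymm hle (hqmin hps hle))
      obtain ⟨a, hap, haq⟩ := Set.not_subset.mp hnle
      have hex : ∃ i : ℤ, (DirectSum.decompose 𝒜 a i : R) ∉ q := by
        by_contra hcon
        push Not at hcon
        apply haq
        rw [← DirectSum.sum_support_decompose 𝒜 a]
        exact Ideal.sum_mem _ fun i _ => hcon i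
      obtain ⟨i, hi⟩ := hex
      have hi0 : 0 ≤ i := by
        by_contra hneg
        apply hi
        rw [eq_zero_of_mem_neg 𝒜 hpos (not_le.mp hneg)
          (SetLike.coe_mem (DirectSum.decompose 𝒜 a i))]
        exact zero_mem _
      refine ⟨i.toNat, (DirectSum.decompose 𝒜 a i : R), ?_, hhom p hps i hap, hi⟩
      rw [Int.toNat_of_nonneg hi0]
      exact SetLike.coe_mem _
    choose! d z hzd hzp hzq using hz
    set y : R := y₀ * ∏ p ∈ s.erase q, z p with hy
    set m : ℕ := n₀ + ∑ p ∈ s.erase q, d p with hm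
    have hym : y ∈ 𝒜 (m : ℤ) := by
      rw [hm]
      push_cast
      refine SetLike.GradedMul.mul_mem hy₀ ?_
      exact SetLike.prod_mem_graded _ _ _ fun p hp => hzd p hp
    have hyq : y ∉ q := by
      intro h
      rcases hqp.mem_or_mem h with h | h
      · exact hy₀q h
      · rw [Ideal.IsPrime.prod_mem_iff] at h
        obtain ⟨p, hp, hzpq⟩ := h
        exact hzq p hp hzpq
    have hyp : ∀ p ∈ s.erase q, y ∈ p := fun p hp =>
      Ideal.mul_mem_left _ _ (Ideal.mem_of_dvd _ (Finset.dvd_prod_of_mem z hp) (hzp p hp))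
    have hmpos : 0 < m := by omega
    refine ⟨n * m, Nat.mul_pos hn hmpos, x ^ m + y ^ n, ?_, ?_⟩
    · refine add_mem ?_ ?_
      · have h1 : x ^ m ∈ 𝒜 (m • (n : ℤ)) := SetLike.pow_mem_graded m hx
        have h2 : m • (n : ℤ) = ((n * m : ℕ) : ℤ) := by rw [nsmul_eq_mul]; push_cast; ring
        rwa [h2] at h1
      · have h1 : y ^ n ∈ 𝒜 (n • (m : ℤ)) := SetLike.pow_mem_graded n hym
        have h2 : n • (m : ℤ) = ((n * m : ℕ) : ℤ) := by rw [nsmul_eq_mul]; push_cast; ring
        rwa [h2] at h1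
    · intro p hp hw
      by_cases hpq : p = q
      · subst hpq
        have h1 : x ^ m ∈ p := Ideal.pow_mem_of_mem _ hxq m hmpos
        have h2 : y ^ n ∈ p := (Ideal.add_mem_iff_right _ h1).mp hw
        exact hyq (hqp.mem_of_pow_mem n h2)
      · have hpe : p ∈ s.erase q := Finset.mem_erase.mpr ⟨hpq, hp⟩
        haveI : p.IsPrime := hprime p hp
        have h1 : y ^ n ∈ p := Ideal.pow_mem_of_mem _ (hyp p hpe) n hn
        have h2 : x ^ m ∈ p := (Ideal.add_mem_iff_left _ h1).mp hw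
        exact hxs p hpe (Ideal.IsPrime.mem_of_pow_mem inferInstance m h2)

/-- a Cohen–Macaulay graded ring of positive dimension has a homogeneous regular element of
positive degree -/
theorem exists_homogeneous_regular [Nontrivial R] [Algebra.FiniteType k R]
    [LocCoh.IsCohenMacaulayRing R] (hdim : 1 ≤ ringKrullDim R) :
    ∃ n : ℕ, 0 < n ∧ ∃ x ∈ 𝒜 (n : ℤ), IsSMulRegular R x := by
  classical
  haveI : IsNoetherianRing R := Algebra.FiniteType.isNoetherianRing k R
  haveI hmax := irr_isMaximal 𝒜 hpos h0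
  have hfin := minimalPrimes.finite_of_isNoetherianRing R
  set s : Finset (Ideal R) := hfin.toFinset with hs
  have hmem : ∀ p, p ∈ s ↔ p ∈ minimalPrimes R := fun p => Set.Finite.mem_toFinset hfin
  have hprime : ∀ p ∈ s, p.IsPrime := fun p hp => ((hmem p).mp hp).1.1
  have hhom : ∀ p ∈ s, p.IsHomogeneous 𝒜 := fun p hp =>
    isHomogeneous_of_mem_minimalPrimes 𝒜 hpos h0 (Ideal.IsHomogeneous.bot 𝒜) ((hmem p).mp hp)
  have hI : ∀ p ∈ s, ∃ n : ℕ, 0 < n ∧ ∃ x ∈ 𝒜 (n : ℤ), x ∉ p := by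
    intro p hp
    haveI := hprime p hp
    by_contra hcon
    push Not at hcon
    have hle : irr 𝒜 ≤ p := by
      unfold irr
      apply Ideal.span_le.mpr
      intro x hx
      simp only [Set.mem_iUnion, Set.mem_Ioi] at hx
      obtain ⟨i, hi, hx⟩ := hx
      have h1 := hcon i.toNat (by omega) x (by rw [Int.toNat_of_nonneg hi.le]; exact hx)
      exact h1
    have heq : irr 𝒜 = p := hmax.eq_of_le (Ideal.IsPrime.ne_top inferInstance) hle
    have hht : (irr 𝒜).height = 0 := by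
      rw [heq]
      exact Ideal.height_eq_zero_iff.mpr ((hmem p).mp hp)
    rw [ringKrullDim_eq_height_irr 𝒜 hpos h0, hht] at hdim
    exact absurd hdim (by norm_num)
  obtain ⟨n, hn, x, hx, hxs⟩ := exists_homogeneous_not_mem 𝒜 hpos s hprime hhom hI
  refine ⟨n, hn, x, hx, ?_⟩
  by_contra hreg
  have h1 : x ∈ ({r : R | IsSMulRegular R r}ᶜ : Set R) := hreg
  rw [← biUnion_associatedPrimes_eq_compl_regular R R] at h1
  simp only [Set.mem_iUnion] at h1
  obtain ⟨P, hP, hxP⟩ := h1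
  have hPmin :=
    Groth.Agent.Lib.Helper29.Linkage.mem_minimalPrimes_of_isAssociatedPrime_of_isCM R P hP
  exact hxs P ((hmem P).mpr hPmin) hxP

omit hpos h0 in
/-- a homogeneous multiple of a homogeneous element has a homogeneous cofactor -/
theorem exists_mul_of_mem_span_singleton {n D : ℤ} {a x : R} (ha : a ∈ 𝒜 n) (hx : x ∈ 𝒜 D)
    (hmem : a ∈ Ideal.span {x}) : ∃ c ∈ 𝒜 (n - D), a = c * x := by
  obtain ⟨c', hc'⟩ := Ideal.mem_span_singleton'.mp hmem
  refine ⟨(DirectSum.decompose 𝒜 c' (n - D) : R), SetLike.coe_mem _, ?_⟩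
  have h1 := DirectSum.coe_decompose_mul_add_of_right_mem 𝒜 (a := c') (i := n - D) hx
  rw [sub_add_cancel, hc', DirectSum.decompose_of_mem_same 𝒜 ha] at h1
  exact h1

omit hpos h0 in
theorem isSMulRegular_iff_mul {x : R} : IsSMulRegular R x ↔ ∀ z : R, x * z = 0 → z = 0 := by
  rw [isSMulRegular_iff_right_eq_zero_of_smul]
  rfl

/-- the quotient by a homogeneous regular element of a one-dimensional standard graded ring is
concentrated in finitely many degrees -/
theorem exists_piece_le_span (hStd : Std 𝒜) [Algebra.FiniteType k R]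
    (hdim : ringKrullDim R = 1) {D : ℕ} {x : R} (hx : x ∈ 𝒜 (D : ℤ)) (hreg : IsSMulRegular R x) :
    ∃ N : ℕ, ∀ m : ℕ, N ≤ m → ∀ a ∈ 𝒜 (m : ℤ), a ∈ Ideal.span {x} := by
  have hJ : (Ideal.span {x}).IsHomogeneous 𝒜 := by
    apply Ideal.homogeneous_span
    intro z hz
    rw [Set.mem_singleton_iff] at hz
    subst hz
    exact ⟨_, hx⟩
  obtain ⟨Q, ⟨m₀, hm₀⟩, hdimQ⟩ := cyclic hStd (Ideal.span {x}) hJ
  have hxnzd : x ∈ nonZeroDivisors R := by
    rw [mem_nonZeroDivisors_iff_right]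
    intro z hz
    exact (isSMulRegular_iff_mul.mp hreg) z (by rw [mul_comm]; exact hz)
  have h1 := ringKrullDim_quotient_succ_le_of_nonZeroDivisor hxnzd
  rw [hdim] at h1
  have h2 : ringKrullDim (R ⧸ Ideal.span {x}) ≤ ((0 : ℕ) : WithBot ℕ∞) := by
    generalize ringKrullDim (R ⧸ Ideal.span {x}) = w at h1
    induction w using WithBot.recBotCoe with
    | bot => exact bot_le
    | coe w =>
      have h3 : w + 1 ≤ 1 := by exact_mod_cast h1
      have h4 : w ≤ 0 := by
        induction w using ENat.recTopCoe with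
        | top => exact absurd h3 (by simp)
        | coe w =>
          have : w + 1 ≤ 1 := by exact_mod_cast h3
          have : w ≤ 0 := by omega
          exact_mod_cast this
      exact_mod_cast h4
  have h3 := (hdimQ 0).mp h2
  have hQ0 : Q = 0 := by
    rw [Nat.cast_zero, Nat.WithBot.lt_zero_iff] at h3
    exact Polynomial.degree_eq_bot.mp h3
  have hfin := (SegreB.exists_std 𝒜 hpos h0).1
  refine ⟨m₀, fun m hm a ha => ?_⟩
  have h4 := hm₀ m hm
  rw [hQ0, Polynomial.eval_zero] at h4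
  have h5 : hq 𝒜 (Ideal.span {x}) (m : ℤ) = 0 := by exact_mod_cast h4.symm
  unfold hq at h5
  haveI := hfin (m : ℤ)
  haveI : Module.Finite k ((𝒜 (m : ℤ)).map (Ideal.Quotient.mkₐ k (Ideal.span {x})).toLinearMap) :=
    Module.Finite.map _ _
  rw [Submodule.finrank_eq_zero] at h5
  have h6 : (Ideal.Quotient.mkₐ k (Ideal.span {x})).toLinearMap a ∈
      (𝒜 (m : ℤ)).map (Ideal.Quotient.mkₐ k (Ideal.span {x})).toLinearMap := ⟨a, ha, rfl⟩
  rw [h5, Submodule.mem_bot] at h6
  exact Ideal.Quotient.eq_zero_iff_mem.mp h6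

/-- if `R_n = x R_{n-D}` for all `n ≥ D` then `R_1` is at most one-dimensional -/
theorem exists_piece_one_le [Nontrivial R] (hStd : Std 𝒜) {D : ℕ} (hD : 0 < D) {x : R}
    (hx : x ∈ 𝒜 (D : ℤ)) (hreg : IsSMulRegular R x)
    (hall : ∀ n : ℕ, D ≤ n → ∀ a ∈ 𝒜 (n : ℤ), a ∈ Ideal.span {x}) :
    ∃ y ∈ 𝒜 1, ∀ a ∈ 𝒜 1, ∃ c : k, a = c • y := by
  have hx0 : x ≠ 0 := by
    rintro rfl
    have := (isSMulRegular_iff_mul.mp hreg) 1 (zero_mul 1)
    exact one_ne_zero this
  -- `R_D = k x`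
  have hD1 : ∀ a ∈ 𝒜 (D : ℤ), ∃ c : k, a = c • x := by
    intro a ha
    obtain ⟨c, hc, hac⟩ := exists_mul_of_mem_span_singleton 𝒜 ha hx (hall D le_rfl a ha)
    rw [sub_self] at hc
    obtain ⟨l, rfl⟩ := exists_smul_of_mem_zero 𝒜 h0 hc
    exact ⟨l, by rw [hac, smul_mul_assoc, one_mul]⟩
  obtain ⟨D', rfl⟩ : ∃ D', D = D' + 1 := ⟨D - 1, by omega⟩
  have hsucc := hStd.succ D'
  -- a nonzero product
  have hex : ∃ y ∈ 𝒜 1, ∃ w ∈ 𝒜 (D' : ℤ), y * w ≠ 0 := by
    by_contra hcon
    push Not at hcon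
    have hle : 𝒜 1 * 𝒜 (D' : ℤ) ≤ ⊥ := by
      rw [Submodule.mul_le]
      intro y hy w hw
      rw [Submodule.mem_bot]
      exact hcon y hy w hw
    rw [← hsucc] at hle
    exact hx0 ((Submodule.mem_bot k).mp (hle hx))
  obtain ⟨y, hy, w, hw, hyw⟩ := hex
  have hywD : y * w ∈ 𝒜 ((D' + 1 : ℕ) : ℤ) := by
    rw [hsucc]
    exact Submodule.mul_mem_mul hy hw
  obtain ⟨c, hc⟩ := hD1 _ hywD
  have hc0 : c ≠ 0 := by
    rintro rfl
    rw [zero_smul] at hc
    exact hyw hc
  have hyreg : ∀ z : R, y * z = 0 → z = 0 := by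
    intro z hz
    apply (isSMulRegular_iff_mul.mp hreg) z
    have h1 : (c • x) * z = 0 := by rw [← hc, mul_comm y w, mul_assoc, hz, mul_zero]
    rw [smul_mul_assoc] at h1
    have h2 := congrArg (fun t => c⁻¹ • t) h1
    simpa [smul_smul, inv_mul_cancel₀ hc0] using h2
  have hypow : ∀ j : ℕ, ∀ z : R, y ^ j * z = 0 → z = 0 := by
    intro j
    induction j with
    | zero => intro z hz; simpa using hz
    | succ j ih =>
      intro z hz
      rw [pow_succ, mul_assoc] at hz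
      exact hyreg z (ih _ hz)
  have hypowmem : ∀ j : ℕ, y ^ j ∈ 𝒜 (j : ℤ) := by
    intro j
    have h1 : y ^ j ∈ 𝒜 (j • (1 : ℤ)) := SetLike.pow_mem_graded j hy
    simpa using h1
  refine ⟨y, hy, fun a ha => ?_⟩
  have h1 : y ^ D' * a ∈ 𝒜 ((D' + 1 : ℕ) : ℤ) := by
    have := SetLike.GradedMul.mul_mem (hypowmem D') ha
    push_cast
    exact this
  have h2 : y ^ D' * y ∈ 𝒜 ((D' + 1 : ℕ) : ℤ) := by
    have := SetLike.GradedMul.mul_mem (hypowmem D') hy
    push_cast
    exact this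
  obtain ⟨l, hl⟩ := hD1 _ h1
  obtain ⟨c₀, hc₀⟩ := hD1 _ h2
  have hc₀0 : c₀ ≠ 0 := by
    rintro rfl
    rw [zero_smul] at hc₀
    have := hypow D' y hc₀
    have hy0 : y = 0 := this
    rw [hy0, zero_mul] at hyw
    exact hyw rfl
  refine ⟨l * c₀⁻¹, ?_⟩
  have h3 : y ^ D' * (a - (l * c₀⁻¹) • y) = 0 := by
    rw [mul_sub, mul_smul_comm, hl, hc₀, smul_smul, mul_assoc, inv_mul_cancel₀ hc₀0, mul_one,
      sub_self]
  exact sub_eq_zero.mp (hypow D' _ h3)

omit hpos h0 in
theorem piece_le_span_pow (hStd : Std 𝒜) {y : R} (_hy : y ∈ 𝒜 1)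
    (h1 : ∀ a ∈ 𝒜 1, ∃ c : k, a = c • y) :
    ∀ n : ℕ, ∀ a ∈ 𝒜 (n : ℤ), ∃ c : k, a = c • y ^ n := by
  intro n
  induction n with
  | zero =>
    intro a ha
    rw [Nat.cast_zero] at ha
    obtain ⟨c, rfl⟩ := exists_smul_of_mem_zero 𝒜 hStd.zero ha
    exact ⟨c, by rw [pow_zero]⟩
  | succ n ih =>
    intro a ha
    rw [hStd.succ n] at ha
    have hle : 𝒜 1 * 𝒜 (n : ℤ) ≤ Submodule.span k {y ^ (n + 1)} := by
      rw [Submodule.mul_le]
      intro u hu v hv
      obtain ⟨c, rfl⟩ := h1 u hu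
      obtain ⟨c', rfl⟩ := ih v hv
      rw [Submodule.mem_span_singleton]
      exact ⟨c * c', by rw [smul_mul_smul_comm, pow_succ']⟩
    obtain ⟨c, hc⟩ := Submodule.mem_span_singleton.mp (hle ha)
    exact ⟨c, hc.symm⟩

omit hpos h0 in
/-- a one-dimensional standard graded ring with `R_1 = k y` is the polynomial ring `k[y]` -/
theorem aeval_bijective (hStd : Std 𝒜) (hdim : ringKrullDim R = 1) {y : R} (hy : y ∈ 𝒜 1)
    (h1 : ∀ a ∈ 𝒜 1, ∃ c : k, a = c • y) :
    Function.Bijective (Polynomial.aeval y : Polynomial k →ₐ[k] R) := by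
  classical
  have hsurj : Function.Surjective (Polynomial.aeval y : Polynomial k →ₐ[k] R) := by
    intro r
    rw [← DirectSum.sum_support_decompose 𝒜 r]
    have hmem : ∀ i : ℤ, (DirectSum.decompose 𝒜 r i : R) ∈
        (Polynomial.aeval y : Polynomial k →ₐ[k] R).range := by
      intro i
      by_cases hi : i < 0
      · rw [eq_zero_of_mem_neg 𝒜 hStd.neg hi (SetLike.coe_mem (DirectSum.decompose 𝒜 r i))]
        exact zero_mem _
      · obtain ⟨n, rfl⟩ := Int.eq_ofNat_of_zero_le (not_lt.mp hi)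
        obtain ⟨c, hc⟩ := piece_le_span_pow 𝒜 hStd hy h1 n _
          (SetLike.coe_mem (DirectSum.decompose 𝒜 r (n : ℤ)))
        rw [hc]
        refine ⟨Polynomial.C c * Polynomial.X ^ n, ?_⟩
        simp [Algebra.smul_def]
    have := Subalgebra.sum_mem _ (fun i (_ : i ∈ (DirectSum.decompose 𝒜 r).support) => hmem i)
    exact this
  refine ⟨?_, hsurj⟩
  rw [injective_iff_map_eq_zero]
  intro f hf
  by_contra hf0
  -- `R` is a quotient of `k[X]/(f)`, of dimension `≤ 0`
  have hfnzd : f ∈ nonZeroDivisors (Polynomial k) := mem_nonZeroDivisors_of_ne_zero hf0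
  have h2 := ringKrullDim_quotient_succ_le_of_nonZeroDivisor hfnzd
  have hkX : ringKrullDim (Polynomial k) = 1 := by
    rw [Polynomial.ringKrullDim_of_isNoetherianRing, ringKrullDim_eq_zero_of_field]
    rfl
  rw [hkX] at h2
  have hle : Ideal.span {f} ≤ RingHom.ker (Polynomial.aeval y : Polynomial k →ₐ[k] R).toRingHom := by
    rw [Ideal.span_le]
    intro g hg
    rw [Set.mem_singleton_iff] at hg
    subst hg
    exact hf
  set g : Polynomial k ⧸ Ideal.span {f} →+* R :=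
    Ideal.Quotient.lift _ (Polynomial.aeval y : Polynomial k →ₐ[k] R).toRingHom
      (fun a ha => RingHom.mem_ker.mp (hle ha)) with hg
  have hgsurj : Function.Surjective g := by
    intro r
    obtain ⟨p, rfl⟩ := hsurj r
    exact ⟨Ideal.Quotient.mk _ p, by rw [hg, Ideal.Quotient.lift_mk]; rfl⟩
  have h3 := ringKrullDim_le_of_surjective g hgsurj
  rw [hdim] at h3
  have h4 : ringKrullDim (Polynomial k ⧸ Ideal.span {f}) + 1 ≤ 1 := h2
  have h5 : (1 : WithBot ℕ∞) + 1 ≤ 1 := le_trans (by gcongr) h4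
  exact absurd h5 (by decide)

/-- if `R` is abstractly a polynomial ring in one variable then `R_1` is at most
one-dimensional -/
theorem exists_piece_one_le_of_algEquiv (e : R ≃ₐ[k] Polynomial k) :
    ∃ y ∈ 𝒜 1, ∀ a ∈ 𝒜 1, ∃ c : k, a = c • y := by
  classical
  haveI : IsPrincipalIdealRing R :=
    IsPrincipalIdealRing.of_surjective (e.symm : Polynomial k →+* R) e.symm.surjective
  obtain ⟨f, hf⟩ := (IsPrincipalIdealRing.principal (irr 𝒜)).principal
  have hfirr : f ∈ irr 𝒜 := by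
    rw [hf]
    exact Submodule.mem_span_singleton_self f
  refine ⟨(DirectSum.decompose 𝒜 f 1 : R), SetLike.coe_mem _, fun a ha => ?_⟩
  have hairr : a ∈ irr 𝒜 := by
    apply Ideal.subset_span
    simp only [Set.mem_iUnion, Set.mem_Ioi]
    exact ⟨1, one_pos, ha⟩
  rw [hf] at hairr
  obtain ⟨g, hg⟩ := Ideal.mem_span_singleton'.mp hairr
  -- degree one component of `g * f`
  have h1 : a = (DirectSum.decompose 𝒜 (g * f) 1 : R) := by
    rw [hg, DirectSum.decompose_of_mem_same 𝒜 ha]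
  have h2 : g * f = ∑ j ∈ (DirectSum.decompose 𝒜 f).support,
      g * (DirectSum.decompose 𝒜 f j : R) := by
    conv_lhs => rw [← DirectSum.sum_support_decompose 𝒜 f, Finset.mul_sum]
  have h3 : ∀ j : ℤ, (DirectSum.decompose 𝒜 (g * (DirectSum.decompose 𝒜 f j : R)) 1 : R) =
      (DirectSum.decompose 𝒜 g (1 - j) : R) * (DirectSum.decompose 𝒜 f j : R) := by
    intro j
    have := DirectSum.coe_decompose_mul_add_of_right_mem 𝒜 (a := g) (i := 1 - j)
      (SetLike.coe_mem (DirectSum.decompose 𝒜 f j))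
    rwa [sub_add_cancel] at this
  obtain ⟨c, hc⟩ := exists_smul_of_mem_zero 𝒜 h0 (SetLike.coe_mem (DirectSum.decompose 𝒜 g 0))
  refine ⟨c, ?_⟩
  rw [h1, h2, DirectSum.decompose_sum, DFinsupp.finsetSum_apply, AddSubmonoidClass.coe_finsetSum]
  have h4 : ∀ j ∈ (DirectSum.decompose 𝒜 f).support, j ≠ 1 →
      (DirectSum.decompose 𝒜 (g * (DirectSum.decompose 𝒜 f j : R)) 1 : R) = 0 := by
    intro j _ hj1
    rw [h3]
    rcases lt_trichotomy j 0 with hj | hj | hj
    · rw [eq_zero_of_mem_neg 𝒜 hpos hj (SetLike.coe_mem (DirectSum.decompose 𝒜 f j)), mul_zero]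
    · subst hj
      rw [decompose_zero_of_mem_irr 𝒜 hpos hfirr, mul_zero]
    · rw [eq_zero_of_mem_neg 𝒜 hpos (by omega : 1 - j < 0)
        (SetLike.coe_mem (DirectSum.decompose 𝒜 g (1 - j))), zero_mul]
  by_cases hmem : (1 : ℤ) ∈ (DirectSum.decompose 𝒜 f).support
  · rw [Finset.sum_eq_single_of_mem 1 hmem (fun j hj hj1 => h4 j hj hj1), h3, sub_self, ← hc,
      smul_mul_assoc, one_mul]
  · rw [Finset.sum_eq_zero (fun j hj => h4 j hj (fun h => hmem (h ▸ hj)))]
    have h5 : (DirectSum.decompose 𝒜 f 1 : R) = 0 := by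
      have := DFinsupp.notMem_support_iff.mp hmem
      rw [this]; rfl
    rw [h5, smul_zero]

end Groth.Agent.Lib.Helper87.SegPolyA
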