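import Mathlib
import Groth.Agent.Lib.Helper87.SegPolyA
import Groth.Agent.Lib.Helper87.CIRing
import Groth.Agent.Lib.Helper29.Linkage4

/-!
# Homogeneous regular sequences in graded Cohen–Macaulay rings
-/

set_option autoImplicit false
set_option linter.style.haveILetI false
set_option linter.unusedSectionVars false
universe u

namespace Groth.Agent.Lib.Helper87.APolyA

open Groth.Agent.Lib.Helper87.ModHilbG Groth.Agent.Lib.Helper87.SegPolyA

section Reg

variable {R : Type u} [CommRing R]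

/-- regular sequence in ideal-membership form -/
def Reg (l : List R) : Prop :=
  ∀ (i : ℕ) (hi : i < l.length) (y : R), l[i] * y ∈ Ideal.ofList (l.take i) →
    y ∈ Ideal.ofList (l.take i)

theorem isSMulRegular_quot_iff (J : Ideal R) (g : R) :
    IsSMulRegular (R ⧸ (J • (⊤ : Submodule R R))) g ↔ ∀ y, g * y ∈ J → y ∈ J := by
  have e : J • (⊤ : Submodule R R) = J := by rw [smul_eq_mul, Ideal.mul_top]
  rw [isSMulRegular_iff_right_eq_zero_of_smul]
  constructor
  · intro h y hy
    have h1 := h (Submodule.Quotient.mk y) (by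
      rw [← Submodule.Quotient.mk_smul, Submodule.Quotient.mk_eq_zero, e, smul_eq_mul]
      exact hy)
    rw [Submodule.Quotient.mk_eq_zero, e] at h1
    exact h1
  · intro h x hx
    obtain ⟨y, rfl⟩ := Submodule.Quotient.mk_surjective _ x
    rw [← Submodule.Quotient.mk_smul, Submodule.Quotient.mk_eq_zero, e, smul_eq_mul] at hx
    rw [Submodule.Quotient.mk_eq_zero, e]
    exact h y hx

theorem isWeaklyRegular_iff_reg (l : List R) :
    RingTheory.Sequence.IsWeaklyRegular R l ↔ Reg l := by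
  rw [RingTheory.Sequence.isWeaklyRegular_iff]
  unfold Reg
  refine forall_congr' fun i => forall_congr' fun hi => ?_
  exact isSMulRegular_quot_iff _ _

theorem reg_append_singleton {l : List R} (hl : Reg l) {x : R}
    (hx : ∀ y, x * y ∈ Ideal.ofList l → y ∈ Ideal.ofList l) : Reg (l ++ [x]) := by
  intro i hi y hy
  rw [List.length_append, List.length_singleton] at hi
  by_cases hil : i < l.length
  · rw [List.getElem_append_left hil, List.take_append_of_le_length hil.le] at hy
    rw [List.take_append_of_le_length hil.le]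
    exact hl i hil y hy
  · have hil' : i = l.length := by omega
    subst hil'
    rw [List.getElem_append_right (le_refl _)] at hy
    simp only [Nat.sub_self, List.getElem_cons_zero] at hy
    rw [List.take_left'] at hy ⊢
    · exact hx y hy
    · rfl
    · rfl

end Reg


section Step

variable {k : Type u} [Field k] {R : Type u} [CommRing R] [Algebra k R]
  (𝒜 : ℤ → Submodule k R) [GradedAlgebra 𝒜]
  (hpos : ∀ n : ℤ, n < 0 → 𝒜 n = ⊥) (h0 : 𝒜 0 = Submodule.span k {(1 : R)})

omit [Field k] [Algebra k R] in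
/-- an element outside all minimal primes of `J` is regular modulo `J` when `R/J` is CM -/
theorem reg_of_not_mem_minimalPrimes (J : Ideal R) (hcm : LocCoh.IsCohenMacaulayRing (R ⧸ J))
    {x : R} (hx : ∀ p ∈ J.minimalPrimes, x ∉ p) : ∀ y, x * y ∈ J → y ∈ J := by
  intro y hxy
  by_contra hy
  have hy0 : Ideal.Quotient.mk J y ≠ 0 := by rwa [Ne, Ideal.Quotient.eq_zero_iff_mem]
  haveI : IsNoetherianRing (R ⧸ J) := hcm.toIsNoetherian
  obtain ⟨Q, hQ, hle⟩ := exists_le_isAssociatedPrime_of_isNoetherianRing (R ⧸ J)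
    (Ideal.Quotient.mk J y) hy0
  have hQmin := Groth.Agent.Lib.Helper29.Linkage.mem_minimalPrimes_of_isAssociatedPrime_of_isCM
    (R ⧸ J) Q hQ
  have hxQ : Ideal.Quotient.mk J x ∈ Q := by
    apply hle
    rw [Submodule.mem_colon_singleton, Submodule.mem_bot, smul_eq_mul, ← map_mul,
      Ideal.Quotient.eq_zero_iff_mem]
    exact hxy
  have hp : Q.comap (Ideal.Quotient.mk J) ∈ J.minimalPrimes := by
    rw [Ideal.minimalPrimes_eq_comap]
    exact ⟨Q, hQmin, rfl⟩
  exact hx _ hp hxQ

omit [Field k] [Algebra k R] in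
theorem ofList_eq_span_toFinset [DecidableEq R] (l : List R) :
    Ideal.ofList l = Ideal.span ((l.toFinset : Finset R) : Set R) := by
  rw [Ideal.ofList]
  congr 1
  ext x
  simp

theorem ofList_isHomogeneous (l : List R) (hl : ∀ x ∈ l, ∃ n : ℕ, 0 < n ∧ x ∈ 𝒜 (n : ℤ)) :
    (Ideal.ofList l).IsHomogeneous 𝒜 := by
  rw [Ideal.ofList]
  apply Ideal.homogeneous_span
  intro x hx
  obtain ⟨n, -, hn⟩ := hl x hx
  exact ⟨(n : ℤ), hn⟩

include hpos h0 in
theorem exists_next [Nontrivial R] [Algebra.FiniteType k R] [hR : LocCoh.IsCohenMacaulayRing R]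
    {r : ℕ} (hr : ringKrullDim R = r) (l : List R) (hl : Reg l)
    (hhom : ∀ x ∈ l, ∃ n : ℕ, 0 < n ∧ x ∈ 𝒜 (n : ℤ)) (hlen : l.length < r) :
    ∃ n : ℕ, 0 < n ∧ ∃ x ∈ 𝒜 (n : ℤ), Reg (l ++ [x]) := by
  classical
  haveI : IsNoetherianRing R := Algebra.FiniteType.isNoetherianRing k R
  haveI hmax := irr_isMaximal 𝒜 hpos h0
  set J := Ideal.ofList l with hJ
  have hJhom : J.IsHomogeneous 𝒜 := ofList_isHomogeneous 𝒜 l hhom
  have hcm : LocCoh.IsCohenMacaulayRing (R ⧸ J) := by
    have := Groth.Agent.Lib.Helper87.CIRing.isCM_quotient_ofList R hR l hl l.length le_rfl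
    rwa [List.take_length] at this
  have hfin := J.finite_minimalPrimes_of_isNoetherianRing R
  set s : Finset (Ideal R) := hfin.toFinset with hs
  have hmem : ∀ p, p ∈ s ↔ p ∈ J.minimalPrimes := fun p => Set.Finite.mem_toFinset hfin
  have hprime : ∀ p ∈ s, p.IsPrime := fun p hp => ((hmem p).mp hp).1.1
  have hhom' : ∀ p ∈ s, p.IsHomogeneous 𝒜 := fun p hp =>
    isHomogeneous_of_mem_minimalPrimes 𝒜 hpos h0 hJhom ((hmem p).mp hp)
  have hht : ((irr 𝒜).height : WithBot ℕ∞) = r := by
    rw [← hr]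
    exact (ringKrullDim_eq_height_irr 𝒜 hpos h0).symm
  have hI : ∀ p ∈ s, ∃ n : ℕ, 0 < n ∧ ∃ x ∈ 𝒜 (n : ℤ), x ∉ p := by
    intro p hp
    haveI := hprime p hp
    by_contra hcon
    push Not at hcon
    have hle : irr 𝒜 ≤ p := by
      unfold irr
      rw [Ideal.span_le]
      intro x hx
      simp only [Set.mem_iUnion, Set.mem_Ioi] at hx
      obtain ⟨n, hn, hx⟩ := hx
      obtain ⟨m, rfl⟩ := Int.eq_ofNat_of_zero_le hn.le
      exact hcon m (by exact_mod_cast hn) x hx
    have heq : irr 𝒜 = p := hmax.eq_of_le (Ideal.IsPrime.ne_top inferInstance) hle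
    have hpmin : p ∈ (Ideal.span ((l.toFinset : Finset R) : Set R)).minimalPrimes := by
      rw [← ofList_eq_span_toFinset]
      exact (hmem p).mp hp
    have h1 := Ideal.height_le_card_of_mem_minimalPrimes_span_finset hpmin
    have h2 : (l.toFinset.card : ℕ∞) ≤ l.length := by exact_mod_cast List.toFinset_card_le l
    have h3 : (irr 𝒜).height ≤ (l.length : ℕ∞) := by rw [heq]; exact h1.trans h2
    have h4 : ((irr 𝒜).height : WithBot ℕ∞) ≤ ((l.length : ℕ∞) : WithBot ℕ∞) := by
      exact_mod_cast h3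
    rw [hht] at h4
    have h5 : r ≤ l.length := by exact_mod_cast h4
    omega
  obtain ⟨n, hn, x, hx, hxs⟩ := exists_homogeneous_not_mem 𝒜 hpos s hprime hhom' hI
  refine ⟨n, hn, x, hx, reg_append_singleton hl ?_⟩
  exact reg_of_not_mem_minimalPrimes J hcm fun p hp => hxs p ((hmem p).mpr hp)

include hpos h0 in
theorem exists_regular_list [Nontrivial R] [Algebra.FiniteType k R]
    [hR : LocCoh.IsCohenMacaulayRing R] {r : ℕ} (hr : ringKrullDim R = r) :
    ∀ j, j ≤ r → ∃ l : List R, l.length = j ∧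
      (∀ x ∈ l, ∃ n : ℕ, 0 < n ∧ x ∈ 𝒜 (n : ℤ)) ∧ Reg l := by
  intro j
  induction j with
  | zero =>
    intro _
    exact ⟨[], rfl, by simp, fun i hi => absurd hi (by simp)⟩
  | succ j ih =>
    intro hj
    obtain ⟨l, hlen, hhom, hl⟩ := ih (by omega)
    obtain ⟨n, hn, x, hx, hreg⟩ := exists_next 𝒜 hpos h0 hr l hl hhom (by omega)
    refine ⟨l ++ [x], by rw [List.length_append, hlen, List.length_singleton], ?_, hreg⟩
    intro y hy
    rw [List.mem_append, List.mem_singleton] at hy
    rcases hy with hy | rfl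
    · exact hhom y hy
    · exact ⟨n, hn, hx⟩

include hpos h0 in
/-- a graded Cohen–Macaulay ring has a homogeneous regular sequence of length `dim R` -/
theorem exists_regular_seq [Nontrivial R] [Algebra.FiniteType k R]
    [hR : LocCoh.IsCohenMacaulayRing R] {r : ℕ} (hr : ringKrullDim R = r) :
    ∃ (f : Fin r → R) (d : Fin r → ℕ), (∀ i, 0 < d i) ∧ (∀ i, f i ∈ 𝒜 (d i : ℤ)) ∧
      RingTheory.Sequence.IsWeaklyRegular R (List.ofFn f) := by
  classical
  obtain ⟨l, hlen, hhom, hl⟩ := exists_regular_list 𝒜 hpos h0 hr r le_rfl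
  subst hlen
  have hex : ∀ i : Fin l.length, ∃ n : ℕ, 0 < n ∧ l.get i ∈ 𝒜 (n : ℤ) :=
    fun i => hhom _ (List.get_mem l i)
  choose d hd1 hd2 using hex
  refine ⟨fun i => l.get i, d, hd1, hd2, ?_⟩
  rw [List.ofFn_get, isWeaklyRegular_iff_reg]
  exact hl

end Step

end Groth.Agent.Lib.Helper87.APolyA
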