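import Mathlib
import Groth.Agent.Lib.Helper87.ModHilbC
import Groth.Agent.Lib.Helper87.SamuelFn
import Groth.Agent.S19747
import Groth.Agent.S18646

/-!
# Dimension of the Segre product of graded modules over standard graded algebras
-/

set_option autoImplicit false
set_option linter.style.haveILetI false
set_option linter.unusedSectionVars false
universe u
open scoped TensorProduct

namespace Groth.Agent.Lib.Helper87.ModHilbD

open Groth.Agent.Lib.Helper87.ModHilbA Groth.Agent.Lib.Helper87.ModHilbB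
open Groth.Agent.Lib.Helper87.ModHilbC Groth.Agent.Lib.Helper87.SegreC
open Groth.Agent.Lib.Helper99.GrDual Groth.Agent.Lib.Helper99.SegreFin
open Polynomial

section General

theorem eq_of_forall_le_iff (x : WithBot ℕ∞) (c : ℕ) (hc : 1 ≤ c)
    (h : ∀ t : ℕ, x ≤ (t : WithBot ℕ∞) ↔ c ≤ t) : x = (c : WithBot ℕ∞) := by
  apply le_antisymm ((h c).mpr le_rfl)
  by_contra hlt
  rw [not_le] at hlt
  induction x using WithBot.recBotCoe with
  | bot =>
    have := (h 0).mp bot_le
    omega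
  | coe y =>
    induction y using ENat.recTopCoe with
    | top =>
      exact absurd hlt (not_lt.mpr (by exact_mod_cast le_top))
    | coe m =>
      have hm : m < c := by exact_mod_cast hlt
      have := (h m).mp le_rfl
      omega

variable {k : Type u} [Field k] {M N : Type u} [AddCommGroup M] [Module k M]
  [AddCommGroup N] [Module k N]

theorem finrank_span_tmul (U : Submodule k M) (V : Submodule k N) :
    Module.finrank k (Submodule.span k {x : M ⊗[k] N | ∃ a ∈ U, ∃ b ∈ V, x = a ⊗ₜ[k] b}) =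
      Module.finrank k U * Module.finrank k V := by
  have h1 : Submodule.span k {x : M ⊗[k] N | ∃ a ∈ U, ∃ b ∈ V, x = a ⊗ₜ[k] b} =
      LinearMap.range (TensorProduct.map U.subtype V.subtype) := by
    rw [TensorProduct.range_map_eq_span_tmul]
    congr 1
    ext x
    constructor
    · rintro ⟨a, ha, b, hb, rfl⟩
      exact ⟨⟨a, ha⟩, ⟨b, hb⟩, rfl⟩
    · rintro ⟨a, b, rfl⟩
      exact ⟨a.1, a.2, b.1, b.2, rfl⟩
  rw [h1]
  have hinj : Function.Injective (TensorProduct.map U.subtype V.subtype) :=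
    TensorProduct.map_injective_of_flat_flat _ _ (Submodule.subtype_injective _)
      (Submodule.subtype_injective _)
  rw [← (LinearEquiv.ofInjective _ hinj).finrank_eq, Module.finrank_tensorProduct]

end General

section Main

variable {k : Type u} [Field k] {R : Type u} [CommRing R] [Algebra k R]
  (𝒜 : ℤ → Submodule k R) [GradedAlgebra 𝒜]
  {M : Type u} [AddCommGroup M] [Module R M] [Module k M] [IsScalarTower k R M]
  (ℳ : ℤ → AddSubgroup M) [DirectSum.Decomposition ℳ] [SetLike.GradedSMul 𝒜 ℳ]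

/-- standardness from the hypotheses of the Segre statements -/
theorem std_of (hposR : ∀ n : ℤ, n < 0 → 𝒜 n = ⊥) (h0R : 𝒜 0 = Submodule.span k {(1 : R)})
    [Algebra.FiniteType k R]
    (hstdR : Ideal.span (⋃ n ∈ Set.Ioi (0 : ℤ), (𝒜 n : Set R)) =
      Ideal.span ((𝒜 1 : Submodule k R) : Set R)) : Std 𝒜 :=
  { neg := hposR
    zero := h0R
    succ := succ_of_span 𝒜 hstdR
    fin := (SegreB.exists_std 𝒜 hposR h0R).1 1 }

/-- a non-Artinian finitely generated graded module: its Hilbert polynomial has degree `dim - 1`. -/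
theorem degree_of_not_artinian [IsNoetherianRing R] [Module.Finite R M] (Q : ℚ[X])
    (hdim : ∀ t : ℕ, Module.supportDim R M ≤ (t : WithBot ℕ∞) ↔ Q.degree < (t : WithBot ℕ))
    (d : ℕ) (hd : Module.supportDim R M = d) (hMA : ¬ IsArtinian R M) :
    1 ≤ d ∧ Q ≠ 0 ∧ Q.natDegree + 1 = d := by
  have h1 : 1 ≤ d := by
    by_contra h0
    have hd0 : d = 0 := by omega
    apply hMA
    have hfl : IsFiniteLength R M := by
      apply Groth.Agent.Lib.Helper87.SamuelFn.isFiniteLength_of_supportDim_le_zero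
      rw [hd, hd0]
      rfl
    exact (isFiniteLength_iff_isNoetherian_isArtinian.mp hfl).2
  have h2 : ∀ t : ℕ, d ≤ t ↔ Q.degree < (t : WithBot ℕ) := by
    intro t
    rw [← hdim t, hd]
    exact_mod_cast Iff.rfl
  have hQ0 : Q ≠ 0 := by
    rintro rfl
    have := (h2 (d - 1)).mpr (by rw [degree_zero]; exact WithBot.bot_lt_coe _)
    omega
  refine ⟨h1, hQ0, ?_⟩
  have h3 := (h2 d).mp le_rfl
  rw [degree_eq_natDegree hQ0] at h3
  have h3' : Q.natDegree < d := by exact_mod_cast h3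
  have h4 : ¬ (d ≤ d - 1) := by omega
  rw [h2 (d - 1), degree_eq_natDegree hQ0] at h4
  have h4' : ¬ (Q.natDegree < d - 1) := by exact_mod_cast h4
  omega

end Main

section Segre

/-- **Dimension of the Segre product of graded modules.** -/
theorem main (k : Type u) [Field k] (R : Type u) [CommRing R] [Algebra k R]
    (𝒜 : ℤ → Submodule k R) [GradedAlgebra 𝒜] (hposR : ∀ n : ℤ, n < 0 → 𝒜 n = ⊥)
    (h0R : 𝒜 0 = Submodule.span k {(1 : R)}) [Algebra.FiniteType k R] (S : Type u) [CommRing S]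
    [Algebra k S] (ℬ : ℤ → Submodule k S) [GradedAlgebra ℬ] (hposS : ∀ n : ℤ, n < 0 → ℬ n = ⊥)
    (h0S : ℬ 0 = Submodule.span k {(1 : S)}) [Algebra.FiniteType k S] (T : Type u) [CommRing T]
    [Algebra k T] (𝒯 : ℤ → Submodule k T) [GradedAlgebra 𝒯] (ψ : T →ₐ[k] TensorProduct k R S)
    (hT : GrSeg.IsSegreRing 𝒜 ℬ 𝒯 ψ)
    (hstdR : Ideal.span (⋃ n ∈ Set.Ioi (0 : ℤ), (𝒜 n : Set R)) =
      Ideal.span ((𝒜 1 : Submodule k R) : Set R))
    (hstdS : Ideal.span (⋃ n ∈ Set.Ioi (0 : ℤ), (ℬ n : Set S)) =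
      Ideal.span ((ℬ 1 : Submodule k S) : Set S))
    (M : Type u) [AddCommGroup M] [Module R M] [Module k M] [IsScalarTower k R M]
    (ℳ : ℤ → AddSubgroup M) [DirectSum.Decomposition ℳ] [SetLike.GradedSMul 𝒜 ℳ]
    [Module.Finite R M] (N : Type u) [AddCommGroup N] [Module S N] [Module k N]
    [IsScalarTower k S N] (𝒩 : ℤ → AddSubgroup N) [DirectSum.Decomposition 𝒩]
    [SetLike.GradedSMul ℬ 𝒩] [Module.Finite S N] (P : Type u) [AddCommGroup P] [Module T P]
    [Module k P] [IsScalarTower k T P] (𝒬 : ℤ → AddSubgroup P) [DirectSum.Decomposition 𝒬]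
    (φ : P →ₗ[k] TensorProduct k M N) (hP : GrSeg.IsSegreMod ψ ℳ 𝒩 𝒬 φ) (dM dN : ℕ)
    (hdM : Module.supportDim R M = dM) (hdN : Module.supportDim S N = dN)
    (hMA : ¬ IsArtinian R M) (hNA : ¬ IsArtinian S N) :
    Module.supportDim T P = ((dM + dN - 1 : ℕ) : WithBot ℕ∞) := by
  have hψ : Function.Injective ψ := hT.1
  have hdegT : ∀ n : ℤ, (𝒯 n).map ψ.toLinearMap = seg 𝒜 ℬ n := hT.2
  have hR : Std 𝒜 := std_of 𝒜 hposR h0R hstdR
  have hS : Std ℬ := std_of ℬ hposS h0S hstdS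
  have hAfin := (SegreB.exists_std 𝒜 hposR h0R).1
  have hBfin := (SegreB.exists_std ℬ hposS h0S).1
  have hTfin : ∀ n : ℤ, Module.Finite k (𝒯 n) := fun n => by
    haveI := hAfin n
    haveI := hBfin n
    exact T_finite 𝒜 ℬ 𝒯 ψ hψ hdegT n
  have hTstd : Std 𝒯 :=
    { neg := fun n hn => T_neg 𝒜 ℬ 𝒯 ψ hψ hdegT (hposR n hn)
      zero := T_zero 𝒜 ℬ 𝒯 ψ hψ hdegT h0R h0S
      succ := fun n => T_mul 𝒜 ℬ 𝒯 ψ hψ hdegT (by push_cast; ring) (hR.succ n) (hS.succ n)
      fin := hTfin 1 }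
  haveI : IsNoetherianRing R := Algebra.FiniteType.isNoetherianRing k R
  haveI : IsNoetherianRing S := Algebra.FiniteType.isNoetherianRing k S
  haveI : IsNoetherianRing T :=
    Groth.Agent.S18646.result k R 𝒜 hposR h0R S ℬ hposS h0S T 𝒯 ψ hψ hT.2
  haveI : Module.Finite T P :=
    Groth.Agent.S19747.result k R 𝒜 hposR h0R S ℬ hposS h0S T 𝒯 ψ hT M ℳ N 𝒩 P 𝒬 φ hP
  haveI : IsNoetherian R M := isNoetherian_of_isNoetherianRing_of_finite R M
  haveI : IsNoetherian S N := isNoetherian_of_isNoetherianRing_of_finite S N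
  haveI : IsNoetherian T P := isNoetherian_of_isNoetherianRing_of_finite T P
  haveI : SetLike.GradedSMul 𝒯 𝒬 :=
    ⟨fun {c n t p} ht hp => Groth.Agent.Lib.Helper99.Segre.smul_mem_piece hT hP
      (fun a ha x hx => smul_mem_piece 𝒜 ℳ ha hx) (fun b hb y hy => smul_mem_piece ℬ 𝒩 hb hy)
      ht hp⟩
  have hMfin := finite_piece_of_isNoetherian 𝒜 hposR h0R ℳ
  have hNfin := finite_piece_of_isNoetherian ℬ hposS h0S 𝒩
  have hPfin := finite_piece_of_isNoetherian 𝒯 hTstd.neg hTstd.zero 𝒬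
  obtain ⟨QM, ⟨nM, hQM⟩, hdimM⟩ := hilbert_module 𝒜 (ℳ := ℳ) hR hAfin hMfin
  obtain ⟨QN, ⟨nN, hQN⟩, hdimN⟩ := hilbert_module ℬ (ℳ := 𝒩) hS hBfin hNfin
  obtain ⟨QP, ⟨nP, hQP⟩, hdimP⟩ := hilbert_module 𝒯 (ℳ := 𝒬) hTstd hTfin hPfin
  -- the Hilbert function of the Segre product
  have hfin : ∀ n : ℤ, Module.finrank k (pieceSub 𝒯 𝒬 n) =
      Module.finrank k (pieceSub 𝒜 ℳ n) * Module.finrank k (pieceSub ℬ 𝒩 n) := by
    intro n
    rw [← finrank_span_tmul]
    have h1 : (pieceSub 𝒯 𝒬 n).map φ = Submodule.span k {x : M ⊗[k] N |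
        ∃ a ∈ pieceSub 𝒜 ℳ n, ∃ b ∈ pieceSub ℬ 𝒩 n, x = a ⊗ₜ[k] b} := by
      apply SetLike.coe_injective
      rw [Submodule.map_coe]
      exact hP.image_piece n
    rw [← h1]
    exact (Submodule.equivMapOfInjective φ hP.injective (pieceSub 𝒯 𝒬 n)).finrank_eq
  have hQPeq : QP = QM * QN := by
    apply eq_of_eventually_eq QP (QM * QN) (max nP (max nM nN))
    intro n hn
    have h1 : nP ≤ n := le_trans (le_max_left _ _) hn
    have h2 : nM ≤ n := le_trans (le_trans (le_max_left _ _) (le_max_right _ _)) hn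
    have h3 : nN ≤ n := le_trans (le_trans (le_max_right _ _) (le_max_right _ _)) hn
    rw [eval_mul, hQP n h1, hQM n h2, hQN n h3, hfin]
    push_cast
    rfl
  obtain ⟨h1M, hQM0, hdegM⟩ := degree_of_not_artinian QM hdimM dM hdM hMA
  obtain ⟨h1N, hQN0, hdegN⟩ := degree_of_not_artinian QN hdimN dN hdN hNA
  apply eq_of_forall_le_iff _ _ (by omega)
  intro t
  rw [hdimP t, hQPeq, degree_eq_natDegree (mul_ne_zero hQM0 hQN0), natDegree_mul hQM0 hQN0]
  constructor
  · intro h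
    have h' : QM.natDegree + QN.natDegree < t := by exact_mod_cast h
    omega
  · intro h
    have h' : QM.natDegree + QN.natDegree < t := by omega
    exact_mod_cast h'

end Segre

end Groth.Agent.Lib.Helper87.ModHilbD
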