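import Mathlib
import Groth.Agent.Lib.Helper87.APolyA
import Groth.Agent.Lib.Helper87.ModHilbD
import Groth.Agent.Lib.Helper87.PolyDiff

/-!
# Hilbert series of a graded ring modulo a homogeneous regular sequence
-/

set_option autoImplicit false
set_option linter.style.haveILetI false
set_option linter.unusedSectionVars false
universe u

namespace Groth.Agent.Lib.Helper87.APolyB

open Groth.Agent.Lib.Helper87.ModHilbG Groth.Agent.Lib.Helper87.SegPolyA
open Groth.Agent.Lib.Helper87.APolyA

section Cut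

variable {k : Type u} [Field k] {R : Type u} [CommRing R] [Algebra k R]
  (𝒜 : ℤ → Submodule k R) [GradedAlgebra 𝒜]

/-- the degree `n` part of an ideal -/
def pc (J : Ideal R) (n : ℤ) : Submodule k R := 𝒜 n ⊓ J.restrictScalars k

theorem mem_pc {J : Ideal R} {n : ℤ} {x : R} : x ∈ pc 𝒜 J n ↔ x ∈ 𝒜 n ∧ x ∈ J := Iff.rfl

variable (hfin : ∀ n : ℤ, Module.Finite k (𝒜 n))

include hfin in
theorem cut (J : Ideal R) (hJ : J.IsHomogeneous 𝒜) {f : R} {d : ℤ} (hf : f ∈ 𝒜 d)
    (hreg : ∀ y, f * y ∈ J → y ∈ J) (n : ℤ) :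
    Module.finrank k (pc 𝒜 (J ⊔ Ideal.span {f}) n) + Module.finrank k (pc 𝒜 J (n - d)) =
      Module.finrank k (pc 𝒜 J n) + Module.finrank k (𝒜 (n - d)) := by
  classical
  haveI := hfin (n - d)
  haveI := hfin n
  haveI : Module.Finite k (pc 𝒜 J n) := by unfold pc; infer_instance
  haveI : Module.Finite k (pc 𝒜 J (n - d)) := by unfold pc; infer_instance
  set V := 𝒜 (n - d) with hV
  set W1 := pc 𝒜 J n with hW1
  set μ : (V × W1) →ₗ[k] R :=
    ((LinearMap.mulLeft k f).comp V.subtype).coprod W1.subtype with hμ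
  have hμapp : ∀ z : V × W1, μ z = f * (z.1 : R) + (z.2 : R) := by
    intro z
    rw [hμ, LinearMap.coprod_apply]
    rfl
  have hdn : d + (n - d) = n := by ring
  -- the range
  have hrange : LinearMap.range μ = pc 𝒜 (J ⊔ Ideal.span {f}) n := by
    apply le_antisymm
    · rintro _ ⟨z, rfl⟩
      rw [hμapp, mem_pc]
      constructor
      · refine add_mem ?_ z.2.2.1
        have := SetLike.GradedMul.mul_mem hf z.1.2
        rwa [hdn] at this
      · refine Ideal.add_mem _ ?_ (Ideal.mem_sup_left z.2.2.2)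
        exact Ideal.mem_sup_right (Ideal.mul_mem_right _ _ (Ideal.mem_span_singleton_self f))
    · intro x hx
      rw [mem_pc] at hx
      obtain ⟨hxn, hxJ⟩ := hx
      obtain ⟨u, hu, v, hv, rfl⟩ := Submodule.mem_sup.mp hxJ
      obtain ⟨w, rfl⟩ := Ideal.mem_span_singleton'.mp hv
      have h1 : (DirectSum.decompose 𝒜 (u + w * f) n : R) = u + w * f :=
        DirectSum.decompose_of_mem_same 𝒜 hxn
      have h2 : (DirectSum.decompose 𝒜 (w * f) n : R) =
          f * (DirectSum.decompose 𝒜 w (n - d) : R) := by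
        rw [mul_comm w f]
        conv_lhs => rw [← hdn]
        exact DirectSum.coe_decompose_mul_add_of_left_mem 𝒜 hf
      have h3 : (DirectSum.decompose 𝒜 u n : R) ∈ J := hJ n hu
      refine ⟨(⟨(DirectSum.decompose 𝒜 w (n - d) : R), SetLike.coe_mem _⟩,
        ⟨(DirectSum.decompose 𝒜 u n : R), SetLike.coe_mem _, h3⟩), ?_⟩
      rw [hμapp]
      show f * (DirectSum.decompose 𝒜 w (n - d) : R) + (DirectSum.decompose 𝒜 u n : R) = _
      rw [← h2, ← h1, DirectSum.decompose_add, DirectSum.add_apply, AddMemClass.coe_add, add_comm]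
  -- the kernel
  set κ : pc 𝒜 J (n - d) →ₗ[k] (V × W1) :=
    { toFun := fun y => (⟨(y : R), y.2.1⟩, ⟨-(f * (y : R)), by
        rw [hW1, mem_pc]
        refine ⟨neg_mem ?_, neg_mem (Ideal.mul_mem_left _ _ y.2.2)⟩
        have := SetLike.GradedMul.mul_mem hf y.2.1
        rwa [hdn] at this⟩)
      map_add' := by
        intro y y'
        ext
        · rfl
        · show -(f * ((y : R) + (y' : R))) = -(f * (y : R)) + -(f * (y' : R))
          ring
      map_smul' := by
        intro c y
        ext
        · rfl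
        · show -(f * (c • (y : R))) = c • -(f * (y : R))
          rw [mul_smul_comm, smul_neg] } with hκ
  have hκinj : Function.Injective κ := by
    intro y y' hyy
    have := congrArg (fun z : V × W1 => (z.1 : R)) hyy
    exact Subtype.ext this
  have hκrange : LinearMap.range κ = LinearMap.ker μ := by
    apply le_antisymm
    · rintro _ ⟨y, rfl⟩
      rw [LinearMap.mem_ker, hμapp]
      show f * (y : R) + -(f * (y : R)) = 0
      ring
    · intro z hz
      rw [LinearMap.mem_ker, hμapp] at hz
      have hfz : f * (z.1 : R) ∈ J := by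
        have h1 : f * (z.1 : R) = -(z.2 : R) := eq_neg_of_add_eq_zero_left hz
        rw [h1]
        exact neg_mem z.2.2.2
      have hzJ : (z.1 : R) ∈ J := hreg _ hfz
      refine ⟨⟨(z.1 : R), z.1.2, hzJ⟩, ?_⟩
      refine Prod.ext (Subtype.ext rfl) (Subtype.ext ?_)
      show -(f * (z.1 : R)) = (z.2 : R)
      rw [eq_comm, ← add_eq_zero_iff_eq_neg, add_comm]
      exact hz
  have h1 := LinearMap.finrank_range_add_finrank_ker μ
  rw [Module.finrank_prod, hrange, ← hκrange, LinearMap.finrank_range_of_inj hκinj] at h1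
  rw [h1, add_comm]

end Cut

end Groth.Agent.Lib.Helper87.APolyB
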