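import Mathlib
import Groth.Agent.Lib.Helper87.APolyB

/-!
# Hilbert series of a graded ring modulo a homogeneous regular sequence, II
-/

set_option autoImplicit false
set_option linter.style.haveILetI false
set_option linter.unusedSectionVars false
universe u

namespace Groth.Agent.Lib.Helper87.APolyC

open Groth.Agent.Lib.Helper87.ModHilbG Groth.Agent.Lib.Helper87.SegPolyA
open Groth.Agent.Lib.Helper87.APolyA Groth.Agent.Lib.Helper87.APolyB
open Groth.Agent.Lib.Helper87.ModHilbB

section PS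

open PowerSeries

/-- vanishing of high coefficients of `(1 - X)^r * u` for eventually-polynomial `u` -/
theorem coeff_eq_zero_of_poly (r : ℕ) : ∀ (u : ℕ → ℤ) (Q : Polynomial ℚ) (m₀ : ℕ),
    (∀ n : ℕ, m₀ ≤ n → Q.eval (n : ℚ) = u n) → Q.degree < (r : WithBot ℕ) →
    ∀ n : ℕ, m₀ + r ≤ n → coeff n (((1 : PowerSeries ℤ) - X) ^ r * PowerSeries.mk u) = 0 := by
  induction r with
  | zero =>
    intro u Q m₀ hQ hdeg n hn
    have hQ0 : Q = 0 := by
      rw [← Polynomial.degree_eq_bot]
      have : Q.degree < (0 : WithBot ℕ) := by exact_mod_cast hdeg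
      exact (Nat.WithBot.lt_zero_iff).mp this
    rw [pow_zero, one_mul, coeff_mk]
    have := hQ n (by omega)
    rw [hQ0, Polynomial.eval_zero] at this
    exact_mod_cast this.symm
  | succ r ih =>
    intro u Q m₀ hQ hdeg n hn
    set v : ℕ → ℤ := fun n => u n - (if n = 0 then 0 else u (n - 1)) with hv
    have hmul : ((1 : PowerSeries ℤ) - X) * PowerSeries.mk u = PowerSeries.mk v := by
      ext j
      rw [sub_mul, one_mul, map_sub, coeff_mk, coeff_mk, hv]
      rcases Nat.eq_zero_or_pos j with rfl | hj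
      · simp
      · obtain ⟨i, rfl⟩ : ∃ i, j = i + 1 := ⟨j - 1, by omega⟩
        rw [coeff_succ_X_mul, coeff_mk]
        simp
    rw [pow_succ, mul_assoc, hmul]
    have hv' : ∀ j : ℕ, m₀ + 1 ≤ j →
        (Groth.Agent.Lib.Helper87.PolyDiff.Δ 1 Q).eval (j : ℚ) = v j := by
      intro j hj
      rw [Groth.Agent.Lib.Helper87.PolyDiff.Δ_eval, hv]
      have hj0 : j ≠ 0 := by omega
      simp only [hj0, if_false]
      rw [hQ j (by omega)]
      have h1 : ((j : ℚ) - 1) = ((j - 1 : ℕ) : ℚ) := by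
        rw [Nat.cast_sub (by omega)]
        simp
      rw [h1, hQ (j - 1) (by omega)]
      push_cast
      ring
    have hdeg' : (Groth.Agent.Lib.Helper87.PolyDiff.Δ 1 Q).degree < (r : WithBot ℕ) := by
      by_cases h1 : 1 ≤ Q.natDegree
      · have h2 := (Groth.Agent.Lib.Helper87.PolyDiff.Δ_spec 1 Nat.one_pos Q h1).1
        have h3 : Q.natDegree < r + 1 := by
          have hQ0 : Q ≠ 0 := by
            rintro rfl
            simp at h1
          rw [Polynomial.degree_eq_natDegree hQ0] at hdeg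
          exact_mod_cast hdeg
        rw [Nat.cast_one] at h2
        refine lt_of_le_of_lt Polynomial.degree_le_natDegree ?_
        have : (Groth.Agent.Lib.Helper87.PolyDiff.Δ 1 Q).natDegree < r := by omega
        exact_mod_cast this
      · have h2 : Q.natDegree = 0 := by omega
        obtain ⟨c, rfl⟩ : ∃ c, Q = Polynomial.C c :=
          ⟨Q.coeff 0, Polynomial.eq_C_of_natDegree_eq_zero h2⟩
        have : Groth.Agent.Lib.Helper87.PolyDiff.Δ 1 (Polynomial.C c) = 0 := by
          unfold Groth.Agent.Lib.Helper87.PolyDiff.Δ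
          simp
        rw [this, Polynomial.degree_zero]
        exact WithBot.bot_lt_coe r
    exact ih v _ (m₀ + 1) hv' hdeg' n (by omega)

theorem coeff_one_sub_pow_mul (r : ℕ) (S : PowerSeries ℤ) :
    coeff 1 (((1 : PowerSeries ℤ) - X) ^ r * S) = coeff 1 S - r * constantCoeff S := by
  rw [coeff_one_mul, coeff_one_pow]
  simp only [map_sub, map_one, constantCoeff_X, sub_zero, one_pow, mul_one, coeff_one_X,
    map_pow]
  have : (coeff 1) (1 : PowerSeries ℤ) = 0 := by
    rw [coeff_one]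
    simp
  rw [this]
  ring

end PS

section HF

variable {k : Type u} [Field k] {R : Type u} [CommRing R] [Algebra k R]
  (𝒜 : ℤ → Submodule k R) [GradedAlgebra 𝒜]

/-- Hilbert function of `R/J` -/
noncomputable def hfun (J : Ideal R) (n : ℤ) : ℤ :=
  (Module.finrank k (𝒜 n) : ℤ) - (Module.finrank k (pc 𝒜 J n) : ℤ)

/-- Hilbert series of `R/J` -/
noncomputable def ser (J : Ideal R) : PowerSeries ℤ :=
  PowerSeries.mk fun n : ℕ => hfun 𝒜 J (n : ℤ)

variable (hfin : ∀ n : ℤ, Module.Finite k (𝒜 n)) (hpos : ∀ n : ℤ, n < 0 → 𝒜 n = ⊥)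

include hpos in
theorem hfun_neg (J : Ideal R) {n : ℤ} (hn : n < 0) : hfun 𝒜 J n = 0 := by
  unfold hfun
  have h1 : pc 𝒜 J n = ⊥ := by
    unfold pc
    rw [hpos n hn, bot_inf_eq]
  rw [h1, hpos n hn, finrank_bot]
  simp

include hfin in
theorem hfun_eq_zero_iff (J : Ideal R) (n : ℤ) :
    hfun 𝒜 J n = 0 ↔ 𝒜 n ≤ J.restrictScalars k := by
  haveI := hfin n
  unfold hfun
  have hle : pc 𝒜 J n ≤ 𝒜 n := inf_le_left
  constructor
  · intro h
    have h1 : Module.finrank k (pc 𝒜 J n) = Module.finrank k (𝒜 n) := by omega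
    have h2 : pc 𝒜 J n = 𝒜 n := Submodule.eq_of_le_of_finrank_eq hle h1
    rw [← h2]
    exact inf_le_right
  · intro h
    have h2 : pc 𝒜 J n = 𝒜 n := by
      unfold pc
      exact inf_eq_left.mpr h
    rw [h2, sub_self]

theorem hfun_bot (n : ℤ) : hfun 𝒜 ⊥ n = Module.finrank k (𝒜 n) := by
  unfold hfun
  have h1 : pc 𝒜 (⊥ : Ideal R) n = ⊥ := by
    rw [eq_bot_iff]
    intro x hx
    rw [mem_pc] at hx
    exact hx.2
  rw [h1, finrank_bot]
  simp

include hfin in
theorem hfun_sup (J : Ideal R) (hJ : J.IsHomogeneous 𝒜) {f : R} {d : ℤ} (hf : f ∈ 𝒜 d)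
    (hreg : ∀ y, f * y ∈ J → y ∈ J) (n : ℤ) :
    hfun 𝒜 (J ⊔ Ideal.span {f}) n = hfun 𝒜 J n - hfun 𝒜 J (n - d) := by
  have := cut 𝒜 hfin J hJ hf hreg n
  unfold hfun
  omega

include hfin hpos in
theorem ser_sup (J : Ideal R) (hJ : J.IsHomogeneous 𝒜) {f : R} {d : ℕ} (hf : f ∈ 𝒜 (d : ℤ))
    (hreg : ∀ y, f * y ∈ J → y ∈ J) :
    ser 𝒜 (J ⊔ Ideal.span {f}) = (1 - PowerSeries.X ^ d) * ser 𝒜 J := by
  ext n
  unfold ser
  rw [sub_mul, one_mul, map_sub, PowerSeries.coeff_mk, PowerSeries.coeff_mk,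
    PowerSeries.coeff_X_pow_mul', hfun_sup 𝒜 hfin J hJ hf hreg]
  split_ifs with h
  · rw [PowerSeries.coeff_mk, Nat.cast_sub h]
  · rw [hfun_neg 𝒜 hpos J (by omega : (n : ℤ) - (d : ℤ) < 0)]

include hfin hpos in
theorem ser_ofList (l : List R) (dl : List ℕ) (hlen : dl.length = l.length)
    (hdeg : ∀ (i : ℕ) (hi : i < l.length), l[i] ∈ 𝒜 ((dl[i]'(by omega) : ℕ) : ℤ))
    (hdpos : ∀ x ∈ dl, 0 < x) (hreg : Reg l) :
    ∀ j, j ≤ l.length → ser 𝒜 (Ideal.ofList (l.take j)) =
      ((dl.take j).map fun d : ℕ => (1 - PowerSeries.X ^ d : PowerSeries ℤ)).prod *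
        ser 𝒜 ⊥ := by
  intro j
  induction j with
  | zero =>
    intro _
    simp
  | succ j ih =>
    intro hj
    have hj' : j < l.length := by omega
    have hjd : j < dl.length := by omega
    rw [List.take_succ_eq_append_getElem hj', Ideal.ofList_append, Ideal.ofList_singleton,
      List.take_succ_eq_append_getElem hjd, List.map_append, List.prod_append]
    have hhom : (Ideal.ofList (l.take j)).IsHomogeneous 𝒜 := by
      apply ofList_isHomogeneous
      intro x hx
      obtain ⟨i, hi, rfl⟩ := List.getElem_of_mem hx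
      rw [List.length_take] at hi
      rw [List.getElem_take]
      have hi' : i < l.length := by omega
      exact ⟨dl[i]'(by omega), hdpos _ (List.getElem_mem _), hdeg i hi'⟩
    rw [ser_sup 𝒜 hfin hpos _ hhom (hdeg j hj') (hreg j hj'), ih (by omega)]
    simp only [List.map_cons, List.map_nil, List.prod_cons, List.prod_nil, mul_one]
    ring

end HF

section HS

variable {k : Type u} [Field k] {R : Type u} [CommRing R] [Algebra k R]
  (𝒜 : ℤ → Submodule k R) [GradedAlgebra 𝒜]

theorem hq_bot (m : ℤ) : hq 𝒜 ⊥ m = Module.finrank k (𝒜 m) := by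
  unfold hq
  have hinj : Function.Injective (Ideal.Quotient.mkₐ k (⊥ : Ideal R)).toLinearMap := by
    intro x y hxy
    have h1 : Ideal.Quotient.mk (⊥ : Ideal R) x = Ideal.Quotient.mk ⊥ y := hxy
    rw [Ideal.Quotient.eq, Ideal.mem_bot, sub_eq_zero] at h1
    exact h1
  exact (Submodule.equivMapOfInjective _ hinj (𝒜 m)).finrank_eq.symm

/-- **Hilbert–Serre**: `(1 - X)^r` times the Hilbert series of `R` is a polynomial. -/
theorem hilbert_serre (h : Std 𝒜) (r : ℕ) (hr : ringKrullDim R ≤ (r : WithBot ℕ∞)) :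
    ∃ G : Polynomial ℤ, ((1 : PowerSeries ℤ) - PowerSeries.X) ^ r * ser 𝒜 ⊥ =
      (G : PowerSeries ℤ) := by
  obtain ⟨Q, ⟨m₀, hQ⟩, hdim⟩ := cyclic h ⊥ (Ideal.IsHomogeneous.bot 𝒜)
  have hdeg : Q.degree < (r : WithBot ℕ) := by
    rw [← hdim r, ringKrullDim_eq_of_ringEquiv (RingEquiv.quotientBot R)]
    exact hr
  have hvan := coeff_eq_zero_of_poly r (fun n : ℕ => hfun 𝒜 ⊥ (n : ℤ)) Q m₀ (by
    intro n hn
    rw [hQ n hn, hq_bot, hfun_bot]
    push_cast
    rfl) hdeg
  refine ⟨PowerSeries.trunc (m₀ + r) (((1 : PowerSeries ℤ) - PowerSeries.X) ^ r * ser 𝒜 ⊥), ?_⟩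
  ext n
  rw [Polynomial.coeff_coe, PowerSeries.coeff_trunc]
  split_ifs with hn
  · rfl
  · exact hvan n (by omega)

/-- the geometric sum polynomial `1 + X + ... + X^(d-1)` -/
noncomputable def geom (d : ℕ) : Polynomial ℤ := ∑ i ∈ Finset.range d, Polynomial.X ^ i

theorem geom_mul (d : ℕ) : (1 - Polynomial.X ^ d : Polynomial ℤ) = (1 - Polynomial.X) * geom d := by
  unfold geom
  rw [mul_comm]
  exact (geom_sum_mul_neg Polynomial.X d).symm

theorem geom_monic {d : ℕ} (hd : 0 < d) : (geom d).Monic ∧ (geom d).natDegree = d - 1 := by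
  obtain ⟨e, rfl⟩ : ∃ e, d = e + 1 := ⟨d - 1, by omega⟩
  unfold geom
  rw [Finset.sum_range_succ]
  have hlt : (∑ i ∈ Finset.range e, (Polynomial.X : Polynomial ℤ) ^ i).degree <
      ((Polynomial.X : Polynomial ℤ) ^ e).degree := by
    rw [Polynomial.degree_X_pow]
    refine lt_of_le_of_lt (Polynomial.degree_sum_le _ _) ?_
    refine (Finset.sup_lt_iff (WithBot.bot_lt_coe e)).mpr ?_
    intro i hi
    rw [Polynomial.degree_X_pow]
    exact WithBot.coe_lt_coe.mpr (Finset.mem_range.mp hi)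
  constructor
  · rw [add_comm]
    exact (Polynomial.monic_X_pow e).add_of_left hlt
  · rw [add_comm, Polynomial.natDegree_add_eq_left_of_degree_lt hlt, Polynomial.natDegree_X_pow]
    rfl

end HS

section Final

variable {k : Type u} [Field k] {R : Type u} [CommRing R] [Algebra k R]
  (𝒜 : ℤ → Submodule k R) [GradedAlgebra 𝒜]

theorem list_geom (dl : List ℕ) (hpos : ∀ x ∈ dl, 0 < x) :
    ((dl.map geom).prod).Monic ∧ ((dl.map geom).prod).natDegree + dl.length = dl.sum := by
  induction dl with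
  | nil => simp
  | cons a dl ih =>
    have h1 := ih fun x hx => hpos x (List.mem_cons_of_mem _ hx)
    have ha : 0 < a := hpos a List.mem_cons_self
    obtain ⟨hm, hd⟩ := geom_monic ha
    rw [List.map_cons, List.prod_cons, List.length_cons, List.sum_cons]
    refine ⟨hm.mul h1.1, ?_⟩
    rw [hm.natDegree_mul h1.1, hd]
    omega

theorem list_prod_eq (dl : List ℕ) :
    (dl.map fun d : ℕ => (1 - PowerSeries.X ^ d : PowerSeries ℤ)).prod =
      ((1 : PowerSeries ℤ) - PowerSeries.X) ^ dl.length *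
        (((dl.map geom).prod : Polynomial ℤ) : PowerSeries ℤ) := by
  induction dl with
  | nil => simp
  | cons a dl ih =>
    rw [List.map_cons, List.prod_cons, ih, List.map_cons, List.prod_cons, List.length_cons,
      Polynomial.coe_mul, pow_succ]
    have h1 : (1 - PowerSeries.X ^ a : PowerSeries ℤ) =
        ((1 : PowerSeries ℤ) - PowerSeries.X) * ((geom a : Polynomial ℤ) : PowerSeries ℤ) := by
      have := congrArg (fun p : Polynomial ℤ => (p : PowerSeries ℤ)) (geom_mul a)
      simp only [Polynomial.coe_sub, Polynomial.coe_one, Polynomial.coe_pow, Polynomial.coe_X,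
        Polynomial.coe_mul] at this
      exact this
    rw [h1]
    ring

/-- **Key numerical consequence**: if `R` is standard graded of dimension `≤ r`, and modulo a
homogeneous regular sequence of degrees `d_i` the top nonzero degree is `∑ (d_i - 1)`,
then `dim_k R_1 = r`. -/
theorem finrank_one_eq (h : Std 𝒜) [Nontrivial R] (hfin : ∀ n : ℤ, Module.Finite k (𝒜 n))
    (r : ℕ) (hr : ringKrullDim R ≤ (r : WithBot ℕ∞))
    (f : Fin r → R) (d : Fin r → ℕ) (hd : ∀ i, 0 < d i) (hf : ∀ i, f i ∈ 𝒜 (d i : ℤ))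
    (hreg : RingTheory.Sequence.IsWeaklyRegular R (List.ofFn f)) (s : ℕ)
    (hs : s + r = ∑ i, d i)
    (htop : ∀ n : ℕ, s < n → 𝒜 (n : ℤ) ≤ (Ideal.span (Set.range f)).restrictScalars k)
    (hsoc : ¬ 𝒜 (s : ℤ) ≤ (Ideal.span (Set.range f)).restrictScalars k) :
    Module.finrank k (𝒜 1) = r := by
  classical
  set l := List.ofFn f with hl
  set dl := List.ofFn d with hdl
  have hlen : dl.length = l.length := by rw [hdl, hl, List.length_ofFn, List.length_ofFn]
  have hlr : l.length = r := by rw [hl, List.length_ofFn]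
  have hdpos : ∀ x ∈ dl, 0 < x := by
    intro x hx
    rw [hdl, List.mem_ofFn] at hx
    obtain ⟨i, rfl⟩ := hx
    exact hd i
  have hser := ser_ofList 𝒜 hfin h.neg l dl hlen (by
    intro i hi
    have hi' : i < r := by omega
    have h1 : l[i] = f ⟨i, hi'⟩ := by rw [List.getElem_ofFn]
    have h2 : dl[i]'(by omega) = d ⟨i, hi'⟩ := by rw [List.getElem_ofFn]
    rw [h1, h2]
    exact hf _) hdpos ((isWeaklyRegular_iff_reg l).mp hreg) l.length le_rfl
  rw [List.take_length, ← hlen, List.take_length, hl,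
    Groth.Agent.Lib.Helper87.CIReg.ofList_ofFn_eq_span, list_prod_eq, hlen, hlr] at hser
  set J := Ideal.span (Set.range f) with hJ
  obtain ⟨G, hG⟩ := hilbert_serre 𝒜 h r hr
  obtain ⟨hmonic, hsum⟩ := list_geom dl hdpos
  set P1 : Polynomial ℤ := (dl.map geom).prod with hP1
  have hsum' : P1.natDegree = s := by
    have : dl.sum = ∑ i, d i := by rw [hdl, List.sum_ofFn]
    rw [hlen, hlr] at hsum
    omega
  have hserP : ser 𝒜 J = ((P1 * G : Polynomial ℤ) : PowerSeries ℤ) := by
    rw [hser, Polynomial.coe_mul, ← hG]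
    ring
  have hcoeff : ∀ n : ℕ, (P1 * G).coeff n = hfun 𝒜 J (n : ℤ) := by
    intro n
    rw [← Polynomial.coeff_coe, ← hserP]
    unfold ser
    rw [PowerSeries.coeff_mk]
  have hPdeg : (P1 * G).natDegree = s := by
    apply le_antisymm
    · rw [Polynomial.natDegree_le_iff_coeff_eq_zero]
      intro n hn
      rw [hcoeff, hfun_eq_zero_iff 𝒜 hfin]
      exact htop n hn
    · apply Polynomial.le_natDegree_of_ne_zero
      rw [hcoeff, Ne, hfun_eq_zero_iff 𝒜 hfin]
      exact hsoc
  have hG0 : G ≠ 0 := by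
    rintro rfl
    apply hsoc
    rw [← hfun_eq_zero_iff 𝒜 hfin, ← hcoeff]
    simp
  have hGdeg : G.natDegree = 0 := by
    rw [hmonic.natDegree_mul' hG0] at hPdeg
    omega
  have hcoeff1 : PowerSeries.coeff 1 (((1 : PowerSeries ℤ) - PowerSeries.X) ^ r * ser 𝒜 ⊥) = 0 := by
    rw [hG, Polynomial.coeff_coe, Polynomial.eq_C_of_natDegree_eq_zero hGdeg,
      Polynomial.coeff_C]
    simp
  rw [coeff_one_sub_pow_mul] at hcoeff1
  have h0 : PowerSeries.constantCoeff (ser 𝒜 ⊥) = 1 := by
    unfold ser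
    rw [← PowerSeries.coeff_zero_eq_constantCoeff_apply, PowerSeries.coeff_mk, hfun_bot,
      Nat.cast_zero, h.zero, finrank_span_singleton one_ne_zero]
    rfl
  have h1 : PowerSeries.coeff 1 (ser 𝒜 ⊥) = Module.finrank k (𝒜 1) := by
    unfold ser
    rw [PowerSeries.coeff_mk, hfun_bot, Nat.cast_one]
  rw [h0, h1] at hcoeff1
  have : (Module.finrank k (𝒜 1) : ℤ) = r := by linarith
  exact_mod_cast this

end Final

end Groth.Agent.Lib.Helper87.APolyC
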