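import Mathlib
import Groth.Agent.Lib.Helper87.APolyC

/-!
# A standard graded algebra of dimension `r` with `dim R_1 = r` is a polynomial ring
-/

set_option autoImplicit false
set_option linter.style.haveILetI false
set_option linter.unusedSectionVars false
universe u

namespace Groth.Agent.Lib.Helper87.APolyD

open Groth.Agent.Lib.Helper87.ModHilbG Groth.Agent.Lib.Helper87.SegPolyA
open Groth.Agent.Lib.Helper87.APolyA Groth.Agent.Lib.Helper87.APolyB
open Groth.Agent.Lib.Helper87.ModHilbB
open Groth.Agent.Lib.Helper87.HilbFnA Groth.Agent.Lib.Helper87.HilbFnB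
open Groth.Agent.Lib.Helper87.SegreA
open MvPolynomial

attribute [local instance] MvPolynomial.gradedAlgebra

variable {k : Type u} [Field k] {R : Type u} [CommRing R] [Algebra k R]
  (𝒜 : ℤ → Submodule k R) [GradedAlgebra 𝒜]

/-- surjectivity of `aeval b` when `b` spans `R_1` -/
theorem aeval_surjective (h : Std 𝒜) {a : ℕ} (b : Fin a → R)
    (hb : Submodule.span k (Set.range b) = 𝒜 1) :
    Function.Surjective (aeval b : MvPolynomial (Fin a) k →ₐ[k] R) := by
  classical
  set W : ℕ → Submodule k R := fun n => 𝒜 (n : ℤ) with hW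
  have hW0 : W 0 = 1 := by
    simp only [hW, Nat.cast_zero]
    rw [h.zero, Submodule.one_eq_span]
  have hW1 : W 1 = 𝒜 1 := by simp only [hW, Nat.cast_one]
  have hWs : ∀ n, W (n + 1) = W 1 * W n := by
    intro n
    rw [hW1]
    exact h.succ n
  set π : MvPolynomial (Fin a) k →ₐ[k] R := aeval b with hπ
  have hmap : ∀ n, (gr k (Fin a) n).map π.toLinearMap = W n :=
    map_gr_eq W hW0 hWs b (by rw [hW1]; exact hb)
  intro x
  have hx : x ∈ π.range := by
    rw [← DirectSum.sum_support_decompose 𝒜 x]
    refine Subalgebra.sum_mem _ fun i _ => ?_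
    have hy : (DirectSum.decompose 𝒜 x i : R) ∈ 𝒜 i := SetLike.coe_mem _
    generalize (DirectSum.decompose 𝒜 x i : R) = y at hy
    by_cases hi : i < 0
    · rw [h.neg i hi, Submodule.mem_bot] at hy
      rw [hy]
      exact Subalgebra.zero_mem _
    · obtain ⟨n, rfl⟩ := Int.eq_ofNat_of_zero_le (not_lt.mp hi)
      have h2 : y ∈ (gr k (Fin a) n).map π.toLinearMap := by
        rw [hmap]
        exact hy
      obtain ⟨f, _, rfl⟩ := h2
      exact ⟨f, rfl⟩
  exact hx

/-- a surjection from a polynomial ring in `r` variables onto a ring of dimension `≥ r` is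
injective -/
theorem injective_of_dim {r : ℕ} (π : MvPolynomial (Fin r) k →ₐ[k] R)
    (hsurj : Function.Surjective π) (hdim : (r : WithBot ℕ∞) ≤ ringKrullDim R) :
    Function.Injective π := by
  rw [injective_iff_map_eq_zero]
  intro f hf
  by_contra hf0
  have hfnzd : f ∈ nonZeroDivisors (MvPolynomial (Fin r) k) := mem_nonZeroDivisors_of_ne_zero hf0
  have h2 := ringKrullDim_quotient_succ_le_of_nonZeroDivisor hfnzd
  have hkX : ringKrullDim (MvPolynomial (Fin r) k) = r := by
    rw [MvPolynomial.ringKrullDim_of_isNoetherianRing, ringKrullDim_eq_zero_of_field]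
    simp
  rw [hkX] at h2
  have hle : Ideal.span {f} ≤ RingHom.ker π.toRingHom := by
    rw [Ideal.span_le]
    intro g hg
    rw [Set.mem_singleton_iff] at hg
    subst hg
    exact hf
  set g : MvPolynomial (Fin r) k ⧸ Ideal.span {f} →+* R :=
    Ideal.Quotient.lift _ π.toRingHom (fun a ha => RingHom.mem_ker.mp (hle ha)) with hg
  have hgsurj : Function.Surjective g := by
    intro x
    obtain ⟨p, rfl⟩ := hsurj x
    exact ⟨Ideal.Quotient.mk _ p, by rw [hg, Ideal.Quotient.lift_mk]; rfl⟩
  have h3 := ringKrullDim_le_of_surjective g hgsurj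
  have h4 : (r : WithBot ℕ∞) + 1 ≤ r := le_trans (by gcongr; exact hdim.trans h3) h2
  have h5 : ((r + 1 : ℕ) : WithBot ℕ∞) ≤ ((r : ℕ) : WithBot ℕ∞) := by
    push_cast
    exact h4
  have h6 : r + 1 ≤ r := by exact_mod_cast h5
  omega

/-- **POLY** -/
theorem exists_poly (h : Std 𝒜) {r : ℕ} (hfr : Module.finrank k (𝒜 1) = r)
    (hdim : (r : WithBot ℕ∞) ≤ ringKrullDim R) :
    ∃ x : Fin r → R, (∀ i, x i ∈ 𝒜 1) ∧
      Submodule.span k (Set.range x) = 𝒜 1 ∧
      Function.Bijective (aeval x : MvPolynomial (Fin r) k →ₐ[k] R) := by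
  classical
  haveI := h.fin
  set B := Module.finBasisOfFinrankEq k (𝒜 1) hfr with hB
  set x : Fin r → R := fun i => (B i : R) with hx
  have hspan : Submodule.span k (Set.range x) = 𝒜 1 := by
    have h1 : Set.range x = (𝒜 1).subtype '' Set.range B := by
      ext y
      simp only [Set.mem_range, Set.mem_image, exists_exists_eq_and]
      rfl
    rw [h1, Submodule.span_image, B.span_eq, Submodule.map_top, Submodule.range_subtype]
  have hsurj := aeval_surjective 𝒜 h x hspan
  exact ⟨x, fun i => (B i).2, hspan, injective_of_dim _ hsurj hdim, hsurj⟩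

end Groth.Agent.Lib.Helper87.APolyD
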