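import Mathlib
import Groth.Agent.Lib.Helper87.APolyD

/-!
# Variables of a polynomial ring form a regular sequence; regular graded rings
-/

set_option autoImplicit false
set_option linter.style.haveILetI false
set_option linter.unusedSectionVars false
universe u

namespace Groth.Agent.Lib.Helper87.APolyE

open Groth.Agent.Lib.Helper87.ModHilbG Groth.Agent.Lib.Helper87.SegPolyA
open Groth.Agent.Lib.Helper87.APolyA Groth.Agent.Lib.Helper87.APolyB
open Groth.Agent.Lib.Helper87.APolyC Groth.Agent.Lib.Helper87.APolyD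
open Groth.Agent.Lib.Helper87.ModHilbB

section RegX

theorem ofList_take_ofFn {A : Type*} [CommRing A] {r : ℕ} (f : Fin r → A) (i : ℕ) :
    Ideal.ofList ((List.ofFn f).take i) = Ideal.span (f '' {j : Fin r | (j : ℕ) < i}) := by
  rw [Ideal.ofList]
  congr 1
  ext x
  simp only [Set.mem_ofPred_eq, Set.mem_image]
  rw [List.mem_take_iff_getElem]
  constructor
  · rintro ⟨j, hj, rfl⟩
    rw [List.length_ofFn] at hj
    refine ⟨⟨j, by omega⟩, by simp only; omega, by simp⟩
  · rintro ⟨j, hj, rfl⟩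
    refine ⟨j, by rw [List.length_ofFn]; omega, by simp⟩

theorem reg_X (k : Type*) [Field k] (r : ℕ) :
    Reg (List.ofFn (MvPolynomial.X : Fin r → MvPolynomial (Fin r) k)) := by
  classical
  intro i hi y hy
  rw [List.length_ofFn] at hi
  rw [ofList_take_ofFn, MvPolynomial.mem_ideal_span_X_image] at hy ⊢
  rw [List.getElem_ofFn] at hy
  intro mm hmm
  have h1 : Finsupp.single (⟨i, hi⟩ : Fin r) 1 + mm ∈
      (MvPolynomial.X (⟨i, hi⟩ : Fin r) * y).support := by
    rw [MvPolynomial.mem_support_iff, MvPolynomial.coeff_X_mul]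
    exact MvPolynomial.mem_support_iff.mp hmm
  obtain ⟨j, hj, hne⟩ := hy _ h1
  refine ⟨j, hj, ?_⟩
  have hji : (⟨i, hi⟩ : Fin r) ≠ j := by
    intro h
    subst h
    simp at hj
  rw [Finsupp.add_apply, Finsupp.single_apply, if_neg hji, zero_add] at hne
  exact hne

theorem reg_map {A B : Type*} [CommRing A] [CommRing B] (e : A ≃+* B) (l : List A)
    (hl : Reg l) : Reg (l.map e) := by
  intro i hi y hy
  rw [List.length_map] at hi
  have h1 : (l.map e).take i = (l.take i).map (e : A →+* B) := by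
    rw [List.map_take]
    rfl
  rw [h1, ← Ideal.map_ofList] at hy ⊢
  rw [List.getElem_map] at hy
  have h2 : ∀ z : B, z ∈ Ideal.map (e : A →+* B) (Ideal.ofList (l.take i)) ↔
      e.symm z ∈ Ideal.ofList (l.take i) := by
    intro z
    have := Ideal.mem_map_of_equiv e (I := Ideal.ofList (l.take i)) z
    constructor
    · intro hz
      obtain ⟨x, hx, rfl⟩ := this.mp hz
      rwa [RingEquiv.symm_apply_apply]
    · intro hz
      exact this.mpr ⟨_, hz, e.apply_symm_apply z⟩
  rw [h2] at hy ⊢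
  rw [map_mul, RingEquiv.symm_apply_apply] at hy
  exact hl i hi _ hy

variable {k : Type u} [Field k] {R : Type u} [CommRing R] [Algebra k R]

theorem reg_of_bijective {r : ℕ} (x : Fin r → R)
    (hbij : Function.Bijective (MvPolynomial.aeval x : MvPolynomial (Fin r) k →ₐ[k] R)) :
    Reg (List.ofFn x) := by
  set e := AlgEquiv.ofBijective (MvPolynomial.aeval x : MvPolynomial (Fin r) k →ₐ[k] R) hbij
    with he
  have h1 : List.ofFn x = (List.ofFn (MvPolynomial.X : Fin r → MvPolynomial (Fin r) k)).map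
      e.toRingEquiv := by
    rw [List.map_ofFn]
    congr 1
    funext i
    simp [he]
  rw [h1]
  exact reg_map _ _ (reg_X k r)

variable (𝒜 : ℤ → Submodule k R) [GradedAlgebra 𝒜]

theorem piece_le_span (h : Std 𝒜) {r : ℕ} (x : Fin r → R)
    (hspan : Submodule.span k (Set.range x) = 𝒜 1) (n : ℕ) (hn : 1 ≤ n) :
    𝒜 (n : ℤ) ≤ (Ideal.span (Set.range x)).restrictScalars k := by
  obtain ⟨j, rfl⟩ : ∃ j, n = j + 1 := ⟨n - 1, by omega⟩
  rw [h.succ j, Submodule.mul_le]
  intro a ha b _
  have h1 : 𝒜 1 ≤ (Ideal.span (Set.range x)).restrictScalars k := by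
    rw [← hspan, Submodule.span_le]
    intro y hy
    exact Ideal.subset_span hy
  exact Ideal.mul_mem_right _ _ (h1 ha)

end RegX

section Fin1

variable {k : Type u} [Field k] {R : Type u} [CommRing R] [Algebra k R]
  (𝒜 : ℤ → Submodule k R) [GradedAlgebra 𝒜]
  (hpos : ∀ n : ℤ, n < 0 → 𝒜 n = ⊥) (h0 : 𝒜 0 = Submodule.span k {(1 : R)})

include hpos in
/-- degree one component of a multiple of an element of the irrelevant ideal -/
theorem decompose_mul_one_of_mem_irr {f : R} (hfirr : f ∈ irr 𝒜) (g : R) :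
    (DirectSum.decompose 𝒜 (g * f) 1 : R) =
      (DirectSum.decompose 𝒜 g 0 : R) * (DirectSum.decompose 𝒜 f 1 : R) := by
  classical
  have h2 : g * f = ∑ j ∈ (DirectSum.decompose 𝒜 f).support,
      g * (DirectSum.decompose 𝒜 f j : R) := by
    conv_lhs => rw [← DirectSum.sum_support_decompose 𝒜 f, Finset.mul_sum]
  have h3 : ∀ j : ℤ, (DirectSum.decompose 𝒜 (g * (DirectSum.decompose 𝒜 f j : R)) 1 : R) =
      (DirectSum.decompose 𝒜 g (1 - j) : R) * (DirectSum.decompose 𝒜 f j : R) := by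
    intro j
    have := DirectSum.coe_decompose_mul_add_of_right_mem 𝒜 (a := g) (i := 1 - j)
      (SetLike.coe_mem (DirectSum.decompose 𝒜 f j))
    rwa [sub_add_cancel] at this
  rw [h2, DirectSum.decompose_sum, DFinsupp.finsetSum_apply, AddSubmonoidClass.coe_finsetSum]
  have h4 : ∀ j ∈ (DirectSum.decompose 𝒜 f).support, j ≠ 1 →
      (DirectSum.decompose 𝒜 (g * (DirectSum.decompose 𝒜 f j : R)) 1 : R) = 0 := by
    intro j _ hj1
    rw [h3]
    rcases lt_trichotomy j 0 with hj | hj | hj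
    · rw [eq_zero_of_mem_neg 𝒜 hpos hj (SetLike.coe_mem (DirectSum.decompose 𝒜 f j)), mul_zero]
    · subst hj
      rw [decompose_zero_of_mem_irr 𝒜 hpos hfirr, mul_zero]
    · rw [eq_zero_of_mem_neg 𝒜 hpos (by omega : 1 - j < 0)
        (SetLike.coe_mem (DirectSum.decompose 𝒜 g (1 - j))), zero_mul]
  by_cases hmem : (1 : ℤ) ∈ (DirectSum.decompose 𝒜 f).support
  · rw [Finset.sum_eq_single_of_mem 1 hmem (fun j hj hj1 => h4 j hj hj1), h3, sub_self]
  · rw [Finset.sum_eq_zero (fun j hj => h4 j hj (fun h => hmem (h ▸ hj)))]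
    have h5 : (DirectSum.decompose 𝒜 f 1 : R) = 0 := by
      have := DFinsupp.notMem_support_iff.mp hmem
      rw [this]; rfl
    rw [h5, mul_zero]

include hpos h0 in
/-- if `w * x ∈ (z_1, …, z_r)` with `w ∉ R_+`, `z_i ∈ R_+` and `x ∈ R_1`, then `x` is a `k`-linear
combination of the degree-one components of the `z_i` -/
theorem mem_span_of_mul_mem {r : ℕ} (z : Fin r → R) (hz : ∀ i, z i ∈ irr 𝒜) {w x : R}
    (hw : w ∉ irr 𝒜) (hx : x ∈ 𝒜 1) (hwx : w * x ∈ Ideal.span (Set.range z)) :
    x ∈ Submodule.span k (Set.range fun i => (DirectSum.decompose 𝒜 (z i) 1 : R)) := by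
  classical
  obtain ⟨a, ha⟩ := (Ideal.mem_span_range_iff_exists_fun).mp hwx
  have h1 : (DirectSum.decompose 𝒜 (w * x) 1 : R) = (DirectSum.decompose 𝒜 w 0 : R) * x := by
    have := DirectSum.coe_decompose_mul_add_of_right_mem 𝒜 (a := w) (i := 0) hx
    rwa [zero_add] at this
  have h2 : (DirectSum.decompose 𝒜 (w * x) 1 : R) =
      ∑ i, (DirectSum.decompose 𝒜 (a i) 0 : R) * (DirectSum.decompose 𝒜 (z i) 1 : R) := by
    rw [← ha, DirectSum.decompose_sum, DFinsupp.finsetSum_apply, AddSubmonoidClass.coe_finsetSum]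
    refine Finset.sum_congr rfl fun i _ => ?_
    exact decompose_mul_one_of_mem_irr 𝒜 hpos (hz i) (a i)
  obtain ⟨c, hc⟩ := exists_smul_of_mem_zero 𝒜 h0 (SetLike.coe_mem (DirectSum.decompose 𝒜 w 0))
  have hc0 : c ≠ 0 := by
    rintro rfl
    rw [zero_smul] at hc
    apply hw
    have := sub_mem_irr 𝒜 hpos w
    rwa [← hc, sub_zero] at this
  have h3 : c • x = ∑ i, (DirectSum.decompose 𝒜 (a i) 0 : R) *
      (DirectSum.decompose 𝒜 (z i) 1 : R) := by
    rw [← h2, h1, ← hc, smul_mul_assoc, one_mul]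
  have h4 : x = c⁻¹ • (c • x) := by rw [smul_smul, inv_mul_cancel₀ hc0, one_smul]
  rw [h4, h3]
  refine Submodule.smul_mem _ _ (Submodule.sum_mem _ fun i _ => ?_)
  obtain ⟨ci, hci⟩ := exists_smul_of_mem_zero 𝒜 h0
    (SetLike.coe_mem (DirectSum.decompose 𝒜 (a i) 0))
  rw [← hci, smul_mul_assoc, one_mul]
  exact Submodule.smul_mem _ _ (Submodule.subset_span ⟨i, rfl⟩)

end Fin1

section Fin2

open IsLocalRing

variable {k : Type u} [Field k] {R : Type u} [CommRing R] [Algebra k R]
  (𝒜 : ℤ → Submodule k R) [GradedAlgebra 𝒜]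
  (hpos : ∀ n : ℤ, n < 0 → 𝒜 n = ⊥) (h0 : 𝒜 0 = Submodule.span k {(1 : R)})

include hpos h0 in
/-- a regular graded ring of dimension `r` has `dim R_1 ≤ r` -/
theorem finrank_one_le_of_regular [Nontrivial R] [IsRegularRing R] [Algebra.FiniteType k R]
    {r : ℕ} (hr : ringKrullDim R = r) : Module.finrank k (𝒜 1) ≤ r := by
  classical
  haveI hmax := irr_isMaximal 𝒜 hpos h0
  haveI hprime : (irr 𝒜).IsPrime := hmax.isPrime
  set A := Localization.AtPrime (irr 𝒜) with hA
  haveI : IsRegularLocalRing A := IsRegularRing.isRegularLocalRing_localization (irr 𝒜)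
  have hdimA : ringKrullDim A = r := by
    rw [IsLocalization.AtPrime.ringKrullDim_eq_height (irr 𝒜) A,
      ← ringKrullDim_eq_height_irr 𝒜 hpos h0, hr]
  have h5 : ((maximalIdeal A).spanFinrank : WithBot ℕ∞) = ringKrullDim A :=
    IsRegularLocalRing.spanFinrank_maximalIdeal
  have hd : (maximalIdeal A).spanFinrank = r := by
    rw [hdimA] at h5
    exact_mod_cast h5
  have hfg : (maximalIdeal A).FG := IsNoetherian.noetherian _
  obtain ⟨s, hcard, hspan⟩ := Submodule.FG.exists_span_finset_card_eq_spanFinrank hfg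
  rw [hd] at hcard
  let e := s.equivFinOfCardEq hcard
  let y : Fin r → A := fun i => (e.symm i : A)
  have hrange : Set.range y = (s : Set A) := by
    ext a
    constructor
    · rintro ⟨i, rfl⟩; exact (e.symm i).2
    · intro ha; exact ⟨e ⟨a, ha⟩, by simp [y]⟩
  have hy : Ideal.span (Set.range y) = maximalIdeal A := by rw [hrange]; exact hspan
  have hex : ∀ i, ∃ (z : R) (t : (irr 𝒜).primeCompl), IsLocalization.mk' A z t = y i :=
    fun i => IsLocalization.exists_mk'_eq (irr 𝒜).primeCompl (y i)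
  choose z t hzt using hex
  have hz : ∀ i, z i ∈ irr 𝒜 := by
    intro i
    rw [← IsLocalization.AtPrime.mk'_mem_maximal_iff A (irr 𝒜) (z i) (t i), hzt, ← hy]
    exact Ideal.subset_span ⟨i, rfl⟩
  have hspec : ∀ i, y i * algebraMap R A (t i) = algebraMap R A (z i) := by
    intro i
    rw [← hzt]
    exact IsLocalization.mk'_spec A (z i) (t i)
  have hmap : maximalIdeal A = Ideal.map (algebraMap R A) (Ideal.span (Set.range z)) := by
    rw [Ideal.map_span, ← hy]
    apply le_antisymm
    · rw [Ideal.span_le]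
      rintro _ ⟨i, rfl⟩
      have hu : IsUnit (algebraMap R A (t i)) := IsLocalization.map_units A (t i)
      rw [SetLike.mem_coe, ← Ideal.mul_unit_mem_iff_mem _ hu, hspec]
      exact Ideal.subset_span ⟨z i, ⟨i, rfl⟩, rfl⟩
    · rw [Ideal.span_le]
      rintro _ ⟨_, ⟨i, rfl⟩, rfl⟩
      rw [SetLike.mem_coe, ← hspec]
      exact Ideal.mul_mem_right _ _ (Ideal.subset_span ⟨i, rfl⟩)
  set v : Fin r → R := fun i => (DirectSum.decompose 𝒜 (z i) 1 : R) with hv
  have hle : 𝒜 1 ≤ Submodule.span k (Set.range v) := by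
    intro x hx
    have hxirr : x ∈ irr 𝒜 := by
      apply Ideal.subset_span
      simp only [Set.mem_iUnion, Set.mem_Ioi]
      exact ⟨1, one_pos, hx⟩
    have h1 : algebraMap R A x ∈ maximalIdeal A :=
      (IsLocalization.AtPrime.to_map_mem_maximal_iff A (irr 𝒜) x).mpr hxirr
    rw [hmap, IsLocalization.mem_map_algebraMap_iff (irr 𝒜).primeCompl A] at h1
    obtain ⟨⟨c, t'⟩, hct⟩ := h1
    rw [← map_mul, IsLocalization.eq_iff_exists (irr 𝒜).primeCompl A] at hct
    obtain ⟨u, hu⟩ := hct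
    have hw : ((u * t' : (irr 𝒜).primeCompl) : R) ∉ irr 𝒜 := (u * t').2
    refine mem_span_of_mul_mem 𝒜 hpos h0 z hz hw hx ?_
    have : ((u * t' : (irr 𝒜).primeCompl) : R) * x = (u : R) * (c : R) := by
      rw [← hu, Submonoid.coe_mul]
      ring
    rw [this]
    exact Ideal.mul_mem_left _ _ c.2
  haveI : Module.Finite k (Submodule.span k (Set.range v)) :=
    Module.Finite.span_of_finite k (Set.finite_range v)
  have h6 : Module.finrank k (𝒜 1) ≤ Module.finrank k (Submodule.span k (Set.range v)) :=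
    Submodule.finrank_mono hle
  have h7 : Module.finrank k (Submodule.span k (Set.range v)) ≤ Fintype.card (Fin r) :=
    finrank_range_le_card v
  rw [Fintype.card_fin] at h7
  exact h6.trans h7

/-- a standard graded ring of dimension `r` has `dim R_1 ≥ r` -/
theorem le_finrank_one (h : Std 𝒜) {r : ℕ} (hr : ringKrullDim R = r) :
    r ≤ Module.finrank k (𝒜 1) := by
  classical
  haveI := h.fin
  set a := Module.finrank k (𝒜 1) with ha
  set B := Module.finBasisOfFinrankEq k (𝒜 1) ha.symm with hB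
  set x : Fin a → R := fun i => (B i : R) with hx
  have hspan : Submodule.span k (Set.range x) = 𝒜 1 := by
    have h1 : Set.range x = (𝒜 1).subtype '' Set.range B := by
      ext y
      simp only [Set.mem_range, Set.mem_image, exists_exists_eq_and]
      rfl
    rw [h1, Submodule.span_image, B.span_eq, Submodule.map_top, Submodule.range_subtype]
  have hsurj := aeval_surjective 𝒜 h x hspan
  have h3 := ringKrullDim_le_of_surjective
    (MvPolynomial.aeval x : MvPolynomial (Fin a) k →ₐ[k] R).toRingHom hsurj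
  have hkX : ringKrullDim (MvPolynomial (Fin a) k) = a := by
    rw [MvPolynomial.ringKrullDim_of_isNoetherianRing, ringKrullDim_eq_zero_of_field]
    simp
  rw [hkX, hr] at h3
  exact_mod_cast h3

end Fin2

section Tors

variable {k : Type u} [Field k] {R : Type u} [CommRing R] [Algebra k R]
  (𝒜 : ℤ → Submodule k R) [GradedAlgebra 𝒜]

/-- modulo a homogeneous regular sequence of length `≥ dim R`, all high degree pieces vanish -/
theorem exists_piece_le (h : Std 𝒜) (hfin : ∀ n : ℤ, Module.Finite k (𝒜 n))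
    (r : ℕ) (hr : ringKrullDim R ≤ (r : WithBot ℕ∞))
    (f : Fin r → R) (d : Fin r → ℕ) (hd : ∀ i, 0 < d i) (hf : ∀ i, f i ∈ 𝒜 (d i : ℤ))
    (hreg : RingTheory.Sequence.IsWeaklyRegular R (List.ofFn f)) :
    ∃ n₀ : ℕ, ∀ n : ℕ, n₀ ≤ n →
      𝒜 (n : ℤ) ≤ (Ideal.span (Set.range f)).restrictScalars k := by
  classical
  set l := List.ofFn f with hl
  set dl := List.ofFn d with hdl
  have hlen : dl.length = l.length := by rw [hdl, hl, List.length_ofFn, List.length_ofFn]
  have hlr : l.length = r := by rw [hl, List.length_ofFn]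
  have hdpos : ∀ x ∈ dl, 0 < x := by
    intro x hx
    rw [hdl, List.mem_ofFn] at hx
    obtain ⟨i, rfl⟩ := hx
    exact hd i
  have hser := ser_ofList 𝒜 hfin h.neg l dl hlen (by
    intro i hi
    have hi' : i < r := by omega
    have h1 : l[i] = f ⟨i, hi'⟩ := by rw [List.getElem_ofFn]
    have h2 : dl[i]'(by omega) = d ⟨i, hi'⟩ := by rw [List.getElem_ofFn]
    rw [h1, h2]
    exact hf _) hdpos ((isWeaklyRegular_iff_reg l).mp hreg) l.length le_rfl
  rw [List.take_length, ← hlen, List.take_length, hl,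
    Groth.Agent.Lib.Helper87.CIReg.ofList_ofFn_eq_span, list_prod_eq, hlen, hlr] at hser
  set J := Ideal.span (Set.range f) with hJ
  obtain ⟨G, hG⟩ := hilbert_serre 𝒜 h r hr
  set P1 : Polynomial ℤ := (dl.map geom).prod with hP1
  have hserP : ser 𝒜 J = ((P1 * G : Polynomial ℤ) : PowerSeries ℤ) := by
    rw [hser, Polynomial.coe_mul, ← hG]
    ring
  have hcoeff : ∀ n : ℕ, (P1 * G).coeff n = hfun 𝒜 J (n : ℤ) := by
    intro n
    rw [← Polynomial.coeff_coe, ← hserP]
    unfold ser
    rw [PowerSeries.coeff_mk]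
  refine ⟨(P1 * G).natDegree + 1, fun n hn => ?_⟩
  rw [← hfun_eq_zero_iff 𝒜 hfin, ← hcoeff]
  exact Polynomial.coeff_eq_zero_of_natDegree_lt (by omega)

end Tors

end Groth.Agent.Lib.Helper87.APolyE
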