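import Mathlib
import Groth.Agent.Lib.Helper87.APolyE
import Groth.Agent.Lib.Helper87.APolyF

/-!
# `a(R) = -dim R` characterises polynomial rings among standard graded CM rings
-/

set_option autoImplicit false
set_option linter.style.haveILetI false
set_option linter.unusedSectionVars false
universe u

namespace Groth.Agent.Lib.Helper87.APolyG

open Groth.Agent.Lib.Helper87.ModHilbG Groth.Agent.Lib.Helper87.SegPolyA
open Groth.Agent.Lib.Helper87.APolyA Groth.Agent.Lib.Helper87.APolyB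
open Groth.Agent.Lib.Helper87.APolyC Groth.Agent.Lib.Helper87.APolyD
open Groth.Agent.Lib.Helper87.APolyE Groth.Agent.Lib.Helper87.APolyF
open Groth.Agent.Lib.Helper87.ModHilbB

section Setup

variable {k : Type u} [Field k] (R : Type u) [CommRing R] [Algebra k R]
  (𝒜 : ℤ → AddSubgroup R) [GradedRing 𝒜] (𝒜' : ℤ → Submodule k R) [GradedAlgebra 𝒜']
  (hAA : ∀ n x, x ∈ 𝒜' n ↔ x ∈ 𝒜 n)

include hAA in
theorem pos' (hpos : ∀ n : ℤ, n < 0 → 𝒜 n = ⊥) : ∀ n : ℤ, n < 0 → 𝒜' n = ⊥ := by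
  intro n hn
  rw [eq_bot_iff]
  intro x hx
  have := (hAA n x).mp hx
  rw [hpos n hn, AddSubgroup.mem_bot] at this
  rw [this]
  exact zero_mem _

include hAA in
theorem coe_eq (n : ℤ) : ((𝒜' n : Submodule k R) : Set R) = ((𝒜 n : AddSubgroup R) : Set R) := by
  ext x
  exact hAA n x

include hAA in
theorem irr_eq : irr 𝒜' = Ideal.span (⋃ n ∈ Set.Ioi (0 : ℤ), (𝒜 n : Set R)) := by
  unfold irr
  congr 1
  ext x
  simp only [Set.mem_iUnion, coe_eq R 𝒜 𝒜' hAA]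

include hAA in
theorem std' (hstd : Ideal.span (⋃ n ∈ Set.Ioi (0 : ℤ), (𝒜 n : Set R)) =
      Ideal.span ((𝒜 1 : AddSubgroup R) : Set R)) :
    Ideal.span (⋃ n ∈ Set.Ioi (0 : ℤ), (𝒜' n : Set R)) =
      Ideal.span ((𝒜' 1 : Submodule k R) : Set R) := by
  rw [coe_eq R 𝒜 𝒜' hAA 1, ← hstd]
  exact irr_eq R 𝒜 𝒜' hAA

end Setup

section Main

open GrLC

variable {k : Type u} [Field k] (R : Type u) [CommRing R] [Algebra k R]
  [LocCoh.IsCohenMacaulayRing R]
  (𝒜 : ℤ → AddSubgroup R) [GradedRing 𝒜] (𝒜' : ℤ → Submodule k R) [GradedAlgebra 𝒜']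
  (hAA : ∀ n x, x ∈ 𝒜' n ↔ x ∈ 𝒜 n) (h0' : 𝒜' 0 = Submodule.span k {(1 : R)})
  (hpos : ∀ n : ℤ, n < 0 → 𝒜 n = ⊥) (h0 : IsField (GrLC.deg0 𝒜))
  (m : HomogeneousIdeal 𝒜) (hm : GrLC.IsStarLocal 𝒜 m)
  (hmsp : m.toIdeal = Ideal.span (⋃ n ∈ Set.Ioi (0 : ℤ), (𝒜 n : Set R)))
  (hstd : Ideal.span (⋃ n ∈ Set.Ioi (0 : ℤ), (𝒜 n : Set R)) =
    Ideal.span ((𝒜 1 : AddSubgroup R) : Set R))
  (r : ℕ) (hr : ringKrullDim R = r) (I : GrLC.StarInjRes 𝒜 𝒜)

include hAA h0' hpos h0 hm hmsp hstd hr in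
theorem forward
    (hE : GrLC.endDeg (I.Hgr m r) =
      (((-(r : ℤ) : ℤ) : WithTop ℤ) : WithBot (WithTop ℤ))) :
    Nonempty (R ≃ₐ[k] MvPolynomial (Fin r) k) := by
  classical
  have hpos' := pos' R 𝒜 𝒜' hAA hpos
  haveI : IsNoetherianRing R := inferInstance
  haveI : Nontrivial R := by
    rw [← not_subsingleton_iff_nontrivial]
    intro hsub
    rw [ringKrullDim_eq_bot_of_subsingleton] at hr
    exact WithBot.bot_ne_coe hr
  haveI : Algebra.FiniteType k R := finiteType_of_isNoetherianRing 𝒜' hpos' h0'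
  have hStd : Std 𝒜' := Groth.Agent.Lib.Helper87.ModHilbD.std_of 𝒜' hpos' h0'
    (std' R 𝒜 𝒜' hAA hstd)
  have hfin := (Groth.Agent.Lib.Helper87.SegreB.exists_std 𝒜' hpos' h0').1
  obtain ⟨f, d, hd, hf, hreg⟩ := exists_regular_seq 𝒜' hpos' h0' hr
  obtain ⟨n₀, hn₀⟩ := exists_piece_le 𝒜' hStd hfin r hr.le f d hd hf hreg
  have hirr : irr 𝒜' = m.toIdeal := by rw [hmsp]; exact irr_eq R 𝒜 𝒜' hAA
  have htors : m.toIdeal ^ n₀ ≤ Ideal.span (Set.range f) := by
    rw [← hirr]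
    refine (irr_pow_le_geIdeal 𝒜' n₀).trans ?_
    unfold geIdeal
    rw [Ideal.span_le]
    intro x hx
    simp only [Set.mem_iUnion, Set.mem_Ici] at hx
    obtain ⟨n, hn, hx⟩ := hx
    obtain ⟨n', rfl⟩ := Int.eq_ofNat_of_zero_le (le_trans (Int.natCast_nonneg n₀) hn)
    exact hn₀ n' (by exact_mod_cast hn) hx
  have hfm : ∀ i, f i ∈ m.toIdeal := by
    intro i
    rw [hmsp]
    apply Ideal.subset_span
    simp only [Set.mem_iUnion, Set.mem_Ioi]
    exact ⟨(d i : ℤ), by exact_mod_cast hd i, (hAA _ _).mp (hf i)⟩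
  have hsum : r ≤ ∑ i, d i := by
    have h1 : ∑ _i : Fin r, 1 ≤ ∑ i, d i := Finset.sum_le_sum fun i _ => hd i
    simpa using h1
  obtain ⟨s, hs⟩ : ∃ s : ℕ, s + r = ∑ i, d i := ⟨∑ i, d i - r, by omega⟩
  have hkey := (key R 𝒜 hpos h0 m hm hmsp r hr I f (fun i => (d i : ℤ))
    (fun i => (hAA _ _).mp (hf i)) hfm hreg n₀ htors (s : ℤ)).mp (by
      rw [hE]
      have h2 : (∑ i : Fin r, (d i : ℤ)) = (s : ℤ) + r := by
        rw [← Nat.cast_sum, ← hs]
        push_cast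
        rfl
      rw [h2]
      have h3 : ((-(r : ℤ) : ℤ) + ((s : ℤ) + r)) = (s : ℤ) := by ring
      have h4 : (((-(r : ℤ) : ℤ) : WithTop ℤ) : WithBot (WithTop ℤ)) +
          ((((s : ℤ) + r : ℤ) : WithTop ℤ) : WithBot (WithTop ℤ)) =
          (((-(r : ℤ) + ((s : ℤ) + r) : ℤ) : WithTop ℤ) : WithBot (WithTop ℤ)) := by
        push_cast
        rfl
      rw [h4, h3])
  obtain ⟨htop, hsoc⟩ := hkey
  have hfr : Module.finrank k (𝒜' 1) = r :=
    finrank_one_eq 𝒜' hStd hfin r hr.le f d hd hf hreg s hs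
      (fun n hn x hx => htop (n : ℤ) (by exact_mod_cast hn) x ((hAA _ _).mp hx))
      (fun h => hsoc fun x hx => h ((hAA _ _).mpr hx))
  obtain ⟨x, -, -, hbij⟩ := exists_poly 𝒜' hStd hfr hr.ge
  exact ⟨(AlgEquiv.ofBijective _ hbij).symm⟩

include hAA h0' hpos h0 hm hmsp hstd hr in
theorem backward [IsRegularRing R] :
    GrLC.endDeg (I.Hgr m r) =
      (((-(r : ℤ) : ℤ) : WithTop ℤ) : WithBot (WithTop ℤ)) := by
  classical
  have hpos' := pos' R 𝒜 𝒜' hAA hpos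
  haveI : Nontrivial R := by
    rw [← not_subsingleton_iff_nontrivial]
    intro hsub
    rw [ringKrullDim_eq_bot_of_subsingleton] at hr
    exact WithBot.bot_ne_coe hr
  haveI : Algebra.FiniteType k R := finiteType_of_isNoetherianRing 𝒜' hpos' h0'
  have hStd : Std 𝒜' := Groth.Agent.Lib.Helper87.ModHilbD.std_of 𝒜' hpos' h0'
    (std' R 𝒜 𝒜' hAA hstd)
  have hfr : Module.finrank k (𝒜' 1) = r :=
    le_antisymm (finrank_one_le_of_regular 𝒜' hpos' h0' hr) (le_finrank_one 𝒜' hStd hr)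
  obtain ⟨x, hx1, hspan, hbij⟩ := exists_poly 𝒜' hStd hfr hr.ge
  have hregx : RingTheory.Sequence.IsWeaklyRegular R (List.ofFn x) :=
    (isWeaklyRegular_iff_reg _).mpr (reg_of_bijective x hbij)
  have hpiece := piece_le_span 𝒜' hStd x hspan
  have hmne : m.toIdeal ≠ ⊤ := by
    intro h
    apply hm.1.1
    apply HomogeneousIdeal.toIdeal_injective
    rw [h, HomogeneousIdeal.toIdeal_top]
  have hxm : ∀ i, x i ∈ m.toIdeal := by
    intro i
    rw [hmsp]
    apply Ideal.subset_span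
    simp only [Set.mem_iUnion, Set.mem_Ioi]
    exact ⟨1, one_pos, (hAA _ _).mp (hx1 i)⟩
  have htors : m.toIdeal ^ 1 ≤ Ideal.span (Set.range x) := by
    rw [pow_one, hmsp, Ideal.span_le]
    intro y hy
    simp only [Set.mem_iUnion, Set.mem_Ioi] at hy
    obtain ⟨n, hn, hy⟩ := hy
    obtain ⟨n', rfl⟩ := Int.eq_ofNat_of_zero_le hn.le
    exact hpiece n' (by exact_mod_cast hn) ((hAA _ _).mpr hy)
  have hkey := (key R 𝒜 hpos h0 m hm hmsp r hr I x (fun _ => (1 : ℤ))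
    (fun i => (hAA _ _).mp (hx1 i)) hxm hregx 1 htors 0).mpr (by
      constructor
      · intro n hn y hy
        obtain ⟨n', rfl⟩ := Int.eq_ofNat_of_zero_le hn.le
        exact hpiece n' (by exact_mod_cast hn) ((hAA _ _).mpr hy)
      · intro h
        apply hmne
        rw [Ideal.eq_top_iff_one]
        have h1 : (1 : R) ∈ Ideal.span (Set.range x) := h 1 SetLike.GradedOne.one_mem
        exact (Ideal.span_le.mpr (by rintro _ ⟨i, rfl⟩; exact hxm i)) h1)
  have hsum : (∑ _i : Fin r, (1 : ℤ)) = (r : ℤ) := by simp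
  rw [hsum] at hkey
  generalize GrLC.endDeg (I.Hgr m r) = e at hkey ⊢
  induction e using WithBot.recBotCoe with
  | bot =>
    rw [WithBot.bot_add] at hkey
    exact absurd hkey WithBot.bot_ne_coe
  | coe e =>
    induction e using WithTop.recTopCoe with
    | top =>
      exfalso
      have h1 : ((⊤ : WithTop ℤ) : WithBot (WithTop ℤ)) + (((r : ℤ) : WithTop ℤ) : WithBot (WithTop ℤ))
          = (((⊤ : WithTop ℤ) + ((r : ℤ) : WithTop ℤ) : WithTop ℤ) : WithBot (WithTop ℤ)) := rfl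
      rw [h1, WithTop.top_add] at hkey
      have h2 : (⊤ : WithTop ℤ) = ((0 : ℤ) : WithTop ℤ) := WithBot.coe_injective hkey
      exact WithTop.top_ne_coe h2
    | coe z =>
      have h1 : (((z : ℤ) : WithTop ℤ) : WithBot (WithTop ℤ)) +
          (((r : ℤ) : WithTop ℤ) : WithBot (WithTop ℤ)) =
          (((z + r : ℤ) : WithTop ℤ) : WithBot (WithTop ℤ)) := by
        push_cast
        rfl
      rw [h1] at hkey
      have h2 : z + r = 0 := by exact_mod_cast hkey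
      have h3 : z = -(r : ℤ) := by omega
      rw [h3]

end Main

end Groth.Agent.Lib.Helper87.APolyG
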