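import Mathlib

/-!
# Integrality of localisations of `R[z]/(h)` and generic rank (for S17410)
-/

set_option autoImplicit false

namespace Groth.Agent.Lib.Helper87.AdjoinRootLoc

open Polynomial

variable {R : Type*} [CommRing R] (h : R[X]) (S : Submonoid R)

local notation "RS" => Localization S
local notation "AS" => Localization (Algebra.algebraMapSubmonoid (AdjoinRoot h) S)

/-- The image of the root in the localisation. -/
noncomputable def zeta : AS := algebraMap (AdjoinRoot h) AS (AdjoinRoot.root h)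

lemma aeval_zeta (p : R[X]) :
    aeval (zeta h S) p = algebraMap (AdjoinRoot h) AS (AdjoinRoot.mk h p) := by
  rw [zeta, aeval_algebraMap_apply, AdjoinRoot.aeval_eq]

lemma aeval_zeta_self : aeval (zeta h S) h = 0 := by
  rw [aeval_zeta, AdjoinRoot.mk_self, map_zero]

lemma isIntegral_of_isUnit (hu : IsUnit (algebraMap R RS h.leadingCoeff)) :
    Algebra.IsIntegral RS AS := by
  constructor
  rcases subsingleton_or_nontrivial RS with hsub | hnt
  · -- trivial ring
    intro x
    have h1 : (1 : AS) = 0 := by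
      rw [← map_one (algebraMap RS AS), Subsingleton.elim (1 : RS) 0, map_zero]
    have : x = 0 := by rw [← mul_one x, h1, mul_zero]
    rw [this]
    exact isIntegral_zero
  -- zeta is integral
  have hz : IsIntegral RS (zeta h S) := by
    have h0 : aeval (zeta h S) (h.map (algebraMap R RS)) = 0 := by
      rw [aeval_map_algebraMap, aeval_zeta_self]
    have h1 := isIntegral_leadingCoeff_smul _ _ h0
    rw [leadingCoeff_map_of_leadingCoeff_ne_zero _ hu.ne_zero] at h1
    obtain ⟨u, hu'⟩ := hu
    rw [← hu'] at h1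
    have h2 : zeta h S = algebraMap RS AS (↑u⁻¹ : RS) * ((u : RS) • zeta h S) := by
      rw [Algebra.smul_def, ← mul_assoc, ← map_mul, Units.inv_mul, map_one, one_mul]
    rw [h2]
    exact isIntegral_algebraMap.mul h1
  have hA : ∀ y : AdjoinRoot h, IsIntegral RS (algebraMap (AdjoinRoot h) AS y) := by
    intro y
    obtain ⟨p, rfl⟩ := AdjoinRoot.mk_surjective y
    rw [← aeval_zeta, ← aeval_map_algebraMap RS]
    have h1 : Algebra.adjoin RS {zeta h S} ≤ integralClosure RS AS :=
      Algebra.adjoin_le (Set.singleton_subset_iff.mpr hz)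
    exact h1 (aeval_mem_adjoin_singleton RS (zeta h S))
  intro x
  obtain ⟨y, c, rfl⟩ := IsLocalization.exists_mk'_eq (Algebra.algebraMapSubmonoid (AdjoinRoot h) S) x
  obtain ⟨s₀, hs₀, hc⟩ := c.2
  have hu : IsUnit (algebraMap R RS s₀) := IsLocalization.map_units RS ⟨s₀, hs₀⟩
  obtain ⟨u, hu'⟩ := hu
  have h3 : IsLocalization.mk' AS y c = algebraMap (AdjoinRoot h) AS y * algebraMap RS AS (↑u⁻¹ : RS) := by
    rw [IsLocalization.mk'_eq_iff_eq_mul, mul_assoc, ← hc,
      ← IsScalarTower.algebraMap_apply R (AdjoinRoot h) AS,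
      IsScalarTower.algebraMap_apply R RS AS, ← hu', ← map_mul, Units.inv_mul, map_one, mul_one]
  rw [h3]
  exact (hA y).mul isIntegral_algebraMap

lemma isUnit_of_isIntegral [IsDomain R] (hint : Algebra.IsIntegral RS AS) :
    IsUnit (algebraMap R RS h.leadingCoeff) := by
  by_cases h0 : (0 : R) ∈ S
  · -- trivial localisation
    have : Subsingleton RS := IsLocalization.subsingleton (M := S) h0
    exact isUnit_of_subsingleton _
  have hS : S ≤ nonZeroDivisors R := le_nonZeroDivisors_of_noZeroDivisors h0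
  have hdom : IsDomain RS := IsLocalization.isDomain_of_le_nonZeroDivisors RS hS
  have hinj : Function.Injective (algebraMap R RS) := IsLocalization.injective RS hS
  obtain ⟨g, hgm, hg0⟩ := hint.isIntegral (zeta h S)
  rw [← aeval_def] at hg0
  obtain ⟨b, hb, hG⟩ := IsLocalization.integerNormalization_spec S g
  have hG0 : aeval (zeta h S) (IsLocalization.integerNormalization S g) = 0 :=
    IsLocalization.integerNormalization_aeval_eq_zero S g hg0
  rw [aeval_zeta, IsLocalization.map_eq_zero_iff (Algebra.algebraMapSubmonoid (AdjoinRoot h) S)] at hG0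
  obtain ⟨⟨c, s₀, hs₀, rfl⟩, hc⟩ := hG0
  have h1 : AdjoinRoot.mk h (C s₀ * IsLocalization.integerNormalization S g) = 0 := by
    rw [map_mul, AdjoinRoot.mk_C]
    exact hc
  rw [AdjoinRoot.mk_eq_zero] at h1
  obtain ⟨q, hq⟩ := h1
  have h2 := congrArg (Polynomial.map (algebraMap R RS)) hq
  have hbg : b • g = C (algebraMap R RS b) * g := by
    rw [← smul_eq_C_mul, algebraMap_smul]
  rw [Polynomial.map_mul, Polynomial.map_mul, hG, Polynomial.map_C, hbg] at h2
  have h3 := congrArg leadingCoeff h2
  rw [leadingCoeff_mul, leadingCoeff_mul, leadingCoeff_mul, leadingCoeff_C, leadingCoeff_C,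
    leadingCoeff_map_of_injective hinj, hgm.leadingCoeff, mul_one] at h3
  have h4 : IsUnit (algebraMap R RS s₀ * algebraMap R RS b) :=
    (IsLocalization.map_units RS ⟨s₀, hs₀⟩).mul (IsLocalization.map_units RS ⟨b, hb⟩)
  rw [h3] at h4
  exact isUnit_of_mul_isUnit_left h4

theorem isIntegral_iff [IsDomain R] :
    Algebra.IsIntegral RS AS ↔ IsUnit (algebraMap R RS h.leadingCoeff) :=
  ⟨isUnit_of_isIntegral h S, isIntegral_of_isUnit h S⟩

open TensorProduct in
/-- Generic rank of `R[z]/(h)`. -/
theorem finrank_tensor_adjoinRoot [IsDomain R] (hne : h ≠ 0) :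
    Module.finrank (FractionRing R) (FractionRing R ⊗[R] AdjoinRoot h) = h.natDegree := by
  let F := FractionRing R
  have hinj : Function.Injective (algebraMap R F) := IsFractionRing.injective R F
  let q : (F ⊗[R] R)[X] := h.map (Algebra.TensorProduct.includeRight : R →ₐ[R] F ⊗[R] R).toRingHom
  let e₁ : F ⊗[R] AdjoinRoot h ≃ₐ[F] AdjoinRoot q := AdjoinRoot.tensorAlgEquiv h q rfl
  have hq : q.map (Algebra.TensorProduct.rid R F F : F ⊗[R] R ≃ₐ[F] F) = h.map (algebraMap R F) := by
    rw [Polynomial.map_map]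
    congr 1
    ext x
    simp [Algebra.smul_def]
  let e₂ : AdjoinRoot q ≃ₐ[F] AdjoinRoot (h.map (algebraMap R F)) :=
    AdjoinRoot.mapAlgEquiv (Algebra.TensorProduct.rid R F F) q _ (by rw [hq])
  have hne' : h.map (algebraMap R F) ≠ 0 := (Polynomial.map_ne_zero_iff hinj).mpr hne
  rw [LinearEquiv.finrank_eq (e₁.toLinearEquiv.trans e₂.toLinearEquiv),
    (AdjoinRoot.powerBasis hne').finrank, AdjoinRoot.powerBasis_dim,
    natDegree_map_eq_of_injective hinj]

end Groth.Agent.Lib.Helper87.AdjoinRootLoc
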