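import Groth.Prelude.Def_FibCat2

/-!
# Small API for isomorphisms of based functors (whiskering, slices)
-/

set_option autoImplicit false
set_option backward.isDefEq.respectTransparency false
set_option backward.isDefEq.respectTransparency.types false

universe v u v₂ u₂ v₃ u₃ v₄ u₄

namespace Groth.Agent.Lib.Helper87.BasedIso

open CategoryTheory CategoryTheory.Limits

variable {C : Type u} [Category.{v} C]

section
variable {𝒳 : BasedCategory.{v₂, u₂} C} {𝒴 : BasedCategory.{v₃, u₃} C}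
  {𝒵 : BasedCategory.{v₄, u₄} C}

/-- The natural isomorphism underlying an isomorphism of based functors. -/
def toNatIso {F G : 𝒳 ⥤ᵇ 𝒴} (e : F ≅ G) : F.toFunctor ≅ G.toFunctor :=
  (BasedNatTrans.forgetful _ _).mapIso e

@[simp] lemma toNatIso_hom_app {F G : 𝒳 ⥤ᵇ 𝒴} (e : F ≅ G) (a : 𝒳.obj) :
    (toNatIso e).hom.app a = e.hom.toNatTrans.app a := rfl

/-- Right whiskering of an isomorphism of based functors. -/
def whiskerRightIso {F G : 𝒳 ⥤ᵇ 𝒴} (e : F ≅ G) (H : 𝒴 ⥤ᵇ 𝒵) :
    BasedFunctor.comp F H ≅ BasedFunctor.comp G H :=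
  BasedNatIso.mkNatIso (Functor.isoWhiskerRight (toNatIso e) H.toFunctor)
    (fun a => (BasedCategory.whiskerRight e.hom H).isHomLift' a)

/-- Left whiskering of an isomorphism of based functors. -/
def whiskerLeftIso (F : 𝒳 ⥤ᵇ 𝒴) {G H : 𝒴 ⥤ᵇ 𝒵} (e : G ≅ H) :
    BasedFunctor.comp F G ≅ BasedFunctor.comp F H :=
  BasedNatIso.mkNatIso (Functor.isoWhiskerLeft F.toFunctor (toNatIso e))
    (fun a => (BasedCategory.whiskerLeft F e.hom).isHomLift' a)

end

/-- The functor `C/V ⥤ C/U` over `C` induced by `h : V ⟶ U`. -/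
abbrev overMapB {U V : C} (h : V ⟶ U) : FibCat.overCat V ⥤ᵇ FibCat.overCat U :=
  ⟨Over.map h, Over.mapForget_eq h⟩

/-- `C/W ⥤ C/V ⥤ C/U` is `C/W ⥤ C/U` of the composite, over `C`. -/
def overMapCompIso {U V W : C} (h' : W ⟶ V) (h : V ⟶ U) :
    BasedFunctor.comp (overMapB h') (overMapB h) ≅ overMapB (h' ≫ h) :=
  BasedNatIso.mkNatIso (Over.mapComp h' h).symm (fun a => by
    apply IsHomLift.of_fac' _ _ _ rfl rfl
    simp only [Over.mapComp, Iso.symm_hom, NatIso.ofComponents_inv_app, eqToHom_refl,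
      Category.comp_id, Category.id_comp]
    rfl)

end Groth.Agent.Lib.Helper87.BasedIso
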