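import Mathlib
import Groth.Prelude.Def_W4c2arithlefschetzGraph

/-!
# Dual graphs of iterated point blow-ups: `lNum = rNum`

With `A` the incidence matrix of `par`, `T` the matrix of total transforms, `E = TᵀT` the matrix of
multiplicities and `M` the intersection matrix we show `T (1 - A) = 1`, `M = -(1 - A)(1 - A)ᵀ`,
hence `E M = -1`; the principal submatrices of `M` are invertible (negative definite) and the
Schur complement computes the inverse of a block of `E`.
-/

namespace Groth.Agent.Lib.Helper87.BlowupGraph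
open ArLef ArLef.BlowupGraph

variable {n : ℕ} (G : BlowupGraph n)

lemma ttN_eq (k m : ℕ) : G.ttN k m = if m < k then 0 else if m = k then 1 else
    ∑ p ∈ G.parN m, G.ttN k p := by
  rw [ttN]
  split_ifs
  · rfl
  · rfl
  · exact Finset.sum_attach (G.parN m) (fun p => G.ttN k p)

lemma tt_eq (k m : Fin n) : G.tt k m = if m < k then 0 else if m = k then 1 else
    ∑ p ∈ G.par m, G.tt k p := by
  unfold tt
  rw [ttN_eq]
  have h1 : (m.1 < k.1) ↔ m < k := Iff.rfl
  have h2 : (m.1 = k.1) ↔ m = k := Fin.val_inj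
  simp only [h1, h2]
  congr 2
  unfold parN
  rw [dif_pos m.2, Finset.sum_map]
  rfl

/-- incidence matrix of `par` -/
def Amat : Matrix (Fin n) (Fin n) ℚ := Matrix.of fun p m => if p ∈ G.par m then (1 : ℚ) else 0
/-- matrix of total transforms -/
def Tmat : Matrix (Fin n) (Fin n) ℚ := Matrix.of fun k m => (G.tt k m : ℚ)
/-- matrix of multiplicities -/
def Emat : Matrix (Fin n) (Fin n) ℚ := Matrix.of fun i j => (G.mult i j : ℚ)

lemma Emat_eq : Emat G = (Tmat G).transpose * Tmat G := by
  ext i j
  simp [Emat, Tmat, Matrix.mul_apply, mult]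

lemma sum_T_A (k m : Fin n) : ∑ p, Tmat G k p * Amat G p m = ∑ p ∈ G.par m, (G.tt k p : ℚ) := by
  simp only [Tmat, Amat, Matrix.of_apply, mul_ite, mul_one, mul_zero]
  rw [Finset.sum_ite_mem]
  simp

lemma T_mul : Tmat G * (1 - Amat G) = 1 := by
  ext k m
  rw [Matrix.mul_sub, Matrix.mul_one, Matrix.sub_apply, Matrix.mul_apply, sum_T_A]
  have h := tt_eq G k m
  simp only [Tmat, Matrix.of_apply]
  rw [Matrix.one_apply]
  by_cases hmk : m < k
  · rw [h, if_pos hmk, if_neg (ne_of_gt hmk)]
    have : ∀ p ∈ G.par m, (G.tt k p : ℚ) = 0 := by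
      intro p hp
      have hpm := G.par_lt m p hp
      rw [tt_eq G k p, if_pos (lt_trans hpm hmk)]
      simp
    rw [Finset.sum_eq_zero this]; simp
  · by_cases hmk' : m = k
    · subst hmk'
      rw [h, if_neg hmk, if_pos rfl, if_pos rfl]
      have : ∀ p ∈ G.par m, (G.tt m p : ℚ) = 0 := by
        intro p hp
        have hpm := G.par_lt m p hp
        rw [tt_eq G m p, if_pos hpm]
        simp
      rw [Finset.sum_eq_zero this]; simp
    · rw [h, if_neg hmk, if_neg hmk', if_neg (Ne.symm hmk')]
      push_cast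
      simp

lemma A_apply (p m : Fin n) : Amat G p m = if p ∈ G.par m then (1 : ℚ) else 0 := rfl

lemma A_of_le (p m : Fin n) (h : m ≤ p) : Amat G p m = 0 := by
  rw [A_apply, if_neg]
  intro hp
  exact absurd (G.par_lt m p hp) (not_lt.2 h)

lemma adj_comm (p q : Fin n) : G.Adj p q ↔ G.Adj q p := by
  unfold Adj
  exact Or.comm

/-- the later centres lying on both `E_p` and `E_q` -/
def Cset (p q : Fin n) : Finset (Fin n) := Finset.univ.filter fun m => p ∈ G.par m ∧ q ∈ G.par m

lemma sum_AA (p q : Fin n) : ∑ m, Amat G p m * Amat G q m = ((Cset G p q).card : ℚ) := by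
  unfold Cset
  rw [Finset.card_filter]
  push_cast
  apply Finset.sum_congr rfl
  intro m _
  rw [A_apply, A_apply]
  by_cases h1 : p ∈ G.par m <;> by_cases h2 : q ∈ G.par m <;> simp [h1, h2]

lemma par_eq_of_mem_Cset {p q m : Fin n} (hpq : p < q) (hm : m ∈ Cset G p q) :
    G.par m = {p, q} := by
  unfold Cset at hm
  rw [Finset.mem_filter] at hm
  obtain ⟨_, hp, hq⟩ := hm
  symm
  apply Finset.eq_of_subset_of_card_le
  · intro x hx
    rw [Finset.mem_insert, Finset.mem_singleton] at hx
    rcases hx with rfl | rfl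
    · exact hp
    · exact hq
  · rw [Finset.card_pair hpq.ne]
    exact G.card_le_two m

lemma Cset_card_le_one {p q : Fin n} (hpq : p < q) : (Cset G p q).card ≤ 1 := by
  rw [Finset.card_le_one]
  intro a ha b hb
  by_contra hab
  have key : ∀ a b : Fin n, a ∈ Cset G p q → b ∈ Cset G p q → a < b → False := by
    intro a b ha hb hlt
    have hpa := par_eq_of_mem_Cset G hpq ha
    have hb' := hb
    unfold Cset at hb'
    rw [Finset.mem_filter] at hb'
    obtain ⟨_, hp, hq⟩ := hb'
    have hqa : q < a := by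
      apply G.par_lt a q
      rw [hpa]; simp
    exact (G.meet_of_two b p q hp hq hpq).2 a hqa hlt hpa
  rcases lt_or_gt_of_ne hab with h | h
  · exact key a b ha hb h
  · exact key b a hb ha h

lemma adj_iff {p q : Fin n} (hpq : p < q) : G.Adj p q ↔ p ∈ G.par q ∧ Cset G p q = ∅ := by
  constructor
  · rintro (⟨h1, h2⟩ | ⟨h1, _⟩)
    · refine ⟨h1, ?_⟩
      rw [Finset.eq_empty_iff_forall_notMem]
      intro m hm
      have hpm := par_eq_of_mem_Cset G hpq hm
      have hqm : q < m := by
        apply G.par_lt m q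
        rw [hpm]; simp
      exact h2 m hqm hpm
    · exact absurd (G.par_lt p q h1) (not_lt.2 hpq.le)
  · rintro ⟨h1, h2⟩
    left
    refine ⟨h1, ?_⟩
    intro m _ hm
    have : m ∈ Cset G p q := by
      unfold Cset
      rw [Finset.mem_filter]
      refine ⟨Finset.mem_univ _, ?_, ?_⟩ <;> rw [hm] <;> simp
    rw [h2] at this
    simp at this

lemma key_lt {p q : Fin n} (hpq : p < q) :
    (if G.Adj p q then (1 : ℚ) else 0) = Amat G p q - ∑ m, Amat G p m * Amat G q m := by
  rw [sum_AA, A_apply]
  by_cases hp : p ∈ G.par q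
  · rw [if_pos hp]
    by_cases hC : Cset G p q = ∅
    · rw [if_pos ((adj_iff G hpq).2 ⟨hp, hC⟩), hC]
      simp
    · rw [if_neg (fun h => hC ((adj_iff G hpq).1 h).2)]
      have h1 : 0 < (Cset G p q).card := Finset.card_pos.2 (Finset.nonempty_iff_ne_empty.2 hC)
      have h2 := Cset_card_le_one G hpq
      have : (Cset G p q).card = 1 := by omega
      rw [this]; simp
  · rw [if_neg hp, if_neg (fun h => hp ((adj_iff G hpq).1 h).1)]
    have hC : Cset G p q = ∅ := by
      rw [Finset.eq_empty_iff_forall_notMem]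
      intro m hm
      unfold Cset at hm
      rw [Finset.mem_filter] at hm
      exact hp (G.meet_of_two m p q hm.2.1 hm.2.2 hpq).1
    rw [hC]; simp

lemma mat_apply_eq (p q : Fin n) :
    G.mat p q = -(if p = q then (1 : ℚ) else 0) + Amat G p q + Amat G q p
      - ∑ m, Amat G p m * Amat G q m := by
  unfold mat
  by_cases hpq : p = q
  · subst hpq
    rw [if_pos rfl, if_pos rfl, A_of_le G p p le_rfl, sum_AA]
    unfold selfInt Cset
    push_cast
    have : (Finset.univ.filter fun m => p ∈ G.par m ∧ p ∈ G.par m) =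
        Finset.univ.filter fun m => p ∈ G.par m := by
      ext m; simp
    rw [this]
    ring
  · rw [if_neg hpq, if_neg hpq]
    rcases lt_or_gt_of_ne hpq with h | h
    · rw [key_lt G h, A_of_le G q p h.le]
      ring
    · have : (if G.Adj p q then (1 : ℚ) else 0) = if G.Adj q p then (1 : ℚ) else 0 := by
        simp only [adj_comm G p q]
      rw [this, key_lt G h, A_of_le G p q h.le]
      have : ∑ m, Amat G q m * Amat G p m = ∑ m, Amat G p m * Amat G q m :=
        Finset.sum_congr rfl (fun m _ => mul_comm _ _)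
      rw [this]
      ring

lemma mat_eq : G.mat = -((1 - Amat G) * (1 - Amat G).transpose) := by
  ext p q
  rw [mat_apply_eq, Matrix.neg_apply, Matrix.mul_apply]
  simp only [Matrix.sub_apply, Matrix.transpose_apply, Matrix.one_apply]
  have : ∀ m, ((if p = m then (1 : ℚ) else 0) - Amat G p m) * ((if q = m then (1 : ℚ) else 0) - Amat G q m)
      = (if p = m then (if q = m then (1 : ℚ) else 0) else 0) - (if q = m then Amat G p m else 0)
        - (if p = m then Amat G q m else 0) + Amat G p m * Amat G q m := by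
    intro m
    by_cases h1 : p = m <;> by_cases h2 : q = m <;> simp [h1, h2] <;> ring
  simp only [this]
  rw [Finset.sum_add_distrib, Finset.sum_sub_distrib, Finset.sum_sub_distrib]
  simp only [Finset.sum_ite_eq, Finset.mem_univ, if_true]
  by_cases hpq : p = q
  · subst hpq; simp; ring
  · have : ¬ q = p := fun h => hpq h.symm
    simp [hpq, this]; ring

lemma one_sub_A_mul_T : (1 - Amat G) * Tmat G = 1 := mul_eq_one_comm.1 (T_mul G)

lemma E_mul_mat : Emat G * G.mat = -1 := by
  rw [Emat_eq, mat_eq, Matrix.mul_neg, Matrix.mul_assoc, ← Matrix.mul_assoc (Tmat G), T_mul,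
    Matrix.one_mul, ← Matrix.transpose_mul, one_sub_A_mul_T, Matrix.transpose_one]

lemma mat_mul_E : G.mat * Emat G = -1 := by
  have h : (-Emat G) * G.mat = 1 := by rw [Matrix.neg_mul, E_mul_mat, neg_neg]
  have h2 := mul_eq_one_comm.1 h
  rw [Matrix.mul_neg] at h2
  rw [← h2, neg_neg]

lemma Emat_symm (i j : Fin n) : Emat G i j = Emat G j i := by
  simp only [Emat, Matrix.of_apply, mult]
  congr 1
  exact Finset.sum_congr rfl (fun k _ => mul_comm _ _)

section Sub
variable (I : Finset (Fin n))

/-- principal submatrix -/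
noncomputable abbrev MII : Matrix I I ℚ := G.mat.submatrix (fun x : I => x.1) (fun x : I => x.1)

lemma isUnit_MII : IsUnit (MII G I) := by
  rw [← Matrix.mulVec_injective_iff_isUnit]
  have hker : ∀ y : I → ℚ, (MII G I).mulVec y = 0 → y = 0 := by
    intro y hy
    set B : Matrix (Fin n) (Fin n) ℚ := 1 - Amat G with hB
    set BI : Matrix I (Fin n) ℚ := B.submatrix (fun x : I => x.1) id with hBI
    have h1 : MII G I = -(BI * BI.transpose) := by
      unfold MII
      rw [mat_eq, Matrix.submatrix_neg]
      congr 1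
    have h2 : dotProduct (Matrix.vecMul y BI) (Matrix.vecMul y BI) = 0 := by
      have : dotProduct y ((MII G I).mulVec y) = 0 := by rw [hy]; simp
      rw [h1, Matrix.neg_mulVec, dotProduct_neg, neg_eq_zero, ← Matrix.mulVec_mulVec,
        Matrix.dotProduct_mulVec, Matrix.mulVec_transpose] at this
      exact this
    rw [dotProduct_self_eq_zero] at h2
    have h3 : Matrix.vecMul y (BI * Tmat G) = 0 := by
      rw [← Matrix.vecMul_vecMul, h2, Matrix.zero_vecMul]
    have h4 : BI * Tmat G = (1 : Matrix (Fin n) (Fin n) ℚ).submatrix (fun x : I => x.1) id := by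
      rw [← one_sub_A_mul_T G, Matrix.submatrix_mul _ _ (fun x : I => x.1) id id
        Function.bijective_id]
      rfl
    rw [h4] at h3
    funext i
    have := congrFun h3 i.1
    simp only [Matrix.vecMul, dotProduct, Matrix.submatrix_apply, id_eq, Matrix.one_apply,
      Pi.zero_apply] at this
    rw [Finset.sum_eq_single i] at this
    · simpa using this
    · intro b _ hb
      rw [if_neg (fun h => hb (Subtype.ext h)), mul_zero]
    · intro h; exact absurd (Finset.mem_univ i) h
  intro y z hyz
  have : (MII G I).mulVec (y - z) = 0 := by rw [Matrix.mulVec_sub, hyz, sub_self]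
  exact sub_eq_zero.1 (hker _ this)

/-- the Schur-complement matrix whose entries are the `pairing`s -/
noncomputable def Pmat : Matrix (Fin n) (Fin n) ℚ :=
  G.mat - G.mat.submatrix id (fun x : I => x.1) * (MII G I)⁻¹ * G.mat.submatrix (fun x : I => x.1) id

lemma pairing_eq (i j : Fin n) : G.pairing I i j = Pmat G I i j := by
  unfold pairing Pmat
  rw [Matrix.sub_apply, Matrix.mul_apply]
  congr 1
  simp only [Matrix.mul_apply, Matrix.submatrix_apply, id_eq, Finset.sum_mul]
  exact Finset.sum_comm

lemma Pmat_apply_mem (i' : Fin n) (a : I) : Pmat G I i' a.1 = 0 := by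
  unfold Pmat
  rw [Matrix.sub_apply]
  have h : (G.mat.submatrix id (fun x : I => x.1) * (MII G I)⁻¹ *
      G.mat.submatrix (fun x : I => x.1) id) i' a.1
      = (G.mat.submatrix id (fun x : I => x.1) * (MII G I)⁻¹ * MII G I) i' a := by
    rw [Matrix.mul_apply, Matrix.mul_apply]; rfl
  rw [h, Matrix.mul_assoc,
    Matrix.nonsing_inv_mul _ ((Matrix.isUnit_iff_isUnit_det _).1 (isUnit_MII G I)), Matrix.mul_one]
  simp

lemma Pmat_mul_E (i' i : Fin n) (hi : i ∉ I) :
    (Pmat G I * Emat G) i' i = if i' = i then -1 else 0 := by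
  unfold Pmat
  rw [Matrix.sub_mul, mat_mul_E, Matrix.mul_assoc]
  have h1 : G.mat.submatrix (fun x : I => x.1) id * Emat G =
      (-1 : Matrix (Fin n) (Fin n) ℚ).submatrix (fun x : I => x.1) id := by
    rw [← mat_mul_E G, Matrix.submatrix_mul _ _ (fun x : I => x.1) id id Function.bijective_id]
    rfl
  rw [h1, Matrix.sub_apply, Matrix.mul_apply]
  have h2 : ∀ a : I, ((-1 : Matrix (Fin n) (Fin n) ℚ).submatrix (fun x : I => x.1) id) a i = 0 := by
    intro a
    rw [Matrix.submatrix_apply, Matrix.neg_apply, Matrix.one_apply, if_neg, neg_zero]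
    intro h
    apply hi
    rw [id_eq] at h
    rw [← h]; exact a.2
  rw [Finset.sum_eq_zero (fun a _ => by rw [h2 a, mul_zero]), sub_zero, Matrix.neg_apply,
    Matrix.one_apply]
  split_ifs <;> simp

lemma sum_pairing_E (i' i : Fin n) (hi : i ∉ I) :
    ∑ j ∈ Finset.univ.filter (fun j => j ∉ I), G.pairing I i' j * Emat G j i =
      if i' = i then -1 else 0 := by
  rw [← Pmat_mul_E G I i' i hi, Matrix.mul_apply]
  simp only [pairing_eq]
  rw [← Finset.sum_filter_add_sum_filter_not Finset.univ (fun j => j ∉ I)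
    (fun j => Pmat G I i' j * Emat G j i)]
  have : ∑ j ∈ Finset.univ.filter (fun j => ¬ j ∉ I), Pmat G I i' j * Emat G j i = 0 := by
    apply Finset.sum_eq_zero
    intro j hj
    rw [Finset.mem_filter, not_not] at hj
    have := Pmat_apply_mem G I i' ⟨j, hj.2⟩
    simp only at this
    rw [this, zero_mul]
  rw [this, add_zero]

end Sub

theorem lNum_eq_rNum (I : Finset (Fin n)) (σ : Equiv.Perm (Fin n)) :
    G.lNum I σ = ArLef.BlowupGraph.rNum I σ := by
  unfold lNum rNum
  have h : ∀ i ∈ Finset.univ.filter (fun i => i ∉ I),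
      ∑ j ∈ Finset.univ.filter (fun j => j ∉ I), (G.mult i j : ℚ) * G.pairing I (σ i) j =
        if σ i = i then -1 else 0 := by
    intro i hi
    rw [Finset.mem_filter] at hi
    rw [← sum_pairing_E G I (σ i) i hi.2]
    apply Finset.sum_congr rfl
    intro j _
    rw [mul_comm, Emat_symm G j i]
    rfl
  rw [Finset.sum_congr rfl h, Finset.sum_ite, Finset.sum_const_zero, add_zero, Finset.sum_const,
    Finset.filter_filter]
  simp

end Groth.Agent.Lib.Helper87.BlowupGraph
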