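import Groth.Agent.Lib.Helper87.GrCM
import Groth.Agent.Lib.Helper87.GrQuot
import Groth.Agent.Lib.Helper77.GLC0

/-!
# A cone over a field is Cohen–Macaulay iff it is so at its vertex
-/

set_option autoImplicit false
set_option linter.style.haveILetI false
universe u
open MvPolynomial

namespace Groth.Agent.Lib.Helper87.ConeCM

open Groth.Agent.Lib.Helper87.GrQuot Groth.Agent.Lib.Helper87.GrCM

variable (K : Type u) [Field K] (N : ℕ)

theorem wt_eq (d : Fin N →₀ ℕ) :
    Finsupp.weight (fun _ : Fin N => (1 : ℤ)) d =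
      ((Finsupp.weight (1 : Fin N → ℕ) d : ℕ) : ℤ) := by
  simp [Finsupp.weight_apply, Finsupp.sum]

theorem wt_eq_zero (d : Fin N →₀ ℕ) (h : Finsupp.weight (fun _ : Fin N => (1 : ℤ)) d = 0) :
    d = 0 := by
  rw [wt_eq] at h
  have h' : Finsupp.weight (1 : Fin N → ℕ) d = 0 := by exact_mod_cast h
  ext i
  simp [Finsupp.weight_apply, Finsupp.sum] at h'
  by_contra hne
  exact hne (by simpa using h' i)

/-- the `ℤ`-grading of the polynomial ring by degree -/
noncomputable def 𝒲 : ℤ → AddSubgroup (MvPolynomial (Fin N) K) :=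
  Groth.Agent.Lib.Helper77.GLC.flat (weightedHomogeneousSubmodule K (fun _ : Fin N => (1 : ℤ)))

noncomputable instance : GradedRing (𝒲 K N) := by
  letI := MvPolynomial.weightedGradedAlgebra K (fun _ : Fin N => (1 : ℤ))
  exact Groth.Agent.Lib.Helper77.GLC.flatGradedRing (weightedHomogeneousSubmodule K (fun _ : Fin N => (1 : ℤ)))

variable {K N}

theorem mem_𝒲 (f : MvPolynomial (Fin N) K) (n : ℤ) :
    f ∈ 𝒲 K N n ↔ IsWeightedHomogeneous (fun _ : Fin N => (1 : ℤ)) f n := Iff.rfl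

theorem mem_𝒲_of_isHomogeneous {f : MvPolynomial (Fin N) K} {k : ℕ} (hf : f.IsHomogeneous k) :
    f ∈ 𝒲 K N (k : ℤ) := by
  rw [mem_𝒲]
  intro d hd
  rw [wt_eq, hf hd]

theorem constantCoeff_eq_zero_of_mem {f : MvPolynomial (Fin N) K} {n : ℤ} (hf : f ∈ 𝒲 K N n)
    (hn : n ≠ 0) : constantCoeff f = 0 := by
  by_contra h
  rw [mem_𝒲] at hf
  have := hf (d := 0) h
  rw [map_zero] at this
  exact hn this.symm

theorem eq_C_of_mem_zero {f : MvPolynomial (Fin N) K} (hf : f ∈ 𝒲 K N 0) :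
    f = C (constantCoeff f) := by
  rw [mem_𝒲] at hf
  ext d
  rw [coeff_C]
  split_ifs with h
  · subst h
    rfl
  · by_contra hne
    exact h (wt_eq_zero N d (hf hne)).symm

variable (I : Ideal (MvPolynomial (Fin N) K))

theorem isHomogeneous_of_span
    (hI : ∃ T : Set (MvPolynomial (Fin N) K), (∀ f ∈ T, ∃ k : ℕ, f.IsHomogeneous k) ∧
      I = Ideal.span T) : I.IsHomogeneous (𝒲 K N) := by
  obtain ⟨T, hT, rfl⟩ := hI
  apply Ideal.homogeneous_span
  intro f hf
  obtain ⟨k, hk⟩ := hT f hf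
  exact ⟨(k : ℤ), mem_𝒲_of_isHomogeneous hk⟩

theorem le_vertex (hI : I.IsHomogeneous (𝒲 K N)) (P : Ideal (MvPolynomial (Fin N) K ⧸ I))
    (hP : P.IsPrime)
    (hPh : letI := quotGradedRing (𝒲 K N) I hI; P.IsHomogeneous (qpiece (𝒲 K N) I)) :
    P ≤ (RingHom.ker (constantCoeff : MvPolynomial (Fin N) K →+* K)).map
      (Ideal.Quotient.mk I) := by
  letI := quotGradedRing (𝒲 K N) I hI
  intro x hx
  classical
  rw [← DirectSum.sum_support_decompose (qpiece (𝒲 K N) I) x]
  refine Ideal.sum_mem _ fun n _ => ?_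
  have hxn : (DirectSum.decompose (qpiece (𝒲 K N) I) x n : MvPolynomial (Fin N) K ⧸ I) ∈ P :=
    hPh n hx
  obtain ⟨f, rfl⟩ := Ideal.Quotient.mk_surjective x
  rw [decompose_mk (𝒲 K N) I hI f n] at hxn ⊢
  have hgmem : (DirectSum.decompose (𝒲 K N) f n : MvPolynomial (Fin N) K) ∈ 𝒲 K N n :=
    SetLike.coe_mem _
  by_cases hn : n = 0
  · subst hn
    obtain ⟨c, hc⟩ : ∃ c : K, (DirectSum.decompose (𝒲 K N) f 0 : MvPolynomial (Fin N) K) = C c :=
      ⟨_, eq_C_of_mem_zero hgmem⟩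
    rw [hc] at hxn ⊢
    by_cases hc0 : c = 0
    · rw [hc0, map_zero, map_zero]
      exact zero_mem _
    · exfalso
      apply hP.ne_top
      rw [Ideal.eq_top_iff_one]
      have h1 : (Ideal.Quotient.mk I (C c)) * Ideal.Quotient.mk I (C c⁻¹) = 1 := by
        rw [← map_mul, ← C_mul, mul_inv_cancel₀ hc0, C_1, map_one]
      rw [← h1]
      exact P.mul_mem_right _ hxn
  · apply Ideal.mem_map_of_mem
    rw [RingHom.mem_ker]
    exact constantCoeff_eq_zero_of_mem hgmem hn

theorem main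
    (hI : ∃ T : Set (MvPolynomial (Fin N) K), (∀ f ∈ T, ∃ k : ℕ, f.IsHomogeneous k) ∧
      I = Ideal.span T)
    [hm : ((RingHom.ker (MvPolynomial.constantCoeff : MvPolynomial (Fin N) K →+* K)).map
      (Ideal.Quotient.mk I)).IsPrime] :
    LocCoh.IsCohenMacaulayRing (MvPolynomial (Fin N) K ⧸ I) ↔
      LocCoh.IsCohenMacaulayLocalRing (Localization.AtPrime
        ((RingHom.ker (MvPolynomial.constantCoeff : MvPolynomial (Fin N) K →+* K)).map
          (Ideal.Quotient.mk I))) := by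
  constructor
  · intro h
    exact h.isCohenMacaulayLocalRing_localization _
  · intro h
    have hIh := isHomogeneous_of_span I hI
    letI := quotGradedRing (𝒲 K N) I hIh
    apply isCM_of_forall_homogeneous (qpiece (𝒲 K N) I)
    intro P hP hPh
    exact depth_eq_height_of_le _ P (le_vertex I hIh P hP hPh) h

end Groth.Agent.Lib.Helper87.ConeCM
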