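import Mathlib

open Polynomial

namespace Groth.Agent.Lib.Helper87.DivAlgInsep

section Setup

variable {K : Type*} [Field K] {A : Type*} [DivisionRing A] [Algebra K A]
  {L : Type*} [Field L] [Algebra K L] [Module L A] (ι : L →ₐ[K] A)
  (hsmul : ∀ (l : L) (x : A), l • x = ι l * x)

include hsmul in
theorem isScalarTower_of_smul : IsScalarTower K L A :=
  ⟨fun k l x => by rw [hsmul, hsmul, map_smul, smul_mul_assoc]⟩

/-- Right multiplication by `ι α`, as an `L`-linear endomorphism of `A`. -/
def rmul (α : L) : A →ₗ[L] A where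
  toFun x := x * ι α
  map_add' x y := add_mul x y _
  map_smul' l x := by simp only [hsmul, RingHom.id_apply, mul_assoc]

@[simp] theorem rmul_apply (α : L) (x : A) : rmul ι hsmul α x = x * ι α := rfl

theorem rmul_pow_apply (α : L) (n : ℕ) (x : A) : (rmul ι hsmul α ^ n) x = x * ι α ^ n := by
  induction n generalizing x with
  | zero => simp
  | succ n ih => rw [pow_succ, Module.End.mul_apply, ih, rmul_apply, pow_succ', mul_assoc]

theorem aeval_rmul_apply (α : L) (q : K[X]) (x : A) :
    aeval (rmul ι hsmul α) (q.map (algebraMap K L)) x = x * ι (aeval α q) := by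
  induction q using Polynomial.induction_on' with
  | add f g hf hg => simp only [Polynomial.map_add, map_add, LinearMap.add_apply, hf, hg, mul_add]
  | monomial n a =>
    rw [map_monomial, aeval_monomial, aeval_monomial, Module.End.mul_apply, rmul_pow_apply,
      Module.algebraMap_end_apply, hsmul, map_mul, map_pow, ← mul_assoc, ← mul_assoc]
    congr 1
    rw [AlgHom.commutes, Algebra.commutes]

theorem semiconj_aeval {y : A} {a b : A} (h : y * a = b * y) (q : K[X]) :
    y * aeval a q = aeval b q * y := by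
  induction q using Polynomial.induction_on' with
  | add f g hf hg => simp only [map_add, mul_add, add_mul, hf, hg]
  | monomial n c =>
    have hn : y * a ^ n = b ^ n * y := (SemiconjBy.pow_right (show SemiconjBy y a b from h) n)
    rw [aeval_monomial, aeval_monomial, ← mul_assoc, ← Algebra.commutes c y, mul_assoc, hn,
      mul_assoc]

end Setup

section Main

variable {K : Type*} [Field K] {A : Type*} [DivisionRing A] [Algebra K A]
  {L : Type*} [Field L] [Algebra K L]

theorem exists_conj [Algebra.IsCentral K A] [FiniteDimensional K A] [IsGalois K L]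
    [FiniteDimensional K L] (hL : Module.finrank K L ≠ 1) (ι : L →ₐ[K] A) :
    ∃ (y : A) (θ : L ≃ₐ[K] L), y ≠ 0 ∧ θ ≠ 1 ∧ ∀ l, y * ι l = ι (θ l) * y := by
  classical
  let pb := Field.powerBasisOfFiniteOfSeparable K L
  letI : Module L A := Module.compHom A ι.toRingHom
  have hsmul : ∀ (l : L) (x : A), l • x = ι l * x := fun l x => rfl
  haveI : IsScalarTower K L A := isScalarTower_of_smul ι hsmul
  haveI : FiniteDimensional L A := FiniteDimensional.right K L A
  set R := rmul ι hsmul pb.gen with hR
  set m := minpoly K pb.gen with hm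
  have hint : IsIntegral L R := Algebra.IsIntegral.isIntegral R
  have hRm : aeval R (m.map (algebraMap K L)) = 0 := by
    ext x
    rw [hR, aeval_rmul_apply, hm, minpoly.aeval, map_zero, mul_zero, LinearMap.zero_apply]
  have hdvd : minpoly L R ∣ m.map (algebraMap K L) := minpoly.dvd L R hRm
  have hm0 : m.map (algebraMap K L) ≠ 0 :=
    (Polynomial.map_ne_zero_iff (algebraMap K L).injective).mpr (minpoly.ne_zero (Algebra.IsIntegral.isIntegral _))
  have hsplit : (minpoly L R).Splits :=
    Splits.of_dvd ((IsGalois.to_normal (F := K) (E := L)).splits pb.gen) hm0 hdvd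
  have hsep : (minpoly L R).Separable :=
    (Polynomial.Separable.map (Algebra.IsSeparable.isSeparable K pb.gen)).of_dvd hdvd
  -- a root of the minimal polynomial of `R` different from `pb.gen`
  have hroot : ∃ r : L, (minpoly L R).IsRoot r ∧ r ≠ pb.gen := by
    by_contra hcon
    push Not at hcon
    have hall : ∀ b ∈ (minpoly L R).roots, b = pb.gen := fun b hb =>
      hcon b (isRoot_of_mem_roots hb)
    have hrep := Multiset.eq_replicate_card.mpr hall
    have hnd : (minpoly L R).roots.Nodup := nodup_roots hsep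
    have hcard : (minpoly L R).roots.card ≤ 1 := by
      have h1 := Multiset.nodup_iff_count_le_one.mp hnd pb.gen
      rw [hrep, Multiset.count_replicate_self] at h1
      exact h1
    have hdeg : (minpoly L R).natDegree = (minpoly L R).roots.card :=
      hsplit.natDegree_eq_card_roots
    have hpos : 0 < (minpoly L R).natDegree := minpoly.natDegree_pos hint
    have hcard1 : (minpoly L R).roots.card = 1 := by omega
    have hμ : minpoly L R = X - C pb.gen := by
      conv_lhs => rw [hsplit.eq_prod_roots_of_monic (minpoly.monic hint), hrep, hcard1]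
      simp
    -- so `R` is scalar, hence `ι pb.gen` is central
    have hRscal : ∀ x : A, x * ι pb.gen = ι pb.gen * x := by
      intro x
      have h1 := congrArg (fun f : Module.End L A => f x) (minpoly.aeval L R)
      rw [hμ] at h1
      simp only [map_sub, aeval_X, aeval_C, LinearMap.sub_apply, Module.algebraMap_end_apply,
        LinearMap.zero_apply] at h1
      rw [hR, rmul_apply, hsmul, sub_eq_zero] at h1
      exact h1
    have hcen : ι pb.gen ∈ Subalgebra.center K A := by
      rw [Subalgebra.mem_center_iff]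
      intro x
      exact hRscal x
    have hbot : ι pb.gen ∈ (⊥ : Subalgebra K A) := Algebra.IsCentral.out hcen
    obtain ⟨c, hc⟩ := Algebra.mem_bot.mp hbot
    have hgen : pb.gen = algebraMap K L c := by
      apply ι.toRingHom.injective
      change ι pb.gen = ι (algebraMap K L c)
      rw [AlgHom.commutes, hc]
    apply hL
    rw [pb.finrank, ← pb.natDegree_minpoly, hgen, minpoly.eq_X_sub_C, natDegree_X_sub_C]
  obtain ⟨r, hr, hrne⟩ := hroot
  obtain ⟨y, hy⟩ := (Module.End.hasEigenvalue_of_isRoot hr).exists_hasEigenvector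
  have hy0 : y ≠ 0 := hy.2
  have hyr : y * ι pb.gen = ι r * y := by
    have := hy.apply_eq_smul
    rwa [hR, rmul_apply, hsmul] at this
  have hrm : aeval r (minpoly K pb.gen) = 0 := by
    have h1 : (m.map (algebraMap K L)).IsRoot r := hr.dvd hdvd
    rwa [IsRoot.def, eval_map, ← aeval_def] at h1
  let θ₀ : L →ₐ[K] L := pb.lift r hrm
  have hθ₀ : θ₀ pb.gen = r := pb.lift_gen r hrm
  let θ : L ≃ₐ[K] L := AlgEquiv.ofBijective θ₀ (Algebra.IsAlgebraic.algHom_bijective θ₀)
  have hθ : ∀ l, θ l = θ₀ l := fun l => rfl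
  refine ⟨y, θ, hy0, ?_, ?_⟩
  · intro h1
    apply hrne
    rw [← hθ₀, ← hθ, h1, AlgEquiv.one_apply]
  · intro l
    obtain ⟨q, rfl⟩ := pb.exists_eq_aeval' l
    rw [hθ, ← aeval_algHom_apply, ← aeval_algHom_apply, ← aeval_algHom_apply, hθ₀]
    exact semiconj_aeval hyr q

theorem pow_conj (ι : L →ₐ[K] A) (y : A) (θ : L ≃ₐ[K] L)
    (h : ∀ l, y * ι l = ι (θ l) * y) (j : ℕ) (l : L) :
    y ^ j * ι l = ι ((θ ^ j) l) * y ^ j := by
  induction j generalizing l with
  | zero => simp
  | succ j ih =>
    rw [pow_succ, mul_assoc, h, ← mul_assoc, ih, mul_assoc, pow_succ, AlgEquiv.mul_apply]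

/-- Under the hypotheses of `pow_mem_range`, every element of `A` is an `ι L`-combination of the
powers `y ^ j`, `j < p`. -/
theorem exists_repr (p : ℕ) [hp : Fact p.Prime] [FiniteDimensional K A] [IsGalois K L]
    (hL : Module.finrank K L = p) (hA : Module.finrank K A = p ^ 2) (ι : L →ₐ[K] A)
    (y : A) (θ : L ≃ₐ[K] L) (hy : y ≠ 0) (hθ : θ ≠ 1)
    (h : ∀ l, y * ι l = ι (θ l) * y) (x : A) :
    ∃ c : Fin p → L, x = ∑ j : Fin p, ι (c j) * y ^ (j : ℕ) := by
  classical
  have hp0 : 0 < p := hp.out.pos
  haveI : FiniteDimensional K L := Module.finite_of_finrank_pos (hL ▸ hp0)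
  let pb := Field.powerBasisOfFiniteOfSeparable K L
  letI : Module L A := Module.compHom A ι.toRingHom
  have hsmul : ∀ (l : L) (x : A), l • x = ι l * x := fun l x => rfl
  haveI : IsScalarTower K L A := isScalarTower_of_smul ι hsmul
  haveI : FiniteDimensional L A := FiniteDimensional.right K L A
  have hfr : Module.finrank L A = p := by
    have h1 := Module.finrank_mul_finrank K L A
    rw [hL, hA, pow_two] at h1
    exact Nat.eq_of_mul_eq_mul_left hp0 h1
  -- order of θ
  have hord : orderOf θ = p := by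
    have h1 : orderOf θ ∣ p := by
      have := orderOf_dvd_natCard θ
      rwa [IsGalois.card_aut_eq_finrank, hL] at this
    rcases (Nat.dvd_prime hp.out).mp h1 with h2 | h2
    · exact absurd (orderOf_eq_one_iff.mp h2) hθ
    · exact h2
  set R := rmul ι hsmul pb.gen with hR
  -- eigenvectors
  have hinj : Function.Injective (fun j : Fin p => (θ ^ (j : ℕ)) pb.gen) := by
    intro i j hij
    have h1 : ((θ ^ (i : ℕ) : L ≃ₐ[K] L) : L →ₐ[K] L) = ((θ ^ (j : ℕ) : L ≃ₐ[K] L) : L →ₐ[K] L) :=
      pb.algHom_ext hij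
    have h2 : θ ^ (i : ℕ) = θ ^ (j : ℕ) := by
      ext l
      exact congrArg (fun f : L →ₐ[K] L => f l) h1
    have h3 := pow_injOn_Iio_orderOf (x := θ) (by simp [hord]) (by simp [hord]) h2
    exact Fin.ext h3
  have heig : ∀ j : Fin p,
      Module.End.HasEigenvector R ((θ ^ (j : ℕ)) pb.gen) (y ^ (j : ℕ)) := by
    intro j
    refine ⟨Module.End.mem_eigenspace_iff.mpr ?_, pow_ne_zero _ hy⟩
    rw [hR, rmul_apply, hsmul]
    exact pow_conj ι y θ h j pb.gen
  have hli : LinearIndependent L (fun j : Fin p => y ^ (j : ℕ)) :=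
    Module.End.eigenvectors_linearIndependent' R _ hinj _ heig
  have hspan : Submodule.span L (Set.range (fun j : Fin p => y ^ (j : ℕ))) = ⊤ :=
    hli.span_eq_top_of_card_eq_finrank' (by rw [Fintype.card_fin, hfr])
  have hx : x ∈ Submodule.span L (Set.range (fun j : Fin p => y ^ (j : ℕ))) := by
    rw [hspan]; trivial
  obtain ⟨c, hc⟩ := (Submodule.mem_span_range_iff_exists_fun L).mp hx
  exact ⟨c, hc.symm⟩

/-- Under the hypotheses of `pow_mem_range`, `ι L` and `y` generate `A`. -/
theorem adjoin_eq_top (p : ℕ) [hp : Fact p.Prime] [FiniteDimensional K A] [IsGalois K L]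
    (hL : Module.finrank K L = p) (hA : Module.finrank K A = p ^ 2) (ι : L →ₐ[K] A)
    (y : A) (θ : L ≃ₐ[K] L) (hy : y ≠ 0) (hθ : θ ≠ 1)
    (h : ∀ l, y * ι l = ι (θ l) * y) (B : Subalgebra K A) (hB : ∀ l, ι l ∈ B) (hyB : y ∈ B) :
    B = ⊤ := by
  rw [eq_top_iff]
  intro x _
  obtain ⟨c, rfl⟩ := exists_repr p hL hA ι y θ hy hθ h x
  exact B.sum_mem fun j _ => B.mul_mem (hB _) (B.pow_mem hyB _)

theorem pow_mem_range (p : ℕ) [hp : Fact p.Prime] [Algebra.IsCentral K A]
    [FiniteDimensional K A] [IsGalois K L]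
    (hL : Module.finrank K L = p) (hA : Module.finrank K A = p ^ 2) (ι : L →ₐ[K] A)
    (y : A) (θ : L ≃ₐ[K] L) (hy : y ≠ 0) (hθ : θ ≠ 1)
    (h : ∀ l, y * ι l = ι (θ l) * y) : y ^ p ∈ Set.range (algebraMap K A) := by
  classical
  have hp0 : 0 < p := hp.out.pos
  haveI : FiniteDimensional K L := Module.finite_of_finrank_pos (hL ▸ hp0)
  have hord : orderOf θ = p := by
    have h1 : orderOf θ ∣ p := by
      have := orderOf_dvd_natCard θ
      rwa [IsGalois.card_aut_eq_finrank, hL] at this
    rcases (Nat.dvd_prime hp.out).mp h1 with h2 | h2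
    · exact absurd (orderOf_eq_one_iff.mp h2) hθ
    · exact h2
  have hθp : θ ^ p = 1 := hord ▸ pow_orderOf_eq_one θ
  -- y ^ p is central
  have hzι : ∀ l, y ^ p * ι l = ι l * y ^ p := by
    intro l
    rw [pow_conj ι y θ h p l, hθp, AlgEquiv.one_apply]
  have hcomm : ∀ x : A, x * y ^ p = y ^ p * x := by
    intro x
    obtain ⟨c, rfl⟩ := exists_repr p hL hA ι y θ hy hθ h x
    rw [Finset.sum_mul, Finset.mul_sum]
    refine Finset.sum_congr rfl fun j _ => ?_
    rw [mul_assoc, ← pow_add, add_comm, pow_add, ← mul_assoc, ← hzι, mul_assoc]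
  have hcen : y ^ p ∈ Subalgebra.center K A := by
    rw [Subalgebra.mem_center_iff]
    exact hcomm
  have hbot : y ^ p ∈ (⊥ : Subalgebra K A) := Algebra.IsCentral.out hcen
  exact Algebra.mem_bot.mp hbot

end Main


section PowChar

variable {K : Type*} [Field K] {A : Type*} [DivisionRing A] [Algebra K A]

theorem not_isSeparable_of_pow_char (p : ℕ) [hp : Fact p.Prime] [CharP K p] (y : A) (c : K)
    (hy : y ^ p = algebraMap K A c) (hyK : y ∉ Set.range (algebraMap K A)) :
    ¬ IsSeparable K y := by
  have hp0 : p ≠ 0 := hp.out.ne_zero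
  have hint : IsIntegral K y :=
    ⟨X ^ p - C c, monic_X_pow_sub_C c hp0, by simp [hy]⟩
  have hirr : Irreducible (minpoly K y) := minpoly.irreducible hint
  have hdvd : minpoly K y ∣ X ^ p - C c := minpoly.dvd K y (by simp [hy])
  intro hsep
  by_cases hc : ∃ b : K, b ^ p = c
  · obtain ⟨b, rfl⟩ := hc
    have h1 : (X ^ p - C (b ^ p) : K[X]) = (X - C b) ^ p := by
      rw [sub_pow_char, C_pow]
    rw [h1] at hdvd
    have h2 : minpoly K y ∣ X - C b := hirr.prime.dvd_of_dvd_pow hdvd
    obtain ⟨q, hq⟩ := h2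
    have h3 := congrArg (aeval y) hq
    simp only [map_sub, aeval_X, aeval_C, map_mul, minpoly.aeval, zero_mul] at h3
    exact hyK ⟨b, (sub_eq_zero.mp h3).symm⟩
  · have hc' : ∀ b : K, b ^ p ≠ c := fun b hb => hc ⟨b, hb⟩
    have hirr2 : Irreducible (X ^ p - C c : K[X]) := X_pow_sub_C_irreducible_of_prime hp.out hc'
    have hassoc : Associated (minpoly K y) (X ^ p - C c) :=
      hirr.associated_of_dvd hirr2 hdvd
    have heq : minpoly K y = X ^ p - C c :=
      eq_of_monic_of_associated (minpoly.monic hint) (monic_X_pow_sub_C c hp0) hassoc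
    have hder : derivative (minpoly K y) = 0 := by
      rw [heq]
      rw [derivative_sub, derivative_C, derivative_X_pow, sub_zero]
      rw [CharP.cast_eq_zero K p, C_0, zero_mul]
    exact (separable_iff_derivative_ne_zero hirr).mp hsep hder


end PowChar

section Final

variable {K : Type*} [Field K] {A : Type*} [DivisionRing A] [Algebra K A]
  {L : Type*} [Field L] [Algebra K L]

/-- A central division algebra of dimension `p ^ 2` over a field of characteristic `p` which
contains a Galois extension of degree `p` has an element that is not separable over `K`. -/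
theorem exists_not_isSeparable (p : ℕ) [hp : Fact p.Prime] [CharP K p] [Algebra.IsCentral K A]
    [FiniteDimensional K A] [IsGalois K L]
    (hA : Module.finrank K A = p ^ 2) (hL : Module.finrank K L = p) (ι : L →ₐ[K] A) :
    ∃ v : A, ¬ IsSeparable K v := by
  haveI : FiniteDimensional K L := Module.finite_of_finrank_pos (hL ▸ hp.out.pos)
  obtain ⟨y, θ, hy0, hθ, h⟩ := exists_conj (K := K) (A := A) (L := L)
    (by rw [hL]; exact hp.out.one_lt.ne') ι
  obtain ⟨c, hc⟩ := pow_mem_range p hL hA ι y θ hy0 hθ h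
  refine ⟨y, not_isSeparable_of_pow_char p y c hc.symm ?_⟩
  rintro ⟨b, hb⟩
  -- `y` central would force `θ = 1`
  apply hθ
  ext l
  have h1 := h l
  rw [← hb, Algebra.commutes] at h1
  have h2 : ι l = ι (θ l) := by
    have hb0 : algebraMap K A b ≠ 0 := hb ▸ hy0
    exact mul_right_cancel₀ hb0 h1
  exact (ι.toRingHom.injective h2).symm

end Final

end Groth.Agent.Lib.Helper87.DivAlgInsep
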