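import Groth.Agent.Lib.Helper87.DivAlgInsep

open Polynomial

universe u v

namespace Groth.Agent.Lib.Helper87.DivAlgSubfield

section General

variable {K : Type*} [Field K] {A : Type*} [Ring A] [Algebra K A]
  {L : Type*} [Field L] [Algebra K L]

/-- The degree of a field mapping to a finite-dimensional algebra divides its dimension. -/
theorem finrank_dvd_of_algHom [Nontrivial A] [FiniteDimensional K A] (ι : L →ₐ[K] A) :
    Module.finrank K L ∣ Module.finrank K A := by
  letI : Module L A := Module.compHom A ι.toRingHom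
  have hsmul : ∀ (l : L) (x : A), l • x = ι l * x := fun l x => rfl
  haveI : IsScalarTower K L A :=
    ⟨fun k l x => by rw [hsmul, hsmul, map_smul, smul_mul_assoc]⟩
  exact ⟨_, (Module.finrank_mul_finrank K L A).symm⟩

theorem finite_of_algHom [Nontrivial A] [FiniteDimensional K A] (ι : L →ₐ[K] A) :
    FiniteDimensional K L :=
  FiniteDimensional.of_injective ι.toLinearMap ι.toRingHom.injective

/-- A commutative subfield of a noncommutative central algebra is a proper subspace. -/
theorem finrank_ne_of_algHom [Nontrivial A] [FiniteDimensional K A] [Algebra.IsCentral K A]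
    (h1 : Module.finrank K A ≠ 1) (ι : L →ₐ[K] A) :
    Module.finrank K L ≠ Module.finrank K A := by
  intro heq
  haveI := finite_of_algHom ι
  have hsurj : Function.Surjective ι.toLinearMap :=
    (LinearMap.injective_iff_surjective_of_finrank_eq_finrank heq).mp ι.toRingHom.injective
  have hcomm : ∀ a b : A, a * b = b * a := by
    intro a b
    obtain ⟨a', rfl⟩ := hsurj a
    obtain ⟨b', rfl⟩ := hsurj b
    change ι a' * ι b' = ι b' * ι a'
    rw [← map_mul, ← map_mul, mul_comm]
  have htop : (⊤ : Subalgebra K A) ≤ ⊥ := by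
    intro x _
    apply Algebra.IsCentral.out
    rw [Subalgebra.mem_center_iff]
    intro y
    exact hcomm y x
  apply h1
  have : (⊥ : Subalgebra K A) = ⊤ := le_antisymm bot_le htop
  exact Subalgebra.bot_eq_top_iff_finrank_eq_one.mp this

end General

section Galois

variable {K : Type u} [Field K] {A : Type v} [DivisionRing A] [Algebra K A]

/-- Conjugation by a nonzero element, as an algebra endomorphism. -/
def conj (v : A) (hv : v ≠ 0) : A →ₐ[K] A where
  toFun x := v * x * v⁻¹
  map_one' := by simp [hv]
  map_mul' x y := by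
    have : v⁻¹ * v = 1 := inv_mul_cancel₀ hv
    calc v * (x * y) * v⁻¹ = v * x * (1 * (y * v⁻¹)) := by simp [mul_assoc]
      _ = v * x * v⁻¹ * (v * y * v⁻¹) := by rw [← this]; simp only [mul_assoc]
  map_zero' := by simp
  map_add' x y := by simp [mul_add, add_mul]
  commutes' r := by rw [← Algebra.commutes, mul_assoc, mul_inv_cancel₀ hv, mul_one]

@[simp] theorem conj_apply (v : A) (hv : v ≠ 0) (x : A) :
    conj (K := K) v hv x = v * x * v⁻¹ := rfl

open scoped IsMulCommutative in
theorem exists_galois_data_of_conj (p : ℕ) [hp : Fact p.Prime] [CharP K p]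
    [Algebra.IsCentral K A]
    [FiniteDimensional K A] (hA : Module.finrank K A = p ^ 2) (v w : A) (hv : v ≠ 0)
    (hvw : v * w = (w + 1) * v) :
    ∃ (L : Type v) (_ : Field L) (_ : Algebra K L) (_ : IsGalois K L) (ι : L →ₐ[K] A)
      (θ : L ≃ₐ[K] L), Module.finrank K L = p ∧ θ ≠ 1 ∧ (∀ l, v * ι l = ι (θ l) * v) ∧
      (∀ l, ι l ∈ Algebra.adjoin K {w}) := by
  classical
  let S : Subalgebra K A := Algebra.adjoin K {w}
  haveI : IsMulCommutative S := Algebra.isMulCommutative_adjoin K (by simp)
  letI : CommRing S := inferInstance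
  haveI : IsDomain S := inferInstance
  haveI : FiniteDimensional K S := inferInstance
  haveI : Algebra.IsIntegral K S := Algebra.IsIntegral.of_finite K S
  have hF : IsField S := isField_of_isIntegral_of_isField' (Field.toIsField K)
  letI : Field S := hF.toField
  let c : A →ₐ[K] A := conj v hv
  have hcw : c w = w + 1 := by
    change v * w * v⁻¹ = w + 1
    rw [hvw, mul_assoc, mul_inv_cancel₀ hv, mul_one]
  have hwS : w ∈ S := Algebra.subset_adjoin rfl
  have hS : ∀ x ∈ S, c x ∈ S := by
    have h1 : S.map c ≤ S := by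
      rw [AlgHom.map_adjoin, Set.image_singleton, hcw]
      apply Algebra.adjoin_le
      rintro _ rfl
      exact S.add_mem hwS S.one_mem
    intro x hx
    exact h1 ⟨x, hx, rfl⟩
  let σ₀ : S →ₐ[K] S := (c.comp S.val).codRestrict S (fun x => hS x x.2)
  let σ : S ≃ₐ[K] S := AlgEquiv.ofBijective σ₀ (Algebra.IsAlgebraic.algHom_bijective σ₀)
  let w' : S := ⟨w, hwS⟩
  have hσw1 : ∀ x : S, ((σ x : S) : A) = c x := fun x => rfl
  have hσw : ∀ i : ℕ, (σ ^ i) w' = w' + (i : S) := by
    intro i
    induction i with
    | zero => simp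
    | succ i ih =>
      rw [pow_succ', AlgEquiv.mul_apply, ih, map_add, map_natCast]
      have : σ w' = w' + 1 := by
        apply Subtype.ext
        rw [hσw1]
        exact hcw
      rw [this]
      push_cast
      ring
  haveI : CharP S p := charP_of_injective_algebraMap (algebraMap K S).injective p
  have hinj : Function.Injective (fun i : Fin p => σ ^ (i : ℕ)) := by
    intro i j hij
    have h1 : (σ ^ (i : ℕ)) w' = (σ ^ (j : ℕ)) w' := by
      have := congrArg (fun τ : S ≃ₐ[K] S => τ w') hij
      exact this
    rw [hσw, hσw] at h1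
    have h2 : ((i : ℕ) : S) = ((j : ℕ) : S) := add_left_cancel h1
    exact Fin.ext (CharP.natCast_injOn_Iio S p i.2 j.2 h2)
  have hcard1 : p ≤ Nat.card (S ≃ₐ[K] S) := by
    have := Nat.card_le_card_of_injective _ hinj
    simpa using this
  have hcard2 : Nat.card (S ≃ₐ[K] S) ≤ Module.finrank K S := by
    rw [Nat.card_eq_fintype_card]
    exact AlgEquiv.card_le
  have hdvd : Module.finrank K S ∣ p ^ 2 := hA ▸ finrank_dvd_of_algHom S.val
  have hne : Module.finrank K S ≠ p ^ 2 := by
    rw [← hA]
    apply finrank_ne_of_algHom _ S.val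
    rw [hA]
    exact (Nat.one_lt_pow two_ne_zero hp.out.one_lt).ne'
  have hfin : Module.finrank K S = p := by
    obtain ⟨k, hk, hk'⟩ := (Nat.dvd_prime_pow hp.out).mp hdvd
    interval_cases k
    · exfalso
      have := hcard1.trans hcard2
      rw [hk', pow_zero] at this
      exact absurd this (not_le.mpr hp.out.one_lt)
    · simpa using hk'
    · exact absurd hk' hne
  have hgal : IsGalois K S := by
    apply IsGalois.of_card_aut_eq_finrank
    rw [hfin]
    exact le_antisymm (hfin ▸ hcard2) hcard1
  refine ⟨S, inferInstance, inferInstance, hgal, S.val, σ, hfin, ?_, ?_, fun l => l.2⟩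
  · intro h1
    have h2 := hσw 1
    rw [pow_one, h1, AlgEquiv.one_apply, Nat.cast_one] at h2
    exact one_ne_zero (α := S) (add_left_cancel (a := w') (by rw [add_zero]; exact h2)).symm
  · intro l
    change v * (l : A) = c l * v
    change v * (l : A) = v * l * v⁻¹ * v
    rw [mul_assoc (v * (l : A)), inv_mul_cancel₀ hv, mul_one]

open scoped IsMulCommutative in
theorem exists_galois_of_conj (p : ℕ) [hp : Fact p.Prime] [CharP K p] [Algebra.IsCentral K A]
    [FiniteDimensional K A] (hA : Module.finrank K A = p ^ 2) (v w : A) (hv : v ≠ 0)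
    (hvw : v * w = (w + 1) * v) :
    ∃ (L : Type v) (_ : Field L) (_ : Algebra K L), IsGalois K L ∧ Module.finrank K L = p ∧
      Nonempty (L →ₐ[K] A) := by
  obtain ⟨L, i1, i2, hgal, ι, θ, hfin, -, -, -⟩ := exists_galois_data_of_conj p hA v w hv hvw
  exact ⟨L, i1, i2, hgal, hfin, ⟨ι⟩⟩

/-- From `v * u - u * v = 1` in a central division algebra of dimension `p ^ 2` in characteristic
`p`, the element `u * v` generates a Galois subfield of degree `p`. -/
theorem exists_galois_of_commutator (p : ℕ) [hp : Fact p.Prime] [CharP K p] [Algebra.IsCentral K A]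
    [FiniteDimensional K A] (hA : Module.finrank K A = p ^ 2) (v u : A)
    (hvu : v * u - u * v = 1) :
    ∃ (L : Type v) (_ : Field L) (_ : Algebra K L), IsGalois K L ∧ Module.finrank K L = p ∧
      Nonempty (L →ₐ[K] A) := by
  have hv : v ≠ 0 := by
    rintro rfl
    simp at hvu
  have hvu' : v * u = u * v + 1 := by rw [← hvu]; abel
  refine exists_galois_of_conj p hA v (u * v) hv ?_
  rw [← mul_assoc, hvu']

end Galois

end Groth.Agent.Lib.Helper87.DivAlgSubfield
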