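import Groth.Agent.Lib.Helper87.DivAlgSubfield

open Polynomial

universe u v

namespace Groth.Agent.Lib.Helper87.DivAlgWeyl

open Groth.Agent.Lib.Helper87.DivAlgInsep Groth.Agent.Lib.Helper87.DivAlgSubfield

section Minpoly

variable {K : Type u} [Field K] {A : Type v} [DivisionRing A] [Algebra K A]

/-- The evaluation map from `AdjoinRoot (minpoly K x)` to a possibly noncommutative algebra. -/
noncomputable def adjoinRootHom (x : A) : AdjoinRoot (minpoly K x) →ₐ[K] A :=
  Ideal.Quotient.liftₐ (Ideal.span {minpoly K x}) (aeval x) (by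
    intro a ha
    obtain ⟨q, rfl⟩ := Ideal.mem_span_singleton.mp ha
    rw [map_mul, minpoly.aeval, zero_mul])

theorem natDegree_minpoly_dvd [FiniteDimensional K A] (x : A) :
    (minpoly K x).natDegree ∣ Module.finrank K A := by
  have hint : IsIntegral K x := Algebra.IsIntegral.isIntegral x
  haveI : Fact (Irreducible (minpoly K x)) := ⟨minpoly.irreducible hint⟩
  have h := finrank_dvd_of_algHom (adjoinRootHom (K := K) x)
  rwa [(AdjoinRoot.powerBasis (minpoly.ne_zero hint)).finrank, AdjoinRoot.powerBasis_dim] at h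

theorem natDegree_minpoly_ne [FiniteDimensional K A] [Algebra.IsCentral K A]
    (h1 : Module.finrank K A ≠ 1) (x : A) :
    (minpoly K x).natDegree ≠ Module.finrank K A := by
  have hint : IsIntegral K x := Algebra.IsIntegral.isIntegral x
  haveI : Fact (Irreducible (minpoly K x)) := ⟨minpoly.irreducible hint⟩
  have h := finrank_ne_of_algHom h1 (adjoinRootHom (K := K) x)
  rwa [(AdjoinRoot.powerBasis (minpoly.ne_zero hint)).finrank, AdjoinRoot.powerBasis_dim] at h

/-- An inseparable element of a central division algebra of dimension `p ^ 2` in characteristic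
`p` is purely inseparable of exponent one. -/
theorem pow_mem_range_of_not_isSeparable (p : ℕ) [hp : Fact p.Prime] [CharP K p]
    [Algebra.IsCentral K A] [FiniteDimensional K A] (hA : Module.finrank K A = p ^ 2)
    (x : A) (hx : ¬ IsSeparable K x) :
    x ^ p ∈ (algebraMap K A).range ∧ x ∉ (algebraMap K A).range := by
  have hint : IsIntegral K x := Algebra.IsIntegral.isIntegral x
  have hirr : Irreducible (minpoly K x) := minpoly.irreducible hint
  have hp1 : 1 < p := hp.out.one_lt
  have hA1 : Module.finrank K A ≠ 1 := by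
    rw [hA]; exact (Nat.one_lt_pow two_ne_zero hp1).ne'
  rcases separable_or p hirr with hsep | ⟨_, g, hg, hgm⟩
  · exact absurd hsep hx
  have hdeg : (minpoly K x).natDegree = g.natDegree * p := by rw [← hgm, natDegree_expand]
  have hdvd : g.natDegree * p ∣ p ^ 2 := by
    rw [← hdeg, ← hA]; exact natDegree_minpoly_dvd x
  have hne : g.natDegree * p ≠ p ^ 2 := by
    rw [← hdeg, ← hA]; exact natDegree_minpoly_ne hA1 x
  have hg1 : g.natDegree = 1 := by
    obtain ⟨k, hk, hk'⟩ := (Nat.dvd_prime_pow hp.out).mp hdvd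
    interval_cases k
    · exfalso
      rw [pow_zero] at hk'
      have : p ∣ 1 := ⟨g.natDegree, by rw [← hk', mul_comm]⟩
      exact hp.out.one_lt.ne' (Nat.dvd_one.mp this)
    · rw [pow_one] at hk'
      exact Nat.eq_of_mul_eq_mul_right hp.out.pos (by rw [hk', one_mul])
    · exact absurd hk' hne
  have hgmonic : g.Monic := by
    rw [← monic_expand_iff hp.out.pos, hgm]; exact minpoly.monic hint
  have hgeq : g = X + C (g.coeff 0) := hgmonic.eq_X_add_C hg1
  have hmin : minpoly K x = X ^ p + C (g.coeff 0) := by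
    rw [← hgm, hgeq]
    simp
  constructor
  · have h0 := minpoly.aeval K x
    rw [hmin] at h0
    simp only [map_add, map_pow, aeval_X, aeval_C] at h0
    refine ⟨-(g.coeff 0), ?_⟩
    rw [map_neg]
    exact (eq_neg_of_add_eq_zero_left h0).symm
  · rintro ⟨a, rfl⟩
    have : (minpoly K (algebraMap K A a)).natDegree = 1 := by
      rw [minpoly.eq_X_sub_C, natDegree_X_sub_C]
    rw [hdeg, hg1, one_mul] at this
    exact hp1.ne' this

end Minpoly

section Derivation

variable {K : Type u} [Field K] {A : Type v} [DivisionRing A] [Algebra K A]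

/-- The inner derivation `y ↦ v * y - y * v`. -/
def ad (v : A) : A →ₗ[K] A := LinearMap.mulLeft K v - LinearMap.mulRight K v

@[simp] theorem ad_apply (v y : A) : ad (K := K) v y = v * y - y * v := rfl

theorem mulLeft_pow_apply (v : A) (n : ℕ) (y : A) :
    ((LinearMap.mulLeft K v) ^ n) y = v ^ n * y := by
  induction n generalizing y with
  | zero => simp
  | succ n ih => rw [pow_succ, Module.End.mul_apply, ih, LinearMap.mulLeft_apply, pow_succ, mul_assoc]

theorem mulRight_pow_apply (v : A) (n : ℕ) (y : A) :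
    ((LinearMap.mulRight K v) ^ n) y = y * v ^ n := by
  induction n generalizing y with
  | zero => simp
  | succ n ih =>
    rw [pow_succ, Module.End.mul_apply, ih, LinearMap.mulRight_apply, pow_succ', mul_assoc]

theorem ad_pow_char (p : ℕ) [Fact p.Prime] [CharP K p] (v : A)
    (hv : v ^ p ∈ (algebraMap K A).range) : (ad (K := K) v) ^ p = 0 := by
  haveI : CharP (Module.End K A) p :=
    charP_of_injective_algebraMap (algebraMap K (Module.End K A)).injective p
  obtain ⟨b, hb⟩ := hv
  unfold ad
  rw [sub_pow_char_of_commute p (LinearMap.commute_mulLeft_right v v)]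
  ext y
  rw [LinearMap.sub_apply, mulLeft_pow_apply, mulRight_pow_apply, ← hb, LinearMap.zero_apply,
    sub_eq_zero]
  exact Algebra.commutes b y

theorem exists_commutator_eq_one (p : ℕ) [hp : Fact p.Prime] [CharP K p] [Algebra.IsCentral K A]
    (v : A) (hvp : v ^ p ∈ (algebraMap K A).range) (hvK : v ∉ (algebraMap K A).range) :
    ∃ u : A, v * u - u * v = 1 := by
  classical
  set δ : A →ₗ[K] A := ad v with hδ
  have hδp : δ ^ p = 0 := ad_pow_char p v hvp
  -- some `y` with `δ y ≠ 0`
  obtain ⟨y, hy⟩ : ∃ y, δ y ≠ 0 := by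
    by_contra hcon
    push Not at hcon
    apply hvK
    have hcen : v ∈ Subalgebra.center K A := by
      rw [Subalgebra.mem_center_iff]
      intro y
      have := hcon y
      rw [hδ, ad_apply, sub_eq_zero] at this
      exact this.symm
    exact Algebra.mem_bot.mp (Algebra.IsCentral.out hcen)
  have hex : ∃ k, (δ ^ (k + 1)) y = 0 := by
    refine ⟨p - 1, ?_⟩
    rw [Nat.sub_add_cancel hp.out.pos, hδp, LinearMap.zero_apply]
  obtain ⟨k, hk, hkmin⟩ : ∃ k, (δ ^ (k + 1)) y = 0 ∧ ∀ j < k, (δ ^ (j + 1)) y ≠ 0 :=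
    ⟨Nat.find hex, Nat.find_spec hex, fun j hj => Nat.find_min hex hj⟩
  rcases Nat.eq_zero_or_pos k with rfl | hkpos
  · exfalso
    apply hy
    simpa using hk
  obtain ⟨k₁, rfl⟩ : ∃ k₁, k = k₁ + 1 := ⟨k - 1, by omega⟩
  set z := (δ ^ k₁) y with hz
  set t := δ z with ht
  have ht' : t = (δ ^ (k₁ + 1)) y := by rw [ht, hz, pow_succ', Module.End.mul_apply]
  have ht0 : t ≠ 0 := by rw [ht']; exact hkmin k₁ (Nat.lt_succ_self _)
  have hδt : δ t = 0 := by rw [ht', ← Module.End.mul_apply, ← pow_succ']; exact hk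
  have hvt : v * t = t * v := by
    rw [hδ, ad_apply, sub_eq_zero] at hδt
    exact hδt
  have hvt' : t⁻¹ * v = v * t⁻¹ := by
    have h1 : t⁻¹ * (v * t) * t⁻¹ = t⁻¹ * v := by
      rw [mul_assoc, mul_assoc, mul_inv_cancel₀ ht0, mul_one]
    have h2 : t⁻¹ * (t * v) * t⁻¹ = v * t⁻¹ := by
      rw [← mul_assoc t⁻¹, inv_mul_cancel₀ ht0, one_mul]
    rw [← h1, hvt, h2]
  refine ⟨z * t⁻¹, ?_⟩
  have hzt : v * z - z * v = t := rfl
  rw [mul_assoc z, hvt', ← mul_assoc, ← mul_assoc, ← sub_mul, hzt, mul_inv_cancel₀ ht0]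

end Derivation

section Final

variable {K : Type u} [Field K] {A : Type v} [DivisionRing A] [Algebra K A]

theorem commutator_pow_succ (v u : A) (hvu : v * u - u * v = 1) (n : ℕ) :
    v * u ^ (n + 1) = u ^ (n + 1) * v + (n + 1 : ℕ) • u ^ n := by
  have hvu' : v * u = u * v + 1 := by rw [← hvu]; abel
  induction n with
  | zero => simp [hvu']
  | succ n ih =>
    rw [pow_succ u (n + 1), ← mul_assoc, ih, add_mul, mul_assoc, hvu', mul_add, mul_one,
      smul_mul_assoc, ← pow_succ, ← mul_assoc, add_assoc, ← pow_succ, succ_nsmul (u ^ (n + 1)) (n + 1)]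
    abel

/-- `(1) ⇒ (2)`: a central division algebra of dimension `p ^ 2` in characteristic `p` with an
inseparable element is generated by `v, u` with `v ^ p, u ^ p ∈ K` and `v * u - u * v = 1`. -/
theorem exists_weyl_generators (p : ℕ) [hp : Fact p.Prime] [CharP K p] [Algebra.IsCentral K A]
    [FiniteDimensional K A] (hA : Module.finrank K A = p ^ 2) (h : ∃ x : A, ¬ IsSeparable K x) :
    ∃ v u : A, v ^ p ∈ (algebraMap K A).range ∧ u ^ p ∈ (algebraMap K A).range ∧
      v * u - u * v = 1 ∧ Algebra.adjoin K {v, u} = ⊤ := by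
  obtain ⟨v, hx⟩ := h
  obtain ⟨hvp, hvK⟩ := pow_mem_range_of_not_isSeparable p hA v hx
  obtain ⟨u, hvu⟩ := exists_commutator_eq_one p v hvp hvK
  have hv : v ≠ 0 := by
    rintro rfl
    simp at hvu
  have hvu' : v * u = u * v + 1 := by rw [← hvu]; abel
  have hvw : v * (u * v) = (u * v + 1) * v := by rw [← mul_assoc, hvu']
  obtain ⟨L, _, _, hgal, ι, θ, hfin, hθ, hconj, hmem⟩ :=
    exists_galois_data_of_conj p hA v (u * v) hv hvw
  have hvB : v ∈ Algebra.adjoin K ({v, u} : Set A) := Algebra.subset_adjoin (by simp)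
  have huB : u ∈ Algebra.adjoin K ({v, u} : Set A) := Algebra.subset_adjoin (by simp)
  have hle : Algebra.adjoin K ({u * v} : Set A) ≤ Algebra.adjoin K ({v, u} : Set A) := by
    apply Algebra.adjoin_le
    rintro _ rfl
    exact Subalgebra.mul_mem _ huB hvB
  have htop : Algebra.adjoin K ({v, u} : Set A) = ⊤ :=
    adjoin_eq_top p hfin hA ι v θ hv hθ hconj _ (fun l => hle (hmem l)) hvB
  refine ⟨v, u, hvp, ?_, hvu, htop⟩
  -- `u ^ p` is central
  haveI : CharP A p := charP_of_injective_algebraMap (algebraMap K A).injective p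
  have hvup : v * u ^ p = u ^ p * v := by
    have h1 := commutator_pow_succ v u hvu (p - 1)
    rw [Nat.sub_add_cancel hp.out.pos] at h1
    rw [h1, nsmul_eq_mul, CharP.cast_eq_zero A p, zero_mul, add_zero]
  have hcomm : ∀ x ∈ Algebra.adjoin K ({v, u} : Set A), x * u ^ p = u ^ p * x := by
    intro x hx
    induction hx using Algebra.adjoin_induction with
    | mem x hx =>
      rcases hx with rfl | rfl
      · exact hvup
      · rw [← pow_succ', ← pow_succ]
    | algebraMap r => exact Algebra.commutes r _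
    | add a b _ _ ha hb => rw [add_mul, mul_add, ha, hb]
    | mul a b _ _ ha hb => rw [mul_assoc, hb, ← mul_assoc, ha, mul_assoc]
  have hcen : u ^ p ∈ Subalgebra.center K A := by
    rw [Subalgebra.mem_center_iff]
    intro x
    exact hcomm x (htop ▸ Algebra.mem_top)
  exact Algebra.mem_bot.mp (Algebra.IsCentral.out hcen)

end Final

end Groth.Agent.Lib.Helper87.DivAlgWeyl
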