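import Mathlib
import Groth.Agent.Lib.Helper21.FieldDimBC
import Groth.Agent.Lib.Helper21.FieldDimPts

/-!
# The smooth locus under base change (helper87)

* `setOf_exists_smooth_eq`: `{x | ∃ U ∋ x open, U.ι ≫ q smooth}` is Mathlib's `q.smoothLocus`.
* `smooth_comp_iff_range_subset`: for an open immersion `j`, `j ≫ q` is smooth iff the range of `j`
  lies in the smooth locus of `q`.
* `preimage_smoothLocus_le`: the preimage of the smooth locus lies in the smooth locus of a base change.
* `le_smoothLocus_of_preimage_le`: fpqc descent of the smooth locus for opens.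
-/

set_option autoImplicit false
set_option linter.style.haveILetI false
universe u
open CategoryTheory CategoryTheory.Limits AlgebraicGeometry

namespace Groth.Agent.Lib.Helper87.SmoothLocusBC

variable {X Y X' Y' : Scheme.{u}}

theorem smooth_comp_iff_range_subset {U : Scheme.{u}} (j : U ⟶ X) [IsOpenImmersion j] (q : X ⟶ Y)
    [LocallyOfFinitePresentation q] :
    Smooth (j ≫ q) ↔ Set.range j ⊆ (q.smoothLocus : Set X) := by
  rw [← Scheme.Hom.smoothLocus_eq_top_iff, ← Scheme.Hom.preimage_smoothLocus_eq]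
  constructor
  · intro h
    rintro _ ⟨u, rfl⟩
    have : u ∈ j ⁻¹ᵁ q.smoothLocus := by rw [h]; trivial
    exact this
  · intro h
    rw [← top_le_iff]
    intro u _
    exact h ⟨u, rfl⟩

theorem setOf_exists_smooth_eq (q : X ⟶ Y) [LocallyOfFinitePresentation q] :
    {x : X | ∃ U : X.Opens, x ∈ U ∧ Smooth (U.ι ≫ q)} = (q.smoothLocus : Set X) := by
  ext x
  constructor
  · rintro ⟨U, hxU, hU⟩
    rw [smooth_comp_iff_range_subset] at hU
    apply hU
    rw [Scheme.Opens.range_ι]
    exact hxU
  · intro hx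
    refine ⟨q.smoothLocus, hx, ?_⟩
    rw [smooth_comp_iff_range_subset, Scheme.Opens.range_ι]

theorem setOf_not_exists_smooth_eq (q : X ⟶ Y) [LocallyOfFinitePresentation q] :
    {x : X | ¬ ∃ U : X.Opens, x ∈ U ∧ Smooth (U.ι ≫ q)} = (q.smoothLocus : Set X)ᶜ := by
  rw [← setOf_exists_smooth_eq]
  rfl

section BC

variable {π : X' ⟶ X} {p' : X' ⟶ Y'} {p : X ⟶ Y} {g₀ : Y' ⟶ Y}
  [LocallyOfFinitePresentation p] [LocallyOfFinitePresentation p']

omit [LocallyOfFinitePresentation p] [LocallyOfFinitePresentation p'] in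
theorem isPullback_opens (sq : IsPullback π p' p g₀) (W : X.Opens) :
    IsPullback (pullback.fst W.ι π) (pullback.snd W.ι π ≫ p') (W.ι ≫ p) g₀ :=
  (IsPullback.of_hasPullback W.ι π).paste_vert sq

theorem range_snd_opens (W : X.Opens) :
    Set.range (pullback.snd W.ι π) = π ⁻¹' (W : Set X) := by
  rw [Scheme.Pullback.range_snd, Scheme.Opens.range_ι]

theorem preimage_smoothLocus_le (sq : IsPullback π p' p g₀) :
    π ⁻¹' (p.smoothLocus : Set X) ⊆ (p'.smoothLocus : Set X') := by
  have h1 : Smooth (p.smoothLocus.ι ≫ p) := by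
    rw [smooth_comp_iff_range_subset, Scheme.Opens.range_ι]
  have h2 : Smooth (pullback.snd p.smoothLocus.ι π ≫ p') :=
    MorphismProperty.of_isPullback (P := @Smooth) (isPullback_opens sq p.smoothLocus) h1
  rw [smooth_comp_iff_range_subset, range_snd_opens] at h2
  exact h2

theorem le_smoothLocus_of_preimage_le (sq : IsPullback π p' p g₀)
    [Surjective g₀] [Flat g₀] [QuasiCompact g₀] (W : X.Opens)
    (h : π ⁻¹' (W : Set X) ⊆ (p'.smoothLocus : Set X')) :
    (W : Set X) ⊆ (p.smoothLocus : Set X) := by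
  have h2 : Smooth (pullback.snd W.ι π ≫ p') := by
    rw [smooth_comp_iff_range_subset, range_snd_opens]
    exact h
  have h1 : Smooth (W.ι ≫ p) :=
    (MorphismProperty.iff_of_isPullback (P := @Smooth)
      (Q := @Surjective ⊓ @Flat ⊓ @QuasiCompact) (isPullback_opens sq W).flip
      ⟨⟨inferInstance, inferInstance⟩, inferInstance⟩).mp h2
  rw [smooth_comp_iff_range_subset, Scheme.Opens.range_ι] at h1
  exact h1

/-- If the base change map `π` is closed (e.g. the base change is integral) and the base change is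
fpqc, then the nonsmooth locus is contained in the image of the nonsmooth locus of the base
change. -/
theorem compl_smoothLocus_subset_image (sq : IsPullback π p' p g₀)
    [Surjective g₀] [Flat g₀] [QuasiCompact g₀] (hπ : IsClosedMap π) :
    (p.smoothLocus : Set X)ᶜ ⊆ π '' (p'.smoothLocus : Set X')ᶜ := by
  intro x hx
  by_contra hcon
  have hcl : IsClosed (π '' (p'.smoothLocus : Set X')ᶜ) :=
    hπ _ p'.smoothLocus.2.isClosed_compl
  let W : X.Opens := ⟨(π '' (p'.smoothLocus : Set X')ᶜ)ᶜ, hcl.isOpen_compl⟩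
  have hW : π ⁻¹' (W : Set X) ⊆ (p'.smoothLocus : Set X') := by
    intro x' hx'
    by_contra hx''
    exact hx' ⟨x', hx'', rfl⟩
  exact hx (le_smoothLocus_of_preimage_le sq W hW hcon)

end BC

end Groth.Agent.Lib.Helper87.SmoothLocusBC
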