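import Mathlib
import Groth.Agent.Lib.Helper87.SmoothLocusBC

/-!
# Finiteness of the nonsmooth locus under extension of the base field (helper87)
-/

set_option autoImplicit false
set_option linter.style.haveILetI false
universe u
open CategoryTheory CategoryTheory.Limits AlgebraicGeometry

namespace Groth.Agent.Lib.Helper87.FiniteNonsmooth

open Groth.Agent.Lib.Helper21.FieldDim Groth.Agent.Lib.Helper87.SmoothLocusBC

/-- In a quasi-sober Noetherian space, a closed set all of whose points are closed is finite. -/
theorem finite_of_forall_isClosed_singleton {α : Type*} [TopologicalSpace α]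
    [TopologicalSpace.NoetherianSpace α] [QuasiSober α] (C : Set α) (hC : IsClosed C)
    (h : ∀ x ∈ C, IsClosed ({x} : Set α)) : C.Finite := by
  obtain ⟨S, hSf, hSc, hSi, hSU⟩ :=
    TopologicalSpace.NoetherianSpace.exists_finite_set_isClosed_irreducible hC
  rw [hSU]
  refine Set.Finite.sUnion hSf fun t ht => ?_
  obtain ⟨η, hη⟩ := QuasiSober.sober (hSi t ht) (hSc t ht)
  have hηC : η ∈ C := by
    rw [hSU]
    exact ⟨t, ht, hη.mem⟩
  have : t = {η} := by
    rw [← hη.def, (h η hηC).closure_eq]
  rw [this]
  exact Set.finite_singleton η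

variable {k K : Type u} [Field k] [Field K] {X : Scheme.{u}} (f : X ⟶ Spec (CommRingCat.of k))
  (g : Spec (CommRingCat.of K) ⟶ Spec (CommRingCat.of k)) [LocallyOfFiniteType f]

include f in
theorem isClosed_singleton_of_finite_closed (F : Set X) (hF : IsClosed F) (hfin : F.Finite)
    {x : X} (hx : x ∈ F) : IsClosed ({x} : Set X) := by
  haveI : JacobsonSpace (Spec (CommRingCat.of k)) :=
    inferInstanceAs (JacobsonSpace (PrimeSpectrum k))
  haveI : JacobsonSpace X := LocallyOfFiniteType.jacobsonSpace f
  have hA : (F ∩ closedPoints X).Finite := hfin.subset Set.inter_subset_left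
  have hAc : IsClosed (F ∩ closedPoints X) := by
    have : F ∩ closedPoints X = ⋃ a ∈ F ∩ closedPoints X, ({a} : Set X) := by
      ext y; simp
    rw [this]
    exact Set.Finite.isClosed_biUnion hA (fun a ha => ha.2)
  have h1 := JacobsonSpace.closure_inter_closedPoints hF
  rw [hAc.closure_eq] at h1
  have : x ∈ F ∩ closedPoints X := by rw [h1]; exact hx
  exact this.2

theorem finite_preimage_fst [QuasiCompact f] (F : Set X) (hF : IsClosed F) (hfin : F.Finite) :
    ((pullback.fst f g) ⁻¹' F).Finite := by
  haveI : CompactSpace ↥(pullback f g) :=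
    QuasiCompact.compactSpace_of_compactSpace (pullback.snd f g)
  haveI : IsNoetherian (pullback f g) := { }
  apply finite_of_forall_isClosed_singleton _ (hF.preimage (pullback.fst f g).continuous)
  intro x' hx'
  have h0 : td f ((pullback.fst f g).base x') = 0 :=
    (td_eq_zero_iff f).mpr (isClosed_singleton_of_finite_closed f F hF hfin hx')
  have h1 := td_bc_le f g x'
  rw [h0] at h1
  exact (td_eq_zero_iff (pullback.snd f g)).mp (Nat.le_zero.mp h1)

/-- If the nonsmooth locus of `f` is finite, so is that of its base change to a field extension. -/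
theorem finite_compl_smoothLocus_bc [QuasiCompact f]
    (h : ((f.smoothLocus : Set X)ᶜ).Finite) :
    (((pullback.snd f g).smoothLocus : Set ↥(pullback f g))ᶜ).Finite := by
  refine (finite_preimage_fst f g _ f.smoothLocus.2.isClosed_compl h).subset ?_
  intro x' hx' hcon
  exact hx' (preimage_smoothLocus_le (IsPullback.of_hasPullback f g) hcon)

/-- If the nonsmooth locus of the base change of `f` to an algebraic field extension is finite, so
is that of `f`. -/
theorem finite_compl_smoothLocus_of_bc [IsIntegralHom g]
    (h : (((pullback.snd f g).smoothLocus : Set ↥(pullback f g))ᶜ).Finite) :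
    ((f.smoothLocus : Set X)ᶜ).Finite := by
  haveI : Surjective g := by
    refine ⟨fun y => ?_⟩
    haveI : Nonempty ↥(Spec (CommRingCat.of K)) :=
      inferInstanceAs (Nonempty (PrimeSpectrum K))
    obtain ⟨z⟩ := (inferInstance : Nonempty ↥(Spec (CommRingCat.of K)))
    exact ⟨z, Subsingleton.elim (α := PrimeSpectrum k) _ _⟩
  haveI : Flat g := by
    obtain ⟨φ, rfl⟩ := Spec.homEquiv.symm.surjective g
    show Flat (Spec.map φ)
    rw [HasRingHomProperty.Spec_iff (P := @Flat)]
    letI := φ.hom.toAlgebra
    show Module.Flat k K
    infer_instance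
  have hcl : IsClosedMap (pullback.fst f g) := (pullback.fst f g).isClosedMap
  exact (h.image _).subset (compl_smoothLocus_subset_image (IsPullback.of_hasPullback f g) hcl)

end Groth.Agent.Lib.Helper87.FiniteNonsmooth
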