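import Mathlib

/-! If the forms over a coefficient field inject into the associated graded ring of a Noetherian
local ring (w.r.t. generators of the maximal ideal), the ring is regular (helper87). -/

set_option autoImplicit false
set_option linter.style.haveILetI false

open IsLocalRing MvPolynomial

namespace Groth.Agent.Lib.Helper87.FormsInj

universe u v

variable {k : Type v} [Field k]

/-- Forms (with coefficients in `k`) in the `x i` inject into the associated graded ring. -/
def Inj {R : Type*} [CommRing R] [Algebra k R] [IsLocalRing R] {σ : Type*} (x : σ → R) : Prop :=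
  ∀ (r : ℕ) (F : MvPolynomial σ k), F.IsHomogeneous r →
    aeval x F ∈ maximalIdeal R ^ (r + 1) → F = 0

theorem aeval_mem_pow {R : Type*} [CommRing R] [Algebra k R] {σ : Type*} (I : Ideal R)
    (x : σ → R) (hx : ∀ i, x i ∈ I) {r : ℕ} {F : MvPolynomial σ k} (hF : F.IsHomogeneous r) :
    aeval x F ∈ I ^ r := by
  classical
  rw [aeval_def, eval₂_eq]
  refine Ideal.sum_mem _ fun d hd => Ideal.mul_mem_left _ _ ?_
  have hdeg : ∑ i ∈ d.support, d i = r := by
    have h := hF (mem_support_iff.mp hd)
    rw [← h, Finsupp.weight_apply, Finsupp.sum]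
    simp
  rw [← hdeg, ← Finset.prod_pow_eq_pow_sum]
  exact Ideal.prod_mem_prod fun i _ => Ideal.pow_mem_pow (hx i) _

section

variable {R : Type u} [CommRing R] [Algebra k R] [IsLocalRing R]
  (hk : ∀ r : R, ∃ c : k, r - algebraMap k R c ∈ maximalIdeal R)
  {σ : Type*} (x : σ → R) (hx : Ideal.span (Set.range x) = maximalIdeal R)

include hk hx

theorem exists_form : ∀ (j : ℕ) (g : R), g ∈ maximalIdeal R ^ j →
    ∃ G : MvPolynomial σ k, G.IsHomogeneous j ∧ g - aeval x G ∈ maximalIdeal R ^ (j + 1) := by
  intro j
  induction j with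
  | zero =>
    intro g _
    obtain ⟨c, hc⟩ := hk g
    refine ⟨C c, isHomogeneous_C _ _, ?_⟩
    rw [zero_add, pow_one, aeval_C]
    exact hc
  | succ j ih =>
    intro g hg
    rw [pow_succ, ← Ideal.smul_eq_mul] at hg
    have hadd : ∀ g₁ g₂ : R,
        (∃ G : MvPolynomial σ k, G.IsHomogeneous (j + 1) ∧
          g₁ - aeval x G ∈ maximalIdeal R ^ (j + 1 + 1)) →
        (∃ G : MvPolynomial σ k, G.IsHomogeneous (j + 1) ∧
          g₂ - aeval x G ∈ maximalIdeal R ^ (j + 1 + 1)) →
        (∃ G : MvPolynomial σ k, G.IsHomogeneous (j + 1) ∧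
          g₁ + g₂ - aeval x G ∈ maximalIdeal R ^ (j + 1 + 1)) := by
      rintro g₁ g₂ ⟨G₁, h₁, h₁'⟩ ⟨G₂, h₂, h₂'⟩
      refine ⟨G₁ + G₂, h₁.add h₂, ?_⟩
      have : g₁ + g₂ - aeval x (G₁ + G₂) = (g₁ - aeval x G₁) + (g₂ - aeval x G₂) := by
        rw [map_add]; ring
      rw [this]
      exact Ideal.add_mem _ h₁' h₂'
    refine Submodule.smul_induction_on hg ?_ (fun g₁ g₂ h₁ h₂ => hadd g₁ g₂ h₁ h₂)
    intro a ha n hn
    rw [← hx] at hn
    rw [smul_eq_mul]
    revert a
    refine Submodule.span_induction (p := fun n _ => ∀ a ∈ maximalIdeal R ^ j,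
      ∃ G : MvPolynomial σ k, G.IsHomogeneous (j + 1) ∧
        a * n - aeval x G ∈ maximalIdeal R ^ (j + 1 + 1)) ?_ ?_ ?_ ?_ hn
    · rintro _ ⟨i, rfl⟩ a ha
      obtain ⟨G', hG', haG'⟩ := ih a ha
      refine ⟨G' * X i, hG'.mul (isHomogeneous_X k i), ?_⟩
      have : a * x i - aeval x (G' * X i) = (a - aeval x G') * x i := by
        rw [map_mul, aeval_X]; ring
      rw [this, pow_succ (maximalIdeal R) (j + 1)]
      refine Ideal.mul_mem_mul haG' ?_
      rw [← hx]
      exact Ideal.subset_span ⟨i, rfl⟩
    · intro a _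
      refine ⟨0, isHomogeneous_zero _ _ _, ?_⟩
      simp
    · intro n₁ n₂ _ _ h₁ h₂ a ha
      have := hadd _ _ (h₁ a ha) (h₂ a ha)
      rwa [← mul_add] at this
    · intro r n _ h a ha
      have := h (a * r) (Ideal.mul_mem_right _ _ ha)
      rwa [smul_eq_mul, ← mul_assoc]

theorem mem_pow_of_mul_mem (hinj : Inj (k := k) x) (i : σ) (r : ℕ) (g : R)
    (h : x i * g ∈ maximalIdeal R ^ (r + 1)) : g ∈ maximalIdeal R ^ r := by
  have hxm : ∀ i, x i ∈ maximalIdeal R := fun i => by
    rw [← hx]; exact Ideal.subset_span ⟨i, rfl⟩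
  have key : ∀ j, j ≤ r → g ∈ maximalIdeal R ^ j := by
    intro j
    induction j with
    | zero => intro _; simp
    | succ j ih =>
      intro hj
      have hgj := ih (by omega)
      obtain ⟨G, hG, hgG⟩ := exists_form hk x hx j g hgj
      have h1 : aeval x (X i * G) ∈ maximalIdeal R ^ (j + 1 + 1) := by
        have : aeval x (X i * G) = x i * g - x i * (g - aeval x G) := by
          rw [map_mul, aeval_X]; ring
        rw [this]
        refine Ideal.sub_mem _ (Ideal.pow_le_pow_right (by omega) h) ?_
        rw [pow_succ' (maximalIdeal R) (j + 1)]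
        exact Ideal.mul_mem_mul (hxm i) hgG
      have h2 := hinj (j + 1) (X i * G) (by
        have := (isHomogeneous_X k i).mul hG
        rwa [Nat.add_comm 1 j] at this) h1
      have hG0 : G = 0 := by
        rcases mul_eq_zero.mp h2 with h3 | h3
        · exact absurd h3 (X_ne_zero i)
        · exact h3
      rw [hG0, map_zero, sub_zero] at hgG
      exact hgG
  exact key r le_rfl

theorem eq_zero_of_mul_eq_zero [IsNoetherianRing R] (hinj : Inj (k := k) x) (i : σ) (g : R)
    (h : x i * g = 0) : g = 0 := by
  have h1 : g ∈ ⨅ r, maximalIdeal R ^ r := by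
    rw [Ideal.mem_iInf]
    intro r
    exact mem_pow_of_mul_mem hk x hx hinj i r g (by rw [h]; exact zero_mem _)
  rw [Ideal.iInf_pow_eq_bot_of_isLocalRing _ (maximalIdeal.isMaximal R).ne_top] at h1
  exact h1

end

theorem le_ringKrullDim : ∀ (e : ℕ) (R : Type u) [CommRing R] [Algebra k R] [IsLocalRing R]
    [IsNoetherianRing R] (_ : ∀ r : R, ∃ c : k, r - algebraMap k R c ∈ maximalIdeal R)
    (x : Fin e → R) (_ : Ideal.span (Set.range x) = maximalIdeal R) (_ : Inj (k := k) x),
    (e : WithBot ℕ∞) ≤ ringKrullDim R := by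
  intro e
  induction e with
  | zero =>
    intro R _ _ _ _ _ _ _ _
    exact_mod_cast ringKrullDim_nonneg_of_nontrivial
  | succ e ih =>
    intro R _ _ _ _ hk x hx hinj
    have hxm : ∀ i, x i ∈ maximalIdeal R := fun i => by
      rw [← hx]; exact Ideal.subset_span ⟨i, rfl⟩
    set I : Ideal R := Ideal.span {x 0} with hI
    have hIm : I ≤ maximalIdeal R := by
      rw [hI, Ideal.span_singleton_le_iff_mem]; exact hxm 0
    have hne : I ≠ ⊤ := fun h => (maximalIdeal.isMaximal R).ne_top (top_le_iff.mp (h ▸ hIm))
    haveI : Nontrivial (R ⧸ I) := Ideal.Quotient.nontrivial_iff.mpr hne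
    haveI : IsLocalRing (R ⧸ I) :=
      IsLocalRing.of_surjective' (Ideal.Quotient.mk I) Ideal.Quotient.mk_surjective
    have hmax : maximalIdeal (R ⧸ I) = (maximalIdeal R).map (Ideal.Quotient.mk I) := by
      have h1 : (maximalIdeal R).map (Ideal.Quotient.mk I) ≠ ⊤ := by
        intro h
        have h2 : (1 : R ⧸ I) ∈ (maximalIdeal R).map (Ideal.Quotient.mk I) := by
          rw [h]; trivial
        obtain ⟨z, hz, hz1⟩ := (Ideal.mem_map_iff_of_surjective _
          Ideal.Quotient.mk_surjective).mp h2
        have h3 : z - 1 ∈ I := by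
          rw [← Ideal.Quotient.eq, hz1, map_one]
        have h4 : (1 : R) ∈ maximalIdeal R := by
          have := Ideal.sub_mem _ hz (hIm h3)
          simp at this
        exact (maximalIdeal.isMaximal R).ne_top ((Ideal.eq_top_iff_one _).mpr h4)
      exact (IsLocalRing.eq_maximalIdeal
        ((Ideal.map_eq_top_or_isMaximal_of_surjective _ Ideal.Quotient.mk_surjective
          (maximalIdeal.isMaximal R)).resolve_left h1)).symm
    let x' : Fin e → R ⧸ I := fun i => Ideal.Quotient.mk I (x i.succ)
    have hk' : ∀ r : R ⧸ I, ∃ c : k, r - algebraMap k (R ⧸ I) c ∈ maximalIdeal (R ⧸ I) := by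
      intro r'
      obtain ⟨r, rfl⟩ := Ideal.Quotient.mk_surjective r'
      obtain ⟨c, hc⟩ := hk r
      refine ⟨c, ?_⟩
      rw [hmax]
      have : Ideal.Quotient.mk I r - algebraMap k (R ⧸ I) c =
          Ideal.Quotient.mk I (r - algebraMap k R c) := by
        rw [map_sub]; rfl
      rw [this]
      exact Ideal.mem_map_of_mem _ hc
    have hx' : Ideal.span (Set.range x') = maximalIdeal (R ⧸ I) := by
      rw [hmax]
      apply le_antisymm
      · rw [Ideal.span_le]
        rintro _ ⟨i, rfl⟩
        exact Ideal.mem_map_of_mem _ (hxm i.succ)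
      · rw [Ideal.map_le_iff_le_comap, ← hx, Ideal.span_le]
        rintro _ ⟨i, rfl⟩
        rw [SetLike.mem_coe, Ideal.mem_comap]
        refine Fin.cases ?_ (fun i => ?_) i
        · have : Ideal.Quotient.mk I (x 0) = 0 :=
            Ideal.Quotient.eq_zero_iff_mem.mpr (Ideal.mem_span_singleton_self _)
          rw [this]; exact zero_mem _
        · exact Ideal.subset_span ⟨i, rfl⟩
    have hinj' : Inj (k := k) x' := by
      intro r F hF hFm
      set F' : MvPolynomial (Fin (e + 1)) k := rename Fin.succ F with hF'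
      have hF'h : F'.IsHomogeneous r := hF.rename_isHomogeneous
      have h1 : Ideal.Quotient.mk I (aeval x F') = aeval x' F := by
        rw [hF', aeval_rename]
        exact comp_aeval_apply (f := x ∘ Fin.succ) (Ideal.Quotient.mkₐ k I) F
      rw [← h1, hmax, ← Ideal.map_pow] at hFm
      obtain ⟨z, hz, hz1⟩ := (Ideal.mem_map_iff_of_surjective _
        Ideal.Quotient.mk_surjective).mp hFm
      have h3 : aeval x F' - z ∈ I := by
        rw [← Ideal.Quotient.eq, hz1]
      obtain ⟨g, hg⟩ := Ideal.mem_span_singleton'.mp h3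
      -- `g * x 0 = aeval x F' - z`
      have hF'0 : F' = 0 := by
        rcases Nat.eq_zero_or_pos r with hr | hr
        · subst hr
          apply hinj 0 F' hF'h
          have : aeval x F' = z + g * x 0 := by rw [hg]; ring
          rw [this]
          refine Ideal.add_mem _ hz ?_
          rw [zero_add, pow_one]
          exact Ideal.mul_mem_left _ _ (hxm 0)
        · obtain ⟨r', rfl⟩ : ∃ r', r = r' + 1 := ⟨r - 1, by omega⟩
          have h4 : x 0 * g ∈ maximalIdeal R ^ (r' + 1) := by
            rw [mul_comm, hg]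
            exact Ideal.sub_mem _ (aeval_mem_pow _ x hxm hF'h)
              (Ideal.pow_le_pow_right (by omega) hz)
          have h5 := mem_pow_of_mul_mem hk x hx hinj 0 r' g h4
          obtain ⟨G, hG, hgG⟩ := exists_form hk x hx r' g h5
          have h6 : F' - X 0 * G = 0 := by
            apply hinj (r' + 1) _ (hF'h.sub (by
              have := (isHomogeneous_X k (0 : Fin (e + 1))).mul hG
              rwa [Nat.add_comm 1 r'] at this))
            have : aeval x (F' - X 0 * G) = z + x 0 * (g - aeval x G) := by
              rw [map_sub, map_mul, aeval_X]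
              have : aeval x F' = z + g * x 0 := by rw [hg]; ring
              rw [this]; ring
            rw [this]
            refine Ideal.add_mem _ hz ?_
            rw [pow_succ' (maximalIdeal R) (r' + 1)]
            exact Ideal.mul_mem_mul (hxm 0) hgG
          have h7 : F' = X 0 * G := sub_eq_zero.mp h6
          -- apply the substitution `X 0 ↦ 0`
          let ρ : MvPolynomial (Fin (e + 1)) k →ₐ[k] MvPolynomial (Fin e) k :=
            aeval (Fin.cons 0 X : Fin (e + 1) → MvPolynomial (Fin e) k)
          have h8 : ρ F' = F := by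
            change aeval _ (rename Fin.succ F) = F
            rw [aeval_rename]
            have : ((Fin.cons 0 X : Fin (e + 1) → MvPolynomial (Fin e) k) ∘ Fin.succ) = X := by
              funext i; simp
            rw [this, aeval_X_left, AlgHom.id_apply]
          have h9 : ρ (X 0 * G) = 0 := by
            change aeval _ (X 0 * G) = 0
            rw [map_mul, aeval_X]; simp
          have hF0 : F = 0 := by rw [← h8, h7, h9]
          rw [hF', hF0, map_zero]
      have : F = 0 := by
        have hinj_ren : Function.Injective (rename (R := k) (Fin.succ : Fin e → Fin (e + 1))) :=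
          rename_injective _ (Fin.succ_injective e)
        apply hinj_ren
        rw [map_zero]; exact hF'0
      exact this
    have hdim := ih (R ⧸ I) hk' x' hx' hinj'
    have hnzd : x 0 ∈ nonZeroDivisors R := by
      rw [mem_nonZeroDivisors_iff_left]
      intro g hg
      exact eq_zero_of_mul_eq_zero hk x hx hinj 0 g hg
    have h10 := ringKrullDim_quotient_succ_le_of_nonZeroDivisor hnzd
    refine le_trans ?_ h10
    push_cast
    exact add_le_add_left hdim 1

theorem isRegularLocalRing {e : ℕ} {R : Type u} [CommRing R] [Algebra k R] [IsLocalRing R]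
    [IsNoetherianRing R] (hk : ∀ r : R, ∃ c : k, r - algebraMap k R c ∈ maximalIdeal R)
    (x : Fin e → R) (hx : Ideal.span (Set.range x) = maximalIdeal R) (hinj : Inj (k := k) x) :
    IsRegularLocalRing R := by
  apply IsRegularLocalRing.of_spanFinrank_maximalIdeal_le
  refine le_trans ?_ (le_ringKrullDim e R hk x hx hinj)
  have h1 : (maximalIdeal R).spanFinrank ≤ e := by
    rw [← hx]
    refine le_trans (Submodule.spanFinrank_span_le_ncard_of_finite (Set.finite_range x)) ?_
    calc (Set.range x).ncard ≤ (Set.univ : Set (Fin e)).ncard := by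
          rw [← Set.image_univ]; exact Set.ncard_image_le
      _ = e := by simp
  exact_mod_cast h1

end Groth.Agent.Lib.Helper87.FormsInj
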