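import Mathlib
import Groth.Agent.Lib.Helper40.GeomFibRed
import Groth.Agent.Lib.Helper21.FieldDimBC

/-!
# Geometric connectedness tested on algebraically closed fields, and the dimension-one locus
-/

set_option autoImplicit false
set_option linter.style.haveILetI false
universe u
open CategoryTheory CategoryTheory.Limits AlgebraicGeometry

namespace Groth.Agent.Lib.Helper87.GeomConn

/-- Geometric connectedness can be tested on algebraically closed fields. -/
theorem forall_algClosed_connected_iff {X Y : Scheme.{u}} (p : X ⟶ Y) :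
    (∀ (Ω : Type u) [Field Ω] [IsAlgClosed Ω] (t' : Spec (CommRingCat.of Ω) ⟶ Y),
      ConnectedSpace ↥(pullback p t')) ↔ GeometricallyConnected p := by
  constructor
  · intro h
    refine ⟨fun K _ y Z fst snd hZ => ?_⟩
    let ι : Spec (CommRingCat.of (AlgebraicClosure K)) ⟶ Spec (CommRingCat.of K) :=
      Spec.map (CommRingCat.ofHom (algebraMap K (AlgebraicClosure K)))
    haveI hW : ConnectedSpace ↥(pullback p (ι ≫ y)) := h (AlgebraicClosure K) (ι ≫ y)
    have hcond : pullback.fst p (ι ≫ y) ≫ p = (pullback.snd p (ι ≫ y) ≫ ι) ≫ y := by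
      rw [pullback.condition, Category.assoc]
    have hg1 : hZ.lift (pullback.fst p (ι ≫ y)) (pullback.snd p (ι ≫ y) ≫ ι) hcond ≫ fst =
        pullback.fst p (ι ≫ y) := hZ.lift_fst _ _ _
    have hg2 : hZ.lift (pullback.fst p (ι ≫ y)) (pullback.snd p (ι ≫ y) ≫ ι) hcond ≫ snd =
        pullback.snd p (ι ≫ y) ≫ ι := hZ.lift_snd _ _ _
    have big : IsPullback
        (hZ.lift (pullback.fst p (ι ≫ y)) (pullback.snd p (ι ≫ y) ≫ ι) hcond ≫ fst)
        (pullback.snd p (ι ≫ y)) p (ι ≫ y) := by
      rw [hg1]; exact IsPullback.of_hasPullback p (ι ≫ y)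
    have left : IsPullback
        (hZ.lift (pullback.fst p (ι ≫ y)) (pullback.snd p (ι ≫ y) ≫ ι) hcond)
        (pullback.snd p (ι ≫ y)) snd ι := IsPullback.of_right big hg2 hZ
    have hff : (CommRingCat.ofHom (algebraMap K (AlgebraicClosure K))).hom.FaithfullyFlat := by
      show (algebraMap K (AlgebraicClosure K)).FaithfullyFlat
      rw [RingHom.faithfullyFlat_algebraMap_iff]
      infer_instance
    have hfs := (flat_and_surjective_SpecMap_iff
      (CommRingCat.ofHom (algebraMap K (AlgebraicClosure K)))).mpr hff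
    haveI : Surjective ι := hfs.2
    haveI : Surjective (hZ.lift (pullback.fst p (ι ≫ y)) (pullback.snd p (ι ≫ y) ≫ ι) hcond) :=
      MorphismProperty.of_isPullback (P := @Surjective) left.flip inferInstance
    set φ := hZ.lift (pullback.fst p (ι ≫ y)) (pullback.snd p (ι ≫ y) ≫ ι) hcond
    have hsurj : Function.Surjective φ := φ.surjective
    have hpre : _root_.IsPreconnected (Set.univ : Set Z) := by
      have h1 : _root_.IsPreconnected (φ '' (Set.univ : Set ↥(pullback p (ι ≫ y)))) :=
        isPreconnected_univ.image _ φ.continuous.continuousOn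
      rwa [Set.image_univ, hsurj.range_eq] at h1
    haveI : Nonempty Z := (inferInstance : Nonempty ↥(pullback p (ι ≫ y))).map φ
    exact { toPreconnectedSpace := ⟨hpre⟩, toNonempty := inferInstance }
  · intro h Ω _ _ t'
    exact pullback_of_geometrically h.geometrically_connectedSpace Ω t'

end Groth.Agent.Lib.Helper87.GeomConn
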