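import Mathlib
import Groth.Prelude.Def_StCurv2
import Groth.Agent.Lib.Helper40.GeomFibRed

/-!
# Unfolding `CurvSt.GeomFib` for properties of the structure morphism of the geometric fibre
(helper87; generalises helper40's `GeomFibRed.geomFib_iff`)
-/

set_option autoImplicit false
universe u
open CategoryTheory CategoryTheory.Limits AlgebraicGeometry

namespace Groth.Agent.Lib.Helper87.GeomFibQ

open Groth.Agent.Lib.Helper40.GeomFibRed

variable (S : Scheme.{u})

lemma geomFib_aux {T X : Scheme.{u}} (tS : T ⟶ S) (p : X ⟶ T)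
    (Ω : Type u) [Field Ω]
    (P : ∀ (X' : Scheme.{u}), (X' ⟶ Spec (CommRingCat.of Ω)) → Prop)
    (hPiso : ∀ {Z Z' : Scheme.{u}} (e : Z ≅ Z') (q : Z ⟶ Spec (CommRingCat.of Ω))
      (q' : Z' ⟶ Spec (CommRingCat.of Ω)), e.hom ≫ q' = q → P Z q → P Z' q')
    (t' : Spec (CommRingCat.of Ω) ⟶ T) (X' : Scheme.{u})
    (q : X' ⟶ Spec (CommRingCat.of Ω))
    (i : (AlgSp.yon S).obj (Over.mk ((q ≫ t') ≫ tS)) ⟶ (AlgSp.yon S).obj (Over.mk (p ≫ tS)))
    (hP : IsPullback i
        ((AlgSp.yon S).map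
          (Over.homMk q (by simp only [Over.mk_hom, Category.assoc]) :
            Over.mk ((q ≫ t') ≫ tS) ⟶ Over.mk (t' ≫ tS)))
        ((AlgSp.yon S).map (Over.homMk p rfl : Over.mk (p ≫ tS) ⟶ Over.mk tS))
        ((AlgSp.yon S).map (Over.homMk t' rfl : Over.mk (t' ≫ tS) ⟶ Over.mk tS)))
    (h : P (pullback p t') (pullback.snd p t')) : P X' q := by
  have hi : (AlgSp.yon S).map ((AlgSp.yon S).preimage i) = i := Functor.map_preimage _ _
  have hP' : IsPullback ((AlgSp.yon S).map ((AlgSp.yon S).preimage i))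
      ((AlgSp.yon S).map
        (Over.homMk q (by simp only [Over.mk_hom, Category.assoc]) :
          Over.mk ((q ≫ t') ≫ tS) ⟶ Over.mk (t' ≫ tS)))
      ((AlgSp.yon S).map (Over.homMk p rfl : Over.mk (p ≫ tS) ⟶ Over.mk tS))
      ((AlgSp.yon S).map (Over.homMk t' rfl : Over.mk (t' ≫ tS) ⟶ Over.mk tS)) := by
    rw [hi]; exact hP
  have w : (AlgSp.yon S).preimage i ≫ (Over.homMk p rfl : Over.mk (p ≫ tS) ⟶ Over.mk tS) =
      (Over.homMk q (by simp only [Over.mk_hom, Category.assoc]) :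
          Over.mk ((q ≫ t') ≫ tS) ⟶ Over.mk (t' ≫ tS)) ≫
        (Over.homMk t' rfl : Over.mk (t' ≫ tS) ⟶ Over.mk tS) := by
    apply (AlgSp.yon S).map_injective
    exact ((AlgSp.yon S).map_comp _ _).trans (hP'.w.trans ((AlgSp.yon S).map_comp _ _).symm)
  have hO := IsPullback.of_map (AlgSp.yon S) w hP'
  have hS : IsPullback ((AlgSp.yon S).preimage i).left q p t' := hO.map (Over.forget S)
  exact hPiso hS.isoPullback.symm (pullback.snd p t') q
    (by simp) h

/-- Unfolding of `CurvSt.GeomFib` for the sheaf family of a scheme family without marked points,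
for properties of the geometric fibre together with its structure morphism. -/
theorem geomFib_iff {T X : Scheme.{u}} (tS : T ⟶ S) (p : X ⟶ T)
    (P : ∀ (Ω : Type u) [Field Ω] [IsAlgClosed Ω] (X' : Scheme.{u}),
      (X' ⟶ Spec (CommRingCat.of Ω)) → Prop)
    (hPiso : ∀ (Ω : Type u) [Field Ω] [IsAlgClosed Ω] {Z Z' : Scheme.{u}} (e : Z ≅ Z')
      (q : Z ⟶ Spec (CommRingCat.of Ω)) (q' : Z' ⟶ Spec (CommRingCat.of Ω)),
      e.hom ≫ q' = q → P Ω Z q → P Ω Z' q') :
    CurvSt.GeomFib (fun Ω _ _ X' q _ => P Ω X' q)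
        ((CurvSt.toSpFam S 0).obj ⟨Over.mk tS, X, p, Fin.elim0, fun i => i.elim0⟩) ↔
      ∀ (Ω : Type u) [Field Ω] [IsAlgClosed Ω] (t' : Spec (CommRingCat.of Ω) ⟶ T),
        P Ω (pullback p t') (pullback.snd p t') := by
  constructor
  · intro hG Ω _ _ t'
    have hc : pullback.fst p t' ≫ (p ≫ tS) = (pullback.snd p t' ≫ t') ≫ tS := by
      rw [← Category.assoc, pullback.condition]
    let i₀ : Over.mk ((pullback.snd p t' ≫ t') ≫ tS) ⟶ Over.mk (p ≫ tS) :=
      Over.homMk (pullback.fst p t') hc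
    have H : IsPullback i₀.left (pullback.snd p t') p t' := IsPullback.of_hasPullback p t'
    have hO : IsPullback i₀
        (Over.homMk (pullback.snd p t') (by simp only [Over.mk_hom, Category.assoc]) :
          Over.mk ((pullback.snd p t' ≫ t') ≫ tS) ⟶ Over.mk (t' ≫ tS))
        (Over.homMk p rfl : Over.mk (p ≫ tS) ⟶ Over.mk tS)
        (Over.homMk t' rfl : Over.mk (t' ≫ tS) ⟶ Over.mk tS) :=
      isPullback_over S _ _ _ _ H
    exact hG Ω t' (pullback p t') (pullback.snd p t') ((AlgSp.yon S).map i₀)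
      (hO.map (AlgSp.yon S))
  · intro h Ω _ _ t' X' q i hP
    exact geomFib_aux S tS p Ω (P Ω) (hPiso Ω) t' X' q i hP (h Ω t')

end Groth.Agent.Lib.Helper87.GeomFibQ
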