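import Mathlib
import Groth.Prelude.Def_W4c2ratsingkovacsGH

/-!
# Homogeneous localization of ideals and primes of `A_(f)` (helper87)

For an `ℕ`-graded ring `A` and `f` homogeneous of positive degree: primes of `A_(f)` are exactly
the ideals `locIdeal p f` for homogeneous primes `p ∌ f`, the correspondence is an order
embedding, and `ht (locIdeal p f) ≤ ht p`.
-/

set_option autoImplicit false
set_option linter.style.haveILetI false
universe u v

namespace Groth.Agent.Lib.Helper87.GeomHtA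

open W4c2ratsingkovacs HomogeneousLocalization

variable {R : Type u} {A : Type v} [CommRing R] [CommRing A] [Algebra R A]
  (𝒜 : ℕ → Submodule R A) [GradedRing 𝒜]

theorem locIdeal_mono {I I' : Ideal A} (h : I ≤ I') (f : A) :
    locIdeal 𝒜 I f ≤ locIdeal 𝒜 I' f :=
  Ideal.comap_mono (Ideal.map_mono h)

theorem locIdeal_isPrime (p : Ideal A) [hp : p.IsPrime] {f : A} (hf : f ∉ p) :
    (locIdeal 𝒜 p f).IsPrime := by
  unfold locIdeal
  refine Ideal.IsPrime.comap _ (hK := ?_)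
  exact IsLocalization.isPrime_of_isPrime_disjoint (Submonoid.powers f) _ _ hp
    ((Ideal.disjoint_powers_iff_notMem_of_isPrime _).mpr hf)

variable {𝒜}

/-- the fraction `x^m / f^d` of degree zero, for `f ∈ 𝒜 m` and `x ∈ 𝒜 d`. -/
noncomputable def fr {f : A} {m : ℕ} (hf : f ∈ 𝒜 m) {x : A} {d : ℕ} (hx : x ∈ 𝒜 d) :
    HomogeneousLocalization.Away 𝒜 f :=
  HomogeneousLocalization.mk ⟨m * d, ⟨x ^ m, by
      rw [← smul_eq_mul]; exact SetLike.pow_mem_graded m hx⟩,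
    ⟨f ^ d, by rw [mul_comm, ← smul_eq_mul]; exact SetLike.pow_mem_graded d hf⟩, ⟨d, rfl⟩⟩

theorem fr_mem_locIdeal_iff (I : Ideal A) {f : A} {m : ℕ} (hf : f ∈ 𝒜 m) {x : A} {d : ℕ}
    (hx : x ∈ 𝒜 d) :
    fr hf hx ∈ locIdeal 𝒜 I f ↔ ∃ s ∈ Submonoid.powers f, s * x ^ m ∈ I := by
  unfold locIdeal fr
  rw [Ideal.mem_comap, HomogeneousLocalization.algebraMap_apply, HomogeneousLocalization.val_mk,
    Localization.mk_eq_mk']
  exact IsLocalization.mk'_mem_map_algebraMap_iff (Submonoid.powers f) _ I _ _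

theorem fr_mem_locIdeal {I : Ideal A} {f : A} {m : ℕ} (hf : f ∈ 𝒜 m) {x : A} {d : ℕ}
    (hx : x ∈ 𝒜 d) (hxI : x ∈ I) (hm : 0 < m) : fr hf hx ∈ locIdeal 𝒜 I f := by
  rw [fr_mem_locIdeal_iff]
  refine ⟨1, one_mem _, ?_⟩
  rw [one_mul]
  exact Ideal.pow_mem_of_mem _ hxI m hm

theorem mem_of_fr_mem {p : Ideal A} [hp : p.IsPrime] {f : A} (hfp : f ∉ p) {m : ℕ}
    (hf : f ∈ 𝒜 m) {x : A} {d : ℕ} (hx : x ∈ 𝒜 d) (h : fr hf hx ∈ locIdeal 𝒜 p f) : x ∈ p := by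
  rw [fr_mem_locIdeal_iff] at h
  obtain ⟨s, ⟨k, rfl⟩, hs⟩ := h
  rcases hp.mem_or_mem hs with h1 | h1
  · exact absurd (hp.mem_of_pow_mem k h1) hfp
  · exact hp.mem_of_pow_mem m h1

/-- order-reflection: for a homogeneous ideal `I` and a prime `p ∌ f`. -/
theorem le_of_locIdeal_le {I p : Ideal A} (hI : I.IsHomogeneous 𝒜) [hp : p.IsPrime] {f : A}
    (hfp : f ∉ p) {m : ℕ} (hf : f ∈ 𝒜 m) (hm : 0 < m)
    (h : locIdeal 𝒜 I f ≤ locIdeal 𝒜 p f) : I ≤ p := by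
  classical
  intro x hx
  rw [← DirectSum.sum_support_decompose 𝒜 x]
  refine Ideal.sum_mem _ fun i _ => ?_
  have hxi : (DirectSum.decompose 𝒜 x i : A) ∈ I := hI i hx
  exact mem_of_fr_mem hfp hf (SetLike.coe_mem _) (h (fr_mem_locIdeal hf (SetLike.coe_mem _) hxi hm))

/-- every prime of `A_(f)` is `locIdeal p f` for a homogeneous prime `p ∌ f`. -/
theorem exists_prime {f : A} {m : ℕ} (hf : f ∈ 𝒜 m) (hm : 0 < m)
    (𝔮 : Ideal (HomogeneousLocalization.Away 𝒜 f)) [h𝔮 : 𝔮.IsPrime] :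
    ∃ p : Ideal A, p.IsPrime ∧ p.IsHomogeneous 𝒜 ∧ f ∉ p ∧ locIdeal 𝒜 p f = 𝔮 := by
  let q : PrimeSpectrum (HomogeneousLocalization.Away 𝒜 f) := ⟨𝔮, h𝔮⟩
  refine ⟨AlgebraicGeometry.ProjIsoSpecTopComponent.FromSpec.carrier.asIdeal hf hm q,
    AlgebraicGeometry.ProjIsoSpecTopComponent.FromSpec.carrier.asIdeal.prime hf hm q,
    AlgebraicGeometry.ProjIsoSpecTopComponent.FromSpec.carrier.asIdeal.homogeneous hf hm q,
    AlgebraicGeometry.ProjIsoSpecTopComponent.FromSpec.carrier.denom_notMem hf hm q, ?_⟩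
  have := AlgebraicGeometry.ProjIsoSpecTopComponent.toSpec_fromSpec 𝒜 hf hm q
  exact congrArg PrimeSpectrum.asIdeal this

/-- `ht (p_(f)) ≤ ht p` for a homogeneous prime `p ∌ f`. -/
theorem height_locIdeal_le {p : Ideal A} [hp : p.IsPrime] (hph : p.IsHomogeneous 𝒜) {f : A}
    (hfp : f ∉ p) {m : ℕ} (hf : f ∈ 𝒜 m) (hm : 0 < m) :
    (locIdeal 𝒜 p f).height ≤ p.height := by
  classical
  have hD : ∀ 𝔮 : PrimeSpectrum (HomogeneousLocalization.Away 𝒜 f),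
      ∃ p : Ideal A, p.IsPrime ∧ p.IsHomogeneous 𝒜 ∧ f ∉ p ∧ locIdeal 𝒜 p f = 𝔮.asIdeal :=
    fun 𝔮 => exists_prime hf hm 𝔮.asIdeal
  choose P hP1 hP2 hP3 hP4 using hD
  let ψ : PrimeSpectrum (HomogeneousLocalization.Away 𝒜 f) → PrimeSpectrum A :=
    fun 𝔮 => ⟨P 𝔮, hP1 𝔮⟩
  have hle : ∀ a b : PrimeSpectrum (HomogeneousLocalization.Away 𝒜 f), a ≤ b → ψ a ≤ ψ b := by
    intro a b hab
    haveI := hP1 b
    show P a ≤ P b
    refine le_of_locIdeal_le (hP2 a) (hP3 b) hf hm ?_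
    rw [hP4 a, hP4 b]
    exact hab
  have hψ : StrictMono ψ := by
    intro a b hab
    refine lt_of_le_of_ne (hle a b hab.le) ?_
    intro heq
    have h1 : P a = P b := congrArg PrimeSpectrum.asIdeal heq
    have h2 : a.asIdeal = b.asIdeal := by rw [← hP4 a, ← hP4 b, h1]
    exact hab.ne (PrimeSpectrum.ext h2)
  haveI hLp : (locIdeal 𝒜 p f).IsPrime := locIdeal_isPrime 𝒜 p hfp
  let x : PrimeSpectrum (HomogeneousLocalization.Away 𝒜 f) := ⟨locIdeal 𝒜 p f, hLp⟩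
  have hx : ψ x = ⟨p, hp⟩ := by
    apply PrimeSpectrum.ext
    show P x = p
    haveI := hP1 x
    apply le_antisymm
    · exact le_of_locIdeal_le (hP2 x) hfp hf hm (hP4 x).le
    · exact le_of_locIdeal_le hph (hP3 x) hf hm (hP4 x).ge
  have h1 := Order.height_le_height_apply_of_strictMono ψ hψ x
  rw [hx] at h1
  rw [← PrimeSpectrum.height_eq_orderHeight, ← PrimeSpectrum.height_eq_orderHeight] at h1
  exact h1

end Groth.Agent.Lib.Helper87.GeomHtA
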