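import Mathlib

/-!
# Homogeneous prime avoidance inside a homogeneous ideal, `ℕ`-graded rings (helper87)
-/

set_option autoImplicit false
set_option linter.style.haveILetI false
universe u v

namespace Groth.Agent.Lib.Helper87.GeomHtB

variable {R : Type u} {A : Type v} [CommRing R] [CommRing A] [Algebra R A]
  (𝒜 : ℕ → Submodule R A) [GradedRing 𝒜]

/-- homogeneous prime avoidance inside an ideal `J`, for homogeneous primes -/
theorem exists_homogeneous_mem_not_mem_of_hom (J : Ideal A) (s : Finset (Ideal A))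
    (hprime : ∀ p ∈ s, p.IsPrime) (hhom : ∀ p ∈ s, p.IsHomogeneous 𝒜)
    (hI : ∀ p ∈ s, ∃ n : ℕ, 0 < n ∧ ∃ x ∈ 𝒜 n, x ∈ J ∧ x ∉ p) :
    ∃ n : ℕ, 0 < n ∧ ∃ x ∈ 𝒜 n, x ∈ J ∧ ∀ p ∈ s, x ∉ p := by
  classical
  induction s using Finset.strongInduction with
  | H s ih =>
    by_cases hs : s = ∅
    · subst hs
      exact ⟨1, one_pos, 0, zero_mem _, zero_mem _, by simp⟩
    obtain ⟨q, hq, hqmin⟩ := s.exists_minimal (Finset.nonempty_iff_ne_empty.mpr hs)
    obtain ⟨n, hn, x, hx, hxJ, hxs⟩ := ih (s.erase q) (Finset.erase_ssubset hq)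
      (fun p hp => hprime p (Finset.mem_of_mem_erase hp))
      (fun p hp => hhom p (Finset.mem_of_mem_erase hp))
      (fun p hp => hI p (Finset.mem_of_mem_erase hp))
    by_cases hxq : x ∉ q
    · refine ⟨n, hn, x, hx, hxJ, fun p hp => ?_⟩
      by_cases hpq : p = q
      · rw [hpq]; exact hxq
      · exact hxs p (Finset.mem_erase.mpr ⟨hpq, hp⟩)
    rw [not_not] at hxq
    haveI hqp : q.IsPrime := hprime q hq
    obtain ⟨n₀, hn₀, y₀, hy₀, hy₀J, hy₀q⟩ := hI q hq
    have hz : ∀ p ∈ s.erase q, ∃ d : ℕ, ∃ z ∈ 𝒜 d, z ∈ p ∧ z ∉ q := by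
      intro p hp
      have hps : p ∈ s := Finset.mem_of_mem_erase hp
      have hpq : p ≠ q := Finset.ne_of_mem_erase hp
      have hnle : ¬ p ≤ q := by
        intro hle
        exact hpq (le_antisymm hle (hqmin hps hle))
      obtain ⟨a, hap, haq⟩ := Set.not_subset.mp hnle
      have hex : ∃ i : ℕ, (DirectSum.decompose 𝒜 a i : A) ∉ q := by
        by_contra hcon
        push Not at hcon
        apply haq
        rw [← DirectSum.sum_support_decompose 𝒜 a]
        exact Ideal.sum_mem _ fun i _ => hcon i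
      obtain ⟨i, hi⟩ := hex
      exact ⟨i, (DirectSum.decompose 𝒜 a i : A), SetLike.coe_mem _, hhom p hps i hap, hi⟩
    choose! d z hzd hzp hzq using hz
    set y : A := y₀ * ∏ p ∈ s.erase q, z p with hy
    set m : ℕ := n₀ + ∑ p ∈ s.erase q, d p with hm
    have hym : y ∈ 𝒜 m := by
      rw [hm]
      refine SetLike.GradedMul.mul_mem hy₀ ?_
      exact SetLike.prod_mem_graded _ _ _ fun p hp => hzd p hp
    have hyJ : y ∈ J := Ideal.mul_mem_right _ _ hy₀J
    have hyq : y ∉ q := by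
      intro h
      rcases hqp.mem_or_mem h with h | h
      · exact hy₀q h
      · rw [Ideal.IsPrime.prod_mem_iff] at h
        obtain ⟨p, hp, hzpq⟩ := h
        exact hzq p hp hzpq
    have hyp : ∀ p ∈ s.erase q, y ∈ p := fun p hp =>
      Ideal.mul_mem_left _ _ (Ideal.mem_of_dvd _ (Finset.dvd_prod_of_mem z hp) (hzp p hp))
    have hmpos : 0 < m := by omega
    refine ⟨n * m, Nat.mul_pos hn hmpos, x ^ m + y ^ n, ?_, ?_, ?_⟩
    · refine add_mem ?_ ?_
      · have h1 : x ^ m ∈ 𝒜 (m • n) := SetLike.pow_mem_graded m hx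
        have h2 : m • n = n * m := by rw [smul_eq_mul, mul_comm]
        rwa [h2] at h1
      · have h1 : y ^ n ∈ 𝒜 (n • m) := SetLike.pow_mem_graded n hym
        rwa [smul_eq_mul] at h1
    · exact add_mem (Ideal.pow_mem_of_mem _ hxJ m hmpos) (Ideal.pow_mem_of_mem _ hyJ n hn)
    · intro p hp hw
      by_cases hpq : p = q
      · subst hpq
        have h1 : x ^ m ∈ p := Ideal.pow_mem_of_mem _ hxq m hmpos
        have h2 : y ^ n ∈ p := (Ideal.add_mem_iff_right _ h1).mp hw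
        exact hyq (hqp.mem_of_pow_mem n h2)
      · have hpe : p ∈ s.erase q := Finset.mem_erase.mpr ⟨hpq, hp⟩
        haveI : p.IsPrime := hprime p hp
        have h1 : y ^ n ∈ p := Ideal.pow_mem_of_mem _ (hyp p hpe) n hn
        have h2 : x ^ m ∈ p := (Ideal.add_mem_iff_left _ h1).mp hw
        exact hxs p hpe (Ideal.IsPrime.mem_of_pow_mem inferInstance m h2)

/-- homogeneous prime avoidance inside an ideal `J`, for arbitrary primes -/
theorem exists_homogeneous_mem_not_mem (J : Ideal A) (s : Finset (Ideal A))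
    (hprime : ∀ p ∈ s, p.IsPrime)
    (hI : ∀ p ∈ s, ∃ n : ℕ, 0 < n ∧ ∃ x ∈ 𝒜 n, x ∈ J ∧ x ∉ p) :
    ∃ n : ℕ, 0 < n ∧ ∃ x ∈ 𝒜 n, x ∈ J ∧ ∀ p ∈ s, x ∉ p := by
  classical
  obtain ⟨n, hn, x, hx, hxJ, hxs⟩ := exists_homogeneous_mem_not_mem_of_hom 𝒜 J
    (s.image fun p => (p.homogeneousCore 𝒜).toIdeal)
    (by
      intro p' hp'
      obtain ⟨p, hp, rfl⟩ := Finset.mem_image.mp hp'
      exact (hprime p hp).homogeneousCore)
    (by
      intro p' hp'
      obtain ⟨p, hp, rfl⟩ := Finset.mem_image.mp hp'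
      exact (p.homogeneousCore 𝒜).isHomogeneous)
    (by
      intro p' hp'
      obtain ⟨p, hp, rfl⟩ := Finset.mem_image.mp hp'
      obtain ⟨n, hn, x, hx, hxJ, hxp⟩ := hI p hp
      exact ⟨n, hn, x, hx, hxJ, fun h => hxp (Ideal.toIdeal_homogeneousCore_le 𝒜 p h)⟩)
  refine ⟨n, hn, x, hx, hxJ, fun p hp hxp => ?_⟩
  exact hxs _ (Finset.mem_image.mpr ⟨p, hp, rfl⟩)
    (Ideal.mem_homogeneousCore_of_homogeneous_of_mem ⟨n, hx⟩ hxp)

theorem mem_irrelevant_of_mem {f : A} {n : ℕ} (hn : 0 < n) (hf : f ∈ 𝒜 n) :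
    f ∈ (HomogeneousIdeal.irrelevant 𝒜).toIdeal := by
  change f ∈ HomogeneousIdeal.irrelevant 𝒜
  rw [HomogeneousIdeal.mem_irrelevant_iff, GradedRing.proj_apply,
    DirectSum.decompose_of_mem_ne 𝒜 hf hn.ne']

/-- a homogeneous ideal and the irrelevant ideal not contained in a prime `p` give a homogeneous
element of positive degree of the ideal outside `p`. -/
theorem exists_homogeneous_of_not_le {J p : Ideal A} (hJ : J.IsHomogeneous 𝒜) [hp : p.IsPrime]
    (h1 : ¬ J ≤ p) (h2 : ¬ (HomogeneousIdeal.irrelevant 𝒜).toIdeal ≤ p) :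
    ∃ n : ℕ, 0 < n ∧ ∃ x ∈ 𝒜 n, x ∈ J ∧ x ∉ p := by
  classical
  obtain ⟨a, haJ, hap⟩ := Set.not_subset.mp h1
  obtain ⟨b, hbI, hbp⟩ := Set.not_subset.mp h2
  have hexa : ∃ i : ℕ, (DirectSum.decompose 𝒜 a i : A) ∉ p := by
    by_contra hcon
    push Not at hcon
    apply hap
    rw [← DirectSum.sum_support_decompose 𝒜 a]
    exact Ideal.sum_mem _ fun i _ => hcon i
  have hexb : ∃ i : ℕ, (DirectSum.decompose 𝒜 b i : A) ∉ p := by
    by_contra hcon
    push Not at hcon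
    apply hbp
    rw [← DirectSum.sum_support_decompose 𝒜 b]
    exact Ideal.sum_mem _ fun i _ => hcon i
  obtain ⟨i, hi⟩ := hexa
  obtain ⟨j, hj⟩ := hexb
  have hj0 : 0 < j := by
    rcases Nat.eq_zero_or_pos j with h0 | h0
    · exfalso
      apply hj
      subst h0
      have hb0 : b ∈ HomogeneousIdeal.irrelevant 𝒜 := hbI
      rw [HomogeneousIdeal.mem_irrelevant_iff, GradedRing.proj_apply] at hb0
      rw [hb0]
      exact zero_mem _
    · exact h0
  refine ⟨i + j, by omega, (DirectSum.decompose 𝒜 a i : A) * (DirectSum.decompose 𝒜 b j : A),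
    SetLike.GradedMul.mul_mem (SetLike.coe_mem _) (SetLike.coe_mem _),
    Ideal.mul_mem_right _ _ (hJ i haJ), ?_⟩
  intro h
  rcases hp.mem_or_mem h with h | h
  · exact hi h
  · exact hj h

/-- minimal primes over a homogeneous ideal are homogeneous -/
theorem isHomogeneous_of_mem_minimalPrimes {I p : Ideal A} (hI : I.IsHomogeneous 𝒜)
    (hp : p ∈ I.minimalPrimes) : p.IsHomogeneous 𝒜 := by
  haveI := hp.1.1
  have h1 : ((p.homogeneousCore 𝒜).toIdeal).IsPrime := hp.1.1.homogeneousCore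
  have h2 : I ≤ (p.homogeneousCore 𝒜).toIdeal := by
    rw [← hI.toIdeal_homogeneousCore_eq_self]
    exact Ideal.homogeneousCore_mono 𝒜 hp.1.2
  have h3 : p ≤ (p.homogeneousCore 𝒜).toIdeal :=
    hp.2 ⟨h1, h2⟩ (Ideal.toIdeal_homogeneousCore_le 𝒜 p)
  have h4 : (p.homogeneousCore 𝒜).toIdeal = p :=
    le_antisymm (Ideal.toIdeal_homogeneousCore_le 𝒜 p) h3
  rw [← h4]
  exact (p.homogeneousCore 𝒜).isHomogeneous

end Groth.Agent.Lib.Helper87.GeomHtB
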