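import Mathlib
import Groth.Agent.Lib.Helper87.GeomHtA
import Groth.Agent.Lib.Helper87.GeomHtB

/-!
# Homogeneous sequences with prescribed geometric heights (helper87)
-/

set_option autoImplicit false
set_option linter.style.haveILetI false
universe u v

namespace Groth.Agent.Lib.Helper87.GeomHtC

open W4c2ratsingkovacs Groth.Agent.Lib.Helper87.GeomHtA Groth.Agent.Lib.Helper87.GeomHtB

variable {R : Type u} {A : Type v} [CommRing R] [CommRing A] [Algebra R A]
  (𝒜 : ℕ → Submodule R A) [GradedRing 𝒜]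

theorem ofList_isHomogeneous (zs : List A) (hzs : ∀ z ∈ zs, ∃ n : ℕ, z ∈ 𝒜 n) :
    (Ideal.ofList zs).IsHomogeneous 𝒜 :=
  Ideal.homogeneous_span 𝒜 _ fun x hx => hzs x hx

theorem height_le_length [IsNoetherianRing A] (zs : List A) {p : Ideal A}
    (hp : p ∈ (Ideal.ofList zs).minimalPrimes) : p.height ≤ (zs.length : ℕ∞) := by
  classical
  have hfin : ({r | r ∈ zs} : Set A).Finite := List.finite_toSet zs
  have h1 := Ideal.height_le_card_of_mem_minimalPrimes_span hfin hp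
  refine h1.trans ?_
  have h2 : ({r | r ∈ zs} : Set A) = ((zs.toFinset : Finset A) : Set A) := by
    ext x; simp
  rw [h2, Set.ncard_coe_finset]
  exact_mod_cast List.toFinset_card_le zs

variable {𝒜}

theorem geomHeight_le [IsNoetherianRing A] {J : Ideal A} (zs : List A)
    (hzs : ∀ z ∈ zs, (∃ n : ℕ, z ∈ 𝒜 n) ∧ z ∈ J) {f : A} {n : ℕ} (hn : 0 < n) (hf : f ∈ 𝒜 n)
    (hfJ : f ∉ J.radical) : geomHeight 𝒜 (Ideal.ofList zs) f ≤ (zs.length : ℕ∞) := by
  have hex : ∃ P0 : Ideal A, P0.IsPrime ∧ J ≤ P0 ∧ f ∉ P0 := by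
    by_contra hcon
    push Not at hcon
    apply hfJ
    rw [Ideal.radical_eq_sInf, Ideal.mem_sInf]
    intro P0 hP0
    exact hcon P0 hP0.2 hP0.1
  obtain ⟨P0, hP0, hJP0, hfP0⟩ := hex
  have hIJ : Ideal.ofList zs ≤ J := Ideal.span_le.mpr fun x hx => (hzs x hx).2
  obtain ⟨p, hpmin, hpP0⟩ := Ideal.exists_minimalPrimes_le (hIJ.trans hJP0)
  haveI hpp : p.IsPrime := hpmin.1.1
  have hfp : f ∉ p := fun h => hfP0 (hpP0 h)
  have hIh := ofList_isHomogeneous 𝒜 zs fun z hz => (hzs z hz).1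
  have hph := isHomogeneous_of_mem_minimalPrimes 𝒜 hIh hpmin
  unfold geomHeight
  calc (locIdeal 𝒜 (Ideal.ofList zs) f).height
      ≤ (locIdeal 𝒜 p f).height := Ideal.height_mono (locIdeal_mono 𝒜 hpmin.1.2 f)
    _ ≤ p.height := height_locIdeal_le hph hfp hf hn
    _ ≤ (zs.length : ℕ∞) := height_le_length zs hpmin

theorem le_geomHeight_append [IsNoetherianRing A] {J : Ideal A} {h : ℕ} (zs : List A) (z : A)
    (hzs : ∀ z ∈ zs, (∃ n : ℕ, z ∈ 𝒜 n) ∧ z ∈ J) (hzhom : ∃ n : ℕ, z ∈ 𝒜 n)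
    (hlt : zs.length < h) (hJh : HasUniformGeomHeight 𝒜 J h)
    (hz : ∀ p ∈ (Ideal.ofList zs).minimalPrimes, ¬ J ≤ p →
      ¬ (HomogeneousIdeal.irrelevant 𝒜).toIdeal ≤ p → z ∉ p)
    {f : A} {n : ℕ} (hn : 0 < n) (hf : f ∈ 𝒜 n) (hfJ : f ∉ J.radical)
    (hinv : (zs.length : ℕ∞) ≤ geomHeight 𝒜 (Ideal.ofList zs) f) :
    ((zs.length + 1 : ℕ) : ℕ∞) ≤ geomHeight 𝒜 (Ideal.ofList (zs ++ [z])) f := by
  unfold geomHeight at hinv ⊢
  rw [Ideal.height_eq_inf_minimalPrimes]
  refine le_iInf₂ fun 𝔮 h𝔮 => ?_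
  haveI h𝔮p : 𝔮.IsPrime := h𝔮.1.1
  obtain ⟨p, hpp, hph, hfp, hLp⟩ := exists_prime hf hn 𝔮
  haveI := hpp
  have hI'h : (Ideal.ofList (zs ++ [z])).IsHomogeneous 𝒜 := by
    apply ofList_isHomogeneous
    intro w hw
    rcases List.mem_append.mp hw with hw | hw
    · exact (hzs w hw).1
    · rw [List.mem_singleton] at hw
      rw [hw]; exact hzhom
  have hI'p : Ideal.ofList (zs ++ [z]) ≤ p :=
    le_of_locIdeal_le hI'h hfp hf hn (by rw [hLp]; exact h𝔮.1.2)
  have hII' : Ideal.ofList zs ≤ Ideal.ofList (zs ++ [z]) := by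
    rw [Ideal.ofList_append]; exact le_sup_left
  have hzp : z ∈ p := hI'p (Ideal.subset_span (by simp))
  obtain ⟨p', hp'min, hp'le⟩ := Ideal.exists_minimalPrimes_le (hII'.trans hI'p)
  haveI hp'p : p'.IsPrime := hp'min.1.1
  have hfp' : f ∉ p' := fun hh => hfp (hp'le hh)
  have hIh := ofList_isHomogeneous 𝒜 zs fun z hz => (hzs z hz).1
  have hp'h := isHomogeneous_of_mem_minimalPrimes 𝒜 hIh hp'min
  haveI hLp' : (locIdeal 𝒜 p' f).IsPrime := locIdeal_isPrime 𝒜 p' hfp'
  haveI hLpp : (locIdeal 𝒜 p f).IsPrime := locIdeal_isPrime 𝒜 p hfp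
  have h1 : (zs.length : ℕ∞) ≤ (locIdeal 𝒜 p' f).height :=
    hinv.trans (Ideal.height_mono (locIdeal_mono 𝒜 hp'min.1.2 f))
  have hzp' : z ∉ p' := by
    apply hz p' hp'min
    · intro hJp'
      have h2 : (locIdeal 𝒜 J f).height ≤ (zs.length : ℕ∞) :=
        calc (locIdeal 𝒜 J f).height ≤ (locIdeal 𝒜 p' f).height :=
              Ideal.height_mono (locIdeal_mono 𝒜 hJp' f)
          _ ≤ p'.height := height_locIdeal_le hp'h hfp' hf hn
          _ ≤ (zs.length : ℕ∞) := height_le_length zs hp'min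
      have h3 : geomHeight 𝒜 J f = h := hJh f n hn hf hfJ
      unfold geomHeight at h3
      rw [h3] at h2
      have : h ≤ zs.length := by exact_mod_cast h2
      omega
    · intro hirr
      exact hfp' (hirr (mem_irrelevant_of_mem 𝒜 hn hf))
  have hlt' : locIdeal 𝒜 p' f < locIdeal 𝒜 p f := by
    refine lt_of_le_not_ge (locIdeal_mono 𝒜 hp'le f) ?_
    intro hge
    have : p ≤ p' := le_of_locIdeal_le hph hfp' hf hn hge
    exact hzp' (this hzp)
  have h4 := Ideal.height_add_one_le_of_lt_of_isPrime hlt'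
  rw [hLp] at h4
  calc ((zs.length + 1 : ℕ) : ℕ∞) = (zs.length : ℕ∞) + 1 := by push_cast; rfl
    _ ≤ (locIdeal 𝒜 p' f).height + 1 := by gcongr
    _ ≤ 𝔮.height := h4

/-- the main construction -/
theorem exists_list [IsNoetherianRing A] (J : Ideal A) (hJ : J.IsHomogeneous 𝒜) (h : ℕ)
    (hJh : HasUniformGeomHeight 𝒜 J h) (P : Finset (Ideal A))
    (hP : ∀ q ∈ P, q.IsPrime ∧ ¬ J ≤ q ∧ ¬ (HomogeneousIdeal.irrelevant 𝒜).toIdeal ≤ q)
    (j : ℕ) (hj : j ≤ h) :
    ∃ zs : List A, zs.length = j ∧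
      (∀ z ∈ zs, (∃ n : ℕ, 0 < n ∧ z ∈ 𝒜 n) ∧ z ∈ J ∧ ∀ q ∈ P, z ∉ q) ∧
      ∀ (f : A) (n : ℕ), 0 < n → f ∈ 𝒜 n → f ∉ J.radical →
        ∀ i : ℕ, 1 ≤ i → i ≤ j → geomHeight 𝒜 (Ideal.ofList (zs.take i)) f = i := by
  classical
  induction j with
  | zero =>
    refine ⟨[], rfl, by simp, ?_⟩
    intro f n _ _ _ i h1 h0
    omega
  | succ j ih =>
    obtain ⟨zs, hlen, hzs, hht⟩ := ih (by omega)
    have hzs' : ∀ z ∈ zs, (∃ n : ℕ, z ∈ 𝒜 n) ∧ z ∈ J := fun z hz =>
      ⟨let ⟨n, _, hn⟩ := (hzs z hz).1; ⟨n, hn⟩, (hzs z hz).2.1⟩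
    have hfin := Ideal.finite_minimalPrimes_of_isNoetherianRing A (Ideal.ofList zs)
    set S : Finset (Ideal A) := (hfin.toFinset.filter fun p =>
      ¬ J ≤ p ∧ ¬ (HomogeneousIdeal.irrelevant 𝒜).toIdeal ≤ p) ∪ P with hS
    have hSprime : ∀ p ∈ S, p.IsPrime := by
      intro p hp
      rcases Finset.mem_union.mp hp with hp | hp
      · have := (Finset.mem_filter.mp hp).1
        rw [Set.Finite.mem_toFinset] at this
        exact this.1.1
      · exact (hP p hp).1
    have hSI : ∀ p ∈ S, ∃ n : ℕ, 0 < n ∧ ∃ x ∈ 𝒜 n, x ∈ J ∧ x ∉ p := by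
      intro p hp
      haveI := hSprime p hp
      rcases Finset.mem_union.mp hp with hp | hp
      · have := (Finset.mem_filter.mp hp).2
        exact exists_homogeneous_of_not_le 𝒜 hJ this.1 this.2
      · exact exists_homogeneous_of_not_le 𝒜 hJ (hP p hp).2.1 (hP p hp).2.2
    obtain ⟨n₀, hn₀, z, hzn, hzJ, hzS⟩ := exists_homogeneous_mem_not_mem 𝒜 J S hSprime hSI
    have hzmin : ∀ p ∈ (Ideal.ofList zs).minimalPrimes, ¬ J ≤ p →
        ¬ (HomogeneousIdeal.irrelevant 𝒜).toIdeal ≤ p → z ∉ p := by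
      intro p hp h1 h2
      apply hzS p
      apply Finset.mem_union_left
      rw [Finset.mem_filter, Set.Finite.mem_toFinset]
      exact ⟨hp, h1, h2⟩
    refine ⟨zs ++ [z], by simp [hlen], ?_, ?_⟩
    · intro w hw
      rcases List.mem_append.mp hw with hw | hw
      · exact hzs w hw
      · rw [List.mem_singleton] at hw
        subst hw
        exact ⟨⟨n₀, hn₀, hzn⟩, hzJ, fun q hq => hzS q (Finset.mem_union_right _ hq)⟩
    · intro f n hn hf hfJ i hi1 hij
      rcases Nat.lt_or_ge i (j + 1) with hlt | hge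
      · have hile : i ≤ zs.length := by omega
        rw [List.take_append_of_le_length hile]
        exact hht f n hn hf hfJ i hi1 (by omega)
      · have hieq : i = j + 1 := by omega
        subst hieq
        have htake : (zs ++ [z]).take (j + 1) = zs ++ [z] := by
          apply List.take_of_length_le
          simp [hlen]
        rw [htake]
        apply le_antisymm
        · have := geomHeight_le (J := J) (zs ++ [z]) (by
            intro w hw
            rcases List.mem_append.mp hw with hw | hw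
            · exact hzs' w hw
            · rw [List.mem_singleton] at hw
              subst hw
              exact ⟨⟨n₀, hzn⟩, hzJ⟩) hn hf hfJ
          simpa [hlen] using this
        · have hinv : (zs.length : ℕ∞) ≤ geomHeight 𝒜 (Ideal.ofList zs) f := by
            rcases Nat.eq_zero_or_pos j with h0 | h0
            · rw [hlen, h0]; simp
            · have := hht f n hn hf hfJ j h0 le_rfl
              rw [← hlen, List.take_length] at this
              rw [this]
          have := le_geomHeight_append zs z hzs' ⟨n₀, hzn⟩ (by omega) hJh hzmin hn hf hfJ hinv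
          rw [hlen] at this
          exact this

end Groth.Agent.Lib.Helper87.GeomHtC
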