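import Groth.Agent.Lib.Helper87.GrDepthE

/-!
# A Noetherian graded ring is Cohen–Macaulay iff it is so at its homogeneous primes
-/

set_option autoImplicit false
set_option linter.style.haveILetI false
universe u
open IsLocalRing

namespace Groth.Agent.Lib.Helper87.GrCM

open Groth.Agent.Lib.Helper87.GrHtC
open Groth.Agent.Lib.Helper29 Groth.Agent.Lib.Helper29.CMLib Groth.Agent.Lib.Helper49.CMFibre
  Groth.Agent.Lib.Helper49.Serre

section LocLoc

variable {R : Type u} [CommRing R]

/-- `LocalizedModule` of the ring itself versus the localization. -/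
noncomputable def locSelfEquiv (p : Ideal R) [p.IsPrime] :
    LocalizedModule p.primeCompl R ≃ₗ[Localization.AtPrime p] Localization.AtPrime p :=
  LinearEquiv.extendScalarsOfIsLocalization p.primeCompl (Localization.AtPrime p)
    (IsLocalizedModule.iso p.primeCompl (Algebra.linearMap R (Localization.AtPrime p)))

theorem depth_localizedModule_self (p : Ideal R) [p.IsPrime] :
    LocCoh.depth (Localization.AtPrime p) (LocalizedModule p.primeCompl R) =
      LocCoh.depth (Localization.AtPrime p) (Localization.AtPrime p) :=
  depth_congr (locSelfEquiv p)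

variable [IsNoetherianRing R]

/-- If `R_m` is Cohen–Macaulay then so is `R_P` for every prime `P ≤ m`. -/
theorem depth_eq_height_of_le (m P : Ideal R) [m.IsPrime] [hPp : P.IsPrime] (hPm : P ≤ m)
    (hm : LocCoh.IsCohenMacaulayLocalRing (Localization.AtPrime m)) :
    LocCoh.depth (Localization.AtPrime P) (Localization.AtPrime P) = P.height := by
  have hdisj : Disjoint (m.primeCompl : Set R) (P : Set R) := by
    rw [Set.disjoint_left]
    intro x hx hxP
    exact hx (hPm hxP)
  have hp' : (P.map (algebraMap R (Localization.AtPrime m))).IsPrime :=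
    IsLocalization.isPrime_of_isPrime_disjoint m.primeCompl (Localization.AtPrime m) P hPp hdisj
  have hcomap : (P.map (algebraMap R (Localization.AtPrime m))).comap
      (algebraMap R (Localization.AtPrime m)) = P :=
    IsLocalization.under_map_of_isPrime_disjoint m.primeCompl (Localization.AtPrime m) hPp hdisj
  have hA : LocCoh.IsCohenMacaulayModule (Localization.AtPrime m) (Localization.AtPrime m) :=
    hm.supportDim_eq_depth
  have hsupp : (⟨P.map (algebraMap R (Localization.AtPrime m)), hp'⟩ :
      PrimeSpectrum (Localization.AtPrime m)) ∈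
      Module.support (Localization.AtPrime m) (Localization.AtPrime m) := by
    rw [Module.support_eq_zeroLocus, Module.annihilator_eq_bot.mpr inferInstance]
    simp
  have h1 := (isCM_localizedModule_and_dim (Localization.AtPrime m) (Localization.AtPrime m) hA
    ⟨P.map (algebraMap R (Localization.AtPrime m)), hp'⟩ hsupp).1
  have h2 : LocCoh.depth (Localization.AtPrime (P.map (algebraMap R (Localization.AtPrime m))))
      (Localization.AtPrime (P.map (algebraMap R (Localization.AtPrime m)))) =
      (P.map (algebraMap R (Localization.AtPrime m))).height := by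
    have h3 := (isCohenMacaulayModule_congr
      (locSelfEquiv (P.map (algebraMap R (Localization.AtPrime m))))).1 h1
    unfold LocCoh.IsCohenMacaulayModule at h3
    rw [Module.supportDim_self_eq_ringKrullDim, IsLocalization.AtPrime.ringKrullDim_eq_height
      (P.map (algebraMap R (Localization.AtPrime m)))] at h3
    exact (WithBot.coe_inj.mp h3).symm
  have e := (IsLocalization.localizationLocalizationAtPrimeIsoLocalization m.primeCompl
    (P.map (algebraMap R (Localization.AtPrime m)))).toRingEquiv
  have key : ∀ (P' : Ideal R) [P'.IsPrime], P' = P →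
      LocCoh.depth (Localization.AtPrime P') (Localization.AtPrime P') = P'.height →
      LocCoh.depth (Localization.AtPrime P) (Localization.AtPrime P) = P.height := by
    intro P' _ h
    subst h
    exact id
  haveI : ((P.map (algebraMap R (Localization.AtPrime m))).comap
      (algebraMap R (Localization.AtPrime m))).IsPrime := Ideal.comap_isPrime _ _
  apply key _ hcomap
  rw [depth_eq_of_ringEquiv e, h2]
  exact (IsLocalization.height_under m.primeCompl _).symm

end LocLoc

section Graded

variable {ι : Type} [AddCommGroup ι] [DecidableEq ι] [Module.Free ℤ ι] [Module.Finite ℤ ι]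
variable {R : Type u} [CommRing R] [IsNoetherianRing R] (𝒜 : ι → AddSubgroup R) [GradedRing 𝒜]

theorem depth_eq_height_of_core (p : Ideal R) [hp : p.IsPrime]
    [hP : (Ideal.homogeneousCore 𝒜 p).toIdeal.IsPrime]
    (h : LocCoh.depth (Localization.AtPrime (Ideal.homogeneousCore 𝒜 p).toIdeal)
      (Localization.AtPrime (Ideal.homogeneousCore 𝒜 p).toIdeal) =
      (Ideal.homogeneousCore 𝒜 p).toIdeal.height) :
    LocCoh.depth (Localization.AtPrime p) (Localization.AtPrime p) = p.height := by
  have hq : (p.map (Ideal.Quotient.mk (Ideal.homogeneousCore 𝒜 p).toIdeal)).IsPrime :=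
    Ideal.map_isPrime_of_surjective Ideal.Quotient.mk_surjective
      (by rw [Ideal.mk_ker]; exact Ideal.toIdeal_homogeneousCore_le 𝒜 p)
  have hfin : (p.map (Ideal.Quotient.mk (Ideal.homogeneousCore 𝒜 p).toIdeal)).height ≠ ⊤ :=
    Ideal.height_ne_top hq.ne_top
  obtain ⟨d, hd⟩ := ENat.ne_top_iff_exists.1 hfin
  have h1 := GrDepthE.main 𝒜 𝒜 p d hd.symm
  rw [depth_localizedModule_self, depth_localizedModule_self, h] at h1
  rw [h1, GrHtC.height_eq (𝒜 := 𝒜) p, ← hd]

/-- A Noetherian graded ring which is Cohen–Macaulay at its homogeneous primes is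
Cohen–Macaulay. -/
theorem isCM_of_forall_homogeneous
    (h : ∀ (P : Ideal R) [P.IsPrime], P.IsHomogeneous 𝒜 →
      LocCoh.depth (Localization.AtPrime P) (Localization.AtPrime P) = P.height) :
    LocCoh.IsCohenMacaulayRing R := by
  rw [isCM_iff_depth_eq_height]
  intro p hp
  haveI := core_isPrime (𝒜 := 𝒜) p
  exact depth_eq_height_of_core 𝒜 p (h _ (p.homogeneousCore 𝒜).isHomogeneous)

end Graded

end Groth.Agent.Lib.Helper87.GrCM
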