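import Groth.Agent.Lib.Helper87.GrHtA

/-!
# The group algebra `R[ι]` : ideals of elements with coefficients in a given ideal
-/

set_option autoImplicit false
universe u
open AddMonoidAlgebra

namespace Groth.Agent.Lib.Helper87.GrHtB

variable {ι : Type} [AddCommGroup ι]
variable {R : Type u} [CommRing R]

/-- the ideal of elements of `R[ι]` all of whose coefficients lie in `I` -/
def coeffIdeal (ι : Type) [AddCommGroup ι] (I : Ideal R) : Ideal (AddMonoidAlgebra R ι) where
  carrier := {f | ∀ i, f.coeff i ∈ I}
  add_mem' := by
    intro f g hf hg i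
    rw [coeff_add, Finsupp.add_apply]
    exact I.add_mem (hf i) (hg i)
  zero_mem' := by
    intro i
    simp
  smul_mem' := by
    intro g f hf i
    rw [smul_eq_mul, coeff_mul_apply_left]
    exact Ideal.sum_mem _ fun j _ => I.mul_mem_left _ (hf _)

theorem mem_coeffIdeal {I : Ideal R} {f : AddMonoidAlgebra R ι} :
    f ∈ coeffIdeal ι I ↔ ∀ i, f.coeff i ∈ I := Iff.rfl

theorem map_algebraMap_eq (I : Ideal R) :
    I.map (algebraMap R (AddMonoidAlgebra R ι)) = coeffIdeal ι I := by
  classical
  apply le_antisymm
  · rw [Ideal.map_le_iff_le_comap]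
    intro r hr
    rw [Ideal.mem_comap, mem_coeffIdeal]
    intro i
    rw [coe_algebraMap, Function.comp_apply, Algebra.algebraMap_self_apply, coeff_single,
      Finsupp.single_apply]
    split_ifs
    · exact hr
    · exact I.zero_mem
  · intro f hf
    rw [← sum_coeff_single f]
    refine Ideal.sum_mem _ fun i _ => ?_
    have : single i (f.coeff i) = single i (1 : R) * algebraMap R (AddMonoidAlgebra R ι) (f.coeff i) := by
      rw [coe_algebraMap, Function.comp_apply, Algebra.algebraMap_self_apply, single_mul_single,
        add_zero, one_mul]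
    rw [this]
    exact Ideal.mul_mem_left _ _ (Ideal.mem_map_of_mem _ (hf i))


theorem coeffIdeal_eq_ker (I : Ideal R) :
    coeffIdeal ι I = RingHom.ker (AddMonoidAlgebra.mapRingHom ι (Ideal.Quotient.mk I)) := by
  ext f
  rw [mem_coeffIdeal, RingHom.mem_ker, ← coeff_inj]
  constructor
  · intro h
    ext i
    rw [coeff_mapRingHom, coeff_zero, Finsupp.zero_apply, Ideal.Quotient.eq_zero_iff_mem]
    exact h i
  · intro h i
    have := DFunLike.congr_fun h i
    rw [coeff_mapRingHom, coeff_zero, Finsupp.zero_apply, Ideal.Quotient.eq_zero_iff_mem] at this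
    exact this

section free

variable [Module.Free ℤ ι] [Module.Finite ℤ ι]

theorem tf : IsAddTorsionFree ι := Module.isTorsionFree_int_iff_isAddTorsionFree.mp inferInstance

theorem fg : AddMonoid.FG ι :=
  AddGroup.fg_iff_addMonoid_fg.mp (Module.Finite.iff_addGroup_fg.mp inferInstance)

theorem noZeroDivisors (D : Type u) [CommRing D] [IsDomain D] :
    NoZeroDivisors (AddMonoidAlgebra D ι) := by
  have := tf (ι := ι)
  have := fg (ι := ι)
  infer_instance

theorem isNoetherianRing [IsNoetherianRing R] : IsNoetherianRing (AddMonoidAlgebra R ι) := by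
  have := fg (ι := ι)
  have : Algebra.FiniteType R (AddMonoidAlgebra R ι) := inferInstance
  exact Algebra.FiniteType.isNoetherianRing R _

theorem coeffIdeal_isPrime (p : Ideal R) [hp : p.IsPrime] : (coeffIdeal ι p).IsPrime := by
  rw [coeffIdeal_eq_ker]
  have := noZeroDivisors (ι := ι) (R ⧸ p)
  have : Nontrivial (AddMonoidAlgebra (R ⧸ p) ι) := inferInstance
  have : IsDomain (AddMonoidAlgebra (R ⧸ p) ι) := NoZeroDivisors.to_isDomain _
  exact RingHom.ker_isPrime _

end free

theorem comap_coeffIdeal (I : Ideal R) :
    (coeffIdeal ι I).comap (algebraMap R (AddMonoidAlgebra R ι)) = I := by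
  classical
  ext x
  rw [Ideal.mem_comap, mem_coeffIdeal]
  constructor
  · intro h
    have := h 0
    rwa [coe_algebraMap, Function.comp_apply, Algebra.algebraMap_self_apply, coeff_single,
      Finsupp.single_apply, if_pos rfl] at this
  · intro hx i
    rw [coe_algebraMap, Function.comp_apply, Algebra.algebraMap_self_apply, coeff_single,
      Finsupp.single_apply]
    split_ifs
    · exact hx
    · exact I.zero_mem

end Groth.Agent.Lib.Helper87.GrHtB
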