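import Mathlib
import Groth.Agent.Lib.Helper87.RelLength

/-!
# Index calculus for linear maps with finite kernel and cokernel, alternating sums
-/

set_option autoImplicit false

namespace Groth.Agent.Lib.Helper87.KzIndex

open Groth.Agent.Lib.Helper87.RelLength

section index

variable {R : Type*} [Ring R] {U V W X Y : Type*} [AddCommGroup U] [Module R U]
  [AddCommGroup V] [Module R V] [AddCommGroup W] [Module R W] [AddCommGroup X] [Module R X]
  [AddCommGroup Y] [Module R Y]

/-- the length of the kernel -/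
noncomputable def kerL (f : U →ₗ[R] V) : ℕ∞ := Module.length R (LinearMap.ker f)

/-- the length of the cokernel -/
noncomputable def cokL (f : U →ₗ[R] V) : ℕ∞ := Module.length R (V ⧸ LinearMap.range f)

theorem length_eq_kerL_add_range (f : U →ₗ[R] V) :
    Module.length R U = kerL f + Module.length R (LinearMap.range f) := by
  have h := length_eq_inf_ker_add_map f (⊤ : Submodule R U)
  rw [top_inf_eq, Submodule.map_top, Module.length_top] at h
  exact h

theorem length_eq_range_add_cokL (f : U →ₗ[R] V) :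
    Module.length R V = Module.length R (LinearMap.range f) + cokL f :=
  Module.length_eq_add_of_exact (LinearMap.range f).subtype (LinearMap.range f).mkQ
    (Submodule.subtype_injective _) (Submodule.mkQ_surjective _)
    (LinearMap.exact_subtype_mkQ _)

theorem kerL_of_exact {u : U →ₗ[R] V} {f : V →ₗ[R] W} (h : Function.Exact u f) :
    kerL f = Module.length R (LinearMap.range u) := by
  unfold kerL
  rw [LinearMap.exact_iff.mp h]

theorem cokL_of_exact {f : U →ₗ[R] V} {v : V →ₗ[R] W} (h : Function.Exact f v) :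
    cokL f = Module.length R (LinearMap.range v) := by
  unfold cokL
  rw [← LinearMap.exact_iff.mp h]
  exact v.quotKerEquivRange.length_eq

/-- In an exact sequence `U -f-> V -α-> W -β-> X -g-> Y`, `ℓ(W) = ℓ(coker f) + ℓ(ker g)`. -/
theorem length_mid {f : U →ₗ[R] V} {α : V →ₗ[R] W} {β : W →ₗ[R] X} {g : X →ₗ[R] Y}
    (h1 : Function.Exact f α) (h2 : Function.Exact α β) (h3 : Function.Exact β g) :
    Module.length R W = cokL f + kerL g := by
  rw [length_eq_kerL_add_range β, kerL_of_exact h2, cokL_of_exact h1, kerL_of_exact h3]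

theorem rl_comap (ι : V →ₗ[R] W) (P' : Submodule R W) (Q : Submodule R V) :
    rl (P'.comap ι) Q = rl P' (Q.map ι) := by
  rw [rl_def, rl_def, ← Submodule.map_comp]
  apply length_map_eq_of_inf_ker_eq
  rw [Submodule.ker_mkQ, LinearMap.ker_comp, Submodule.ker_mkQ]

theorem rl_sup_left (P Q : Submodule R V) : rl P (Q ⊔ P) = rl P Q := by
  rw [rl_def, rl_def, Submodule.map_sup]
  have h0 : P.map P.mkQ = ⊥ := by
    rw [← LinearMap.le_ker_iff_map, Submodule.ker_mkQ]
  rw [h0, sup_bot_eq]

/-- The kernel-cokernel decomposition for a composite. -/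
theorem comp_decomp (π : U →ₗ[R] V) (ι : V →ₗ[R] W) :
    ∃ b c d : ℕ∞, kerL (ι ∘ₗ π) = kerL π + b ∧ kerL ι = b + c ∧ cokL π = c + d ∧
      cokL (ι ∘ₗ π) = d + cokL ι := by
  set K := LinearMap.ker ι with hK
  set Rg := LinearMap.range π with hRg
  have e1 : kerL (ι ∘ₗ π) = kerL π + Module.length R ↥(K ⊓ Rg) := by
    unfold kerL
    rw [LinearMap.ker_comp, length_eq_inf_ker_add_map π (K.comap π)]
    congr 1
    · apply length_congr
      exact inf_eq_right.mpr (fun x hx => by
        rw [Submodule.mem_comap, LinearMap.mem_ker.mp hx]; exact K.zero_mem)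
    · apply length_congr
      rw [Submodule.map_comap_eq, inf_comm]
  have e2 : kerL ι = Module.length R ↥(K ⊓ Rg) + rl Rg K := by
    unfold kerL
    have h := length_eq_inf_ker_add_map Rg.mkQ K
    rw [Submodule.ker_mkQ] at h
    exact h
  have e3 : cokL π = rl Rg K + rl (K ⊔ Rg) ⊤ := by
    unfold cokL
    rw [← rl_top, rl_add (le_sup_right : Rg ≤ K ⊔ Rg) le_top, rl_sup_left]
  have e4 : cokL (ι ∘ₗ π) = rl (K ⊔ Rg) ⊤ + cokL ι := by
    unfold cokL
    rw [← rl_top, ← rl_top, LinearMap.range_comp,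
      rl_add (Submodule.map_mono le_top : Rg.map ι ≤ (⊤ : Submodule R V).map ι) le_top,
      ← rl_comap, Submodule.comap_map_eq, Submodule.map_top, sup_comm]
  exact ⟨_, _, _, e1, e2, e3, e4⟩

/-- finite kernel and cokernel -/
def IsFred (f : U →ₗ[R] V) : Prop := kerL f ≠ ⊤ ∧ cokL f ≠ ⊤

/-- the index of a linear map -/
noncomputable def ind (f : U →ₗ[R] V) : ℤ := ((cokL f).toNat : ℤ) - ((kerL f).toNat : ℤ)

theorem IsFred.comp_and_ind {π : U →ₗ[R] V} {ι : V →ₗ[R] W} (hπ : IsFred π) (hι : IsFred ι) :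
    IsFred (ι ∘ₗ π) ∧ ind (ι ∘ₗ π) = ind π + ind ι := by
  obtain ⟨b, c, d, e1, e2, e3, e4⟩ := comp_decomp π ι
  obtain ⟨hπ1, hπ2⟩ := hπ
  obtain ⟨hι1, hι2⟩ := hι
  have hb : b ≠ ⊤ := fun h => hι1 (by rw [e2, h, top_add])
  have hc : c ≠ ⊤ := fun h => hι1 (by rw [e2, h, add_top])
  have hd : d ≠ ⊤ := fun h => hπ2 (by rw [e3, h, add_top])
  refine ⟨⟨?_, ?_⟩, ?_⟩
  · rw [e1]; exact WithTop.add_ne_top.mpr ⟨hπ1, hb⟩
  · rw [e4]; exact WithTop.add_ne_top.mpr ⟨hd, hι2⟩
  · unfold ind
    rw [e4, e1]
    have h2 : kerL ι = b + c := e2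
    have h3 : cokL π = c + d := e3
    rw [ENat.toNat_add hd hι2, ENat.toNat_add hπ1 hb, h2, h3, ENat.toNat_add hb hc,
      ENat.toNat_add hc hd]
    push_cast
    ring

theorem IsFred.comp {π : U →ₗ[R] V} {ι : V →ₗ[R] W} (hπ : IsFred π) (hι : IsFred ι) :
    IsFred (ι ∘ₗ π) := (hπ.comp_and_ind hι).1

theorem ind_comp {π : U →ₗ[R] V} {ι : V →ₗ[R] W} (hπ : IsFred π) (hι : IsFred ι) :
    ind (ι ∘ₗ π) = ind π + ind ι := (hπ.comp_and_ind hι).2

theorem kerL_comp_le (π : U →ₗ[R] V) (ι : V →ₗ[R] W) : kerL (ι ∘ₗ π) ≤ kerL π + kerL ι := by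
  obtain ⟨b, c, d, e1, e2, e3, e4⟩ := comp_decomp π ι
  rw [e1, e2]
  gcongr
  exact le_self_add

theorem cokL_comp_le (π : U →ₗ[R] V) (ι : V →ₗ[R] W) : cokL (ι ∘ₗ π) ≤ cokL π + cokL ι := by
  obtain ⟨b, c, d, e1, e2, e3, e4⟩ := comp_decomp π ι
  rw [e4, e3]
  gcongr
  exact le_add_self

end index

section alt

/-- the sign `(-1)^i` -/
def sgn (i : ℤ) : ℤ := ((i.negOnePow : ℤˣ) : ℤ)

theorem sgn_succ (i : ℤ) : sgn (i + 1) = - sgn i := by
  simp [sgn, Int.negOnePow_succ]

theorem sgn_zero : sgn 0 = 1 := by simp [sgn]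

/-- the alternating sum of a finitely supported function on `ℤ` -/
noncomputable def alt (f : ℤ → ℤ) : ℤ := ∑ᶠ i, sgn i * f i

theorem alt_shift (f : ℤ → ℤ) : alt (fun i => f (i + 1)) = - alt f := by
  unfold alt
  have h := finsum_comp_equiv (Equiv.addRight (1 : ℤ)) (f := fun i => sgn i * f i)
  simp only [Equiv.coe_addRight, sgn_succ, neg_mul] at h
  rw [finsum_neg_distrib] at h
  rw [← h, neg_neg]

theorem support_sgn_mul (f : ℤ → ℤ) :
    Function.support (fun i => sgn i * f i) ⊆ Function.support f := by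
  intro i hi
  rw [Function.mem_support] at hi ⊢
  intro h0
  exact hi (by rw [h0, mul_zero])

theorem alt_add {f g : ℤ → ℤ} (hf : (Function.support f).Finite)
    (hg : (Function.support g).Finite) : alt (fun i => f i + g i) = alt f + alt g := by
  unfold alt
  rw [← finsum_add_distrib (hf.subset (support_sgn_mul f)) (hg.subset (support_sgn_mul g))]
  refine finsum_congr fun i => ?_
  ring

theorem alt_neg (f : ℤ → ℤ) : alt (fun i => - f i) = - alt f := by
  unfold alt
  rw [← finsum_neg_distrib]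
  refine finsum_congr fun i => ?_
  ring

theorem alt_sub {f g : ℤ → ℤ} (hf : (Function.support f).Finite)
    (hg : (Function.support g).Finite) : alt (fun i => f i - g i) = alt f - alt g := by
  have hg' : (Function.support fun i => - g i).Finite := by
    refine hg.subset fun i hi => ?_
    rw [Function.mem_support] at hi ⊢
    intro h0
    exact hi (by rw [h0, neg_zero])
  have := alt_add hf hg'
  rw [alt_neg] at this
  simp only [← sub_eq_add_neg] at this
  exact this

theorem alt_congr {f g : ℤ → ℤ} (h : ∀ i, f i = g i) : alt f = alt g := by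
  have : f = g := funext h
  rw [this]

theorem support_shift_finite {f : ℤ → ℤ} (hf : (Function.support f).Finite) :
    (Function.support fun i => f (i + 1)).Finite := by
  have : (Function.support fun i => f (i + 1)) = (Equiv.addRight (1 : ℤ)) ⁻¹' Function.support f := by
    ext i
    simp
  rw [this]
  exact hf.preimage (Equiv.injective _).injOn

/-- supported in an interval -/
theorem finite_support_of_Icc {f : ℤ → ℤ} (a b : ℤ) (h : ∀ i, (i < a ∨ b < i) → f i = 0) :
    (Function.support f).Finite := by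
  refine (Set.finite_Icc a b).subset fun i hi => ?_
  rw [Function.mem_support] at hi
  by_contra hn
  rw [Set.mem_Icc, not_and_or, not_le, not_le] at hn
  exact hi (h i hn)

end alt

end Groth.Agent.Lib.Helper87.KzIndex
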