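import Mathlib
import Groth.Agent.Lib.Helper87.KzBasic
import Groth.Agent.Lib.Helper87.KzIndex

/-!
# The Euler characteristic of Koszul cohomology
-/

set_option autoImplicit false
universe u

namespace Groth.Agent.Lib.Helper87.KzEuler

open Groth.Agent.Lib.Helper87.KzMod Groth.Agent.Lib.Helper87.KzBasic
  Groth.Agent.Lib.Helper87.KzIndex

variable {A : Type u} [CommRing A]

/-- multiplication by `a` on a module -/
abbrev mulL (a : A) (H : Type*) [AddCommGroup H] [Module A H] : H →ₗ[A] H :=
  LinearMap.lsmul A H a

section basic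

variable {H : Type*} [AddCommGroup H] [Module A H]

theorem kerL_of_subsingleton {H' : Type*} [AddCommGroup H'] [Module A H'] [Subsingleton H]
    (f : H →ₗ[A] H') : kerL f = 0 := by
  unfold kerL
  exact Module.length_eq_zero

theorem cokL_of_subsingleton {H' : Type*} [AddCommGroup H'] [Module A H'] [Subsingleton H']
    (f : H →ₗ[A] H') : cokL f = 0 := by
  unfold cokL
  exact Module.length_eq_zero

theorem ind_of_subsingleton [Subsingleton H] (f : H →ₗ[A] H) : ind f = 0 := by
  unfold ind
  rw [kerL_of_subsingleton, cokL_of_subsingleton]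
  simp

end basic

variable (l : List A) (M : Type u) [AddCommGroup M] [Module A M]

/-- the lengths of Koszul cohomology -/
noncomputable def hL (i : ℤ) : ℤ := ((Module.length A (KH l M i)).toNat : ℤ)

/-- the Euler characteristic of Koszul cohomology -/
noncomputable def chiK : ℤ := alt (hL l M)

theorem hL_eq_zero (i : ℤ) (hi : 0 < i ∨ i < -(l.length : ℤ)) : hL l M i = 0 := by
  have := KH_subsingleton M l i hi
  unfold hL
  rw [Module.length_eq_zero]
  simp

theorem hL_support_finite : (Function.support (hL l M)).Finite :=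
  finite_support_of_Icc (-(l.length : ℤ)) 0 (fun i hi => hL_eq_zero l M i hi.symm)

theorem cone_length (a : A) (i j : ℤ) (hij : i + 1 = j) :
    Module.length A (KH (a :: l) M i) =
      cokL (mulL a (KH l M i)) + kerL (mulL a (KH l M j)) := by
  obtain ⟨α, β, h1, h2, h3⟩ := KH_cone a l M i j hij
  exact length_mid h1 h2 h3

theorem isFred_mulL (a : A) (hfin : ∀ i, Module.length A (KH (a :: l) M i) ≠ ⊤) (i : ℤ) :
    IsFred (mulL a (KH l M i)) := by
  constructor
  · have h := cone_length l M a (i - 1) i (by omega)
    intro htop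
    rw [htop, add_top] at h
    exact hfin _ h
  · have h := cone_length l M a i (i + 1) rfl
    intro htop
    rw [htop, top_add] at h
    exact hfin _ h

theorem ind_mulL_eq_zero (a : A) (i : ℤ) (hi : 0 < i ∨ i < -(l.length : ℤ)) :
    ind (mulL a (KH l M i)) = 0 := by
  have := KH_subsingleton M l i hi
  exact ind_of_subsingleton _

/-- `χ(a :: l; M) = Σ (-1)^i ind(a | H^i(l; M))`. -/
theorem chiK_cons_eq_alt_ind (a : A) (hfin : ∀ i, Module.length A (KH (a :: l) M i) ≠ ⊤) :
    chiK (a :: l) M = alt (fun i => ind (mulL a (KH l M i))) := by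
  have hF := isFred_mulL l M a hfin
  set c : ℤ → ℤ := fun i => ((cokL (mulL a (KH l M i))).toNat : ℤ) with hc
  set k : ℤ → ℤ := fun i => ((kerL (mulL a (KH l M i))).toNat : ℤ) with hk
  have hcs : (Function.support c).Finite :=
    finite_support_of_Icc (-(l.length : ℤ)) 0 (fun i hi => by
      have := KH_subsingleton M l i hi.symm
      simp only [hc]
      rw [cokL_of_subsingleton]
      simp)
  have hks : (Function.support k).Finite :=
    finite_support_of_Icc (-(l.length : ℤ)) 0 (fun i hi => by
      have := KH_subsingleton M l i hi.symm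
      simp only [hk]
      rw [kerL_of_subsingleton]
      simp)
  have h1 : ∀ i, hL (a :: l) M i = c i + k (i + 1) := by
    intro i
    unfold hL
    rw [cone_length l M a i (i + 1) rfl, ENat.toNat_add (hF i).2 (hF (i + 1)).1]
    push_cast
    rfl
  unfold chiK
  rw [alt_congr h1, alt_add hcs (support_shift_finite hks), alt_shift, ← sub_eq_add_neg,
    ← alt_sub hcs hks]
  rfl

section les

variable {M' M₀ M'' : Type u} [AddCommGroup M'] [Module A M'] [AddCommGroup M₀] [Module A M₀]
  [AddCommGroup M''] [Module A M''] (f : M' →ₗ[A] M₀) (g : M₀ →ₗ[A] M'')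
  (hf : Function.Injective f) (hfg : Function.Exact f g) (hg : Function.Surjective g)

include hf hfg hg

theorem les_length_left (n m : ℤ) (h : n + 1 = m) :
    Module.length A (KH l M' m) = cokL (KHmap l g n) + kerL (KHmap l g m) := by
  obtain ⟨δ, -, h2, h3⟩ := KH_les f g hf hfg hg l n m h
  obtain ⟨δ', h1', -, -⟩ := KH_les f g hf hfg hg l m (m + 1) rfl
  rw [length_eq_kerL_add_range (KHmap l f m), kerL_of_exact h3, cokL_of_exact h2,
    kerL_of_exact h1']

theorem les_length_right (n m : ℤ) (h : n + 1 = m) :
    Module.length A (KH l M'' n) = cokL (KHmap l f n) + kerL (KHmap l f m) := by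
  obtain ⟨δ, h1, h2, h3⟩ := KH_les f g hf hfg hg l n m h
  rw [length_eq_kerL_add_range δ, kerL_of_exact h2, cokL_of_exact h1, kerL_of_exact h3]

theorem les_length_mid (n : ℤ) :
    Module.length A (KH l M₀ n) ≤ Module.length A (KH l M' n) + Module.length A (KH l M'' n) := by
  obtain ⟨δ, h1, -, -⟩ := KH_les f g hf hfg hg l n (n + 1) rfl
  rw [length_eq_kerL_add_range (KHmap l g n), kerL_of_exact h1]
  gcongr
  · rw [length_eq_kerL_add_range (KHmap l f n)]
    exact le_add_self
  · rw [length_eq_range_add_cokL (KHmap l g n)]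
    exact le_self_add

end les

section F2

open Pointwise

variable (a : A)

/-- the map `M → aM` -/
noncomputable def piA : M →ₗ[A] ↥(a • (⊤ : Submodule A M)) :=
  (mulL a M).codRestrict _ (fun m => Submodule.smul_mem_pointwise_smul m a ⊤ trivial)

theorem piA_surjective : Function.Surjective (piA M a) := by
  rintro ⟨y, hy⟩
  obtain ⟨m, -, rfl⟩ := (Submodule.mem_smul_pointwise_iff_exists _ _ _).mp hy
  exact ⟨m, rfl⟩

theorem piA_exact : Function.Exact (LinearMap.ker (mulL a M)).subtype (piA M a) := by
  intro m
  constructor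
  · intro hm
    refine ⟨⟨m, ?_⟩, rfl⟩
    rw [LinearMap.mem_ker]
    exact congrArg Subtype.val hm
  · rintro ⟨⟨z, hz⟩, rfl⟩
    apply Subtype.ext
    exact hz

theorem subtype_comp_piA :
    (a • (⊤ : Submodule A M)).subtype ∘ₗ piA M a = a • (LinearMap.id : M →ₗ[A] M) := by
  ext m
  rfl

theorem mulL_KH_eq (i : ℤ) :
    mulL a (KH l M i) =
      KHmap l (a • (⊤ : Submodule A M)).subtype i ∘ₗ KHmap l (piA M a) i := by
  rw [← KHmap_comp, subtype_comp_piA]
  ext z
  exact (KHmap_smul_id l a i z).symm

/-- `ℓ(H^i(a::l; M)) ≤ ℓ(H^{i+1}(l; 0:_M a)) + ℓ(H^i(l; M/aM))`. -/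
theorem length_cons_le (i j : ℤ) (hij : i + 1 = j) :
    Module.length A (KH (a :: l) M i) ≤
      Module.length A (KH l (LinearMap.ker (mulL a M)) j) +
        Module.length A (KH l (QuotSMulTop a M) i) := by
  have hN := les_length_left l (LinearMap.ker (mulL a M)).subtype (piA M a)
    (Submodule.subtype_injective _) (piA_exact M a) (piA_surjective M a) i j hij
  have hQ := les_length_right l (a • (⊤ : Submodule A M)).subtype
    (a • (⊤ : Submodule A M)).mkQ (Submodule.subtype_injective _)
    (LinearMap.exact_subtype_mkQ _) (Submodule.mkQ_surjective _) i j hij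
  rw [cone_length l M a i j hij, mulL_KH_eq l M a i, mulL_KH_eq l M a j]
  calc _ ≤ (cokL (KHmap l (piA M a) i) + cokL (KHmap l (a • (⊤ : Submodule A M)).subtype i)) +
        (kerL (KHmap l (piA M a) j) + kerL (KHmap l (a • (⊤ : Submodule A M)).subtype j)) :=
        add_le_add (cokL_comp_le _ _) (kerL_comp_le _ _)
    _ = _ := by
        rw [hN]
        change _ = _ + Module.length A (KH l (M ⧸ a • (⊤ : Submodule A M)) i)
        rw [hQ]
        ac_rfl

/-- The recursion `χ(a :: l; M) = χ(l; M/aM) - χ(l; 0 :_M a)`. -/
theorem chiK_cons (hfin : ∀ i, Module.length A (KH (a :: l) M i) ≠ ⊤)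
    (hN : ∀ i, Module.length A (KH l (LinearMap.ker (mulL a M)) i) ≠ ⊤)
    (hQ : ∀ i, Module.length A (KH l (QuotSMulTop a M) i) ≠ ⊤) :
    chiK (a :: l) M = chiK l (QuotSMulTop a M) - chiK l (LinearMap.ker (mulL a M)) := by
  set π : ∀ i, KH l M i →ₗ[A] KH l ↥(a • (⊤ : Submodule A M)) i :=
    fun i => KHmap l (piA M a) i with hπ
  set ι : ∀ i, KH l ↥(a • (⊤ : Submodule A M)) i →ₗ[A] KH l M i :=
    fun i => KHmap l (a • (⊤ : Submodule A M)).subtype i with hι
  have eN : ∀ n m : ℤ, n + 1 = m → Module.length A (KH l (LinearMap.ker (mulL a M)) m) =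
      cokL (π n) + kerL (π m) := fun n m h =>
    les_length_left l (LinearMap.ker (mulL a M)).subtype (piA M a)
      (Submodule.subtype_injective _) (piA_exact M a) (piA_surjective M a) n m h
  have eQ : ∀ n m : ℤ, n + 1 = m → Module.length A (KH l (QuotSMulTop a M) n) =
      cokL (ι n) + kerL (ι m) := fun n m h =>
    les_length_right l (a • (⊤ : Submodule A M)).subtype
      (a • (⊤ : Submodule A M)).mkQ (Submodule.subtype_injective _)
      (LinearMap.exact_subtype_mkQ _) (Submodule.mkQ_surjective _) n m h
  have hπF : ∀ n, IsFred (π n) := by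
    intro n
    constructor
    · intro htop
      have h := eN (n - 1) n (by omega)
      rw [htop, add_top] at h
      exact hN _ h
    · intro htop
      have h := eN n (n + 1) rfl
      rw [htop, top_add] at h
      exact hN _ h
  have hιF : ∀ n, IsFred (ι n) := by
    intro n
    constructor
    · intro htop
      have h := eQ (n - 1) n (by omega)
      rw [htop, add_top] at h
      exact hQ _ h
    · intro htop
      have h := eQ n (n + 1) rfl
      rw [htop, top_add] at h
      exact hQ _ h
  -- the four numerical functions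
  set S : ℤ → ℤ := fun n => ((cokL (π n)).toNat : ℤ) with hS
  set R : ℤ → ℤ := fun n => ((kerL (π n)).toNat : ℤ) with hR
  set T : ℤ → ℤ := fun n => ((cokL (ι n)).toNat : ℤ) with hT
  set W : ℤ → ℤ := fun n => ((kerL (ι n)).toNat : ℤ) with hW
  have hlen : (l.length : ℤ) = l.length := rfl
  have sM : ∀ i, (i < -(l.length : ℤ) ∨ 0 < i) → Subsingleton (KH l M i) :=
    fun i hi => KH_subsingleton M l i hi.symm
  have sMb : ∀ i, (i < -(l.length : ℤ) ∨ 0 < i) →
      Subsingleton (KH l ↥(a • (⊤ : Submodule A M)) i) :=
    fun i hi => KH_subsingleton _ l i hi.symm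
  have hSs : (Function.support S).Finite :=
    finite_support_of_Icc (-(l.length : ℤ)) 0 (fun i hi => by
      have := sMb i hi
      simp only [hS]
      rw [cokL_of_subsingleton]
      simp)
  have hRs : (Function.support R).Finite :=
    finite_support_of_Icc (-(l.length : ℤ)) 0 (fun i hi => by
      have := sM i hi
      simp only [hR]
      rw [kerL_of_subsingleton]
      simp)
  have hTs : (Function.support T).Finite :=
    finite_support_of_Icc (-(l.length : ℤ)) 0 (fun i hi => by
      have := sM i hi
      simp only [hT]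
      rw [cokL_of_subsingleton]
      simp)
  have hWs : (Function.support W).Finite :=
    finite_support_of_Icc (-(l.length : ℤ)) 0 (fun i hi => by
      have := sMb i hi
      simp only [hW]
      rw [kerL_of_subsingleton]
      simp)
  -- the Euler characteristic of the kernel
  have h1 : ∀ n, hL l (LinearMap.ker (mulL a M)) (n + 1) = S n + R (n + 1) := by
    intro n
    unfold hL
    rw [eN n (n + 1) rfl, ENat.toNat_add (hπF n).2 (hπF (n + 1)).1]
    push_cast
    rfl
  have h2 : ∀ n, hL l (QuotSMulTop a M) n = T n + W (n + 1) := by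
    intro n
    unfold hL
    rw [eQ n (n + 1) rfl, ENat.toNat_add (hιF n).2 (hιF (n + 1)).1]
    push_cast
    rfl
  have h3 : ∀ n, ind (mulL a (KH l M n)) = (S n - R n) + (T n - W n) := by
    intro n
    rw [mulL_KH_eq l M a n]
    exact ind_comp (hπF n) (hιF n)
  have kN : - chiK l (LinearMap.ker (mulL a M)) = alt S - alt R := by
    unfold chiK
    rw [← alt_shift, alt_congr h1, alt_add hSs (support_shift_finite hRs), alt_shift,
      sub_eq_add_neg]
  have kQ : chiK l (QuotSMulTop a M) = alt T - alt W := by
    unfold chiK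
    rw [alt_congr h2, alt_add hTs (support_shift_finite hWs), alt_shift, sub_eq_add_neg]
  rw [chiK_cons_eq_alt_ind l M a hfin, alt_congr h3]
  have hSR : (Function.support fun n => S n - R n).Finite :=
    (hSs.union hRs).subset (fun n hn => by
      rw [Function.mem_support] at hn
      by_contra hcon
      rw [Set.mem_union, not_or, Function.mem_support, Function.mem_support, not_not, not_not]
        at hcon
      exact hn (by rw [hcon.1, hcon.2, sub_zero]))
  have hTW : (Function.support fun n => T n - W n).Finite :=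
    (hTs.union hWs).subset (fun n hn => by
      rw [Function.mem_support] at hn
      by_contra hcon
      rw [Set.mem_union, not_or, Function.mem_support, Function.mem_support, not_not, not_not]
        at hcon
      exact hn (by rw [hcon.1, hcon.2, sub_zero]))
  rw [alt_add hSR hTW, alt_sub hSs hRs, alt_sub hTs hWs, kQ, sub_eq_add_neg (alt T - alt W), kN]
  ring

end F2

end Groth.Agent.Lib.Helper87.KzEuler
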