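import Mathlib
import Groth.Agent.Lib.Helper87.HSArith
import Groth.Agent.Lib.Helper87.PolyLimit

/-!
# The top coefficient of a function of Hilbert–Samuel type, as a limit
-/

set_option autoImplicit false

namespace Groth.Agent.Lib.Helper87.HSTop

open Groth.Agent.Lib.Helper87.HSArith Groth.Agent.Lib.Helper87.PolyGrowth Filter Topology

/-- the normalized sequence `e! f(n) / n^e` -/
noncomputable def nz (e : ℕ) (f : ℕ → ℤ) (n : ℕ) : ℝ :=
  (e.factorial : ℝ) * (f n : ℝ) / (n : ℝ) ^ e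

theorem nz_add (e : ℕ) (f g : ℕ → ℤ) (n : ℕ) :
    nz e (fun n => f n + g n) n = nz e f n + nz e g n := by
  simp only [nz]
  push_cast
  ring

theorem nz_sub (e : ℕ) (f g : ℕ → ℤ) (n : ℕ) :
    nz e (fun n => f n - g n) n = nz e f n - nz e g n := by
  simp only [nz]
  push_cast
  ring

theorem nz_const_mul (e : ℕ) (c : ℤ) (f : ℕ → ℤ) (n : ℕ) :
    nz e (fun n => c * f n) n = c * nz e f n := by
  simp only [nz]
  push_cast
  ring

theorem tendsto_nz_B (e : ℕ) : Tendsto (nz e (B e)) atTop (𝓝 1) := by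
  have h1 := isEquivalent_choose e
  have hz : ∀ᶠ (x : ℕ) in atTop, ((x : ℝ) ^ e / (e.factorial : ℝ)) ≠ 0 :=
    eventually_atTop.mpr ⟨1, fun n hn => by
      have : (0 : ℝ) < n := by exact_mod_cast hn
      positivity⟩
  rw [Asymptotics.isEquivalent_iff_tendsto_one hz] at h1
  have h2 := h1.comp (tendsto_add_atTop_nat e)
  have h3 : Tendsto (fun n : ℕ => (((n + e : ℕ) : ℝ) / (n : ℝ)) ^ e) atTop (𝓝 1) := by
    have : Tendsto (fun n : ℕ => ((n + e : ℕ) : ℝ) / (n : ℝ)) atTop (𝓝 1) := by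
      have h4 : Tendsto (fun n : ℕ => 1 + (e : ℝ) / (n : ℝ)) atTop (𝓝 (1 + 0)) :=
        tendsto_const_nhds.add (tendsto_const_div_atTop_nhds_zero_nat (e : ℝ))
      rw [add_zero] at h4
      refine h4.congr' ?_
      filter_upwards [eventually_gt_atTop 0] with n hn
      have : (n : ℝ) ≠ 0 := by exact_mod_cast hn.ne'
      push_cast
      field_simp
    have := this.pow e
    rwa [one_pow] at this
  have h5 := h2.mul h3
  rw [one_mul] at h5
  refine h5.congr' ?_
  filter_upwards [eventually_gt_atTop 0] with n hn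
  have hn0 : (n : ℝ) ≠ 0 := by exact_mod_cast hn.ne'
  have hne : ((n + e : ℕ) : ℝ) ≠ 0 := by positivity
  have hf : (e.factorial : ℝ) ≠ 0 := by exact_mod_cast e.factorial_ne_zero
  simp only [Function.comp_apply, Pi.div_apply, nz, B_apply]
  push_cast
  rw [div_pow]
  field_simp

theorem tendsto_nz_zero {e : ℕ} {f : ℕ → ℤ} (h : IsHS e f) : Tendsto (nz e f) atTop (𝓝 0) := by
  obtain ⟨P, hP, N, hN⟩ := h.exists_poly
  have h1 := (tendsto_eval_div_pow_zero P e hP).const_mul (e.factorial : ℝ)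
  rw [mul_zero] at h1
  refine h1.congr' ?_
  filter_upwards [eventually_ge_atTop N] with n hn
  simp only [nz]
  have : ((f n : ℤ) : ℝ) = ((P.eval (n : ℚ) : ℚ) : ℝ) := by
    rw [← hN n hn]
    push_cast
    rfl
  rw [this]
  ring

theorem exists_top {e : ℕ} {f : ℕ → ℤ} (h : IsHS (e + 1) f) :
    ∃ c : ℤ, IsHS e (fun n => f n - c * B e n) := by
  obtain ⟨c, N, hN⟩ := h.exists_coeff
  refine ⟨c (Fin.last e), ?_⟩
  refine ⟨fun n => ∑ k : Fin e, c k.castSucc * B (k : ℕ) n, ?_, N, fun n hn => ?_⟩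
  · have : (fun n => ∑ k : Fin e, c k.castSucc * B (k : ℕ) n) =
        ∑ k : Fin e, c k.castSucc • B (k : ℕ) := by
      funext n
      simp [Finset.sum_apply]
    rw [this]
    refine Submodule.sum_mem (V e) fun k _ => ?_
    exact (V e).smul_mem (c k.castSucc) (B_mem_V k.2)
  · change f n - c (Fin.last e) * B e n = ∑ k : Fin e, c k.castSucc * B (k : ℕ) n
    rw [hN n hn, Fin.sum_univ_castSucc]
    simp only [Fin.val_castSucc, Fin.val_last, B_apply]
    ring

/-- The normalized sequence of a function of type `e + 1` converges to an integer. -/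
theorem tendsto_nz_of_isHS {e : ℕ} {f : ℕ → ℤ} (h : IsHS (e + 1) f) :
    ∃ c : ℤ, IsHS e (fun n => f n - c * B e n) ∧ Tendsto (nz e f) atTop (𝓝 (c : ℝ)) := by
  obtain ⟨c, hc⟩ := exists_top h
  refine ⟨c, hc, ?_⟩
  have h1 := tendsto_nz_zero hc
  have h2 := (tendsto_nz_B e).const_mul (c : ℝ)
  have h3 := h1.add h2
  rw [zero_add, mul_one] at h3
  refine h3.congr fun n => ?_
  rw [nz_sub, nz_const_mul]
  ring

theorem diff_mem_V {e : ℕ} {g : ℕ → ℤ} (hg : g ∈ V (e + 1)) :
    (fun n => g (n + 1) - g n) ∈ V e := by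
  refine V_induction (p := fun g => (fun n => g (n + 1) - g n) ∈ V e) ?_ ?_ ?_ ?_ hg
  · intro k hk
    cases k with
    | zero =>
      have : (fun n => B 0 (n + 1) - B 0 n) = 0 := by
        funext n
        simp [B_zero]
      rw [this]
      exact (V e).zero_mem
    | succ k =>
      have : (fun n => B (k + 1) (n + 1) - B (k + 1) n) = fun n => B k (n + 1) := by
        funext n
        rw [B_succ_succ]
        ring
      rw [this]
      exact shift_B_mem k (by omega)
  · have : (fun n => (0 : ℕ → ℤ) (n + 1) - (0 : ℕ → ℤ) n) = 0 := by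
      funext n
      simp
    rw [this]
    exact (V e).zero_mem
  · intro g₁ g₂ h₁ h₂
    have : (fun n => (g₁ + g₂) (n + 1) - (g₁ + g₂) n) =
        (fun n => g₁ (n + 1) - g₁ n) + fun n => g₂ (n + 1) - g₂ n := by
      funext n
      simp only [Pi.add_apply]
      ring
    rw [this]
    exact (V e).add_mem h₁ h₂
  · intro c g h
    have : (fun n => (c • g) (n + 1) - (c • g) n) = c • fun n => g (n + 1) - g n := by
      funext n
      simp only [Pi.smul_apply, smul_eq_mul]
      ring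
    rw [this]
    exact (V e).smul_mem c h

theorem isHS_diff {e : ℕ} {f : ℕ → ℤ} (h : IsHS (e + 1) f) :
    IsHS e (fun n => f (n + 1) - f n) := by
  obtain ⟨g, hg, N, hN⟩ := h
  exact ⟨_, diff_mem_V hg, N, fun n hn => by
    change f (n + 1) - f n = _
    rw [hN n hn, hN (n + 1) (by omega)]⟩

/-- The top coefficients of `f` and of its difference function agree. -/
theorem tendsto_nz_diff {e : ℕ} {f : ℕ → ℤ} (h : IsHS (e + 2) f) :
    ∃ c : ℤ, Tendsto (nz (e + 1) f) atTop (𝓝 (c : ℝ)) ∧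
      Tendsto (nz e (fun n => f (n + 1) - f n)) atTop (𝓝 (c : ℝ)) := by
  obtain ⟨c, hc, hlim⟩ := tendsto_nz_of_isHS h
  refine ⟨c, hlim, ?_⟩
  have h1 : IsHS e (fun n => (f (n + 1) - c * B (e + 1) (n + 1)) - (f n - c * B (e + 1) n)) :=
    isHS_diff hc
  have h2 : IsHS e (fun n => B e (n + 1) - B e n) := by
    refine ⟨_, diff_mem_V (B_mem_V (Nat.lt_succ_self e)), 0, fun n _ => rfl⟩
  have h3 : IsHS e (fun n => (f (n + 1) - f n) - c * B e n) := by
    have := h1.add (IsHS.congr (f := fun n => c * (B e (n + 1) - B e n))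
      (by
        obtain ⟨g, hg, N, hN⟩ := h2
        exact ⟨c • g, (V e).smul_mem c hg, N, fun n hn => by
          simp only [Pi.smul_apply, smul_eq_mul, ← hN n hn]⟩) 0 (fun n _ => rfl))
    refine this.congr 0 fun n _ => ?_
    rw [B_succ_succ]
    ring
  have l1 := tendsto_nz_zero h3
  have l2 := (tendsto_nz_B e).const_mul (c : ℝ)
  have l3 := l1.add l2
  rw [zero_add, mul_one] at l3
  refine l3.congr fun n => ?_
  rw [nz_sub, nz_const_mul]
  ring

end Groth.Agent.Lib.Helper87.HSTop
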