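import Mathlib
import Groth.Agent.Lib.Helper87.SamuelFn
import Groth.Agent.Lib.Helper87.KzIndex
import Groth.Agent.Lib.Helper87.HSTop
import Groth.Agent.Lib.Helper87.SamuelLimit

/-!
# The recursion for Samuel multiplicities:
`e(a, l; M) = e(l; M/aM) - e(l; 0 :_M a)`
-/

set_option autoImplicit false

namespace Groth.Agent.Lib.Helper87.SamuelRec

open Groth.Agent.Lib.Helper87.SamuelFn Groth.Agent.Lib.Helper87.RelLength
  Groth.Agent.Lib.Helper87.KzIndex Groth.Agent.Lib.Helper87.HSArith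
  Groth.Agent.Lib.Helper87.AbstractHS Groth.Agent.Lib.Helper87.HSTop
open Pointwise

universe u

variable {A : Type u} [CommRing A] (I : Ideal A) (M : Type u) [AddCommGroup M] [Module A M] (a : A)

/-- `IⁿM` -/
abbrev Pn (n : ℕ) : Submodule A M := I ^ n • ⊤

/-- `(I^(n+1) M : a)` -/
abbrev Cn (n : ℕ) : Submodule A M :=
  (I ^ (n + 1) • ⊤ : Submodule A M).comap (LinearMap.lsmul A M a)

/-- `0 :_M a` -/
abbrev Nk : Submodule A M := LinearMap.ker (LinearMap.lsmul A M a)

variable {I} in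
theorem Pn_le_Cn (ha : a ∈ I) (n : ℕ) : Pn I M n ≤ Cn I M a n := by
  intro m hm
  rw [Submodule.mem_comap, LinearMap.lsmul_apply, pow_succ', mul_smul]
  exact Submodule.smul_mem_smul ha hm

theorem Nk_le_Cn (n : ℕ) : Nk M a ≤ Cn I M a n := by
  intro m hm
  rw [Submodule.mem_comap, LinearMap.mem_ker.mp hm]
  exact Submodule.zero_mem _

theorem smul_top_eq_map : (a • (⊤ : Submodule A M)) = (⊤ : Submodule A M).map (LinearMap.lsmul A M a) := by
  ext m
  rw [Submodule.mem_smul_pointwise_iff_exists]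
  simp

theorem chi_quot (S : Submodule A M) (n : ℕ) :
    chi I (M ⧸ S) n = rl (I ^ n • (⊤ : Submodule A M) ⊔ S) ⊤ := by
  rw [chi_eq_rl, ← map_pow_smul_top I S.mkQ (Submodule.mkQ_surjective S) n]
  have h := rl_comap S.mkQ ((I ^ n • (⊤ : Submodule A M)).map S.mkQ) ⊤
  rw [Submodule.comap_map_eq, Submodule.ker_mkQ, Submodule.map_top, Submodule.range_mkQ] at h
  exact h.symm

variable {I} in
/-- The basic exact sequence for multiplication by `a`. -/
theorem keyE (ha : a ∈ I) (n : ℕ) :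
    chi I M (n + 1) + rl (Pn I M n) (Cn I M a n) =
      chi I M n + chi I (QuotSMulTop a M) (n + 1) := by
  have h1 : chi I M (n + 1) = rl (Pn I M (n + 1)) (Pn I M (n + 1) ⊔ a • ⊤) +
      rl (Pn I M (n + 1) ⊔ a • ⊤) ⊤ := by
    rw [chi_eq_rl, rl_add (le_sup_left : Pn I M (n + 1) ≤ Pn I M (n + 1) ⊔ a • ⊤) le_top]
  have h2 : chi I M n = rl (Pn I M n) (Cn I M a n) + rl (Cn I M a n) ⊤ := by
    rw [chi_eq_rl, rl_add (Pn_le_Cn M a ha n) le_top]
  have h3 : rl (Cn I M a n) ⊤ = rl (Pn I M (n + 1)) (Pn I M (n + 1) ⊔ a • ⊤) := by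
    have := rl_map_eq (LinearMap.lsmul A M a) (Pn I M (n + 1)) ⊤
    rw [top_inf_eq, ← smul_top_eq_map] at this
    exact this
  have h4 : chi I (QuotSMulTop a M) (n + 1) = rl (Pn I M (n + 1) ⊔ a • ⊤) ⊤ :=
    chi_quot I M (a • ⊤) (n + 1)
  rw [h1, h2, h3, h4]
  ac_rfl

/-- The length of `N/(N ∩ IⁿM)`. -/
theorem rl_Pn_Nk (n : ℕ) :
    rl (Pn I M n) (Nk M a) =
      Module.length A (↥(Nk M a) ⧸ (Pn I M n).comap (Nk M a).subtype) := by
  have h := rl_comap (Nk M a).subtype (Pn I M n) ⊤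
  rw [Submodule.map_top, Submodule.range_subtype, rl_top] at h
  exact h.symm

theorem lam_upper {I} (ha : a ∈ I) (n : ℕ) :
    rl (Pn I M n) (Cn I M a n) ≤
      chi I ↥(Nk M a) n + rl (Nk M a ⊔ Pn I M n) (Cn I M a n) := by
  rw [rl_add (le_sup_right : Pn I M n ≤ Nk M a ⊔ Pn I M n)
    (sup_le (Nk_le_Cn I M a n) (Pn_le_Cn M a ha n)), rl_sup_left, rl_Pn_Nk]
  gcongr
  rw [chi_def]
  refine Module.length_le_of_surjective (Submodule.factor ?_) (Submodule.factor_surjective _)
  rw [← Submodule.map_le_iff_le_comap, Submodule.map_smul'']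
  exact Submodule.smul_mono le_rfl le_top

theorem lam_lower [IsNoetherianRing A] [Module.Finite A M] {I} (ha : a ∈ I) :
    ∃ c : ℕ, ∀ n, c ≤ n → chi I ↥(Nk M a) (n - c) ≤ rl (Pn I M n) (Cn I M a n) := by
  obtain ⟨c, hc⟩ := exists_comap_le I (Nk M a).subtype (Submodule.subtype_injective _)
  refine ⟨c, fun n hn => ?_⟩
  calc chi I ↥(Nk M a) (n - c)
      ≤ Module.length A (↥(Nk M a) ⧸ (Pn I M n).comap (Nk M a).subtype) := by
        rw [chi_def]
        exact Module.length_le_of_surjective (Submodule.factor (hc n hn))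
          (Submodule.factor_surjective _)
    _ = rl (Pn I M n) (Nk M a) := (rl_Pn_Nk I M a n).symm
    _ = rl (Pn I M n) (Nk M a ⊔ Pn I M n) := (rl_sup_left _ _).symm
    _ ≤ rl (Pn I M n) (Cn I M a n) :=
        rl_le_of_le_right le_sup_right (sup_le (Nk_le_Cn I M a n) (Pn_le_Cn M a ha n))

section G

variable {d : ℕ} (y : Fin (d + 1) → A)

/-- `a IᵏM + (aM ∩ I^(k+i) M)` -/
abbrev Vk (k i : ℕ) : Submodule A M :=
  (Pn I M k).map (LinearMap.lsmul A M a) ⊔ ((a • ⊤ : Submodule A M) ⊓ Pn I M (k + i))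

theorem Vk_anti (k : ℕ) {i j : ℕ} (hij : i ≤ j) : Vk I M a k j ≤ Vk I M a k i := by
  refine sup_le_sup le_rfl (inf_le_inf le_rfl ?_)
  exact Submodule.smul_mono (Ideal.pow_le_pow_right (by omega)) le_rfl

variable {I} in
theorem map_Pn_le (ha : a ∈ I) (k : ℕ) :
    (Pn I M k).map (LinearMap.lsmul A M a) ≤ (a • ⊤ : Submodule A M) ⊓ Pn I M (k + 1) := by
  rintro _ ⟨m, hm, rfl⟩
  refine ⟨Submodule.smul_mem_pointwise_smul m a ⊤ trivial, ?_⟩
  change a • m ∈ I ^ (k + 1) • (⊤ : Submodule A M)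
  rw [pow_succ', mul_smul]
  exact Submodule.smul_mem_smul ha hm

variable {I} in
theorem Vk_le (ha : a ∈ I) (k i : ℕ) (hi : 1 ≤ i) :
    Vk I M a k i ≤ (a • ⊤ : Submodule A M) ⊓ Pn I M (k + 1) := by
  refine sup_le (map_Pn_le M a ha k) (inf_le_inf le_rfl ?_)
  exact Submodule.smul_mono (Ideal.pow_le_pow_right (by omega)) le_rfl

theorem rl_sup_le (P S' S : Submodule A M) : rl (P ⊔ S') (P ⊔ S) ≤ rl S' S := by
  rw [rl_def, rl_def]
  have h1 : (P ⊔ S).map (P ⊔ S').mkQ = S.map (P ⊔ S').mkQ := by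
    rw [Submodule.map_sup]
    have : P.map (P ⊔ S').mkQ = ⊥ := by
      rw [← LinearMap.le_ker_iff_map, Submodule.ker_mkQ]; exact le_sup_left
    rw [this, bot_sup_eq]
  rw [h1]
  -- `S → M/(P ⊔ S')` factors through `S → M/S'`
  have hle : S' ≤ P ⊔ S' := le_sup_right
  have h2 : S.map (P ⊔ S').mkQ = (S.map S'.mkQ).map (Submodule.factor hle) := by
    rw [← Submodule.map_comp, Submodule.factor_comp_mk]
  rw [h2]
  exact Module.length_le_of_surjective
    ((Submodule.factor hle).restrict (fun x hx => Submodule.mem_map_of_mem hx)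
      : ↥(S.map S'.mkQ) →ₗ[A] ↥((S.map S'.mkQ).map (Submodule.factor hle)))
    (by
      rintro ⟨_, z, hz, rfl⟩
      exact ⟨⟨z, hz⟩, rfl⟩)

theorem rl_inf_le (W T' T : Submodule A M) : rl (W ⊓ T') (W ⊓ T) ≤ rl T' T := by
  have h1 : rl (W ⊓ T') (W ⊓ T) = rl T' (W ⊓ T) := by
    rw [rl_def, rl_def]
    apply length_map_eq_of_inf_ker_eq
    rw [Submodule.ker_mkQ, Submodule.ker_mkQ]
    apply le_antisymm
    · exact le_inf inf_le_left (inf_le_right.trans inf_le_right)
    · exact le_inf inf_le_left (le_inf (inf_le_left.trans inf_le_left) inf_le_right)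
  rw [h1, rl_def, rl_def]
  exact Module.length_le_of_injective (Submodule.inclusion (Submodule.map_mono inf_le_right))
    (Submodule.inclusion_injective _)

variable [IsNoetherianRing A] [Module.Finite A M]

/-- The graded pieces of the comparison between `a IᵏM` and `aM ∩ I^(k+1) M` have Hilbert
functions of lower degree. -/
theorem isHS_Vk (hfin : ∀ n, chi (Ideal.span (Set.range y)) M n ≠ ⊤) (i : ℕ) (hi : 1 ≤ i) :
    IsHS d (fun k => ((rl (Vk (Ideal.span (Set.range y)) M (y (Fin.last d)) k (i + 1))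
      (Vk (Ideal.span (Set.range y)) M (y (Fin.last d)) k i)).toNat : ℤ)) := by
  set I := Ideal.span (Set.range y) with hI
  set a := y (Fin.last d) with ha'
  have hyI : ∀ j, y j ∈ I := fun j => Ideal.subset_span ⟨j, rfl⟩
  have ha : a ∈ I := hyI _
  let x : Fin (d + 1) → (M →ₗ[A] M) := fun j => LinearMap.lsmul A M (y j)
  have hcomm : ∀ i j, x i ∘ₗ x j = x j ∘ₗ x i := by
    intro i j
    ext m
    simp only [x, LinearMap.comp_apply, LinearMap.lsmul_apply]
    exact smul_comm _ _ _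
  -- multiplication by a generator raises the filtration degree
  have hP : ∀ (j : Fin (d + 1)) (k : ℕ), (Pn I M k).map (x j) ≤ Pn I M (k + 1) := by
    rintro j k _ ⟨m, hm, rfl⟩
    change y j • m ∈ I ^ (k + 1) • (⊤ : Submodule A M)
    rw [pow_succ', mul_smul]
    exact Submodule.smul_mem_smul (hyI j) hm
  have hst : ∀ i', Stable x (fun k => Vk I M a k i') := by
    intro i' j k
    change (Vk I M a k i').map (x j) ≤ Vk I M a (k + 1) i'
    rw [Submodule.map_sup]
    refine sup_le_sup ?_ ?_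
    · rintro _ ⟨_, ⟨m, hm, rfl⟩, rfl⟩
      refine ⟨x j m, hP j k (Submodule.mem_map_of_mem hm), ?_⟩
      simp only [x, LinearMap.lsmul_apply]
      exact smul_comm _ _ _
    · rintro _ ⟨m, ⟨hm1, hm2⟩, rfl⟩
      refine ⟨?_, ?_⟩
      · obtain ⟨m', -, rfl⟩ := (Submodule.mem_smul_pointwise_iff_exists _ _ _).mp hm1
        simp only [x, LinearMap.lsmul_apply]
        rw [smul_comm]
        exact Submodule.smul_mem_pointwise_smul _ a ⊤ trivial
      · have := hP j (k + i') (Submodule.mem_map_of_mem hm2)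
        have e : k + 1 + i' = k + i' + 1 := by ring
        rw [e]
        exact this
  have key := isHS (x := x) hcomm d (Nat.le_succ d) (fun k => Vk I M a k (i + 1))
    (fun k => Vk I M a k i) (hst (i + 1)) (hst i) (fun k => Vk_anti I M a k (Nat.le_succ i))
    (fun k => by
      -- finiteness
      have h1 : rl (Vk I M a k (i + 1)) (Vk I M a k i) ≤
          rl ((a • ⊤ : Submodule A M) ⊓ Pn I M (k + (i + 1)))
            ((a • ⊤ : Submodule A M) ⊓ Pn I M (k + i)) := rl_sup_le M _ _ _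
      have h2 := rl_inf_le M (a • ⊤ : Submodule A M) (Pn I M (k + (i + 1))) (Pn I M (k + i))
      have h3 : rl (Pn I M (k + (i + 1))) (Pn I M (k + i)) ≤ chi I M (k + (i + 1)) := by
        rw [chi_eq_rl]
        exact rl_le_of_le_right (pow_succ_smul_le I M (k + i)) le_top
      exact ne_top_of_le_ne_top (hfin _) (h1.trans (h2.trans h3)))
    (by
      intro K hK hPK hKQ
      have hKle : ∀ k, K k ≤ Pn I M (k + 1) := fun k =>
        (hKQ k).trans ((Vk_le M a ha k i hi).trans inf_le_right)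
      have hQP : ∀ k, Vk I M a (k + 1) i ≤ Vk I M a k (i + 1) := by
        intro k
        refine sup_le_sup ?_ ?_
        · exact Submodule.map_mono (pow_succ_smul_le I M k)
        · have e : k + 1 + i = k + (i + 1) := by ring
          rw [e]
      let F : I.Filtration M :=
        { N := K
          mono := fun k => (hKQ (k + 1)).trans ((hQP k).trans (hPK k))
          smul_le := fun k => by
            refine (smul_le_iSup_map y (K k)).trans (iSup_le fun j => hK j k) }
      have hF : F ≤ I.stableFiltration ⊤ := fun k =>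
        (hKle k).trans (pow_succ_smul_le I M k)
      obtain ⟨n₀, hn₀⟩ := (I.stableFiltration_stable ⊤).of_le hF
      refine ⟨n₀, fun n hn => ?_⟩
      have h1 : I • K n = K (n + 1) := hn₀ n hn
      rw [← h1]
      exact (smul_le_iSup_map y (K n)).trans le_sup_right)
    (by
      intro j hj k
      have hjl : j = Fin.last d := by
        apply Fin.ext
        have := j.2
        simp only [Fin.val_last]
        omega
      subst hjl
      refine le_trans ?_ (le_sup_left : (Pn I M (k + 1)).map (LinearMap.lsmul A M a) ≤ _)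
      exact Submodule.map_mono ((Vk_le M a ha k i hi).trans inf_le_right))
  exact key

omit [IsNoetherianRing A] [Module.Finite A M] in
/-- `(I^(k+1) M : a)/(N + IᵏM) ≅ (aM ∩ I^(k+1) M)/a IᵏM`. -/
theorem rl_Nk_sup_eq (k : ℕ) :
    rl (Nk M a ⊔ Pn I M k) (Cn I M a k) =
      rl ((Pn I M k).map (LinearMap.lsmul A M a)) ((a • ⊤ : Submodule A M) ⊓ Pn I M (k + 1)) := by
  have h := rl_comap (LinearMap.lsmul A M a) ((Pn I M k).map (LinearMap.lsmul A M a))
    (Cn I M a k)
  rw [Submodule.comap_map_eq, Submodule.map_comap_eq, LinearMap.range_eq_map,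
    ← smul_top_eq_map, sup_comm] at h
  exact h

/-- Artin–Rees for the submodule `aM`. -/
theorem exists_inf_le_map :
    ∃ c : ℕ, ∀ k, (a • ⊤ : Submodule A M) ⊓ Pn I M (k + (c + 1)) ≤
      (Pn I M (k + 1)).map (LinearMap.lsmul A M a) := by
  obtain ⟨c, hc⟩ := Ideal.exists_pow_inf_eq_pow_smul I (a • ⊤ : Submodule A M)
  refine ⟨c, fun k => ?_⟩
  have h1 := hc (k + (c + 1)) (by omega)
  have e : k + (c + 1) - c = k + 1 := by omega
  rw [e] at h1
  rw [inf_comm]
  change I ^ (k + (c + 1)) • (⊤ : Submodule A M) ⊓ a • ⊤ ≤ _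
  rw [h1]
  refine (Submodule.smul_mono le_rfl (inf_le_right : _ ≤ (a • ⊤ : Submodule A M))).trans ?_
  rw [smul_top_eq_map, ← Submodule.map_smul'']

omit [IsNoetherianRing A] [Module.Finite A M] in
theorem Vk_one {I} (ha : a ∈ I) (k : ℕ) :
    Vk I M a k 1 = (a • ⊤ : Submodule A M) ⊓ Pn I M (k + 1) :=
  sup_eq_right.mpr (map_Pn_le M a ha k)

theorem exists_Vk_eq :
    ∃ c : ℕ, ∀ k, Vk I M a k (c + 1) = (Pn I M k).map (LinearMap.lsmul A M a) := by
  obtain ⟨c, hc⟩ := exists_inf_le_map I M a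
  refine ⟨c, fun k => sup_eq_left.mpr ((hc k).trans ?_)⟩
  exact Submodule.map_mono (pow_succ_smul_le I M k)

omit [IsNoetherianRing A] [Module.Finite A M] in
theorem rl_Vk_ne_top {I} (ha : a ∈ I) (hfin : ∀ n, chi I M n ≠ ⊤) (k i : ℕ) (hi : 1 ≤ i) :
    rl (Vk I M a k i) (Vk I M a k 1) ≠ ⊤ := by
  have h1 : rl (Vk I M a k i) (Vk I M a k 1) ≤
      rl ((Pn I M k).map (LinearMap.lsmul A M a)) (Vk I M a k 1) :=
    rl_le_of_le_left le_sup_left (Vk_anti I M a k hi)
  rw [Vk_one M a ha, ← rl_Nk_sup_eq] at h1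
  have h2 : rl (Nk M a ⊔ Pn I M k) (Cn I M a k) ≤ rl (Pn I M k) (Cn I M a k) :=
    rl_le_of_le_left le_sup_right (sup_le (Nk_le_Cn I M a k) (Pn_le_Cn M a ha k))
  have h3 : rl (Pn I M k) (Cn I M a k) ≤ chi I M k := by
    rw [chi_eq_rl]
    exact rl_le_of_le_right (Pn_le_Cn M a ha k) le_top
  rw [Vk_one M a ha]
  exact ne_top_of_le_ne_top (hfin k) (h1.trans (h2.trans h3))

/-- The error term has a Hilbert function of lower degree. -/
theorem isHS_g (hfin : ∀ n, chi (Ideal.span (Set.range y)) M n ≠ ⊤) :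
    IsHS d (fun k => ((rl (Nk M (y (Fin.last d)) ⊔ Pn (Ideal.span (Set.range y)) M k)
      (Cn (Ideal.span (Set.range y)) M (y (Fin.last d)) k)).toNat : ℤ)) := by
  set I := Ideal.span (Set.range y) with hI
  set a := y (Fin.last d) with ha'
  have ha : a ∈ I := Ideal.subset_span ⟨_, rfl⟩
  have hstep : ∀ c : ℕ, IsHS d (fun k => ((rl (Vk I M a k (c + 1)) (Vk I M a k 1)).toNat : ℤ)) := by
    intro c
    induction c with
    | zero =>
      refine ⟨0, (V d).zero_mem, 0, fun k _ => ?_⟩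
      change ((rl (Vk I M a k 1) (Vk I M a k 1)).toNat : ℤ) = 0
      rw [rl_eq_zero_of_le le_rfl]
      simp
    | succ c ih =>
      have h1 := isHS_Vk M y hfin (c + 1) (by omega)
      refine (h1.add ih).congr 0 (fun k _ => ?_)
      have hadd := rl_add (Vk_anti I M a k (Nat.le_succ (c + 1)))
        (Vk_anti I M a k (show 1 ≤ c + 1 by omega))
      have f1 : rl (Vk I M a k (c + 1 + 1)) (Vk I M a k (c + 1)) ≠ ⊤ := by
        have := rl_Vk_ne_top M a ha hfin k (c + 1 + 1) (by omega)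
        rw [hadd] at this
        exact fun h => this (by rw [h, top_add])
      have f2 := rl_Vk_ne_top M a ha hfin k (c + 1) (by omega)
      rw [hadd, ENat.toNat_add f1 f2]
      push_cast
      rfl
  obtain ⟨c, hc⟩ := exists_Vk_eq I M a
  refine (hstep c).congr 0 (fun k _ => ?_)
  rw [rl_Nk_sup_eq, hc k, Vk_one M a ha]

end G

section assembly

open Filter Topology

theorem tendsto_nz_shift_sub (f : ℕ → ℤ) (d c : ℕ) (e : ℝ) (h : Tendsto (nz d f) atTop (𝓝 e)) :
    Tendsto (nz d (fun n => f (n - c))) atTop (𝓝 e) :=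
  Groth.Agent.Lib.Helper87.SamuelLimit.tendsto_shift
    (fun t => (d.factorial : ℝ) * (f t : ℝ)) d c e h

theorem tendsto_nz_shift_add (f : ℕ → ℤ) (d c : ℕ) (e : ℝ) (h : Tendsto (nz d f) atTop (𝓝 e)) :
    Tendsto (nz d (fun n => f (n + c))) atTop (𝓝 e) := by
  have h1 := h.comp (tendsto_add_atTop_nat c)
  have h2 : Tendsto (fun n : ℕ => (((n + c : ℕ) : ℝ) / (n : ℝ)) ^ d) atTop (𝓝 1) := by
    have : Tendsto (fun n : ℕ => ((n + c : ℕ) : ℝ) / (n : ℝ)) atTop (𝓝 1) := by
      have h4 : Tendsto (fun n : ℕ => 1 + (c : ℝ) / (n : ℝ)) atTop (𝓝 (1 + 0)) :=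
        tendsto_const_nhds.add (tendsto_const_div_atTop_nhds_zero_nat (c : ℝ))
      rw [add_zero] at h4
      refine h4.congr' ?_
      filter_upwards [eventually_gt_atTop 0] with n hn
      have : (n : ℝ) ≠ 0 := by exact_mod_cast hn.ne'
      push_cast
      field_simp
    have := this.pow d
    rwa [one_pow] at this
  have h3 := h1.mul h2
  rw [mul_one] at h3
  refine h3.congr' ?_
  filter_upwards [eventually_gt_atTop 0] with n hn
  have hn0 : (n : ℝ) ≠ 0 := by exact_mod_cast hn.ne'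
  have hne : ((n + c : ℕ) : ℝ) ≠ 0 := by positivity
  simp only [Function.comp_apply, nz]
  rw [div_pow]
  field_simp

variable [IsNoetherianRing A] [Module.Finite A M] {d : ℕ} (y : Fin (d + 1) → A)

/-- The recursion for Samuel multiplicities. -/
theorem samuel_rec (hfin : ∀ n, chi (Ideal.span (Set.range y)) M n ≠ ⊤) (eQ eN : ℝ)
    (hQ : Tendsto (nz d (fun n => ((chi (Ideal.span (Set.range y))
      (QuotSMulTop (y (Fin.last d)) M) n).toNat : ℤ))) atTop (𝓝 eQ))
    (hN : Tendsto (nz d (fun n => ((chi (Ideal.span (Set.range y))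
      ↥(Nk M (y (Fin.last d))) n).toNat : ℤ))) atTop (𝓝 eN)) :
    Tendsto (nz (d + 1) (fun n => ((chi (Ideal.span (Set.range y)) M n).toNat : ℤ))) atTop
      (𝓝 (eQ - eN)) := by
  set I := Ideal.span (Set.range y) with hI
  set a := y (Fin.last d) with ha'
  have ha : a ∈ I := Ideal.subset_span ⟨_, rfl⟩
  set cM : ℕ → ℤ := fun n => ((chi I M n).toNat : ℤ) with hcM
  set cQ : ℕ → ℤ := fun n => ((chi I (QuotSMulTop a M) n).toNat : ℤ) with hcQ
  set cN : ℕ → ℤ := fun n => ((chi I ↥(Nk M a) n).toNat : ℤ) with hcN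
  set lam : ℕ → ℤ := fun n => ((rl (Pn I M n) (Cn I M a n)).toNat : ℤ) with hlam
  set g : ℕ → ℤ := fun n => ((rl (Nk M a ⊔ Pn I M n) (Cn I M a n)).toNat : ℤ) with hg
  -- finiteness
  have hlamfin : ∀ n, rl (Pn I M n) (Cn I M a n) ≠ ⊤ := fun n => by
    refine ne_top_of_le_ne_top (hfin n) ?_
    rw [chi_eq_rl]
    exact rl_le_of_le_right (Pn_le_Cn M a ha n) le_top
  have hQfin : ∀ n, chi I (QuotSMulTop a M) n ≠ ⊤ := fun n =>
    ne_top_of_le_ne_top (hfin n)
      (Module.length_le_of_surjective (gbar I (Submodule.mkQ _) n)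
        (gbar_surjective I _ (Submodule.mkQ_surjective _) n))
  obtain ⟨c, hc⟩ := lam_lower M a ha
  have hNfin : ∀ n, chi I ↥(Nk M a) n ≠ ⊤ := fun n => by
    have := hc (n + c) (by omega)
    rw [Nat.add_sub_cancel] at this
    exact ne_top_of_le_ne_top (hlamfin _) this
  have hgfin : ∀ n, rl (Nk M a ⊔ Pn I M n) (Cn I M a n) ≠ ⊤ := fun n =>
    ne_top_of_le_ne_top (hlamfin n)
      (rl_le_of_le_left le_sup_right (sup_le (Nk_le_Cn I M a n) (Pn_le_Cn M a ha n)))
  -- the three relations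
  have r1 : ∀ n, cM (n + 1) - cM n = cQ (n + 1) - lam n := by
    intro n
    have h := congrArg ENat.toNat (keyE M a ha n)
    rw [ENat.toNat_add (hfin _) (hlamfin n), ENat.toNat_add (hfin _) (hQfin _)] at h
    simp only [hcM, hcQ, hlam]
    have h' : ((chi I M (n + 1)).toNat : ℤ) + ((rl (Pn I M n) (Cn I M a n)).toNat : ℤ) =
        ((chi I M n).toNat : ℤ) + ((chi I (QuotSMulTop a M) (n + 1)).toNat : ℤ) := by
      exact_mod_cast h
    linarith
  have r2 : ∀ n, c ≤ n → cN (n - c) ≤ lam n := by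
    intro n hn
    simp only [hcN, hlam]
    exact_mod_cast ENat.toNat_le_toNat (hc n hn) (hlamfin n)
  have r3 : ∀ n, lam n ≤ cN n + g n := by
    intro n
    have h := lam_upper M a ha n
    have h' := ENat.toNat_le_toNat h (WithTop.add_ne_top.mpr ⟨hNfin n, hgfin n⟩)
    rw [ENat.toNat_add (hNfin n) (hgfin n)] at h'
    simp only [hcN, hlam, hg]
    exact_mod_cast h'
  -- limits
  have lg : Tendsto (nz d g) atTop (𝓝 0) := tendsto_nz_zero (isHS_g M y hfin)
  have l1 : Tendsto (nz d (fun n => cN (n - c))) atTop (𝓝 eN) := tendsto_nz_shift_sub cN d c eN hN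
  have l2 : Tendsto (fun n => nz d cN n + nz d g n) atTop (𝓝 eN) := by
    have := hN.add lg
    rwa [add_zero] at this
  have llam : Tendsto (nz d lam) atTop (𝓝 eN) := by
    refine tendsto_of_tendsto_of_tendsto_of_le_of_le' l1 l2 ?_ ?_
    · filter_upwards [eventually_ge_atTop c] with n hn
      simp only [nz]
      have : ((cN (n - c) : ℤ) : ℝ) ≤ (lam n : ℝ) := by exact_mod_cast r2 n hn
      gcongr
    · filter_upwards with n
      rw [← nz_add]
      simp only [nz]
      have : ((lam n : ℤ) : ℝ) ≤ ((cN n + g n : ℤ) : ℝ) := by exact_mod_cast r3 n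
      gcongr
  have lQ : Tendsto (nz d (fun n => cQ (n + 1))) atTop (𝓝 eQ) := tendsto_nz_shift_add cQ d 1 eQ hQ
  have ldiff : Tendsto (nz d (fun n => cM (n + 1) - cM n)) atTop (𝓝 (eQ - eN)) := by
    have := lQ.sub llam
    refine this.congr fun n => ?_
    rw [← nz_sub]
    simp only [nz, r1 n]
  obtain ⟨c', hc1, hc2⟩ := tendsto_nz_diff (isHS_chi y hfin)
  have : (c' : ℝ) = eQ - eN := tendsto_nhds_unique hc2 ldiff
  rw [← this]
  exact hc1

end assembly

end Groth.Agent.Lib.Helper87.SamuelRec
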