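import Mathlib
import Groth.Agent.Lib.Helper87.KzEuler
import Groth.Agent.Lib.Helper87.SamuelRec

/-!
# Serre's theorem: the Koszul Euler characteristic is the Samuel multiplicity
-/

set_option autoImplicit false
universe u

namespace Groth.Agent.Lib.Helper87.KzSerre

open Groth.Agent.Lib.Helper87.KzMod Groth.Agent.Lib.Helper87.KzBasic
  Groth.Agent.Lib.Helper87.KzIndex Groth.Agent.Lib.Helper87.KzEuler
  Groth.Agent.Lib.Helper87.SamuelFn Groth.Agent.Lib.Helper87.SamuelRec
  Groth.Agent.Lib.Helper87.HSTop
open Filter Topology Pointwise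

variable {A : Type u} [CommRing A]

/-- finite length of `M/(l)M` -/
def FL (l : List A) (M : Type u) [AddCommGroup M] [Module A M] : Prop :=
  IsFiniteLength A (M ⧸ (Ideal.ofList l • (⊤ : Submodule A M)))

section fl

variable [IsNoetherianRing A] (M : Type u) [AddCommGroup M] [Module A M] [Module.Finite A M]

omit [IsNoetherianRing A] [Module.Finite A M] in
theorem FL.quot {a : A} {l : List A} (h : FL (a :: l) M) : FL l (QuotSMulTop a M) := by
  unfold FL at h ⊢
  rw [isFiniteLength_iff_isNoetherian_isArtinian] at h ⊢
  obtain ⟨h1, h2⟩ := h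
  exact ⟨isNoetherian_of_linearEquiv (Submodule.quotOfListConsSMulTopEquivQuotSMulTopInner M a l),
    isArtinian_of_linearEquiv (Submodule.quotOfListConsSMulTopEquivQuotSMulTopInner M a l)⟩

theorem FL.ker {a : A} {l : List A} (h : FL (a :: l) M) : FL l ↥(LinearMap.ker (mulL a M)) := by
  unfold FL at h ⊢
  apply isFiniteLength_of_supportDim_le_zero
  refine (supportDim_le_of_support_subset _ _ ?_).trans (supportDim_le_zero_of_isFiniteLength _ h)
  intro p hp
  rw [Module.support_quotient] at hp ⊢
  obtain ⟨hp1, hp2⟩ := hp
  refine ⟨Module.support_subset_of_injective _ (Submodule.subtype_injective _) hp1, ?_⟩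
  rw [Ideal.ofList_cons, PrimeSpectrum.zeroLocus_sup]
  refine ⟨?_, hp2⟩
  rw [PrimeSpectrum.mem_zeroLocus, SetLike.coe_subset_coe, Ideal.span_le,
    Set.singleton_subset_iff]
  rw [Module.mem_support_iff_of_finite] at hp1
  apply hp1
  rw [Module.mem_annihilator]
  rintro ⟨m, hm⟩
  apply Subtype.ext
  exact hm

end fl

section killed

variable (N' : Type u) [AddCommGroup N'] [Module A N']

theorem pow_smul_top_of_killed (a : A) (J : Ideal A) (ha : ∀ m : N', a • m = 0) (n : ℕ) :
    (Ideal.span {a} ⊔ J) ^ n • (⊤ : Submodule A N') = J ^ n • (⊤ : Submodule A N') := by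
  have key : ∀ S : Submodule A N', (Ideal.span {a} ⊔ J) • S = J • S := by
    intro S
    rw [Submodule.sup_smul, Submodule.ideal_span_singleton_smul]
    have : a • S = ⊥ := by
      rw [eq_bot_iff]
      rintro _ ⟨m, -, rfl⟩
      change a • m ∈ _
      rw [ha m]
      exact Submodule.zero_mem _
    rw [this, bot_sup_eq]
  induction n with
  | zero => simp
  | succ n ih => rw [pow_succ', mul_smul, ih, key, ← mul_smul, ← pow_succ']

theorem chi_cons_of_killed (a : A) (l : List A) (ha : ∀ m : N', a • m = 0) (n : ℕ) :
    chi (Ideal.ofList (a :: l)) N' n = chi (Ideal.ofList l) N' n := by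
  rw [chi_def, chi_def, Ideal.ofList_cons, pow_smul_top_of_killed N' a _ ha]

end killed

section main

variable [IsNoetherianRing A]

omit [CommRing A] [IsNoetherianRing A] in
theorem range_snoc_get (a : A) (l : List A) :
    Set.range (Fin.snoc (α := fun _ => A) (fun i : Fin l.length => l.get i) a) =
      {r | r ∈ a :: l} := by
  ext x
  simp only [Set.mem_range, Set.mem_ofPred_eq, List.mem_cons]
  constructor
  · rintro ⟨i, rfl⟩
    refine Fin.lastCases ?_ (fun j => ?_) i
    · left; simp
    · right
      simp only [Fin.snoc_castSucc]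
      exact List.get_mem l j
  · rintro (rfl | hx)
    · exact ⟨Fin.last _, by simp⟩
    · obtain ⟨j, rfl⟩ := List.mem_iff_get.mp hx
      exact ⟨j.castSucc, by simp⟩

omit [IsNoetherianRing A] in
theorem chiK_nil (M : Type u) [AddCommGroup M] [Module A M] :
    chiK ([] : List A) M = ((Module.length A M).toNat : ℤ) := by
  unfold chiK alt
  rw [finsum_eq_single _ 0]
  · rw [sgn_zero, one_mul]
    unfold hL
    rw [(KHnil M).length_eq]
  · intro i hi
    have := KHnil_subsingleton (A := A) M i hi
    unfold hL
    rw [Module.length_eq_zero]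
    simp

/-- **Serre's theorem**: for a multiplicity system `l` on `M`, the normalized Samuel function
with respect to `(l)` tends to the Euler characteristic of the Koszul complex. -/
theorem serre : ∀ (l : List A) (M : Type u) [AddCommGroup M] [Module A M] [Module.Finite A M],
    FL l M → Tendsto (nz l.length (fun n => ((chi (Ideal.ofList l) M n).toNat : ℤ))) atTop
      (𝓝 (chiK l M : ℝ))
  | [], M, _, _, _, h => by
    rw [chiK_nil]
    refine tendsto_const_nhds.congr' ?_
    filter_upwards [eventually_ge_atTop 1] with n hn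
    have h0 : (Ideal.ofList ([] : List A)) ^ n • (⊤ : Submodule A M) = ⊥ := by
      rw [Ideal.ofList_nil, Ideal.bot_pow (by omega : n ≠ 0), Submodule.bot_smul]
    simp only [nz, List.length_nil, Nat.factorial_zero, Nat.cast_one, pow_zero, one_mul, div_one]
    rw [chi_def, h0, (Submodule.quotEquivOfEqBot _ rfl).length_eq]
  | a :: l, M, _, _, _, h => by
    have hQ := h.quot
    have hN := h.ker
    have ihQ := serre l (QuotSMulTop a M) hQ
    have ihN := serre l ↥(LinearMap.ker (mulL a M)) hN
    -- the recursion on the Koszul side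
    have hfinK : ∀ i, Module.length A (KH (a :: l) M i) ≠ ⊤ := KH_length_ne_top M (a :: l) h
    have hNK : ∀ i, Module.length A (KH l (LinearMap.ker (mulL a M)) i) ≠ ⊤ :=
      KH_length_ne_top _ l hN
    have hQK : ∀ i, Module.length A (KH l (QuotSMulTop a M) i) ≠ ⊤ := KH_length_ne_top _ l hQ
    rw [chiK_cons l M a hfinK hNK hQK]
    push_cast
    -- the recursion on the Samuel side
    set y : Fin (l.length + 1) → A :=
      Fin.snoc (α := fun _ => A) (fun i : Fin l.length => l.get i) a with hy
    have hspan : Ideal.span (Set.range y) = Ideal.ofList (a :: l) := by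
      rw [hy, range_snoc_get]
    have hlast : y (Fin.last l.length) = a := by simp [hy]
    have hfin : ∀ n, chi (Ideal.span (Set.range y)) M n ≠ ⊤ := by
      intro n
      apply chi_ne_top_of_one
      rw [chi_def, pow_one, hspan, Module.length_ne_top_iff]
      exact h
    have key := samuel_rec M y hfin (chiK l (QuotSMulTop a M) : ℝ)
      (chiK l ↥(LinearMap.ker (mulL a M)) : ℝ)
    rw [hspan, hlast] at key
    refine key ?_ ?_
    · refine ihQ.congr fun n => ?_
      simp only [nz]
      rw [chi_cons_of_killed _ a l]
      intro m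
      obtain ⟨m, rfl⟩ := Submodule.Quotient.mk_surjective _ m
      rw [← Submodule.Quotient.mk_smul, Submodule.Quotient.mk_eq_zero]
      exact Submodule.smul_mem_pointwise_smul m a ⊤ trivial
    · refine ihN.congr fun n => ?_
      simp only [nz]
      rw [chi_cons_of_killed _ a l]
      rintro ⟨m, hm⟩
      apply Subtype.ext
      exact hm

end main

end Groth.Agent.Lib.Helper87.KzSerre
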