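import Mathlib
import Groth.Agent.Lib.Helper87.KzSerre
import Groth.Agent.Lib.Helper87.KzBridge

/-!
# Serre's theorem in the form used by the statements (prelude Koszul complex)
-/

set_option autoImplicit false
universe u

namespace Groth.Agent.Lib.Helper87.KzStatements

open Groth.Agent.Lib.Helper87.KzMod Groth.Agent.Lib.Helper87.KzBasic
  Groth.Agent.Lib.Helper87.KzIndex Groth.Agent.Lib.Helper87.KzEuler
  Groth.Agent.Lib.Helper87.SamuelFn Groth.Agent.Lib.Helper87.KzSerre
  Groth.Agent.Lib.Helper87.HSTop Groth.Agent.Lib.Helper87.KzBridge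
open Filter Topology

variable {A : Type u} [CommRing A]

/-- The Euler characteristic of the prelude's Koszul complex. -/
theorem euler_eq_chiK (l : List A) (M : Type u) [AddCommGroup M] [Module A M] :
    (∑ᶠ i : ℤ, ((i.negOnePow : ℤˣ) : ℤ) *
      ((Module.length A ((DRing.tensorCx (Koszul.koszul A l)
        (ModuleCat.of A M)).homology i)).toNat : ℤ)) = chiK l M := by
  unfold chiK alt
  refine finsum_congr fun i => ?_
  rw [length_eq M l i]
  rfl

theorem ofList_ofFn {d : ℕ} (x : Fin d → A) :
    Ideal.ofList (List.ofFn x) = Ideal.span (Set.range x) := by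
  have : {r | r ∈ List.ofFn x} = Set.range x := by
    ext r
    rw [Set.mem_ofPred_eq, List.mem_ofFn, Set.mem_range]
  unfold Ideal.ofList
  rw [this]

/-- **Serre's theorem**, function form. -/
theorem serre_fn [IsNoetherianRing A] (d : ℕ) (x : Fin d → A) (M : Type u) [AddCommGroup M]
    [Module A M] [Module.Finite A M]
    (hfl : IsFiniteLength A (M ⧸ (Ideal.span (Set.range x) • (⊤ : Submodule A M)))) :
    Tendsto (fun n : ℕ => (d.factorial : ℝ) *
        ((Module.length A (M ⧸ (Ideal.span (Set.range x) ^ n • (⊤ : Submodule A M)))).toNat : ℝ) /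
          (n : ℝ) ^ d)
      atTop (𝓝 ((∑ᶠ i : ℤ, ((i.negOnePow : ℤˣ) : ℤ) *
        ((Module.length A ((DRing.tensorCx (Koszul.koszul A (List.ofFn x))
          (ModuleCat.of A M)).homology i)).toNat : ℤ) : ℤ) : ℝ)) := by
  rw [euler_eq_chiK]
  have h : FL (List.ofFn x) M := by
    unfold FL
    rw [ofList_ofFn]
    exact hfl
  have key := serre (List.ofFn x) M h
  rw [List.length_ofFn, ofList_ofFn] at key
  refine key.congr fun n => ?_
  simp only [nz, chi_def]
  push_cast
  rfl

end Groth.Agent.Lib.Helper87.KzStatements
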