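import Groth.Agent.Lib.Helper87.HilbFnI

/-!
# The Hilbert polynomial of a nonzero homogeneous ideal has degree `< d - 1`
-/

set_option autoImplicit false
universe u
open MvPolynomial Filter
open Groth.Agent.Lib.Helper87.HilbFnA Groth.Agent.Lib.Helper87.HilbFnB
  Groth.Agent.Lib.Helper87.HilbFnD Groth.Agent.Lib.Helper87.HilbFnE
  Groth.Agent.Lib.Helper87.HilbFnF Groth.Agent.Lib.Helper87.HilbFnI
  Groth.Agent.Lib.Helper87.PolyDiff Groth.Agent.Lib.Helper87.HSArith

namespace Groth.Agent.Lib.Helper87.HilbDegLt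

variable {k : Type u} [Field k]

attribute [local instance] MvPolynomial.gradedAlgebra

theorem main (n : ℕ) (J : Ideal (MvPolynomial (Fin (n + 1)) k))
    (hJ : J.IsHomogeneous (homogeneousSubmodule (Fin (n + 1)) k)) (hJ0 : J ≠ ⊥) :
    ∃ P : Polynomial ℚ, P.degree < (n : WithBot ℕ) ∧ IsHP J P := by
  classical
  obtain ⟨P, hP⟩ := exists_isHP J hJ
  refine ⟨P, ?_, hP⟩
  -- a nonzero homogeneous element
  obtain ⟨x, hxJ, hx0⟩ := Submodule.exists_mem_ne_zero_of_ne_bot hJ0
  obtain ⟨e, he⟩ : ∃ e, homogeneousComponent e x ≠ 0 := by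
    by_contra hcon
    push Not at hcon
    apply hx0
    rw [← sum_homogeneousComponent x]
    exact Finset.sum_eq_zero fun i _ => hcon i
  set f := homogeneousComponent e x with hf
  have hfh : f.IsHomogeneous e := homogeneousComponent_isHomogeneous e x
  have hfJ : f ∈ J := by
    have := hJ e hxJ
    have h1 : (DirectSum.decompose (homogeneousSubmodule (Fin (n + 1)) k) x e :
        MvPolynomial (Fin (n + 1)) k) = homogeneousComponent e x :=
      decomposition.decompose'_apply x e
    rwa [h1] at this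
  have hbh : (⊥ : Ideal (MvPolynomial (Fin (n + 1)) k)).IsHomogeneous
      (homogeneousSubmodule (Fin (n + 1)) k) := Ideal.IsHomogeneous.bot _
  have h1 := IsHP.cut hbh hfh he (fun y hy => by
    rw [Ideal.mem_bot] at hy ⊢
    exact (mul_eq_zero.mp hy).resolve_left he) (isHP_bot (k := k) n)
  rw [bot_sup_eq] at h1
  have hle : Ideal.span {f} ≤ J := (Ideal.span_singleton_le_iff_mem _).mpr hfJ
  have hdeg : (Δ (e : ℚ) (Bpoly n)).degree < (n : WithBot ℕ) := by
    have := degree_Δ_lt e (Bpoly n) n (by rw [Bpoly_natDegree])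
    exact_mod_cast this
  refine lt_of_le_of_lt ?_ hdeg
  apply Groth.Agent.Lib.Helper87.PolyGrowth.degree_le_of_eventually_abs_le
  obtain ⟨m₁, h₁⟩ := hP
  obtain ⟨m₂, h₂⟩ := h1
  filter_upwards [eventually_ge_atTop m₁, eventually_ge_atTop m₂] with m hm1 hm2
  rw [h₁ m hm1, h₂ m hm2]
  have a1 := hfn_nonneg J m
  have a2 := hfn_anti hle m
  rw [abs_of_nonneg a1, abs_of_nonneg (a1.trans a2)]
  exact a2

end Groth.Agent.Lib.Helper87.HilbDegLt
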