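import Mathlib
import Groth.Agent.Lib.Helper87.HilbFnG

/-!
# Bezout for a hypersurface section of a projective variety
-/

set_option autoImplicit false
set_option linter.style.haveILetI false
universe u
open MvPolynomial Filter Topology

namespace Groth.Agent.Lib.Helper87.HilbFnH

open Groth.Agent.Lib.Helper87.HilbFnA Groth.Agent.Lib.Helper87.HilbFnB
open Groth.Agent.Lib.Helper87.HilbFnC Groth.Agent.Lib.Helper87.HilbFnD
open Groth.Agent.Lib.Helper87.HilbFnE Groth.Agent.Lib.Helper87.HilbFnF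
open Groth.Agent.Lib.Helper87.HilbFnG
open Groth.Agent.Lib.Helper87.PolyDiff

variable {k : Type u} [Field k] {σ : Type} [Finite σ]

attribute [local instance] MvPolynomial.gradedAlgebra

theorem bezout_hypersurface (I : Ideal (MvPolynomial σ k))
    (hIh : I.IsHomogeneous (homogeneousSubmodule σ k)) [hI : I.IsPrime]
    (f : MvPolynomial σ k) (d : ℕ) (hd : 0 < d) (hf : f.IsHomogeneous d) (hfI : f ∉ I)
    (P : Polynomial ℚ) (hP : IsHP I P) (hdim : 1 ≤ P.natDegree)
    (r : ℕ) (p : Fin r → Ideal (MvPolynomial σ k)) [hp : ∀ i, (p i).IsPrime]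
    (hpinj : Function.Injective p)
    (hpmin : ∀ q : Ideal (MvPolynomial σ k),
      q ∈ (I ⊔ Ideal.span {f}).minimalPrimes ↔ ∃ i, q = p i)
    (Qp : Fin r → Polynomial ℚ) (hQp : ∀ i, IsHP (p i) (Qp i)) :
    (d : ℚ) * ((P.natDegree.factorial : ℚ) * P.leadingCoeff) =
      ∑ i : Fin r, ((Qp i).natDegree.factorial : ℚ) * (Qp i).leadingCoeff *
        (Module.length (Localization.AtPrime (p i))
          (LocalizedModule (p i).primeCompl
            (MvPolynomial σ k ⧸ (I ⊔ Ideal.span {f})))).toNat := by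
  classical
  have hP0 : P ≠ 0 := by
    rintro rfl
    simp at hdim
  have hf0 : f ≠ 0 := fun h => hfI (h ▸ I.zero_mem)
  have hreg : ∀ y, f * y ∈ I → y ∈ I := fun y hy => (hI.mem_or_mem hy).resolve_left hfI
  have hcut := IsHP.cut hIh hf hf0 hreg hP
  have hI'h : (I ⊔ Ideal.span {f}).IsHomogeneous (homogeneousSubmodule σ k) := by
    refine hIh.sup (Ideal.homogeneous_span _ _ ?_)
    intro z hz
    rw [Set.mem_singleton_iff] at hz
    subst hz
    exact ⟨d, hf⟩
  obtain ⟨h1, h2⟩ := Δ_spec d hd P hdim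
  have hsum := degree_eq_sum _ hI'h _ hcut r p hpinj hpmin Qp hQp
  have hmem : ∀ i, p i ∈ (I ⊔ Ideal.span {f}).minimalPrimes := fun i =>
    (hpmin (p i)).mpr ⟨i, rfl⟩
  have hdimI := dim_prime _ I hIh P hP hP0 rfl
  have hall : ∀ i, (Qp i).natDegree = (Δ (d : ℚ) P).natDegree := by
    intro i
    have hdrop := dim_drop_prime (k := k) I (p i) f hfI (hmem i)
    have hqh := isHomogeneous_of_mem_minimalPrimes hI'h (hmem i)
    by_cases hQ0 : Qp i = 0
    · have hz := hQp i
      rw [hQ0] at hz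
      rw [dim_eq_zero_of_X_mem (X_mem_of_isHP_zero hz), hdimI] at hdrop
      exfalso
      have h3 : ((P.natDegree + 1 : ℕ) : WithBot ℕ∞) = ((1 : ℕ) : WithBot ℕ∞) := by
        push_cast
        rw [hdrop]
        simp
      have h4 : P.natDegree + 1 = 1 := by exact_mod_cast h3
      omega
    · rw [dim_prime _ (p i) hqh (Qp i) (hQp i) hQ0 rfl, hdimI] at hdrop
      have h3 : ((P.natDegree + 1 : ℕ) : WithBot ℕ∞) =
          (((Qp i).natDegree + 1 + 1 : ℕ) : WithBot ℕ∞) := by
        push_cast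
        exact hdrop
      have h4 : P.natDegree + 1 = (Qp i).natDegree + 1 + 1 := by exact_mod_cast h3
      omega
  rw [← h2, hsum]
  refine Finset.sum_congr rfl fun i _ => ?_
  rw [if_pos (hall i)]

end Groth.Agent.Lib.Helper87.HilbFnH
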