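import Mathlib

/-! Curvilinear jets `A → k[X]/(X^l)` at a rational point of a `k`-algebra: tangent jets,
successive lifts, and vanishing of forms (helper87). -/

set_option autoImplicit false
set_option linter.style.haveILetI false
set_option linter.unusedSectionVars false

open Polynomial

namespace Groth.Agent.Lib.Helper87.JetLift

universe u

noncomputable section

variable {k : Type u} [Field k]

/-- The quotient map `k[X] → k[X]/(X^l)`. -/
abbrev qmk (l : ℕ) : k[X] →+* (k[X] ⧸ Ideal.span {(X : k[X]) ^ l}) := Ideal.Quotient.mk _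

theorem qmk_eq_iff (l : ℕ) (p q : k[X]) : qmk l p = qmk l q ↔ X ^ l ∣ p - q := by
  rw [Ideal.Quotient.eq, Ideal.mem_span_singleton]

theorem isNilpotent_qmk_X_mul (l : ℕ) (p : k[X]) : IsNilpotent (qmk l (X * p)) := by
  refine ⟨l, ?_⟩
  rw [← map_pow, mul_pow]
  exact Ideal.Quotient.eq_zero_iff_mem.mpr (Ideal.mem_span_singleton.mpr (dvd_mul_right _ _))

theorem aeval_mul_of_isHomogeneous {B : Type*} [CommRing B] [Algebra k B] {σ : Type*} (t : B)
    (w : σ → B) {r : ℕ} {F : MvPolynomial σ k} (hF : F.IsHomogeneous r) :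
    MvPolynomial.aeval (fun i => t * w i) F = t ^ r * MvPolynomial.aeval w F := by
  classical
  rw [MvPolynomial.aeval_def, MvPolynomial.aeval_def, MvPolynomial.eval₂_eq,
    MvPolynomial.eval₂_eq, Finset.mul_sum]
  refine Finset.sum_congr rfl fun d hd => ?_
  have hdeg : ∑ i ∈ d.support, d i = r := by
    have h := hF (MvPolynomial.mem_support_iff.mp hd)
    rw [← h, Finsupp.weight_apply, Finsupp.sum]
    simp
  simp only [mul_pow, Finset.prod_mul_distrib, Finset.prod_pow_eq_pow_sum, hdeg]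
  ring

/-- The lifting property of curvilinear jets at `m`. -/
def Lifts {A : Type u} [CommRing A] [Algebra k A] (m : Ideal A) : Prop :=
  ∀ (l : ℕ), 1 ≤ l →
    ∀ (φ : A →ₐ[k] (k[X] ⧸ Ideal.span {(X : k[X]) ^ l})),
      (∀ a ∈ m, IsNilpotent (φ a)) →
      ∃ ψ : A →ₐ[k] (k[X] ⧸ Ideal.span {(X : k[X]) ^ (l + 1)}),
        (Ideal.Quotient.factorₐ k
            (Ideal.span_singleton_le_span_singleton.mpr
              (pow_dvd_pow (X : k[X]) (Nat.le_succ l)))).comp ψ = φ

variable {A : Type u} [CommRing A] [Algebra k A] (m : Ideal A) [m.IsMaximal]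
  (c : A →ₐ[k] k) (hc : ∀ s : A, s - algebraMap k A (c s) ∈ m)

include hc in
theorem c_eq_zero {s : A} (hs : s ∈ m) : c s = 0 := by
  by_contra h
  have h1 : algebraMap k A (c s) ∈ m := by
    have := Ideal.sub_mem _ hs (hc s)
    simpa using this
  have h2 : IsUnit (algebraMap k A (c s)) := (IsUnit.mk0 _ h).map _
  exact (Ideal.IsMaximal.ne_top ‹_›) (Ideal.eq_top_of_isUnit_mem _ h1 h2)

include hc in
theorem mem_of_c_eq_zero {s : A} (hs : c s = 0) : s ∈ m := by
  have := hc s
  rwa [hs, map_zero, sub_zero] at this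

include hc in
theorem isUnit_of_notMem {B : Type*} [CommRing B] [Algebra k B] (φ : A →ₐ[k] B)
    (hφ : ∀ a ∈ m, IsNilpotent (φ a)) {s : A} (hs : s ∉ m) : IsUnit (φ s) := by
  have h1 : c s ≠ 0 := fun h => hs (mem_of_c_eq_zero m c hc h)
  have h2 : φ s = algebraMap k B (c s) + φ (s - algebraMap k A (c s)) := by
    rw [map_sub, AlgHom.commutes]; ring
  rw [h2]
  exact IsNilpotent.isUnit_add_left_of_commute (hφ _ (hc s)) ((IsUnit.mk0 _ h1).map _)
    (Commute.all _ _)

/-- The `m`-part of `s`. -/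
def tau (s : A) : m := ⟨s - algebraMap k A (c s), hc s⟩

theorem tau_add (s s' : A) : tau m c hc (s + s') = tau m c hc s + tau m c hc s' := by
  apply Subtype.ext
  simp only [tau, Submodule.coe_add, map_add]
  ring

theorem tau_algebraMap (κ : k) : tau m c hc (algebraMap k A κ) = 0 := by
  apply Subtype.ext
  simp [tau]

theorem tau_mul (s s' : A) : tau m c hc (s * s') =
    c s • tau m c hc s' + c s' • tau m c hc s +
      ⟨(tau m c hc s : A) * (tau m c hc s' : A), Ideal.mul_mem_left _ _ (tau m c hc s').2⟩ := by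
  apply Subtype.ext
  simp only [tau, Submodule.coe_add, Submodule.coe_smul_of_tower, map_mul, Algebra.smul_def]
  ring

theorem tau_of_mem {s : A} (hs : s ∈ m) : tau m c hc s = ⟨s, hs⟩ := by
  apply Subtype.ext
  simp [tau, c_eq_zero m c hc hs]

/-- The derivation attached to a functional on the cotangent space. -/
def d (L : m.Cotangent →ₗ[k] k) (s : A) : k := L (m.toCotangent (tau m c hc s))

theorem d_add (L : m.Cotangent →ₗ[k] k) (s s' : A) :
    d m c hc L (s + s') = d m c hc L s + d m c hc L s' := by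
  simp only [d, tau_add, map_add]

theorem d_algebraMap (L : m.Cotangent →ₗ[k] k) (κ : k) : d m c hc L (algebraMap k A κ) = 0 := by
  simp only [d, tau_algebraMap, map_zero]

theorem d_mul (L : m.Cotangent →ₗ[k] k) (s s' : A) :
    d m c hc L (s * s') = c s * d m c hc L s' + c s' * d m c hc L s := by
  have h0 : m.toCotangent ⟨(tau m c hc s : A) * (tau m c hc s' : A),
      Ideal.mul_mem_left _ _ (tau m c hc s').2⟩ = 0 := by
    rw [Ideal.toCotangent_eq_zero, pow_two]
    exact Ideal.mul_mem_mul (tau m c hc s).2 (tau m c hc s').2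
  simp only [d, tau_mul, map_add, LinearMap.map_smul_of_tower, h0, map_zero, add_zero, map_smul,
    smul_eq_mul]

theorem d_of_mem (L : m.Cotangent →ₗ[k] k) {s : A} (hs : s ∈ m) :
    d m c hc L s = L (m.toCotangent ⟨s, hs⟩) := by
  simp only [d, tau_of_mem m c hc hs]

/-- The tangent jet attached to a functional on the cotangent space. -/
def tangentJet (L : m.Cotangent →ₗ[k] k) : A →ₐ[k] (k[X] ⧸ Ideal.span {(X : k[X]) ^ 2}) :=
  { toFun := fun s => qmk 2 (C (c s) + C (d m c hc L s) * X)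
    map_one' := by
      have h : d m c hc L 1 = 0 := by
        rw [← map_one (algebraMap k A)]; exact d_algebraMap m c hc L 1
      simp [h]
    map_mul' := by
      intro s s'
      rw [← map_mul, qmk_eq_iff, d_mul, map_mul c]
      refine ⟨-(C (d m c hc L s) * C (d m c hc L s')), ?_⟩
      simp only [map_add, map_mul]
      ring
    map_zero' := by
      have h : d m c hc L 0 = 0 := by
        rw [← map_zero (algebraMap k A)]; exact d_algebraMap m c hc L 0
      simp [h]
    map_add' := by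
      intro s s'
      rw [← map_add, d_add, map_add c]
      congr 1
      simp only [map_add]
      ring
    commutes' := by
      intro κ
      rw [d_algebraMap, AlgHom.commutes]
      simp
      rfl }

theorem tangentJet_apply (L : m.Cotangent →ₗ[k] k) (s : A) :
    tangentJet m c hc L s = qmk 2 (C (c s) + C (d m c hc L s) * X) := rfl

/-- A jet with prescribed first-order part. -/
def Good (L : m.Cotangent →ₗ[k] k) {l : ℕ}
    (ψ : A →ₐ[k] (k[X] ⧸ Ideal.span {(X : k[X]) ^ l})) : Prop :=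
  ∀ s : A, ∃ q : k[X], ψ s = qmk l (C (c s) + C (d m c hc L s) * X + X ^ 2 * q)

theorem Good.isNilpotent {L : m.Cotangent →ₗ[k] k} {l : ℕ}
    {ψ : A →ₐ[k] (k[X] ⧸ Ideal.span {(X : k[X]) ^ l})} (hψ : Good m c hc L ψ) :
    ∀ a ∈ m, IsNilpotent (ψ a) := by
  intro a ha
  obtain ⟨q, hq⟩ := hψ a
  rw [hq, c_eq_zero m c hc ha]
  have : C (0 : k) + C (d m c hc L a) * X + X ^ 2 * q = X * (C (d m c hc L a) + X * q) := by
    rw [map_zero]; ring
  rw [this]
  exact isNilpotent_qmk_X_mul _ _

theorem exists_good (H : Lifts (k := k) m) (L : m.Cotangent →ₗ[k] k) :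
    ∀ n : ℕ, ∃ ψ : A →ₐ[k] (k[X] ⧸ Ideal.span {(X : k[X]) ^ (n + 2)}), Good m c hc L ψ := by
  intro n
  induction n with
  | zero =>
    refine ⟨tangentJet m c hc L, fun s => ⟨0, ?_⟩⟩
    rw [tangentJet_apply, mul_zero, add_zero]
  | succ n ih =>
    obtain ⟨ψ, hψ⟩ := ih
    obtain ⟨ψ', hψ'⟩ := H (n + 2) (by omega) ψ hψ.isNilpotent
    refine ⟨ψ', fun s => ?_⟩
    obtain ⟨q, hq⟩ := hψ s
    obtain ⟨p', hp'⟩ := Ideal.Quotient.mk_surjective (ψ' s)
    have h1 := AlgHom.congr_fun hψ' s
    rw [AlgHom.comp_apply, ← hp', Ideal.Quotient.factorₐ_apply_mk, hq] at h1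
    obtain ⟨u, hu⟩ := (qmk_eq_iff _ _ _).mp h1
    refine ⟨q + X ^ n * u, ?_⟩
    rw [← hp']
    congr 1
    linear_combination hu

include hc in
theorem eval_eq_zero_of_mem (H : Lifts (k := k) m) {e : ℕ} (y : Fin e → A) (hy : ∀ i, y i ∈ m)
    (L : m.Cotangent →ₗ[k] k) (a : Fin e → k)
    (hL : ∀ i, L (m.toCotangent ⟨y i, hy i⟩) = a i)
    (r : ℕ) (F : MvPolynomial (Fin e) k) (hF : F.IsHomogeneous r)
    (s : A) (hs : s ∉ m) (hsF : s * MvPolynomial.aeval y F ∈ m ^ (r + 1)) :
    MvPolynomial.eval a F = 0 := by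
  obtain ⟨ψ, hψ⟩ := exists_good m c hc H L r
  have hnil := hψ.isNilpotent
  choose q hq using hψ
  let W : Fin e → k[X] := fun i => C (a i) + X * q (y i)
  have hψy : ∀ i, ψ (y i) = qmk (r + 2) X * qmk (r + 2) (W i) := by
    intro i
    rw [hq (y i), c_eq_zero m c hc (hy i), d_of_mem m c hc L (hy i), hL i, ← map_mul]
    congr 1
    simp only [W, map_zero]
    ring
  set J : Ideal (k[X] ⧸ Ideal.span {(X : k[X]) ^ (r + 2)}) := Ideal.span {qmk (r + 2) X} with hJ
  have hmJ : m ≤ Ideal.comap ψ J := by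
    intro a' ha'
    rw [Ideal.mem_comap, hq a', c_eq_zero m c hc ha']
    have : C (0 : k) + C (d m c hc L a') * X + X ^ 2 * q a' =
        X * (C (d m c hc L a') + X * q a') := by
      rw [map_zero]; ring
    rw [this, map_mul]
    exact Ideal.mul_mem_right _ _ (Ideal.subset_span rfl)
  have hpow : ψ (s * MvPolynomial.aeval y F) ∈ J ^ (r + 1) := by
    have h1 : m ^ (r + 1) ≤ Ideal.comap ψ (J ^ (r + 1)) :=
      (Ideal.pow_right_mono hmJ (r + 1)).trans (Ideal.le_comap_pow _ _)
    exact h1 hsF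
  rw [map_mul, Ideal.unit_mul_mem_iff_mem _ (isUnit_of_notMem m c hc ψ hnil hs), hJ,
    Ideal.span_singleton_pow, Ideal.mem_span_singleton] at hpow
  obtain ⟨v, hv⟩ := hpow
  obtain ⟨u, rfl⟩ := Ideal.Quotient.mk_surjective v
  have h2 : ψ (MvPolynomial.aeval y F) =
      qmk (r + 2) (X ^ r * MvPolynomial.aeval W F) := by
    rw [MvPolynomial.comp_aeval_apply]
    simp only [hψy]
    rw [aeval_mul_of_isHomogeneous _ _ hF, map_mul, map_pow]
    congr 1
    exact (MvPolynomial.comp_aeval_apply (f := W)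
      (Ideal.Quotient.mkₐ k (Ideal.span {(X : k[X]) ^ (r + 2)})) F).symm
  rw [h2, ← map_pow, ← map_mul, qmk_eq_iff] at hv
  set P : k[X] := MvPolynomial.aeval W F with hP
  have h3 : (X : k[X]) ^ 2 ∣ P - X * u := by
    have h4 : (X : k[X]) ^ r * X ^ 2 ∣ X ^ r * (P - X * u) := by
      have : (X : k[X]) ^ r * (P - X * u) = X ^ r * P - X ^ (r + 1) * u := by ring
      rw [this, ← pow_add]
      exact hv
    exact (mul_dvd_mul_iff_left (pow_ne_zero r X_ne_zero)).mp h4
  have h5 : (X : k[X]) ∣ P := by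
    have h6 : (X : k[X]) ∣ P - X * u := (dvd_pow_self X two_ne_zero).trans h3
    have := dvd_add h6 (dvd_mul_right X u)
    simpa using this
  have h7 : P.coeff 0 = 0 := Polynomial.X_dvd_iff.mp h5
  have h8 : P.coeff 0 = MvPolynomial.eval a F := by
    rw [Polynomial.coeff_zero_eq_eval_zero, ← Polynomial.coe_aeval_eq_eval, hP,
      MvPolynomial.comp_aeval_apply]
    have : (fun i => (Polynomial.aeval (0 : k)) (W i)) = a := by
      funext i; simp [W]
    rw [this]
    exact (MvPolynomial.aeval_eq_eval a) ▸ rfl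
  rw [← h8, h7]

end

end Groth.Agent.Lib.Helper87.JetLift
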