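import Groth.Agent.Lib.Helper87.FormsInj
import Groth.Agent.Lib.Helper87.JetLift

/-! If all curvilinear jets at a closed point of a finite type algebra over an algebraically
closed field lift, the local ring is regular (helper87). -/

set_option autoImplicit false
set_option linter.style.haveILetI false

open Polynomial IsLocalRing

namespace Groth.Agent.Lib.Helper87.JetReg

open Groth.Agent.Lib.Helper87

universe u

/-- Nullstellensatz: the evaluation at a closed point. -/
theorem exists_c (k : Type u) [Field k] [IsAlgClosed k]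
    (A : Type u) [CommRing A] [Algebra k A] [Algebra.FiniteType k A]
    (m : Ideal A) [m.IsMaximal] :
    ∃ c : A →ₐ[k] k, ∀ s : A, s - algebraMap k A (c s) ∈ m := by
  letI : Field (A ⧸ m) := Ideal.Quotient.field m
  haveI : Module.Finite k (A ⧸ m) := finite_of_finite_type_of_isJacobsonRing k (A ⧸ m)
  have hbij : Function.Bijective (algebraMap k (A ⧸ m)) :=
    IsAlgClosed.algebraMap_bijective_of_isIntegral
  let e : k ≃ₐ[k] (A ⧸ m) := AlgEquiv.ofBijective (Algebra.ofId k (A ⧸ m)) hbij
  refine ⟨e.symm.toAlgHom.comp (Ideal.Quotient.mkₐ k m), fun s => ?_⟩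
  rw [← Ideal.Quotient.eq]
  have h1 : Ideal.Quotient.mk m (algebraMap k A
      ((e.symm.toAlgHom.comp (Ideal.Quotient.mkₐ k m)) s)) =
      e (e.symm (Ideal.Quotient.mk m s)) := rfl
  rw [h1, AlgEquiv.apply_symm_apply]

theorem finite_cotangent {k : Type u} [Field k] {A : Type u} [CommRing A] [Algebra k A]
    [IsNoetherianRing A] (m : Ideal A)
    (c : A →ₐ[k] k) (hc : ∀ s : A, s - algebraMap k A (c s) ∈ m) :
    Module.Finite k m.Cotangent := by
  haveI : Module.Finite A m := Module.Finite.of_fg (IsNoetherian.noetherian m)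
  haveI : Module.Finite A m.Cotangent :=
    Module.Finite.of_surjective m.toCotangent m.toCotangent_surjective
  obtain ⟨S, hS⟩ := (Module.finite_def.mp (inferInstance : Module.Finite A m.Cotangent))
  refine ⟨⟨S, ?_⟩⟩
  rw [eq_top_iff]
  rintro v -
  have hv : v ∈ Submodule.span A (S : Set m.Cotangent) := by rw [hS]; trivial
  induction hv using Submodule.span_induction with
  | mem x hx => exact Submodule.subset_span hx
  | zero => exact zero_mem _
  | add x y _ _ hx hy => exact add_mem hx hy
  | smul r x _ hx =>
    have h1 : r • x = c r • x := by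
      have h2 : (r - algebraMap k A (c r)) • x = 0 :=
        Ideal.Cotangent.smul_eq_zero_of_mem (hc r) x
      rw [sub_smul, sub_eq_zero, algebraMap_smul] at h2
      exact h2
    rw [h1]
    exact Submodule.smul_mem _ _ hx

theorem isRegularLocalRing_of_lifts (k : Type u) [Field k] [IsAlgClosed k] [CharZero k]
    (A : Type u) [CommRing A] [Algebra k A] [Algebra.FiniteType k A]
    (m : Ideal A) [m.IsMaximal] (H : JetLift.Lifts (k := k) m) :
    IsRegularLocalRing (Localization.AtPrime m) := by
  classical
  obtain ⟨c, hc⟩ := exists_c k A m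
  haveI : IsNoetherianRing A := Algebra.FiniteType.isNoetherianRing k A
  haveI : Module.Finite k m.Cotangent := finite_cotangent m c hc
  set e := Module.finrank k m.Cotangent with he
  let b : Module.Basis (Fin e) k m.Cotangent := Module.finBasis k m.Cotangent
  have hsurj := m.toCotangent_surjective
  let y' : Fin e → m := fun i => (hsurj (b i)).choose
  have hy' : ∀ i, m.toCotangent (y' i) = b i := fun i => (hsurj (b i)).choose_spec
  let y : Fin e → A := fun i => (y' i : A)
  have hy : ∀ i, y i ∈ m := fun i => (y' i).2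
  set R := Localization.AtPrime m with hR
  let x : Fin e → R := fun i => algebraMap A R (y i)
  have hmax : maximalIdeal R = m.map (algebraMap A R) :=
    (Localization.AtPrime.map_eq_maximalIdeal).symm
  have hc0 : ∀ {s : A}, s ∈ m → c s = 0 := fun hs => JetLift.c_eq_zero m c hc hs
  -- the residue field is `k`
  have hkR : ∀ r : R, ∃ κ : k, r - algebraMap k R κ ∈ maximalIdeal R := by
    intro r
    obtain ⟨a, s, rfl⟩ := IsLocalization.exists_mk'_eq m.primeCompl r
    have hs : c (s : A) ≠ 0 := fun h => s.2 (JetLift.mem_of_c_eq_zero m c hc h)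
    refine ⟨c a / c s, ?_⟩
    have hu : IsUnit (algebraMap A R s) := IsLocalization.map_units R s
    rw [← Ideal.mul_unit_mem_iff_mem _ hu, sub_mul, IsLocalization.mk'_spec,
      IsScalarTower.algebraMap_apply k A R, ← map_mul, ← map_sub, hmax]
    apply Ideal.mem_map_of_mem
    apply JetLift.mem_of_c_eq_zero m c hc
    rw [map_sub, map_mul, AlgHom.commutes]
    simp only [Algebra.algebraMap_self, RingHom.id_apply]
    field_simp
    ring
  -- generators
  have hgen : ∀ z ∈ m, z ∈ Ideal.span (Set.range y) ⊔ m ^ 2 := by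
    intro z hz
    have h1 : m.toCotangent ⟨z, hz⟩ = m.toCotangent (∑ i, b.repr (m.toCotangent ⟨z, hz⟩) i • y' i) := by
      rw [map_sum]
      conv_lhs => rw [← b.sum_repr (m.toCotangent ⟨z, hz⟩)]
      refine Finset.sum_congr rfl fun i _ => ?_
      rw [LinearMap.map_smul_of_tower, hy']
    rw [Ideal.toCotangent_eq] at h1
    have h2 : z = (∑ i, b.repr (m.toCotangent ⟨z, hz⟩) i • y' i : m) +
        (z - (∑ i, b.repr (m.toCotangent ⟨z, hz⟩) i • y' i : m)) := by ring
    rw [h2]
    refine Submodule.add_mem_sup ?_ h1
    rw [Submodule.coe_sum]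
    refine Ideal.sum_mem _ fun i _ => ?_
    rw [Submodule.coe_smul_of_tower, Algebra.smul_def]
    exact Ideal.mul_mem_left _ _ (Ideal.subset_span ⟨i, rfl⟩)
  have hx : Ideal.span (Set.range x) = maximalIdeal R := by
    apply le_antisymm
    · rw [Ideal.span_le]
      rintro _ ⟨i, rfl⟩
      rw [hmax]
      exact Ideal.mem_map_of_mem _ (hy i)
    · haveI : IsNoetherianRing R := IsLocalization.isNoetherianRing m.primeCompl R inferInstance
      refine Submodule.le_of_le_smul_of_le_jacobson_bot (I := maximalIdeal R)
        (IsNoetherian.noetherian _) (IsLocalRing.maximalIdeal_le_jacobson ⊥) ?_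
      rw [Ideal.smul_eq_mul, ← pow_two]
      conv_lhs => rw [hmax]
      rw [Ideal.map_le_iff_le_comap]
      intro z hz
      rw [Ideal.mem_comap]
      have h3 := Ideal.mem_map_of_mem (algebraMap A R) (hgen z hz)
      rw [Ideal.map_sup, Ideal.map_span, Ideal.map_pow, ← hmax] at h3
      have h4 : (algebraMap A R) '' Set.range y = Set.range x := by
        rw [← Set.range_comp]; rfl
      rw [h4] at h3
      exact h3
  haveI : IsNoetherianRing R := IsLocalization.isNoetherianRing m.primeCompl R inferInstance
  have hinj : FormsInj.Inj (k := k) x := by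
    intro r F hF hmem
    apply MvPolynomial.funext
    intro a
    rw [map_zero]
    let L : m.Cotangent →ₗ[k] k := b.constr k a
    have hL : ∀ i, L (m.toCotangent ⟨y i, hy i⟩) = a i := by
      intro i
      have : m.toCotangent ⟨y i, hy i⟩ = b i := hy' i
      rw [this]
      exact b.constr_basis k a i
    have h1 : MvPolynomial.aeval x F = algebraMap A R (MvPolynomial.aeval y F) :=
      (MvPolynomial.comp_aeval_apply (f := y) (IsScalarTower.toAlgHom k A R) F).symm
    rw [h1, hmax, ← Ideal.map_pow, IsLocalization.mem_map_algebraMap_iff m.primeCompl] at hmem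
    obtain ⟨⟨w, s₁⟩, hws⟩ := hmem
    rw [← map_mul, IsLocalization.eq_iff_exists m.primeCompl] at hws
    obtain ⟨s₂, hs₂⟩ := hws
    refine JetLift.eval_eq_zero_of_mem m c hc H y hy L a hL r F hF ((s₂ : A) * (s₁ : A))
      (fun h => ((Ideal.IsMaximal.isPrime ‹_›).mem_or_mem h).elim s₂.2 s₁.2) ?_
    have h5 : (s₂ : A) * (s₁ : A) * MvPolynomial.aeval y F = s₂ * (w : A) := by
      rw [← hs₂]; ring
    rw [h5]
    exact Ideal.mul_mem_left _ _ w.2
  exact FormsInj.isRegularLocalRing hkR x hx hinj

end Groth.Agent.Lib.Helper87.JetReg
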