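import Mathlib
import Groth.Agent.Lib.Helper87.KzLimA
import Groth.Agent.Lib.Helper87.KzLimB

/-!
# The limit Koszul cohomology of a polynomial ring with respect to the variables
-/

set_option autoImplicit false
universe u
open CategoryTheory CategoryTheory.Limits CochainComplex HomologicalComplex

namespace Groth.Agent.Lib.Helper87.KzLimC

open Groth.Agent.Lib.Helper87.KzLimA Groth.Agent.Lib.Helper87.KzLimB
open CohIII MvPolynomial

variable (A : Type u) [CommRing A] (k : ℕ)

/-- the list of variables -/
noncomputable abbrev vars : List (MvPolynomial (Fin k) A) :=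
  List.ofFn fun j : Fin k => (X j : MvPolynomial (Fin k) A)

/-- the polynomial ring as a module over itself -/
noncomputable abbrev SM : ModuleCat.{u} (MvPolynomial (Fin k) A) :=
  ModuleCat.of (MvPolynomial (Fin k) A) (MvPolynomial (Fin k) A)

/-- the modules of the directed system -/
noncomputable abbrev Gd (d : ℤ) (n : ℕ) : Type u :=
  (((koszulCx (SM A k) ((vars A k).map (· ^ n))).homology d :
    ModuleCat.{u} (MvPolynomial (Fin k) A)) : Type u)

/-- the transition maps of the directed system -/
noncomputable abbrev fd (d : ℤ) (n m : ℕ) (h : n ≤ m) :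
    Gd A k d n →ₗ[MvPolynomial (Fin k) A] Gd A k d m :=
  (homologyMap (koszulTrans (SM A k) n m h (vars A k)) d).hom

theorem subsingleton_lim (d : ℤ) (hd : d ≠ 0) :
    Subsingleton (Module.DirectLimit (Gd A k d) (fd A k d)) := by
  refine ⟨fun z w => ?_⟩
  have key : ∀ z : Module.DirectLimit (Gd A k d) (fd A k d), z = 0 := by
    intro z
    obtain ⟨n, x, rfl⟩ := Module.DirectLimit.exists_of z
    have hs : Subsingleton ((koszulCx (SM A k) ((vars A k).map (· ^ n))).homology d) :=
      koszulCx_homology_subsingleton_of_regular (SM A k) _ (isWeaklyRegular_X_pow A k n) d hd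
    rw [Subsingleton.elim x 0, map_zero]
  rw [key z, key w]

instance directedSystem (d : ℤ) : DirectedSystem (Gd A k d) (fun i j h => fd A k d i j h) := by
  refine ⟨fun i x => ?_, fun k' j i hij hjk x => ?_⟩
  · change (homologyMap (koszulTrans (SM A k) i i le_rfl (vars A k)) d).hom x = x
    rw [koszulTrans_refl, homologyMap_id]
    rfl
  · change (homologyMap (koszulTrans (SM A k) j k' hjk (vars A k)) d).hom
      ((homologyMap (koszulTrans (SM A k) i j hij (vars A k)) d).hom x) =
      (homologyMap (koszulTrans (SM A k) i k' (hij.trans hjk) (vars A k)) d).hom x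
    rw [← koszulTrans_comp (SM A k) i j k' hij hjk, homologyMap_comp]
    rfl

theorem free_lim (d : ℤ) (hd : d = 0) :
    Module.Free A (RestrictScalars A (MvPolynomial (Fin k) A)
      (Module.DirectLimit (Gd A k d) (fd A k d))) := by
  subst hd
  obtain ⟨q, hq1, hq2, hq3⟩ := present (SM A k) (vars A k)
  let iA : Module A (Module.DirectLimit (Gd A k 0) (fd A k 0)) :=
    Module.compHom _ (algebraMap A (MvPolynomial (Fin k) A))
  have : IsScalarTower A (MvPolynomial (Fin k) A) (Module.DirectLimit (Gd A k 0) (fd A k 0)) :=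
    ⟨fun a s z => by
      change (a • s) • z = algebraMap A (MvPolynomial (Fin k) A) a • (s • z)
      rw [Algebra.smul_def, mul_smul]⟩
  let u₀ : ℕ → MvPolynomial (Fin k) A →ₗ[MvPolynomial (Fin k) A]
      (Module.DirectLimit (Gd A k 0) (fd A k 0)) :=
    fun n => (Module.DirectLimit.of (MvPolynomial (Fin k) A) ℕ (Gd A k 0) (fd A k 0) n).comp (q n)
  let u : ℕ → MvPolynomial (Fin k) A →ₗ[A] (Module.DirectLimit (Gd A k 0) (fd A k 0)) :=
    fun n => (u₀ n).restrictScalars A
  have hu : ∀ n x, u n x =
      Module.DirectLimit.of (MvPolynomial (Fin k) A) ℕ (Gd A k 0) (fd A k 0) n (q n x) :=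
    fun n x => rfl
  have hpw : ∀ d : ℕ, pw (vars A k) d = P A k ^ d := fun d => prod_map_pow_ofFn A k d
  have hker : ∀ n x, q n x = 0 ↔ x ∈ IT A k Set.univ n := by
    intro n x
    rw [← LinearMap.mem_ker, hq2, ← ofList_smul_top_eq A k n]
  have key : Module.Free A (Module.DirectLimit (Gd A k 0) (fd A k 0)) := by
    refine free_of_presentation _ u ?_ ?_ ?_ ?_
    · intro z
      obtain ⟨n, y, hy⟩ := Module.DirectLimit.exists_of z
      obtain ⟨x, rfl⟩ := hq1 n y
      exact ⟨n, x, hy⟩
    · intro n m hnm x
      rw [hu, hu, ← hpw, ← smul_eq_mul, ← hq3 n m hnm x]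
      exact (Module.DirectLimit.of_f (hij := hnm)).symm
    · intro n x hx
      rw [hu] at hx
      obtain ⟨m, hnm, hm⟩ := Module.DirectLimit.of.zero_exact hx
      refine ⟨m, hnm, ?_⟩
      rw [← hker, ← hpw, ← smul_eq_mul, ← hq3 n m hnm x]
      exact hm
    · intro n x hx
      rw [hu, (hker n x).mpr hx, map_zero]
  exact key

end Groth.Agent.Lib.Helper87.KzLimC
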