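import Mathlib

/-! Length of `Hom(κ, A/I)` over a localisation `A = R_m` when `R/J` is already local
(`I = J A`), computed from a "basis modulo `m`" of the socle of `R/J` (helper87). -/

set_option autoImplicit false
set_option linter.style.haveILetI false
set_option linter.unusedSectionVars false

open IsLocalRing

namespace Groth.Agent.Lib.Helper87.LocSocle

/-- Length of a module killed by the maximal ideal with a "basis modulo `m`". -/
theorem length_eq_card_of_family {A : Type*} [CommRing A] [IsLocalRing A] {V : Type*}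
    [AddCommGroup V] [Module A V] {ι : Type*} [Fintype ι] (v : ι → V)
    (hspan : ∀ w : V, ∃ c : ι → A, w = ∑ i, c i • v i)
    (hind : ∀ c : ι → A, ∑ i, c i • v i = 0 → ∀ i, c i ∈ maximalIdeal A)
    (hkill : ∀ a ∈ maximalIdeal A, ∀ w : V, a • w = 0) :
    Module.length A V = Fintype.card ι := by
  classical
  set f : (ι → A) →ₗ[A] V := Fintype.linearCombination A v with hf
  set π : (ι → A) →ₗ[A] (ι → A ⧸ maximalIdeal A) :=
    (Submodule.mkQ (maximalIdeal A)).compLeft ι with hπ
  have hfs : Function.Surjective f := by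
    intro w
    obtain ⟨c, hc⟩ := hspan w
    exact ⟨c, by rw [hc, hf, Fintype.linearCombination_apply]⟩
  have hπs : Function.Surjective π := by
    intro g
    choose c hc using fun i => Submodule.Quotient.mk_surjective _ (g i)
    exact ⟨c, funext fun i => hc i⟩
  have hker : LinearMap.ker f = LinearMap.ker π := by
    ext c
    rw [LinearMap.mem_ker, LinearMap.mem_ker, hf, Fintype.linearCombination_apply]
    constructor
    · intro h
      funext i
      show Submodule.Quotient.mk (c i) = 0
      rw [Submodule.Quotient.mk_eq_zero]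
      exact hind c h i
    · intro h
      refine Finset.sum_eq_zero fun i _ => hkill _ ?_ _
      have := congrFun h i
      change Submodule.Quotient.mk (c i) = 0 at this
      rwa [Submodule.Quotient.mk_eq_zero] at this
  have e1 := f.quotKerEquivOfSurjective hfs
  have e2 := π.quotKerEquivOfSurjective hπs
  have e3 := Submodule.quotEquivOfEq _ _ hker
  rw [(e1.symm.trans (e3.trans e2)).length_eq, Module.length_pi_of_fintype]
  have h1 : Module.length A (A ⧸ maximalIdeal A) = 1 := by
    rw [Module.length_eq_one_iff, isSimpleModule_iff_isCoatom]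
    exact Ideal.isMaximal_def.mp inferInstance
  simp only [h1, Finset.sum_const, Finset.card_univ, nsmul_eq_mul, mul_one]

universe u

variable {R : Type u} [CommRing R] (m : Ideal R) [m.IsMaximal] (J : Ideal R)

theorem length_hom_residue (hJm : J ≤ m) (hJ : ∀ t, t ∉ m → ∃ t', t * t' - 1 ∈ J)
    {ι : Type*} [Fintype ι] (z : ι → R)
    (h1 : ∀ i, ∀ r ∈ m, r * z i ∈ J)
    (h2 : ∀ w : R, (∀ r ∈ m, r * w ∈ J) → ∃ c : ι → R, w - ∑ i, c i * z i ∈ J)
    (h3 : ∀ c : ι → R, ∑ i, c i * z i ∈ J → ∀ i, c i ∈ m) :
    Module.length (Localization.AtPrime m)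
      (ResidueField (Localization.AtPrime m) →ₗ[Localization.AtPrime m]
        (Localization.AtPrime m ⧸ J.map (algebraMap R (Localization.AtPrime m)))) =
      Fintype.card ι := by
  classical
  set A := Localization.AtPrime m with hA
  set I := J.map (algebraMap R A) with hI
  set ψ : R →+* A ⧸ I := (Ideal.Quotient.mk I).comp (algebraMap R A) with hψ
  have hImA : I ≤ maximalIdeal A :=
    Ideal.map_le_iff_le_comap.mpr fun j hj =>
      (IsLocalization.AtPrime.to_map_mem_maximal_iff A m j).mpr (hJm hj)
  have ha : ∀ a : A, ∃ r : R, a - algebraMap R A r ∈ I := by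
    intro a
    obtain ⟨⟨r, t⟩, h⟩ := IsLocalization.surj m.primeCompl a
    obtain ⟨t', ht'⟩ := hJ t.1 t.2
    refine ⟨r * t', ?_⟩
    have : a - algebraMap R A (r * t') = - (a * algebraMap R A (t.1 * t' - 1)) := by
      rw [map_mul, ← h, map_sub, map_mul, map_one]; ring
    rw [this]
    exact I.neg_mem (I.mul_mem_left _ (Ideal.mem_map_of_mem _ ht'))
  have hb : ∀ r : R, algebraMap R A r ∈ I → r ∈ J := by
    intro r hr
    rw [hI, IsLocalization.mem_map_algebraMap_iff m.primeCompl] at hr
    obtain ⟨⟨j, t⟩, h⟩ := hr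
    rw [← map_mul, IsLocalization.eq_iff_exists m.primeCompl] at h
    obtain ⟨c, hc⟩ := h
    have hct : (c.1 * t.1) ∉ m := fun hmem =>
      (Ideal.IsPrime.mem_or_mem inferInstance hmem).elim c.2 t.2
    obtain ⟨t', ht'⟩ := hJ _ hct
    have : r = t' * (c.1 * (r * t.1)) - (c.1 * t.1 * t' - 1) * r := by ring
    rw [this, hc]
    exact J.sub_mem (J.mul_mem_left _ (J.mul_mem_left _ j.2)) (J.mul_mem_right _ ht')
  have hψ0 : ∀ r : R, ψ r = 0 → r ∈ J := fun r hr =>
    hb r (Ideal.Quotient.eq_zero_iff_mem.mp hr)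
  have hψJ : ∀ r : R, r ∈ J → ψ r = 0 := fun r hr =>
    Ideal.Quotient.eq_zero_iff_mem.mpr (Ideal.mem_map_of_mem _ hr)
  have hmk : ∀ a : A, ∃ r : R, Ideal.Quotient.mk I a = ψ r := fun a => by
    obtain ⟨r, hr⟩ := ha a
    exact ⟨r, Ideal.Quotient.eq.mpr hr⟩
  have hmkm : ∀ a ∈ maximalIdeal A, ∃ r ∈ m, Ideal.Quotient.mk I a = ψ r := by
    intro a ha'
    obtain ⟨r, hr⟩ := ha a
    refine ⟨r, ?_, Ideal.Quotient.eq.mpr hr⟩
    rw [← IsLocalization.AtPrime.to_map_mem_maximal_iff A m r]
    have : algebraMap R A r = a - (a - algebraMap R A r) := by ring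
    rw [this]
    exact (maximalIdeal A).sub_mem ha' (hImA hr)
  have hsurj : ∀ q : A ⧸ I, ∃ r, ψ r = q := fun q => by
    obtain ⟨a, rfl⟩ := Ideal.Quotient.mk_surjective q
    obtain ⟨r, hr⟩ := hmk a
    exact ⟨r, hr.symm⟩
  have hsm : ∀ (a : A) (q : A ⧸ I), a • q = Ideal.Quotient.mk I a * q := fun a q => by
    obtain ⟨x, rfl⟩ := Ideal.Quotient.mk_surjective q
    rw [← map_mul]; rfl
  have hkillQ : ∀ i, ∀ a ∈ maximalIdeal A, a • ψ (z i) = 0 := by
    intro i a ha'
    obtain ⟨r, hr, hra⟩ := hmkm a ha'
    rw [hsm, hra, ← map_mul]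
    exact hψJ _ (h1 i r hr)
  let v : ι → (ResidueField A →ₗ[A] (A ⧸ I)) := fun i =>
    Submodule.liftQ (maximalIdeal A) (LinearMap.toSpanSingleton A (A ⧸ I) (ψ (z i)))
      (fun a ha' => by
        rw [LinearMap.mem_ker, LinearMap.toSpanSingleton_apply]; exact hkillQ i a ha')
  have hv1 : ∀ i, v i 1 = ψ (z i) := by
    intro i
    show (LinearMap.toSpanSingleton A (A ⧸ I) (ψ (z i))) 1 = _
    rw [LinearMap.toSpanSingleton_apply, one_smul]
  have hres : ∀ a : A, a • (1 : ResidueField A) = residue A a := fun a => by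
    rw [Algebra.smul_def, mul_one]; rfl
  have hext : ∀ f g : ResidueField A →ₗ[A] (A ⧸ I), f 1 = g 1 → f = g := by
    intro f g h
    refine LinearMap.ext fun x => ?_
    obtain ⟨a, rfl⟩ := residue_surjective x
    rw [← hres, map_smul, map_smul, h]
  have hres0 : ∀ a ∈ maximalIdeal A, a • (1 : ResidueField A) = 0 := fun a ha' => by
    rw [hres]; exact (residue_eq_zero_iff a).mpr ha'
  apply length_eq_card_of_family v
  · -- spanning
    intro f
    obtain ⟨w, hw⟩ := hsurj (f 1)
    have hmw : ∀ r ∈ m, r * w ∈ J := by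
      intro r hr
      apply hψ0
      have hrA : algebraMap R A r ∈ maximalIdeal A :=
        (IsLocalization.AtPrime.to_map_mem_maximal_iff A m r).mpr hr
      have : ψ r * ψ w = algebraMap R A r • f 1 := by rw [hsm, hw]; rfl
      rw [map_mul, this, ← map_smul, hres0 _ hrA, map_zero]
    obtain ⟨c, hc⟩ := h2 w hmw
    refine ⟨fun i => algebraMap R A (c i), hext _ _ ?_⟩
    rw [LinearMap.sum_apply]
    simp only [LinearMap.smul_apply, hv1, hsm]
    have h4 := hψJ _ hc
    rw [map_sub, sub_eq_zero, map_sum] at h4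
    rw [← hw, h4]
    refine Finset.sum_congr rfl fun i _ => ?_
    rw [map_mul]; rfl
  · -- independence
    intro c hc i
    have h4 := congrArg (fun f : ResidueField A →ₗ[A] (A ⧸ I) => f 1) hc
    simp only [LinearMap.sum_apply, LinearMap.smul_apply, hv1, hsm, LinearMap.zero_apply] at h4
    choose c' hc' using ha
    have h5 : ψ (∑ i, c' (c i) * z i) = 0 := by
      rw [map_sum, ← h4]
      refine Finset.sum_congr rfl fun i _ => ?_
      rw [map_mul, (Ideal.Quotient.eq.mpr (hc' (c i)) :
        Ideal.Quotient.mk I (c i) = Ideal.Quotient.mk I (algebraMap R A (c' (c i))))]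
      rfl
    have h6 := h3 (fun i => c' (c i)) (hψ0 _ h5) i
    have h7 : algebraMap R A (c' (c i)) ∈ maximalIdeal A :=
      (IsLocalization.AtPrime.to_map_mem_maximal_iff A m _).mpr h6
    have : c i = (c i - algebraMap R A (c' (c i))) + algebraMap R A (c' (c i)) := by ring
    rw [this]
    exact (maximalIdeal A).add_mem (hImA (hc' (c i))) h7
  · -- killed
    intro a ha' f
    apply hext
    rw [LinearMap.smul_apply, ← map_smul, hres0 a ha', map_zero, LinearMap.zero_apply]

/-- Passing from `LocalizedModule` of the ring to the localised ring. -/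
theorem nonempty_hom_equiv (rs : List R) :
    Nonempty ((ResidueField (Localization.AtPrime m) →ₗ[Localization.AtPrime m]
        (LocalizedModule m.primeCompl R ⧸
          (Ideal.ofList (rs.map (algebraMap R (Localization.AtPrime m))) •
            (⊤ : Submodule (Localization.AtPrime m) (LocalizedModule m.primeCompl R))))) ≃ₗ[Localization.AtPrime m]
      (ResidueField (Localization.AtPrime m) →ₗ[Localization.AtPrime m]
        (Localization.AtPrime m ⧸ (Ideal.ofList rs).map (algebraMap R (Localization.AtPrime m))))) := by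
  set A := Localization.AtPrime m with hA
  let e : LocalizedModule m.primeCompl R ≃ₗ[A] A :=
    (LocalizedModule.equivTensorProduct m.primeCompl R).trans
      (TensorProduct.AlgebraTensorModule.rid R A A)
  have h : (Ideal.ofList (rs.map (algebraMap R A)) •
      (⊤ : Submodule A (LocalizedModule m.primeCompl R))).map e.toLinearMap =
      (Ideal.ofList rs).map (algebraMap R A) := by
    rw [Submodule.map_smul'', Submodule.map_top, LinearEquiv.range, Ideal.map_ofList,
      smul_eq_mul, Ideal.mul_top]
  exact ⟨LinearEquiv.congrRight (Submodule.Quotient.equiv _ _ e h)⟩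

end Groth.Agent.Lib.Helper87.LocSocle
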