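import Mathlib
import Groth.Prelude.Def_CAlgX

namespace Groth.Agent.Lib.Helper87.McCoy

universe u
variable {R : Type u} [CommRing R] {m n : ℕ}

open Matrix

/-- one step of McCoy's descending induction -/
lemma step (M : Matrix (Fin n) (Fin m) R) (hinj : Function.Injective (Matrix.mulVecLin M))
    (a : R) (r : ℕ) (hr : r < m)
    (h : ∀ (f : Fin (r + 1) → Fin n) (g : Fin (r + 1) → Fin m), a * (M.submatrix f g).det = 0)
    (f : Fin r → Fin n) (g : Fin r → Fin m) : a * (M.submatrix f g).det = 0 := by
  -- a column not in the range of g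
  obtain ⟨c, hc⟩ : ∃ c : Fin m, c ∉ Set.range g := by
    by_contra hcon
    push Not at hcon
    have hs : Function.Surjective g := fun c => hcon c
    have := Fintype.card_le_of_surjective g hs
    simp at this
    omega
  let g' : Fin (r + 1) → Fin m := Fin.cons c g
  let x : Fin m → R := fun k => ∑ j : Fin (r + 1),
    if g' j = k then a * ((-1) ^ (j : ℕ) * (M.submatrix f (g' ∘ j.succAbove)).det) else 0
  have hMx : M.mulVecLin x = 0 := by
    funext i
    have h1 := h (Fin.cons i f) g'
    rw [Matrix.det_succ_row_zero, Finset.mul_sum] at h1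
    have h2 : (M.mulVecLin x) i = ∑ j : Fin (r + 1),
        M i (g' j) * (a * ((-1) ^ (j : ℕ) * (M.submatrix f (g' ∘ j.succAbove)).det)) := by
      simp only [Matrix.mulVecLin_apply, Matrix.mulVec, dotProduct, x]
      simp_rw [Finset.mul_sum]
      rw [Finset.sum_comm]
      apply Finset.sum_congr rfl
      intro j _
      rw [Finset.sum_eq_single (g' j)]
      · rw [if_pos rfl]
      · intro k _ hk
        rw [if_neg (fun h => hk h.symm), mul_zero]
      · intro h; exact absurd (Finset.mem_univ _) h
    rw [h2, Pi.zero_apply, ← h1]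
    apply Finset.sum_congr rfl
    intro j _
    have : (M.submatrix (Fin.cons i f) g').submatrix Fin.succ j.succAbove =
        M.submatrix f (g' ∘ j.succAbove) := by
      ext p q
      simp [Matrix.submatrix_apply]
    rw [this]
    simp only [Matrix.submatrix_apply, Fin.cons_zero]
    ring
  have hx : x = 0 := by
    apply hinj
    rw [hMx, map_zero]
  have hxc := congrFun hx c
  simp only [x, Pi.zero_apply] at hxc
  rw [Finset.sum_eq_single (0 : Fin (r + 1))] at hxc
  · rw [if_pos (by simp [g'])] at hxc
    simp only [Fin.val_zero, pow_zero, one_mul] at hxc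
    have : g' ∘ (0 : Fin (r + 1)).succAbove = g := by
      funext p
      simp [g', Fin.succAbove_zero]
    rw [this] at hxc
    exact hxc
  · intro j _ hj
    rw [if_neg]
    intro hgj
    obtain ⟨j', rfl⟩ := Fin.exists_succ_eq.2 hj
    apply hc
    exact ⟨j', by simpa [g'] using hgj⟩
  · intro h; exact absurd (Finset.mem_univ _) h


/-- McCoy: if `M` is injective, an element killing all maximal minors is zero. -/
theorem eq_zero_of_injective (M : Matrix (Fin n) (Fin m) R)
    (hinj : Function.Injective (Matrix.mulVecLin M)) (a : R)
    (h : ∀ (f : Fin m → Fin n) (g : Fin m → Fin m), a * (M.submatrix f g).det = 0) : a = 0 := by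
  have key : ∀ d r : ℕ, r + d = m →
      ∀ (f : Fin r → Fin n) (g : Fin r → Fin m), a * (M.submatrix f g).det = 0 := by
    intro d
    induction d with
    | zero =>
      intro r hr
      rw [add_zero] at hr
      subst hr
      exact h
    | succ d ih =>
      intro r hr f g
      exact step M hinj a r (by omega) (ih (r + 1) (by omega)) f g
  have := key m 0 (by omega) Fin.elim0 Fin.elim0
  rwa [Matrix.det_isEmpty, mul_one] at this

/-- Cramer: if only zero kills all maximal minors then `M` is injective. -/
theorem injective_of_forall (M : Matrix (Fin n) (Fin m) R)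
    (hann : ∀ a : R, (∀ (f : Fin m → Fin n) (g : Fin m → Fin m),
      a * (M.submatrix f g).det = 0) → a = 0) :
    Function.Injective (Matrix.mulVecLin M) := by
  rw [injective_iff_map_eq_zero]
  intro x hx
  funext j
  apply hann
  intro f g
  set N : Matrix (Fin m) (Fin m) R := M.submatrix f id with hN
  have hNx : N.mulVec x = 0 := by
    funext i
    have := congrFun hx (f i)
    simpa [Matrix.mulVec, dotProduct, hN] using this
  have hdet : N.det * x j = 0 := by
    have h1 : (N.adjugate * N).mulVec x = 0 := by
      rw [← Matrix.mulVec_mulVec, hNx, Matrix.mulVec_zero]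
    rw [Matrix.adjugate_mul, Matrix.smul_mulVec, Matrix.one_mulVec] at h1
    have := congrFun h1 j
    simpa using this
  have hsub : M.submatrix f g = N.submatrix id g := by
    ext p q; simp [hN]
  rw [hsub]
  by_cases hg : Function.Injective g
  · have hbij : Function.Bijective g := Finite.injective_iff_bijective.1 hg
    let σ : Equiv.Perm (Fin m) := Equiv.ofBijective g hbij
    have : N.submatrix id g = N.submatrix id σ := rfl
    rw [this, Matrix.det_permute', mul_comm (x j), mul_assoc, hdet, mul_zero]
  · rw [Function.Injective] at hg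
    push Not at hg
    obtain ⟨i, i', hii, hne⟩ := hg
    rw [Matrix.det_zero_of_column_eq hne, mul_zero]
    intro k
    simp [hii]

open CAlgX

lemma minorIdeal_eq_bot_of_lt (M : Matrix (Fin n) (Fin m) R) (r : ℕ) (hr : m < r) :
    minorIdeal M r = ⊥ := by
  unfold minorIdeal
  rw [Ideal.span_eq_bot]
  rintro _ ⟨⟨f, g⟩, rfl⟩
  obtain ⟨i, i', hne, hii⟩ := Fintype.exists_ne_map_eq_of_card_lt g (by simpa using hr)
  apply Matrix.det_zero_of_column_eq hne
  intro k
  simp [hii]

lemma mem_annihilator_minorIdeal (M : Matrix (Fin n) (Fin m) R) (r : ℕ) (a : R) :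
    a ∈ (minorIdeal M r).annihilator ↔
      ∀ (f : Fin r → Fin n) (g : Fin r → Fin m), a * (M.submatrix f g).det = 0 := by
  unfold minorIdeal
  rw [Ideal.span, Submodule.mem_annihilator_span]
  constructor
  · intro h f g
    have := h ⟨_, ⟨(f, g), rfl⟩⟩
    simpa using this
  · rintro h ⟨_, ⟨⟨f, g⟩, rfl⟩⟩
    simpa using h f g

lemma matrixRank_eq [Nontrivial R] (M : Matrix (Fin n) (Fin m) R) (h : minorIdeal M m ≠ ⊥) :
    matrixRank M = m := by
  unfold matrixRank
  apply IsGreatest.csSup_eq
  refine ⟨h, ?_⟩
  intro r hr
  by_contra hlt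
  exact hr (minorIdeal_eq_bot_of_lt M r (not_le.1 hlt))

lemma matrixRank_le [Nontrivial R] (M : Matrix (Fin n) (Fin m) R) : matrixRank M ≤ m := by
  unfold matrixRank
  apply csSup_le
  · refine ⟨0, ?_⟩
    change minorIdeal M 0 ≠ ⊥
    unfold minorIdeal
    intro h
    rw [Ideal.span_eq_bot] at h
    have := h _ ⟨(Fin.elim0, Fin.elim0), rfl⟩
    simp only [Matrix.det_isEmpty] at this
    exact one_ne_zero this
  · intro r hr
    by_contra hlt
    exact hr (minorIdeal_eq_bot_of_lt M r (not_le.1 hlt))

/-- McCoy's theorem in the prelude's vocabulary. -/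
theorem injective_iff [Nontrivial R] (M : Matrix (Fin n) (Fin m) R) :
    Function.Injective (Matrix.mulVecLin M) ↔
      matrixRank M = m ∧ (detIdeal M).annihilator = ⊥ := by
  constructor
  · intro hinj
    have hne : minorIdeal M m ≠ ⊥ := by
      intro hbot
      have : (1 : R) = 0 := by
        apply eq_zero_of_injective M hinj
        intro f g
        have : (M.submatrix f g).det ∈ minorIdeal M m :=
          Ideal.subset_span ⟨(f, g), rfl⟩
        rw [hbot, Ideal.mem_bot] at this
        rw [this, mul_zero]
      exact one_ne_zero this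
    have hrk := matrixRank_eq M hne
    refine ⟨hrk, ?_⟩
    unfold detIdeal
    rw [hrk, eq_bot_iff]
    intro a ha
    rw [mem_annihilator_minorIdeal] at ha
    rw [Ideal.mem_bot]
    exact eq_zero_of_injective M hinj a ha
  · rintro ⟨hrk, hann⟩
    unfold detIdeal at hann
    rw [hrk] at hann
    apply injective_of_forall
    intro a ha
    have : a ∈ (minorIdeal M m).annihilator := (mem_annihilator_minorIdeal M m a).2 ha
    rw [hann, Ideal.mem_bot] at this
    exact this

/-- In a Noetherian ring an ideal has zero annihilator iff it contains a regular element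
(or is the unit ideal). -/
theorem annihilator_eq_bot_iff [IsNoetherianRing R] (I : Ideal R) :
    I.annihilator = ⊥ ↔ (I = ⊤ ∨ ∃ a ∈ I, IsRegular a) := by
  constructor
  · intro hann
    right
    by_contra hcon
    push Not at hcon
    have hsub : (I : Set R) ⊆ ⋃ p ∈ associatedPrimes R R, (p : Set R) := by
      rw [biUnion_associatedPrimes_eq_compl_nonZeroDivisors]
      intro a ha hreg
      apply hcon a ha
      exact (isRegular_iff_mem_nonZeroDivisors).2 hreg
    have hfin : (associatedPrimes R R).Finite := associatedPrimes.finite R R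
    have hsub' : (I : Set R) ⊆ ⋃ p ∈ (↑hfin.toFinset : Set (Ideal R)), (p : Set R) := by
      simpa using hsub
    rw [Ideal.subset_union_prime (f := fun p : Ideal R => p) ⊥ ⊥] at hsub'
    · obtain ⟨p, hp, hIp⟩ := hsub'
      rw [Set.Finite.mem_toFinset] at hp
      have hp' : IsAssociatedPrime p R := hp
      rw [isAssociatedPrime_iff] at hp'
      obtain ⟨hprime, x, hx⟩ := hp'
      have hx0 : x ≠ 0 := by
        rintro rfl
        apply hprime.ne_top
        rw [hx]
        ext r; simp [Submodule.mem_colon_singleton]
      have hxann : x ∈ I.annihilator := by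
        rw [Submodule.mem_annihilator]
        intro r hr
        have := hIp hr
        rw [hx, Submodule.mem_colon_singleton] at this
        simpa [mul_comm] using this
      rw [hann, Ideal.mem_bot] at hxann
      exact hx0 hxann
    · intro p hp _ _
      rw [Set.Finite.mem_toFinset] at hp
      have hp' : IsAssociatedPrime p R := hp
      exact hp'.1
  · rintro (h | ⟨a, ha, hreg⟩)
    · rw [h, eq_bot_iff]
      intro x hx
      rw [Submodule.mem_annihilator] at hx
      have := hx 1 trivial
      simpa using this
    · rw [eq_bot_iff]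
      intro x hx
      rw [Submodule.mem_annihilator] at hx
      have h1 := hx a ha
      rw [smul_eq_mul] at h1
      rw [Ideal.mem_bot]
      exact hreg.right (by simpa using h1)

end Groth.Agent.Lib.Helper87.McCoy
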