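import Mathlib
import Groth.Agent.Lib.Helper87.KzRank
import Groth.Agent.S7146

/-!
# The number of top-dimensional minimal primes is at most `ℓ(R/(g))` for a system of parameters
-/

set_option autoImplicit false
universe u

namespace Groth.Agent.Lib.Helper87.MinPrimeCount

open Groth.Agent.Lib.Helper87.KzMod Groth.Agent.Lib.Helper87.KzBasic
  Groth.Agent.Lib.Helper87.KzIndex Groth.Agent.Lib.Helper87.KzEuler
  Groth.Agent.Lib.Helper87.KzSerre Groth.Agent.Lib.Helper87.KzStatements
  Groth.Agent.Lib.Helper87.KzDim Groth.Agent.Lib.Helper87.KzBound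
  Groth.Agent.Lib.Helper87.KzRank Groth.Agent.Lib.Helper87.SamuelFn
open Filter Topology

variable {A : Type u} [CommRing A] [IsNoetherianRing A] [IsLocalRing A]

variable (A) in
/-- top-dimensional minimal primes in the support of `M` -/
def TS (d : ℕ) (M : Type u) [AddCommGroup M] [Module A M] : Set (Ideal A) :=
  {p | p ∈ minimalPrimes A ∧ ringKrullDim (A ⧸ p) = d ∧
    ∃ hp : p.IsPrime, (⟨p, hp⟩ : PrimeSpectrum A) ∈ Module.support A M}

omit [IsLocalRing A] in
theorem TS_finite (d : ℕ) (M : Type u) [AddCommGroup M] [Module A M] : (TS A d M).Finite :=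
  (minimalPrimes.finite_of_isNoetherianRing A).subset fun _ hp => hp.1

theorem chiK_nonneg (d : ℕ) (hd : ringKrullDim A = d) (x : Fin d → A)
    (hx : ∀ j, x j ∈ IsLocalRing.maximalIdeal A) (M : Type u) [AddCommGroup M] [Module A M]
    [Module.Finite A M]
    (hfl : IsFiniteLength A (M ⧸ (Ideal.span (Set.range x) • (⊤ : Submodule A M)))) :
    0 ≤ chiK (List.ofFn x) M := by
  have hle : Module.supportDim A M ≤ d := hd ▸ Module.supportDim_le_ringKrullDim A M
  rcases hle.lt_or_eq with h | h
  · rw [chiK_eq_zero_of_dim_lt d x M hfl h]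
  · exact (chiK_pos_of_dim_eq d x hx M hfl h).le

theorem ncard_TS_le (d : ℕ) (hd : ringKrullDim A = d) (x : Fin d → A)
    (hx : ∀ j, x j ∈ IsLocalRing.maximalIdeal A) (hFL : FL (List.ofFn x) A)
    (M : Type u) [AddCommGroup M] [Module A M] [hM : Module.Finite A M] :
    ((TS A d M).ncard : ℤ) ≤ chiK (List.ofFn x) M := by
  have hflof : ∀ (N : Type u) [AddCommGroup N] [Module A N] [Module.Finite A N],
      IsFiniteLength A (N ⧸ (Ideal.span (Set.range x) • (⊤ : Submodule A N))) := by
    intro N _ _ _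
    have := FL.of_finite hFL N
    unfold FL at this
    rw [ofList_ofFn] at this
    exact this
  induction hM using IsNoetherianRing.induction_on_isQuotientEquivQuotientPrime A with
  | subsingleton N =>
    have : TS A d N = ∅ := by
      rw [Set.eq_empty_iff_forall_notMem]
      rintro p ⟨-, -, hp, hsupp⟩
      rw [Module.support_eq_empty] at hsupp
      exact hsupp
    rw [this, Set.ncard_empty, chiK_of_subsingleton]
    simp
  | quotient N p e =>
    have hsupp : ∀ q : PrimeSpectrum A, q ∈ Module.support A N ↔ p.asIdeal ≤ q.asIdeal := by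
      intro q
      rw [Module.mem_support_iff_of_finite, e.annihilator_eq, Ideal.annihilator_quotient]
    by_cases h : (TS A d N).Nonempty
    · obtain ⟨q, hq1, hq2, hq3, hq4⟩ := h
      have hpq : p.asIdeal = q := by
        have hle : p.asIdeal ≤ q := (hsupp ⟨q, hq3⟩).mp hq4
        exact le_antisymm hle (hq1.2 ⟨p.2, bot_le⟩ hle)
      have hsub : TS A d N ⊆ {q} := by
        rintro q' ⟨hq1', -, hq3', hq4'⟩
        have hle : p.asIdeal ≤ q' := (hsupp ⟨q', hq3'⟩).mp hq4'
        rw [Set.mem_singleton_iff, ← hpq]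
        exact (le_antisymm hle (hq1'.2 ⟨p.2, bot_le⟩ hle)).symm
      have h1 : (TS A d N).ncard ≤ 1 := by
        have := Set.ncard_le_ncard hsub (Set.finite_singleton q)
        rwa [Set.ncard_singleton] at this
      have hdim : Module.supportDim A N = (d : WithBot ℕ∞) := by
        rw [Module.supportDim_eq_of_equiv e, Module.supportDim_quotient_eq_ringKrullDim, hpq, hq2]
      have h2 := chiK_pos_of_dim_eq d x hx N (hflof N) hdim
      have h3 : ((TS A d N).ncard : ℤ) ≤ 1 := by exact_mod_cast h1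
      omega
    · rw [Set.not_nonempty_iff_eq_empty.mp h, Set.ncard_empty]
      exact chiK_nonneg d hd x hx N (hflof N)
  | exact N₁ N₂ N₃ f g hf hg hfg h₁ h₃ =>
    have hfin : ∀ (N : Type u) [AddCommGroup N] [Module A N] [Module.Finite A N] (i : ℤ),
        Module.length A (KH (List.ofFn x) N i) ≠ ⊤ := fun N _ _ _ i =>
      KH_length_ne_top N (List.ofFn x) (FL.of_finite hFL N) i
    rw [chiK_additive (List.ofFn x) f g hf hfg hg (hfin N₁) (hfin N₂) (hfin N₃)]
    have hsub : TS A d N₂ ⊆ TS A d N₁ ∪ TS A d N₃ := by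
      rintro q ⟨hq1, hq2, hq3, hq4⟩
      rw [Module.support_of_exact hfg hf hg] at hq4
      rcases hq4 with h | h
      · exact Or.inl ⟨hq1, hq2, hq3, h⟩
      · exact Or.inr ⟨hq1, hq2, hq3, h⟩
    have h1 : (TS A d N₂).ncard ≤ (TS A d N₁).ncard + (TS A d N₃).ncard :=
      (Set.ncard_le_ncard hsub ((TS_finite d N₁).union (TS_finite d N₃))).trans
        (Set.ncard_union_le _ _)
    have h2 : ((TS A d N₂).ncard : ℤ) ≤ (TS A d N₁).ncard + (TS A d N₃).ncard := by exact_mod_cast h1
    linarith

/-- The statement: the number of top-dimensional minimal primes is at most `ℓ(A/(g))`. -/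
theorem ncard_le_length (d : ℕ) (hd : ringKrullDim A = d) (g : Fin d → A)
    (hg : ∀ i, g i ∈ IsLocalRing.maximalIdeal A)
    (hsop : IsLocalRing.maximalIdeal A ≤ (Ideal.span (Set.range g)).radical) :
    (Set.ncard {p : Ideal A | p ∈ minimalPrimes A ∧ ringKrullDim (A ⧸ p) = d} : ℕ∞) ≤
      Module.length A (A ⧸ Ideal.span (Set.range g)) := by
  obtain ⟨n, hn⟩ := Ideal.exists_pow_le_of_le_radical_of_fg hsop
    (IsNoetherian.noetherian (IsLocalRing.maximalIdeal A))
  have hfl : IsFiniteLength A (A ⧸ (Ideal.span (Set.range g) • (⊤ : Submodule A A))) := by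
    have := chi_ne_top_of_isLocalRing (Ideal.span (Set.range g)) A ⟨n, hn⟩ 1
    rw [chi_def, pow_one, Module.length_ne_top_iff] at this
    exact this
  have hFL : FL (List.ofFn g) A := by
    unfold FL
    rw [ofList_ofFn]
    exact hfl
  have hTS : {p : Ideal A | p ∈ minimalPrimes A ∧ ringKrullDim (A ⧸ p) = d} = TS A d A := by
    ext p
    constructor
    · rintro ⟨h1, h2⟩
      refine ⟨h1, h2, h1.1.1, ?_⟩
      rw [Module.mem_support_iff_of_finite]
      intro a ha
      have := Module.mem_annihilator.mp ha (1 : A)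
      rw [smul_eq_mul, mul_one] at this
      rw [this]
      exact Ideal.zero_mem _
    · rintro ⟨h1, h2, -, -⟩
      exact ⟨h1, h2⟩
  rw [hTS]
  have h1 := ncard_TS_le d hd g hg hFL A
  have h0 := chiK_nonneg d hd g hg A hfl
  have key := serre_fn d g A hfl
  rw [euler_eq_chiK] at key
  have he : Tendsto (fun n : ℕ => (d.factorial : ℝ) *
      ((Module.length A (A ⧸ Ideal.span (Set.range g) ^ n)).toNat : ℝ) / (n : ℝ) ^ d)
      atTop (𝓝 (((chiK (List.ofFn g) A).toNat : ℕ) : ℝ)) := by
    have hcast : (((chiK (List.ofFn g) A).toNat : ℕ) : ℝ) = ((chiK (List.ofFn g) A : ℤ) : ℝ) := by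
      have : ((chiK (List.ofFn g) A).toNat : ℤ) = chiK (List.ofFn g) A := Int.toNat_of_nonneg h0
      exact_mod_cast this
    rw [hcast]
    refine key.congr fun n => ?_
    have e1 : (A ⧸ (Ideal.span (Set.range g) ^ n • (⊤ : Submodule A A))) ≃ₗ[A]
        (A ⧸ Ideal.span (Set.range g) ^ n) := Submodule.quotEquivOfEq _ _ (by simp)
    rw [e1.length_eq]
  have h2 := Groth.Agent.S7146.result A d hd g hg hsop _ he
  refine le_trans ?_ h2
  have h3 : (TS A d A).ncard ≤ (chiK (List.ofFn g) A).toNat := by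
    have : ((TS A d A).ncard : ℤ) ≤ ((chiK (List.ofFn g) A).toNat : ℤ) := by
      rw [Int.toNat_of_nonneg h0]
      exact h1
    exact_mod_cast this
  exact_mod_cast h3

end Groth.Agent.Lib.Helper87.MinPrimeCount
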