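import Mathlib
import Groth.Agent.Lib.Helper87.ModHilbG
import Groth.Agent.Lib.Helper87.ModHilbD
import Groth.Agent.S19747
import Groth.Agent.S18646

/-!
# Dimension of the Segre product of graded Cohen–Macaulay modules
-/

set_option autoImplicit false
set_option linter.style.haveILetI false
set_option linter.unusedSectionVars false
universe u
open scoped TensorProduct

namespace Groth.Agent.Lib.Helper87.ModHilbH

open Groth.Agent.Lib.Helper87.ModHilbA Groth.Agent.Lib.Helper87.ModHilbB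
open Groth.Agent.Lib.Helper87.ModHilbC Groth.Agent.Lib.Helper87.SegreC
open Groth.Agent.Lib.Helper87.ModHilbD Groth.Agent.Lib.Helper87.ModHilbE
open Groth.Agent.Lib.Helper87.ModHilbF Groth.Agent.Lib.Helper87.ModHilbG
open Groth.Agent.Lib.Helper99.GrDual Groth.Agent.Lib.Helper99.SegreFin
open Polynomial

section Residues

variable {R : Type u} [CommRing R] {M : Type u} [AddCommGroup M] [Module R M]
  (ℳ : ℤ → AddSubgroup M) [DirectSum.Decomposition ℳ]

theorem mem_resSub_of_mem {d : ℕ} (hd : 1 ≤ d) {j : ℤ} {x : M} (hx : x ∈ ℳ j) :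
    x ∈ resSub (R := R) ℳ d (((j % (d : ℤ)).toNat : ℕ) : ℤ) := by
  apply Submodule.subset_span
  rw [Set.mem_iUnion]
  refine ⟨j / (d : ℤ), ?_⟩
  have h1 : (((j % (d : ℤ)).toNat : ℕ) : ℤ) = j % (d : ℤ) :=
    Int.toNat_of_nonneg (Int.emod_nonneg _ (by omega))
  rw [h1, Int.ediv_mul_add_emod]
  exact hx

theorem sup_resSub_eq_top {d : ℕ} (hd : 1 ≤ d) :
    (Finset.range d).sup (fun i : ℕ => resSub (R := R) ℳ d (i : ℤ)) = ⊤ := by
  classical
  rw [eq_top_iff]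
  intro x _
  rw [← DirectSum.sum_support_decompose ℳ x]
  refine Submodule.sum_mem _ fun j _ => ?_
  have hmem : (j % (d : ℤ)).toNat ∈ Finset.range d := by
    rw [Finset.mem_range]
    have h1 : j % (d : ℤ) < (d : ℤ) := Int.emod_lt_of_pos _ (by omega)
    have h2 : 0 ≤ j % (d : ℤ) := Int.emod_nonneg _ (by omega)
    omega
  exact (Finset.le_sup (f := fun i : ℕ => resSub (R := R) ℳ d (i : ℤ)) hmem)
    (mem_resSub_of_mem ℳ hd (SetLike.coe_mem _))

theorem supportDim_le_iff_residues {d : ℕ} (hd : 1 ≤ d) (t : WithBot ℕ∞) :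
    Module.supportDim R M ≤ t ↔
      ∀ i ∈ Finset.range d, Module.supportDim R (resSub (R := R) ℳ d (i : ℤ)) ≤ t := by
  constructor
  · intro h i _
    exact le_trans (Module.supportDim_le_of_injective (Submodule.subtype _)
      (Submodule.subtype_injective _)) h
  · intro h
    have h1 := supportDim_finset_sup_le (Finset.range d)
      (fun i : ℕ => resSub (R := R) ℳ d (i : ℤ)) t h
    rw [sup_resSub_eq_top ℳ hd] at h1
    rwa [Module.supportDim_eq_of_equiv Submodule.topEquiv] at h1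

end Residues

section Deg

theorem eq_zero_of_bot (x : WithBot ℕ∞) (Q : ℚ[X])
    (hdim : ∀ t : ℕ, x ≤ (t : WithBot ℕ∞) ↔ Q.degree < (t : WithBot ℕ)) (hx : x = ⊥) :
    Q = 0 := by
  have h := (hdim 0).mp (by rw [hx]; exact bot_le)
  rw [Nat.cast_zero, Nat.WithBot.lt_zero_iff] at h
  exact degree_eq_bot.mp h

theorem degree_of_eq (x : WithBot ℕ∞) (Q : ℚ[X])
    (hdim : ∀ t : ℕ, x ≤ (t : WithBot ℕ∞) ↔ Q.degree < (t : WithBot ℕ))
    (d : ℕ) (h1 : 1 ≤ d) (hd : x = d) : Q ≠ 0 ∧ Q.natDegree + 1 = d := by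
  have h2 : ∀ t : ℕ, d ≤ t ↔ Q.degree < (t : WithBot ℕ) := by
    intro t
    rw [← hdim t, hd]
    exact_mod_cast Iff.rfl
  have hQ0 : Q ≠ 0 := by
    rintro rfl
    have := (h2 (d - 1)).mpr (by rw [degree_zero]; exact WithBot.bot_lt_coe _)
    omega
  refine ⟨hQ0, ?_⟩
  have h3 := (h2 d).mp le_rfl
  rw [degree_eq_natDegree hQ0] at h3
  have h3' : Q.natDegree < d := by exact_mod_cast h3
  have h4 : ¬ (d ≤ d - 1) := by omega
  rw [h2 (d - 1), degree_eq_natDegree hQ0] at h4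
  have h4' : ¬ (Q.natDegree < d - 1) := by exact_mod_cast h4
  omega

end Deg

section Residue

variable {k : Type u} [Field k] {R : Type u} [CommRing R] [Algebra k R]
  (𝒜 : ℤ → Submodule k R) [GradedAlgebra 𝒜]
  {M : Type u} [AddCommGroup M] [Module R M] [Module k M] [IsScalarTower k R M]
  (ℳ : ℤ → AddSubgroup M) [DirectSum.Decomposition ℳ] [SetLike.GradedSMul 𝒜 ℳ]

/-- Hilbert polynomial along a residue class for a graded Cohen–Macaulay module: it vanishes or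
has degree `dim M - 1`. -/
theorem residue_poly {d : ℕ} (hStd : StdD 𝒜 d) (hAfin : ∀ m : ℤ, Module.Finite k (𝒜 m))
    (hMfin : ∀ n : ℤ, Module.Finite k (pieceSub 𝒜 ℳ n)) [Algebra.FiniteType k R]
    [Module.Finite R M] (r : ℕ) (h1r : 1 ≤ r) (hdM : Module.supportDim R M = r)
    (hMcm : ∀ (q : Ideal R) [q.IsPrime], Subsingleton (LocalizedModule q.primeCompl M) ∨
      LocCoh.IsCohenMacaulayModule (Localization.AtPrime q) (LocalizedModule q.primeCompl M))
    (i : ℤ) :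
    ∃ Q : ℚ[X], (∃ n₀ : ℕ, ∀ n : ℕ, n₀ ≤ n →
        Q.eval (n : ℚ) = Module.finrank k (pieceSub 𝒜 ℳ ((n : ℤ) * (d : ℤ) + i))) ∧
      (∀ t : ℕ, Module.supportDim R (resSub (R := R) ℳ d i) ≤ (t : WithBot ℕ∞) ↔
        Q.degree < (t : WithBot ℕ)) ∧
      (Q = 0 ∨ (Q ≠ 0 ∧ Q.natDegree + 1 = r)) ∧
      ((∃ n : ℤ, ∃ x ∈ ℳ (n * (d : ℤ) + i), x ≠ 0) → Q ≠ 0 ∧ Q.natDegree + 1 = r) := by
  haveI : IsNoetherianRing R := Algebra.FiniteType.isNoetherianRing k R
  haveI : IsNoetherian R M := isNoetherian_of_isNoetherianRing_of_finite R M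
  haveI : Nontrivial M := by
    rw [← Module.supportDim_ne_bot_iff_nontrivial R, hdM]
    exact WithBot.coe_ne_bot
  haveI : Nontrivial R := Module.nontrivial R M
  haveI hprime : (irr 𝒜).IsPrime := (irr_isMaximal 𝒜 hStd.neg hStd.zero).isPrime
  obtain ⟨Q, hQ, hdim⟩ := hilbert_residue 𝒜 hStd hAfin hMfin i (ℳ := ℳ)
  have hfull : resSub (R := R) ℳ d i ≠ ⊥ → Q ≠ 0 ∧ Q.natDegree + 1 = r := by
    intro hne
    have hUM := supportDim_submodule_eq 𝒜 hStd.neg hStd.zero (irr 𝒜) rfl M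
      (annihilator_isHomogeneous 𝒜 ℳ) (hMcm (irr 𝒜)) (resSub (R := R) ℳ d i) hne
      (annihilator_span_isHomogeneous 𝒜 ℳ _ (by
        intro g hg
        rw [Set.mem_iUnion] at hg
        obtain ⟨n, hn⟩ := hg
        exact ⟨_, hn⟩))
    exact degree_of_eq _ Q hdim r h1r (by rw [hUM, hdM])
  refine ⟨Q, hQ, hdim, ?_, ?_⟩
  · by_cases hbot : resSub (R := R) ℳ d i = ⊥
    · left
      apply eq_zero_of_bot _ Q hdim
      rw [Module.supportDim_eq_bot_iff_subsingleton, hbot]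
      infer_instance
    · right
      exact hfull hbot
  · rintro ⟨n, x, hx, hx0⟩
    apply hfull
    intro hbot
    have hmem : x ∈ resSub (R := R) ℳ d i :=
      Submodule.subset_span (Set.mem_iUnion.mpr ⟨n, hx⟩)
    rw [hbot, Submodule.mem_bot] at hmem
    exact hx0 hmem

end Residue

section Segre

/-- **Dimension of the Segre product of graded Cohen–Macaulay modules.** -/
theorem main (k : Type u) [Field k] (R : Type u) [CommRing R] [Algebra k R]
    (𝒜 : ℤ → Submodule k R) [GradedAlgebra 𝒜] (hposR : ∀ n : ℤ, n < 0 → 𝒜 n = ⊥)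
    (h0R : 𝒜 0 = Submodule.span k {(1 : R)}) [Algebra.FiniteType k R] (S : Type u) [CommRing S]
    [Algebra k S] (ℬ : ℤ → Submodule k S) [GradedAlgebra ℬ] (hposS : ∀ n : ℤ, n < 0 → ℬ n = ⊥)
    (h0S : ℬ 0 = Submodule.span k {(1 : S)}) [Algebra.FiniteType k S] (T : Type u) [CommRing T]
    [Algebra k T] (𝒯 : ℤ → Submodule k T) [GradedAlgebra 𝒯] (ψ : T →ₐ[k] TensorProduct k R S)
    (hT : GrSeg.IsSegreRing 𝒜 ℬ 𝒯 ψ)
    (M : Type u) [AddCommGroup M] [Module R M] [Module k M] [IsScalarTower k R M]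
    (ℳ : ℤ → AddSubgroup M) [DirectSum.Decomposition ℳ] [SetLike.GradedSMul 𝒜 ℳ]
    [Module.Finite R M] (N : Type u) [AddCommGroup N] [Module S N] [Module k N]
    [IsScalarTower k S N] (𝒩 : ℤ → AddSubgroup N) [DirectSum.Decomposition 𝒩]
    [SetLike.GradedSMul ℬ 𝒩] [Module.Finite S N] (P : Type u) [AddCommGroup P] [Module T P]
    [Module k P] [IsScalarTower k T P] (𝒬 : ℤ → AddSubgroup P) [DirectSum.Decomposition 𝒬]
    (φ : P →ₗ[k] TensorProduct k M N) (hP : GrSeg.IsSegreMod ψ ℳ 𝒩 𝒬 φ) (r s : ℕ)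
    (h1r : 1 ≤ r) (h1s : 1 ≤ s)
    (hdM : Module.supportDim R M = r) (hdN : Module.supportDim S N = s)
    (hMcm : ∀ (q : Ideal R) [q.IsPrime], Subsingleton (LocalizedModule q.primeCompl M) ∨
      LocCoh.IsCohenMacaulayModule (Localization.AtPrime q) (LocalizedModule q.primeCompl M))
    (hNcm : ∀ (q : Ideal S) [q.IsPrime], Subsingleton (LocalizedModule q.primeCompl N) ∨
      LocCoh.IsCohenMacaulayModule (Localization.AtPrime q) (LocalizedModule q.primeCompl N)) :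
    Module.supportDim T P = ((r + s - 1 : ℕ) : WithBot ℕ∞) ∨ Subsingleton P := by
  classical
  by_cases hPs : Subsingleton P
  · exact Or.inr hPs
  left
  rw [not_subsingleton_iff_nontrivial] at hPs
  have hψ : Function.Injective ψ := hT.1
  have hdegT : ∀ n : ℤ, (𝒯 n).map ψ.toLinearMap = seg 𝒜 ℬ n := hT.2
  obtain ⟨hAfin, dR, hdR, hstdR⟩ := SegreB.exists_std 𝒜 hposR h0R
  obtain ⟨hBfin, dS, hdS, hstdS⟩ := SegreB.exists_std ℬ hposS h0S
  have hd : 1 ≤ dS * dR := Nat.mul_pos hdS hdR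
  have hR' := hstdR dS hdS
  have hS' : ∀ n : ℕ, ℬ (((n + 1) * (dS * dR) : ℕ) : ℤ) =
      ℬ ((dS * dR : ℕ) : ℤ) * ℬ ((n * (dS * dR) : ℕ) : ℤ) := by
    rw [mul_comm dS dR]
    exact hstdS dR hdR
  generalize dS * dR = d at hd hR' hS'
  have hTfin : ∀ n : ℤ, Module.Finite k (𝒯 n) := fun n => by
    haveI := hAfin n
    haveI := hBfin n
    exact T_finite 𝒜 ℬ 𝒯 ψ hψ hdegT n
  have hT' : ∀ n : ℕ, 𝒯 (((n + 1) * d : ℕ) : ℤ) = 𝒯 (d : ℤ) * 𝒯 ((n * d : ℕ) : ℤ) := fun n =>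
    T_mul 𝒜 ℬ 𝒯 ψ hψ hdegT (by push_cast; ring) (hR' n) (hS' n)
  have hRstd : StdD 𝒜 d := ⟨hd, hposR, h0R, hR', hAfin d⟩
  have hSstd : StdD ℬ d := ⟨hd, hposS, h0S, hS', hBfin d⟩
  have hTstd : StdD 𝒯 d := ⟨hd, fun n hn => T_neg 𝒜 ℬ 𝒯 ψ hψ hdegT (hposR n hn),
    T_zero 𝒜 ℬ 𝒯 ψ hψ hdegT h0R h0S, hT', hTfin d⟩
  haveI : IsNoetherianRing R := Algebra.FiniteType.isNoetherianRing k R
  haveI : IsNoetherianRing S := Algebra.FiniteType.isNoetherianRing k S
  haveI : IsNoetherianRing T :=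
    Groth.Agent.S18646.result k R 𝒜 hposR h0R S ℬ hposS h0S T 𝒯 ψ hψ hT.2
  haveI : Module.Finite T P :=
    Groth.Agent.S19747.result k R 𝒜 hposR h0R S ℬ hposS h0S T 𝒯 ψ hT M ℳ N 𝒩 P 𝒬 φ hP
  haveI : IsNoetherian R M := isNoetherian_of_isNoetherianRing_of_finite R M
  haveI : IsNoetherian S N := isNoetherian_of_isNoetherianRing_of_finite S N
  haveI : IsNoetherian T P := isNoetherian_of_isNoetherianRing_of_finite T P
  haveI : SetLike.GradedSMul 𝒯 𝒬 :=
    ⟨fun {c n t p} ht hp => Groth.Agent.Lib.Helper99.Segre.smul_mem_piece hT hP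
      (fun a ha x hx => smul_mem_piece 𝒜 ℳ ha hx) (fun b hb y hy => smul_mem_piece ℬ 𝒩 hb hy)
      ht hp⟩
  have hMfin := finite_piece_of_isNoetherian 𝒜 hposR h0R ℳ
  have hNfin := finite_piece_of_isNoetherian ℬ hposS h0S 𝒩
  have hPfin := finite_piece_of_isNoetherian 𝒯 hTstd.neg hTstd.zero 𝒬
  -- the Hilbert function of the Segre product
  have hfin : ∀ n : ℤ, Module.finrank k (pieceSub 𝒯 𝒬 n) =
      Module.finrank k (pieceSub 𝒜 ℳ n) * Module.finrank k (pieceSub ℬ 𝒩 n) := by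
    intro n
    rw [← finrank_span_tmul]
    have h1 : (pieceSub 𝒯 𝒬 n).map φ = Submodule.span k {x : M ⊗[k] N |
        ∃ a ∈ pieceSub 𝒜 ℳ n, ∃ b ∈ pieceSub ℬ 𝒩 n, x = a ⊗ₜ[k] b} := by
      apply SetLike.coe_injective
      rw [Submodule.map_coe]
      exact hP.image_piece n
    rw [← h1]
    exact (Submodule.equivMapOfInjective φ hP.injective (pieceSub 𝒯 𝒬 n)).finrank_eq
  have hM := fun i : ℤ => residue_poly 𝒜 ℳ hRstd hAfin hMfin r h1r hdM hMcm i
  have hN := fun i : ℤ => residue_poly ℬ 𝒩 hSstd hBfin hNfin s h1s hdN hNcm i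
  have hPr := fun i : ℤ => hilbert_residue 𝒯 hTstd hTfin hPfin i (ℳ := 𝒬)
  choose QM hQM hdimM hcaseM hneM using hM
  choose QN hQN hdimN hcaseN hneN using hN
  choose QP hQP hdimP using hPr
  have hQPeq : ∀ i, QP i = QM i * QN i := by
    intro i
    obtain ⟨nP, hnP⟩ := hQP i
    obtain ⟨nM, hnM⟩ := hQM i
    obtain ⟨nN, hnN⟩ := hQN i
    apply eq_of_eventually_eq (QP i) (QM i * QN i) (max nP (max nM nN))
    intro n hn
    have h1 : nP ≤ n := le_trans (le_max_left _ _) hn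
    have h2 : nM ≤ n := le_trans (le_trans (le_max_left _ _) (le_max_right _ _)) hn
    have h3 : nN ≤ n := le_trans (le_trans (le_max_right _ _) (le_max_right _ _)) hn
    rw [eval_mul, hnP n h1, hnM n h2, hnN n h3, hfin]
    push_cast
    rfl
  -- a nonzero homogeneous element of `P`
  obtain ⟨j, p, hp, hp0⟩ : ∃ j : ℤ, ∃ p ∈ 𝒬 j, p ≠ 0 := by
    by_contra hcon
    push Not at hcon
    obtain ⟨x, hx⟩ := exists_ne (0 : P)
    apply hx
    rw [← DirectSum.sum_support_decompose 𝒬 x]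
    exact Finset.sum_eq_zero fun j _ => hcon j _ (SetLike.coe_mem _)
  have hφp : φ p ≠ 0 := fun h => hp0 (hP.injective (by rw [h, map_zero]))
  have hφmem : φ p ∈ GrSeg.segrePiece k ℳ 𝒩 j := by
    have h1 : φ p ∈ φ '' (𝒬 j : Set P) := ⟨p, hp, rfl⟩
    rw [hP.image_piece j] at h1
    exact h1
  obtain ⟨a, ha, ha0⟩ : ∃ a ∈ ℳ j, a ≠ 0 := by
    by_contra hcon
    push Not at hcon
    apply hφp
    have hle : GrSeg.segrePiece k ℳ 𝒩 j ≤ ⊥ := by
      unfold GrSeg.segrePiece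
      rw [Submodule.span_le]
      rintro x ⟨a, ha, b, hb, rfl⟩
      rw [hcon a ha, TensorProduct.zero_tmul]
      exact Submodule.zero_mem _
    exact (Submodule.mem_bot k).mp (hle hφmem)
  obtain ⟨b, hb, hb0⟩ : ∃ b ∈ 𝒩 j, b ≠ 0 := by
    by_contra hcon
    push Not at hcon
    apply hφp
    have hle : GrSeg.segrePiece k ℳ 𝒩 j ≤ ⊥ := by
      unfold GrSeg.segrePiece
      rw [Submodule.span_le]
      rintro x ⟨a, ha, b, hb, rfl⟩
      rw [hcon b hb, TensorProduct.tmul_zero]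
      exact Submodule.zero_mem _
    exact (Submodule.mem_bot k).mp (hle hφmem)
  set i₀ : ℕ := (j % (d : ℤ)).toNat with hi₀
  have hi₀' : ((i₀ : ℕ) : ℤ) = j % (d : ℤ) :=
    Int.toNat_of_nonneg (Int.emod_nonneg _ (by omega))
  have hi₀d : i₀ ∈ Finset.range d := by
    rw [Finset.mem_range]
    have h1 : j % (d : ℤ) < (d : ℤ) := Int.emod_lt_of_pos _ (by omega)
    omega
  have hjrep : j / (d : ℤ) * (d : ℤ) + ((i₀ : ℕ) : ℤ) = j := by
    rw [hi₀', Int.ediv_mul_add_emod]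
  have hM0 := hneM (i₀ : ℤ) ⟨j / (d : ℤ), a, by rw [hjrep]; exact ha, ha0⟩
  have hN0 := hneN (i₀ : ℤ) ⟨j / (d : ℤ), b, by rw [hjrep]; exact hb, hb0⟩
  apply eq_of_forall_le_iff _ _ (by omega)
  intro t
  rw [supportDim_le_iff_residues (R := T) 𝒬 hd (t : WithBot ℕ∞)]
  constructor
  · intro h
    have h1 := (hdimP (i₀ : ℤ) t).mp (h i₀ hi₀d)
    rw [hQPeq, degree_eq_natDegree (mul_ne_zero hM0.1 hN0.1), natDegree_mul hM0.1 hN0.1] at h1
    have h1' : (QM (i₀ : ℤ)).natDegree + (QN (i₀ : ℤ)).natDegree < t := by exact_mod_cast h1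
    omega
  · intro h i hi
    rw [hdimP (i : ℤ) t, hQPeq]
    rcases hcaseM (i : ℤ) with hm | ⟨hm0, hmd⟩
    · rw [hm, zero_mul, degree_zero]
      exact WithBot.bot_lt_coe _
    rcases hcaseN (i : ℤ) with hn | ⟨hn0, hnd⟩
    · rw [hn, mul_zero, degree_zero]
      exact WithBot.bot_lt_coe _
    rw [degree_eq_natDegree (mul_ne_zero hm0 hn0), natDegree_mul hm0 hn0]
    have h2 : (QM (i : ℤ)).natDegree + (QN (i : ℤ)).natDegree < t := by omega
    exact_mod_cast h2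

end Segre

end Groth.Agent.Lib.Helper87.ModHilbH
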