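import Mathlib

/-!
# Helper lemmas about the ideal of variables in `MvPolynomial`
(used for the `Prym5` rows S17409, S17414).
-/

set_option autoImplicit false

namespace Groth.Agent.Lib.Helper87.MvIdeal

open MvPolynomial

variable {K : Type*} [Field K]

/-- The substitution `z ↦ 0`. -/
noncomputable def fphi : Fin 3 → MvPolynomial (Fin 2) K :=
  Fin.snoc (α := fun _ => MvPolynomial (Fin 2) K) (fun j => X j) 0

noncomputable def phi : MvPolynomial (Fin 3) K →ₐ[K] MvPolynomial (Fin 2) K :=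
  aeval fphi

lemma phi_X_castSucc (j : Fin 2) : phi (K := K) (X (Fin.castSucc j)) = X j := by
  rw [phi, aeval_X, fphi, Fin.snoc_castSucc]

lemma phi_X_last : phi (K := K) (X (2 : Fin 3)) = 0 := by
  have : (2 : Fin 3) = Fin.last 2 := rfl
  rw [phi, aeval_X, fphi, this, Fin.snoc_last]

lemma phi_rename (G : MvPolynomial (Fin 2) K) :
    phi (rename (Fin.castSucc : Fin 2 → Fin 3) G) = G := by
  rw [phi, aeval_rename]
  have : (fphi (K := K) ∘ (Fin.castSucc : Fin 2 → Fin 3)) = X := by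
    funext j
    rw [Function.comp_apply, fphi, Fin.snoc_castSucc]
  rw [this, aeval_X_left, AlgHom.id_apply]

lemma phi_map_le : Ideal.map (phi (K := K)) (idealOfVars (Fin 3) K) ≤ idealOfVars (Fin 2) K := by
  rw [idealOfVars, Ideal.map_span, Ideal.span_le]
  rintro _ ⟨_, ⟨i, rfl⟩, rfl⟩
  refine Fin.lastCases ?_ (fun j => ?_) i
  · have : (Fin.last 2 : Fin 3) = 2 := rfl
    rw [this, phi_X_last]
    exact Ideal.zero_mem _
  · rw [phi_X_castSucc]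
    exact Ideal.subset_span ⟨j, rfl⟩

lemma phi_mem_pow {p : MvPolynomial (Fin 3) K} {n : ℕ} (hp : p ∈ idealOfVars (Fin 3) K ^ n) :
    phi p ∈ idealOfVars (Fin 2) K ^ n := by
  have h1 : phi p ∈ Ideal.map (phi (K := K)) (idealOfVars (Fin 3) K ^ n) := Ideal.mem_map_of_mem _ hp
  rw [Ideal.map_pow] at h1
  exact Ideal.pow_right_mono phi_map_le n h1

/-- The substitution `x, y ↦ 0`, `z ↦ t`. -/
noncomputable def fpsi : Fin 3 → Polynomial K :=
  Fin.snoc (α := fun _ => Polynomial K) (fun _ => 0) Polynomial.X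

noncomputable def psi : MvPolynomial (Fin 3) K →ₐ[K] Polynomial K :=
  aeval fpsi

lemma psi_X_last : psi (K := K) (X (2 : Fin 3)) = Polynomial.X := by
  have : (2 : Fin 3) = Fin.last 2 := rfl
  rw [psi, aeval_X, fpsi, this, Fin.snoc_last]

lemma psi_X_castSucc (j : Fin 2) : psi (K := K) (X (Fin.castSucc j)) = 0 := by
  rw [psi, aeval_X, fpsi, Fin.snoc_castSucc]

lemma psi_rename (G : MvPolynomial (Fin 2) K) :
    psi (rename (Fin.castSucc : Fin 2 → Fin 3) G) = Polynomial.C (constantCoeff G) := by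
  rw [psi, aeval_rename]
  have : (fpsi (K := K) ∘ (Fin.castSucc : Fin 2 → Fin 3)) = 0 := by
    funext j
    rw [Function.comp_apply, fpsi, Fin.snoc_castSucc]
    rfl
  rw [this, aeval_zero]
  rfl

lemma psi_map_le : Ideal.map (psi (K := K)) (idealOfVars (Fin 3) K) ≤
    Ideal.span {(Polynomial.X : Polynomial K)} := by
  rw [idealOfVars, Ideal.map_span, Ideal.span_le]
  rintro _ ⟨_, ⟨i, rfl⟩, rfl⟩
  refine Fin.lastCases ?_ (fun j => ?_) i
  · have : (Fin.last 2 : Fin 3) = 2 := rfl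
    rw [this, psi_X_last]
    exact Ideal.subset_span rfl
  · rw [psi_X_castSucc]
    exact Ideal.zero_mem _

lemma psi_dvd_of_mem_pow {p : MvPolynomial (Fin 3) K} {n : ℕ}
    (hp : p ∈ idealOfVars (Fin 3) K ^ n) : (Polynomial.X : Polynomial K) ^ n ∣ psi p := by
  have h1 : psi p ∈ Ideal.map (psi (K := K)) (idealOfVars (Fin 3) K ^ n) :=
    Ideal.mem_map_of_mem _ hp
  rw [Ideal.map_pow] at h1
  have h2 := Ideal.pow_right_mono psi_map_le n h1
  rw [Ideal.span_singleton_pow, Ideal.mem_span_singleton] at h2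
  exact h2

lemma mem_idealOfVars_iff {σ : Type*} (p : MvPolynomial σ K) :
    p ∈ idealOfVars σ K ↔ constantCoeff p = 0 := by
  have h := mem_pow_idealOfVars_iff' (σ := σ) (R := K) 1 p
  rw [pow_one] at h
  rw [h]
  constructor
  · intro h0
    exact h0 0 (by simp)
  · intro h0 x hx
    have : x = 0 := by
      rw [Nat.lt_one_iff] at hx
      exact (Finsupp.degree_eq_zero_iff x).mp hx
    rw [this]
    exact h0

/-- The polynomial `G₂ z² + 2 G₃ z + G₄`. -/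
noncomputable def hpoly (G₂ G₃ G₄ : MvPolynomial (Fin 2) K) : MvPolynomial (Fin 3) K :=
  rename (Fin.castSucc : Fin 2 → Fin 3) G₂ * X (2 : Fin 3) ^ 2
    + 2 * rename (Fin.castSucc : Fin 2 → Fin 3) G₃ * X (2 : Fin 3)
    + rename (Fin.castSucc : Fin 2 → Fin 3) G₄

lemma phi_hpoly (G₂ G₃ G₄ : MvPolynomial (Fin 2) K) : phi (hpoly G₂ G₃ G₄) = G₄ := by
  simp [hpoly, phi_rename, phi_X_last]

lemma psi_hpoly (G₂ G₃ G₄ : MvPolynomial (Fin 2) K) :
    psi (hpoly G₂ G₃ G₄) = Polynomial.C (constantCoeff G₂) * Polynomial.X ^ 2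
      + 2 * Polynomial.C (constantCoeff G₃) * Polynomial.X + Polynomial.C (constantCoeff G₄) := by
  simp [hpoly, psi_rename, psi_X_last, map_ofNat]

lemma G₄_mem_of_hpoly_mem {G₂ G₃ G₄ : MvPolynomial (Fin 2) K} {n : ℕ}
    (h : hpoly G₂ G₃ G₄ ∈ idealOfVars (Fin 3) K ^ n) : G₄ ∈ idealOfVars (Fin 2) K ^ n := by
  have := phi_mem_pow h
  rwa [phi_hpoly] at this

lemma G₃_mem_of_hpoly_mem_sq (h2 : (2 : K) ≠ 0) {G₂ G₃ G₄ : MvPolynomial (Fin 2) K}
    (h : hpoly G₂ G₃ G₄ ∈ idealOfVars (Fin 3) K ^ 2) : G₃ ∈ idealOfVars (Fin 2) K := by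
  have h1 := psi_dvd_of_mem_pow h
  rw [psi_hpoly, Polynomial.X_pow_dvd_iff] at h1
  have h3 := h1 1 (by norm_num)
  rw [mem_idealOfVars_iff]
  have h4 : (Polynomial.C (constantCoeff G₂) * Polynomial.X ^ 2
      + 2 * Polynomial.C (constantCoeff G₃) * Polynomial.X
      + Polynomial.C (constantCoeff G₄) : Polynomial K).coeff 1 = 2 * constantCoeff G₃ := by
    have : (2 : Polynomial K) = Polynomial.C 2 := (map_ofNat Polynomial.C 2).symm
    rw [this, ← Polynomial.C_mul, Polynomial.coeff_add, Polynomial.coeff_add,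
      Polynomial.coeff_C_mul, Polynomial.coeff_C_mul, Polynomial.coeff_X_pow, Polynomial.coeff_X_one,
      Polynomial.coeff_C]
    simp
  rw [h4] at h3
  exact (mul_eq_zero.mp h3).resolve_left h2

lemma sq_mem_sq {G : MvPolynomial (Fin 2) K} (h : G ∈ idealOfVars (Fin 2) K) :
    G ^ 2 ∈ idealOfVars (Fin 2) K ^ 2 := Ideal.pow_mem_pow h 2

/-- S17409 core. -/
lemma discr_mem_sq_of_hpoly_mem_sq (h2 : (2 : K) ≠ 0) {G₂ G₃ G₄ : MvPolynomial (Fin 2) K}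
    (h : hpoly G₂ G₃ G₄ ∈ idealOfVars (Fin 3) K ^ 2) :
    G₃ ^ 2 - G₂ * G₄ ∈ idealOfVars (Fin 2) K ^ 2 :=
  Ideal.sub_mem _ (sq_mem_sq (G₃_mem_of_hpoly_mem_sq h2 h))
    (Ideal.mul_mem_left _ _ (G₄_mem_of_hpoly_mem h))

lemma rename_map_le : Ideal.map (rename (Fin.castSucc : Fin 2 → Fin 3) : MvPolynomial (Fin 2) K →ₐ[K] _)
    (idealOfVars (Fin 2) K) ≤ idealOfVars (Fin 3) K := by
  rw [idealOfVars, Ideal.map_span, Ideal.span_le]
  rintro _ ⟨_, ⟨i, rfl⟩, rfl⟩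
  rw [rename_X]
  exact Ideal.subset_span ⟨_, rfl⟩

lemma rename_mem_pow {G : MvPolynomial (Fin 2) K} {n : ℕ} (hG : G ∈ idealOfVars (Fin 2) K ^ n) :
    rename (Fin.castSucc : Fin 2 → Fin 3) G ∈ idealOfVars (Fin 3) K ^ n := by
  have h1 : (rename (Fin.castSucc : Fin 2 → Fin 3) : MvPolynomial (Fin 2) K →ₐ[K] _) G ∈
      Ideal.map (rename (Fin.castSucc : Fin 2 → Fin 3) : MvPolynomial (Fin 2) K →ₐ[K] _)
        (idealOfVars (Fin 2) K ^ n) := Ideal.mem_map_of_mem _ hG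
  rw [Ideal.map_pow] at h1
  exact Ideal.pow_right_mono rename_map_le n h1

lemma X_mem (i : Fin 3) : (X i : MvPolynomial (Fin 3) K) ∈ idealOfVars (Fin 3) K :=
  Ideal.subset_span ⟨i, rfl⟩

lemma hpoly_mem_sq {G₂ G₃ G₄ : MvPolynomial (Fin 2) K} (h3 : G₃ ∈ idealOfVars (Fin 2) K)
    (h4 : G₄ ∈ idealOfVars (Fin 2) K ^ 2) : hpoly G₂ G₃ G₄ ∈ idealOfVars (Fin 3) K ^ 2 := by
  unfold hpoly
  refine Ideal.add_mem _ (Ideal.add_mem _ ?_ ?_) (rename_mem_pow h4)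
  · exact Ideal.mul_mem_left _ _ (Ideal.pow_mem_pow (X_mem 2) 2)
  · rw [mul_assoc, pow_two]
    refine Ideal.mul_mem_left _ _ (Ideal.mul_mem_mul ?_ (X_mem 2))
    have := rename_mem_pow (n := 1) (by rwa [pow_one]) (G := G₃)
    rwa [pow_one] at this

lemma G₃_mem_of_discr_mem {G₂ G₃ G₄ : MvPolynomial (Fin 2) K}
    (h4 : G₄ ∈ idealOfVars (Fin 2) K)
    (hD : G₃ ^ 2 - G₂ * G₄ ∈ idealOfVars (Fin 2) K) : G₃ ∈ idealOfVars (Fin 2) K := by
  have h1 : G₃ ^ 2 ∈ idealOfVars (Fin 2) K := by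
    have := Ideal.add_mem _ hD (Ideal.mul_mem_left _ G₂ h4)
    rwa [sub_add_cancel] at this
  rw [mem_idealOfVars_iff] at h1 ⊢
  rw [map_pow] at h1
  exact eq_zero_of_pow_eq_zero h1

lemma mem_sq_of_mul_mem_sq {G₂ G₄ : MvPolynomial (Fin 2) K}
    (h2 : G₂ ∉ idealOfVars (Fin 2) K) (h4 : G₄ ∈ idealOfVars (Fin 2) K)
    (h : G₂ * G₄ ∈ idealOfVars (Fin 2) K ^ 2) : G₄ ∈ idealOfVars (Fin 2) K ^ 2 := by
  rw [mem_idealOfVars_iff] at h2
  have h5 : G₂ - C (constantCoeff G₂) ∈ idealOfVars (Fin 2) K := by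
    rw [mem_idealOfVars_iff, map_sub, constantCoeff_C, sub_self]
  have h6 : (G₂ - C (constantCoeff G₂)) * G₄ ∈ idealOfVars (Fin 2) K ^ 2 := by
    rw [pow_two]
    exact Ideal.mul_mem_mul h5 h4
  have h7 : C (constantCoeff G₂) * G₄ ∈ idealOfVars (Fin 2) K ^ 2 := by
    have := Ideal.sub_mem _ h h6
    have h8 : G₂ * G₄ - (G₂ - C (constantCoeff G₂)) * G₄ = C (constantCoeff G₂) * G₄ := by ring
    rwa [h8] at this
  have h9 := Ideal.mul_mem_left _ (C (constantCoeff G₂)⁻¹) h7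
  rwa [← mul_assoc, ← C_mul, inv_mul_cancel₀ h2, C_1, one_mul] at h9

/-- S17414 core. -/
lemma discr_mem_sq_iff (h2 : (2 : K) ≠ 0) {G₂ G₃ G₄ : MvPolynomial (Fin 2) K}
    (hQ : hpoly G₂ G₃ G₄ ∈ idealOfVars (Fin 3) K)
    (hD : G₃ ^ 2 - G₂ * G₄ ∈ idealOfVars (Fin 2) K) :
    G₃ ^ 2 - G₂ * G₄ ∈ idealOfVars (Fin 2) K ^ 2 ↔
      (hpoly G₂ G₃ G₄ ∈ idealOfVars (Fin 3) K ^ 2 ∨
        (G₂ ∈ idealOfVars (Fin 2) K ∧ G₃ ∈ idealOfVars (Fin 2) K ∧
          G₄ ∈ idealOfVars (Fin 2) K)) := by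
  have h4 : G₄ ∈ idealOfVars (Fin 2) K := by
    have := G₄_mem_of_hpoly_mem (n := 1) (by rwa [pow_one]) (G₂ := G₂) (G₃ := G₃) (G₄ := G₄)
    rwa [pow_one] at this
  have h3 : G₃ ∈ idealOfVars (Fin 2) K := G₃_mem_of_discr_mem h4 hD
  constructor
  · intro h
    by_cases hG₂ : G₂ ∈ idealOfVars (Fin 2) K
    · exact Or.inr ⟨hG₂, h3, h4⟩
    · left
      apply hpoly_mem_sq h3
      apply mem_sq_of_mul_mem_sq hG₂ h4
      have := Ideal.sub_mem _ (sq_mem_sq h3) h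
      rwa [sub_sub_cancel] at this
  · rintro (h | ⟨hG₂, -, -⟩)
    · exact discr_mem_sq_of_hpoly_mem_sq h2 h
    · refine Ideal.sub_mem _ (sq_mem_sq h3) ?_
      rw [pow_two]
      exact Ideal.mul_mem_mul hG₂ h4

end Groth.Agent.Lib.Helper87.MvIdeal
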