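import Mathlib
import Groth.Agent.Lib.Helper87.HilbFnI

/-!
# Bezout for plane curves, graded part

`f, g` coprime homogeneous in `k[X₀,X₁,X₂]` of degrees `n, m`, with `f(X₀,X₁,0)`, `g(X₀,X₁,0)` coprime:
* the Hilbert function of `(f, g)` is eventually `n m`;
* `X₂` is a nonzerodivisor modulo `(f, g)` in high degrees.
-/

set_option autoImplicit false
set_option linter.style.haveILetI false
universe u
open MvPolynomial

namespace Groth.Agent.Lib.Helper87.PlaneBezout

open Groth.Agent.Lib.Helper87.HilbFnA Groth.Agent.Lib.Helper87.HilbFnB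
open Groth.Agent.Lib.Helper87.HilbFnC Groth.Agent.Lib.Helper87.HilbFnD
open Groth.Agent.Lib.Helper87.HilbFnE Groth.Agent.Lib.Helper87.HilbFnF
open Groth.Agent.Lib.Helper87.HilbFnG Groth.Agent.Lib.Helper87.HilbFnI
open Groth.Agent.Lib.Helper87.PolyDiff Groth.Agent.Lib.Helper87.HSArith

variable {k : Type u} [Field k]

attribute [local instance] MvPolynomial.gradedAlgebra

/-- the substitution `X₂ ↦ c` -/
noncomputable def vv (c : MvPolynomial (Fin 2) k) : Fin 3 → MvPolynomial (Fin 2) k :=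
  Fin.cons (X 0) (Fin.cons (X 1) (Fin.cons c Fin.elim0))

theorem vv_zero (c : MvPolynomial (Fin 2) k) : vv c 0 = X 0 := rfl
theorem vv_one (c : MvPolynomial (Fin 2) k) : vv c 1 = X 1 := rfl
theorem vv_two (c : MvPolynomial (Fin 2) k) : vv c 2 = c := rfl

/-- the inclusion `k[X₀,X₁] → k[X₀,X₁,X₂]` -/
noncomputable def inc : MvPolynomial (Fin 2) k →ₐ[k] MvPolynomial (Fin 3) k :=
  aeval (fun i : Fin 2 => (X (Fin.castSucc i) : MvPolynomial (Fin 3) k))

theorem aeval_inc (c : MvPolynomial (Fin 2) k) (a : MvPolynomial (Fin 2) k) :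
    aeval (vv c) (inc a) = a := by
  have : (aeval (vv c)).comp inc = AlgHom.id k (MvPolynomial (Fin 2) k) := by
    apply MvPolynomial.algHom_ext
    intro i
    fin_cases i
    · simp [inc, vv_zero]
    · simp [inc]
      exact vv_one c
  exact congrFun (congrArg DFunLike.coe this) a

/-- `y ≡ inc (y(X₀,X₁,c))` modulo `X₂ - inc c` -/
theorem sub_inc_mem (c : MvPolynomial (Fin 2) k) (y : MvPolynomial (Fin 3) k) :
    y - inc (aeval (vv c) y) ∈ Ideal.span {(X 2 - inc c : MvPolynomial (Fin 3) k)} := by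
  set L : Ideal (MvPolynomial (Fin 3) k) := Ideal.span {(X 2 - inc c : MvPolynomial (Fin 3) k)}
  have : (Ideal.Quotient.mkₐ k L) = ((Ideal.Quotient.mkₐ k L).comp inc).comp (aeval (vv c)) := by
    apply MvPolynomial.algHom_ext
    intro i
    fin_cases i
    · simp [inc, vv_zero]
    · simp [inc]
      rw [vv_one]
      simp
    · simp
      rw [vv_two]
      rw [Ideal.Quotient.eq]
      exact Ideal.mem_span_singleton_self _
  have h := congrFun (congrArg DFunLike.coe this) y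
  simp only [AlgHom.comp_apply, Ideal.Quotient.mkₐ_eq_mk] at h
  exact Ideal.Quotient.eq.mp h

theorem inc_zero' : inc (0 : MvPolynomial (Fin 2) k) = 0 := map_zero _

/-- kernel of `X₂ ↦ 0` -/
theorem mem_span_X_of_aeval_eq_zero {y : MvPolynomial (Fin 3) k}
    (h : aeval (vv (0 : MvPolynomial (Fin 2) k)) y = 0) :
    y ∈ Ideal.span {(X 2 : MvPolynomial (Fin 3) k)} := by
  have := sub_inc_mem (0 : MvPolynomial (Fin 2) k) y
  rw [h, map_zero, sub_zero, sub_zero] at this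
  exact this

theorem aeval_X2_zero : aeval (vv (0 : MvPolynomial (Fin 2) k)) (X 2 : MvPolynomial (Fin 3) k) = 0 := by
  rw [aeval_X, vv_two]

theorem aeval_eq_zero_of_mem_span_X {y : MvPolynomial (Fin 3) k}
    (h : y ∈ Ideal.span {(X 2 : MvPolynomial (Fin 3) k)}) :
    aeval (vv (0 : MvPolynomial (Fin 2) k)) y = 0 := by
  obtain ⟨a, rfl⟩ := Ideal.mem_span_singleton'.mp h
  rw [map_mul, aeval_X2_zero, mul_zero]

theorem vv_zero_isHomogeneous (i : Fin 3) :
    (vv (0 : MvPolynomial (Fin 2) k) i).IsHomogeneous 1 := by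
  fin_cases i
  · exact isHomogeneous_X k 0
  · exact isHomogeneous_X k 1
  · exact isHomogeneous_zero _ _ _

/-- a homogeneous polynomial of positive degree is not a unit -/
theorem not_isUnit_of_isHomogeneous {σ : Type*} {p : MvPolynomial σ k} {d : ℕ}
    (hp : p.IsHomogeneous d) (hd : 0 < d) : ¬ IsUnit p := by
  intro hu
  obtain ⟨r, hr, rfl⟩ := MvPolynomial.isUnit_iff_eq_C_of_isReduced.mp hu
  have h0 : coeff 0 (C r : MvPolynomial σ k) = 0 := by
    apply hp.coeff_eq_zero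
    simp
    omega
  rw [coeff_zero_C] at h0
  rw [h0] at hr
  exact not_isUnit_zero hr

section main

variable (n m : ℕ) (f g : MvPolynomial (Fin 3) k) (hf : f.IsHomogeneous n) (hg : g.IsHomogeneous m)
  (hn : 0 < n) (hm : 0 < m) (hf0 : f ≠ 0) (hg0 : g ≠ 0) (hfg : IsRelPrime f g)

include hf hg hn hm hf0 hg0 hfg

/-- the Hilbert polynomial of `(f, g)` is the constant `n m` -/
theorem isHP_pair : IsHP (Ideal.span {f, g}) (Polynomial.C ((n * m : ℕ) : ℚ)) := by
  have h0 := isHP_bot (k := k) 2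
  have hbh : (⊥ : Ideal (MvPolynomial (Fin 3) k)).IsHomogeneous (homogeneousSubmodule (Fin 3) k) :=
    Ideal.IsHomogeneous.bot _
  have h1 := IsHP.cut hbh hf hf0 (fun y hy => by
    rw [Ideal.mem_bot] at hy ⊢
    exact (mul_eq_zero.mp hy).resolve_left hf0) h0
  have h1h : ((⊥ : Ideal (MvPolynomial (Fin 3) k)) ⊔ Ideal.span {f}).IsHomogeneous
      (homogeneousSubmodule (Fin 3) k) := by
    refine hbh.sup (Ideal.homogeneous_span _ _ ?_)
    intro z hz
    rw [Set.mem_singleton_iff] at hz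
    subst hz
    exact ⟨n, hf⟩
  have h2 := IsHP.cut h1h hg hg0 (fun y hy => by
    rw [bot_sup_eq, Ideal.mem_span_singleton] at hy ⊢
    exact hfg.dvd_of_dvd_mul_left hy) h1
  have hI : ((⊥ : Ideal (MvPolynomial (Fin 3) k)) ⊔ Ideal.span {f}) ⊔ Ideal.span {g} =
      Ideal.span {f, g} := by
    rw [bot_sup_eq, Ideal.span_insert]
  rw [hI] at h2
  -- compute the polynomial
  obtain ⟨a1, a2⟩ := Δ_spec n hn (Bpoly 2) (by rw [Bpoly_natDegree]; omega)
  rw [Bpoly_natDegree] at a1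
  rw [Bpoly_natDegree, Bpoly_lc, mul_one] at a2
  have hd1 : (Δ (n : ℚ) (Bpoly 2)).natDegree = 1 := by omega
  obtain ⟨b1, b2⟩ := Δ_spec m hm (Δ (n : ℚ) (Bpoly 2)) (by omega)
  rw [a2] at b2
  have hd2 : (Δ (m : ℚ) (Δ (n : ℚ) (Bpoly 2))).natDegree = 0 := by omega
  rw [hd2, Nat.factorial_zero, Nat.cast_one, one_mul] at b2
  have : Δ (m : ℚ) (Δ (n : ℚ) (Bpoly 2)) = Polynomial.C ((n * m : ℕ) : ℚ) := by
    rw [Polynomial.eq_C_of_natDegree_eq_zero hd2]
    congr 1
    have : (Δ (m : ℚ) (Δ (n : ℚ) (Bpoly 2))).leadingCoeff =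
        (Δ (m : ℚ) (Δ (n : ℚ) (Bpoly 2))).coeff 0 := by
      unfold Polynomial.leadingCoeff
      rw [hd2]
    rw [← this, b2]
    push_cast
    ring
  rw [this] at h2
  exact h2

variable (hT : IsRelPrime (aeval (vv (0 : MvPolynomial (Fin 2) k)) f)
  (aeval (vv (0 : MvPolynomial (Fin 2) k)) g))

include hT

theorem f0_ne_zero : aeval (vv (0 : MvPolynomial (Fin 2) k)) f ≠ 0 := by
  intro h0
  rw [h0, isRelPrime_zero_left] at hT
  have hgh : (aeval (vv (0 : MvPolynomial (Fin 2) k)) g).IsHomogeneous (1 * m) :=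
    hg.aeval _ vv_zero_isHomogeneous
  rw [one_mul] at hgh
  exact not_isUnit_of_isHomogeneous hgh hm hT

/-- the Hilbert polynomial of `(f, g, X₂)` vanishes -/
theorem isHP_triple : IsHP (Ideal.span {f, g} ⊔ Ideal.span {(X 2 : MvPolynomial (Fin 3) k)}) 0 := by
  set T : MvPolynomial (Fin 3) k := X 2 with hTdef
  set φ := aeval (R := k) (vv (0 : MvPolynomial (Fin 2) k)) with hφ
  have h0 := isHP_bot (k := k) 2
  have hbh : (⊥ : Ideal (MvPolynomial (Fin 3) k)).IsHomogeneous (homogeneousSubmodule (Fin 3) k) :=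
    Ideal.IsHomogeneous.bot _
  have hTh : T.IsHomogeneous 1 := isHomogeneous_X k 2
  have hT0 : T ≠ 0 := X_ne_zero 2
  have hsing : ∀ (z : MvPolynomial (Fin 3) k) (e : ℕ), z.IsHomogeneous e →
      ∀ x ∈ ({z} : Set (MvPolynomial (Fin 3) k)),
        SetLike.IsHomogeneousElem (homogeneousSubmodule (Fin 3) k) x := by
    intro z e hz x hx
    rw [Set.mem_singleton_iff] at hx
    subst hx
    exact ⟨e, hz⟩
  have h1 := IsHP.cut hbh hTh hT0 (fun y hy => by
    rw [Ideal.mem_bot] at hy ⊢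
    exact (mul_eq_zero.mp hy).resolve_left hT0) h0
  have h1h : ((⊥ : Ideal (MvPolynomial (Fin 3) k)) ⊔ Ideal.span {T}).IsHomogeneous
      (homogeneousSubmodule (Fin 3) k) :=
    hbh.sup (Ideal.homogeneous_span _ _ (hsing T 1 hTh))
  have hf0' := f0_ne_zero n m f g hf hg hn hm hf0 hg0 hfg hT
  have h2 := IsHP.cut h1h hf hf0 (fun y hy => by
    rw [bot_sup_eq] at hy ⊢
    apply mem_span_X_of_aeval_eq_zero
    have := aeval_eq_zero_of_mem_span_X hy
    rw [map_mul] at this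
    exact (mul_eq_zero.mp this).resolve_left hf0') h1
  have h2h : (((⊥ : Ideal (MvPolynomial (Fin 3) k)) ⊔ Ideal.span {T}) ⊔
      Ideal.span {f}).IsHomogeneous (homogeneousSubmodule (Fin 3) k) :=
    h1h.sup (Ideal.homogeneous_span _ _ (hsing f n hf))
  have h3 := IsHP.cut h2h hg hg0 (fun y hy => by
    rw [bot_sup_eq] at hy ⊢
    -- apply `φ`
    obtain ⟨a, ha, b, hb, hab⟩ := Submodule.mem_sup.mp hy
    obtain ⟨b', rfl⟩ := Ideal.mem_span_singleton'.mp hb
    have e1 : φ g * φ y = φ b' * φ f := by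
      rw [← map_mul, ← hab, map_add, aeval_eq_zero_of_mem_span_X ha, zero_add, map_mul]
    have hdvd : φ f ∣ φ g * φ y := ⟨φ b', by rw [e1]; ring⟩
    obtain ⟨c, hc⟩ := hT.dvd_of_dvd_mul_left hdvd
    have e2 : φ (y - f * inc c) = 0 := by
      rw [map_sub, map_mul, hφ, aeval_inc, ← hφ, hc, sub_self]
    have e3 := mem_span_X_of_aeval_eq_zero e2
    have : y = (y - f * inc c) + inc c * f := by ring
    rw [this]
    exact Submodule.add_mem_sup e3 (Ideal.mem_span_singleton'.mpr ⟨inc c, rfl⟩)) h2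
  have hI : (((⊥ : Ideal (MvPolynomial (Fin 3) k)) ⊔ Ideal.span {T}) ⊔ Ideal.span {f}) ⊔
      Ideal.span {g} = Ideal.span {f, g} ⊔ Ideal.span {T} := by
    rw [bot_sup_eq, Ideal.span_insert, sup_assoc, sup_comm]
  rw [hI] at h3
  -- the polynomial vanishes
  obtain ⟨a1, -⟩ := Δ_spec 1 Nat.one_pos (Bpoly 2) (by rw [Bpoly_natDegree]; omega)
  rw [Bpoly_natDegree] at a1
  have hd1 : (Δ ((1 : ℕ) : ℚ) (Bpoly 2)).natDegree = 1 := by omega
  obtain ⟨b1, -⟩ := Δ_spec n hn (Δ ((1 : ℕ) : ℚ) (Bpoly 2)) (by omega)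
  have hd2 : (Δ (n : ℚ) (Δ ((1 : ℕ) : ℚ) (Bpoly 2))).natDegree = 0 := by omega
  have hz : Δ (m : ℚ) (Δ (n : ℚ) (Δ ((1 : ℕ) : ℚ) (Bpoly 2))) = 0 := by
    rw [← Polynomial.degree_eq_bot]
    have := degree_Δ_lt m (Δ (n : ℚ) (Δ ((1 : ℕ) : ℚ) (Bpoly 2))) 0 hd2.le
    apply Nat.WithBot.lt_zero_iff.mp
    simpa using this
  rw [hz] at h3
  exact h3

/-- `X₂` is a nonzerodivisor modulo `(f, g)` in high degrees -/
theorem exists_reg : ∃ N₁ : ℕ, ∀ j, N₁ ≤ j → ∀ y : MvPolynomial (Fin 3) k, y.IsHomogeneous j →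
    X 2 * y ∈ Ideal.span {f, g} → y ∈ Ideal.span {f, g} := by
  obtain ⟨N₂, hN₂⟩ := isHP_pair n m f g hf hg hn hm hf0 hg0 hfg
  obtain ⟨N₃, hN₃⟩ := isHP_triple n m f g hf hg hn hm hf0 hg0 hfg hT
  have hIh : (Ideal.span {f, g}).IsHomogeneous (homogeneousSubmodule (Fin 3) k) := by
    refine Ideal.homogeneous_span _ _ ?_
    intro x hx
    rcases hx with rfl | hx
    · exact ⟨n, hf⟩
    · rw [Set.mem_singleton_iff] at hx
      subst hx
      exact ⟨m, hg⟩
  refine ⟨N₂ + N₃, fun j hj y hy hTy => ?_⟩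
  have hcolon := hfn_colon (Ideal.span {f, g}) hIh (isHomogeneous_X k (2 : Fin 3)) (X_ne_zero 2) j
  rw [← hN₂ (1 + j) (by omega), ← hN₃ (1 + j) (by omega), Polynomial.eval_zero, add_zero,
    Polynomial.eval_C] at hcolon
  have hj2 := hN₂ j (by omega)
  rw [Polynomial.eval_C] at hj2
  have heq : hfn (col (Ideal.span {f, g}) (X 2)) j = hfn (Ideal.span {f, g}) j := by
    rw [← hcolon, ← hj2]
  unfold hfn at heq
  have hfin : Module.finrank k (pc (Ideal.span {f, g}) j) =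
      Module.finrank k (pc (col (Ideal.span {f, g}) (X 2)) j) := by
    have : ((Module.finrank k (pc (Ideal.span {f, g}) j) : ℕ) : ℚ) =
        Module.finrank k (pc (col (Ideal.span {f, g}) (X 2)) j) := by linarith
    exact_mod_cast this
  have hle : pc (Ideal.span {f, g}) j ≤ pc (col (Ideal.span {f, g}) (X 2)) j :=
    inf_le_inf_right _ (fun x hx => le_col _ _ hx)
  have hpc := Submodule.eq_of_le_of_finrank_eq hle hfin
  have hy' : y ∈ pc (col (Ideal.span {f, g}) (X 2)) j := by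
    refine ⟨?_, hy⟩
    change y * X 2 ∈ Ideal.span {f, g}
    rw [mul_comm]
    exact hTy
  rw [← hpc] at hy'
  exact hy'.1

end main

end Groth.Agent.Lib.Helper87.PlaneBezout
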