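import Mathlib
import Groth.Agent.Lib.Helper87.PlaneBezoutA

/-!
# Bezout for plane curves: dehomogenization
-/

set_option autoImplicit false
set_option linter.style.haveILetI false
universe u
open MvPolynomial

namespace Groth.Agent.Lib.Helper87.PlaneBezout

open Groth.Agent.Lib.Helper87.HilbFnA Groth.Agent.Lib.Helper87.HilbFnB
open Groth.Agent.Lib.Helper87.HilbFnC

variable {k : Type u} [Field k]

attribute [local instance] MvPolynomial.gradedAlgebra

section component

variable {σ : Type} [Finite σ]

/-- if `y` is homogeneous and `y ≡ z (T - 1)` modulo a homogeneous ideal `I` (with `T` a form of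
degree one), then a power of `T` multiplies `y` into `I` -/
theorem exists_pow_mul_mem {I : Ideal (MvPolynomial σ k)}
    (hI : I.IsHomogeneous (homogeneousSubmodule σ k)) {T : MvPolynomial σ k}
    (hT : T.IsHomogeneous 1) {N : ℕ} {y : MvPolynomial σ k} (hy : y.IsHomogeneous N)
    (z : MvPolynomial σ k) (h : y - z * (T - 1) ∈ I) : ∃ e, T ^ e * y ∈ I := by
  classical
  set r := y - z * (T - 1) with hr
  have hr' : r = y - T * z + z := by rw [hr]; ring
  have hcomp : ∀ j, homogeneousComponent j r ∈ I := fun j =>
    homogeneousComponent_mem_of_mem hI h j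
  let u : ℕ → MvPolynomial σ k := fun j => if N ≤ j then T ^ (j - N) * y else 0
  have hyc : ∀ j, homogeneousComponent j y = if j = N then y else 0 := fun j =>
    homogeneousComponent_of_mem ((mem_homogeneousSubmodule _ _).mpr hy)
  have key : ∀ j, homogeneousComponent j z + u j ∈ I := by
    intro j
    induction j with
    | zero =>
      have h0 := hcomp 0
      rw [hr', map_add, map_sub, hyc] at h0
      have hT0 : homogeneousComponent 0 (T * z) = 0 := by
        rw [homogeneousComponent_zero]
        have : coeff 0 (T * z) = 0 := by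
          rw [← constantCoeff_eq, map_mul, constantCoeff_eq]
          have : coeff 0 T = 0 := by
            apply hT.coeff_eq_zero
            simp
          rw [this, zero_mul]
        rw [this, C_0]
      rw [hT0, sub_zero] at h0
      by_cases hN : N = 0
      · subst hN
        have hu : u 0 = y := by simp [u]
        rw [hu, add_comm]
        simpa using h0
      · have hu : u 0 = 0 := by
          have : ¬ N ≤ 0 := by omega
          simp [u, this]
        have : (0 : ℕ) ≠ N := fun h => hN h.symm
        rw [if_neg this, zero_add] at h0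
        rw [hu, add_zero]
        exact h0
    | succ j ih =>
      have h0 := hcomp (j + 1)
      rw [hr', map_add, map_sub, hyc] at h0
      have hTz : homogeneousComponent (j + 1) (T * z) = T * homogeneousComponent j z := by
        rw [add_comm j 1]
        exact homogeneousComponent_mul hT z j
      rw [hTz] at h0
      have h1 : T * (homogeneousComponent j z + u j) ∈ I := I.mul_mem_left _ ih
      have h2 := I.add_mem h0 h1
      have h3 : (if j + 1 = N then y else 0) - T * homogeneousComponent j z +
          homogeneousComponent (j + 1) z + T * (homogeneousComponent j z + u j) =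
          homogeneousComponent (j + 1) z + ((if j + 1 = N then y else 0) + T * u j) := by ring
      rw [h3] at h2
      have h4 : (if j + 1 = N then y else 0) + T * u j = u (j + 1) := by
        by_cases c1 : j + 1 = N
        · have c2 : ¬ N ≤ j := by omega
          have c3 : N ≤ j + 1 := by omega
          simp only [u, if_pos c1, if_neg c2, if_pos c3, mul_zero, add_zero]
          have : j + 1 - N = 0 := by omega
          rw [this, pow_zero, one_mul]
        · by_cases c2 : N ≤ j
          · have c3 : N ≤ j + 1 := by omega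
            simp only [u, if_neg c1, if_pos c2, if_pos c3, zero_add]
            have : j + 1 - N = (j - N) + 1 := by omega
            rw [this, pow_succ]
            ring
          · have c3 : ¬ N ≤ j + 1 := by omega
            simp only [u, if_neg c1, if_neg c2, if_neg c3, mul_zero, add_zero]
      rw [h4] at h2
      exact h2
  -- a degree beyond `z`
  set j := max (z.totalDegree + 1) N with hj
  have hz0 : homogeneousComponent j z = 0 := by
    apply homogeneousComponent_eq_zero
    have : z.totalDegree + 1 ≤ j := le_max_left _ _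
    omega
  have hNj : N ≤ j := le_max_right _ _
  have := key j
  rw [hz0, zero_add] at this
  simp only [u, if_pos hNj] at this
  exact ⟨j - N, this⟩

end component

section main

variable (n m : ℕ) (f g : MvPolynomial (Fin 3) k) (hf : f.IsHomogeneous n) (hg : g.IsHomogeneous m)
  (hn : 0 < n) (hm : 0 < m) (hf0 : f ≠ 0) (hg0 : g ≠ 0) (hfg : IsRelPrime f g)
  (hT : IsRelPrime (aeval (vv (0 : MvPolynomial (Fin 2) k)) f)
    (aeval (vv (0 : MvPolynomial (Fin 2) k)) g))

include hf hg hn hm hf0 hg0 hfg hT

omit hn hm hf0 hg0 hfg hT in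
theorem span_pair_isHomogeneous :
    (Ideal.span {f, g}).IsHomogeneous (homogeneousSubmodule (Fin 3) k) := by
  refine Ideal.homogeneous_span _ _ ?_
  intro x hx
  rcases hx with rfl | hx
  · exact ⟨n, hf⟩
  · rw [Set.mem_singleton_iff] at hx
    subst hx
    exact ⟨m, hg⟩

/-- the key injectivity statement -/
theorem exists_mem_of_dehom_mem : ∃ N₁ : ℕ, ∀ N, N₁ ≤ N → ∀ y : MvPolynomial (Fin 3) k,
    y.IsHomogeneous N →
    aeval (vv (1 : MvPolynomial (Fin 2) k)) y ∈
      Ideal.span {aeval (vv (1 : MvPolynomial (Fin 2) k)) f,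
        aeval (vv (1 : MvPolynomial (Fin 2) k)) g} →
    y ∈ Ideal.span {f, g} := by
  obtain ⟨N₁, hN₁⟩ := exists_reg n m f g hf hg hn hm hf0 hg0 hfg hT
  have hIh := span_pair_isHomogeneous n m f g hf hg
  refine ⟨N₁, fun N hN y hy hmem => ?_⟩
  set φ := aeval (R := k) (vv (1 : MvPolynomial (Fin 2) k)) with hφ
  have hsurj : Function.Surjective φ := fun a => ⟨inc a, aeval_inc _ a⟩
  have hJ : Ideal.span {φ f, φ g} = (Ideal.span {f, g}).map φ := by
    rw [Ideal.map_span, Set.image_pair]
  rw [hJ, Ideal.mem_map_iff_of_surjective φ hsurj] at hmem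
  obtain ⟨i, hi, hiy⟩ := hmem
  have hker : φ (y - i) = 0 := by rw [map_sub, hiy, sub_self]
  have h1 := sub_inc_mem (1 : MvPolynomial (Fin 2) k) (y - i)
  rw [← hφ, hker, map_zero, sub_zero, map_one] at h1
  obtain ⟨z, hz⟩ := Ideal.mem_span_singleton'.mp h1
  have h2 : y - z * (X 2 - 1) ∈ Ideal.span {f, g} := by
    rw [hz]
    simpa using hi
  obtain ⟨e, he⟩ := exists_pow_mul_mem hIh (isHomogeneous_X k (2 : Fin 3)) hy z h2
  -- descend
  clear h2 hz h1 hker hiy hi
  induction e with
  | zero => simpa using he
  | succ e ih =>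
    apply ih
    have hdeg : ((X 2 : MvPolynomial (Fin 3) k) ^ e * y).IsHomogeneous (e + N) := by
      have := ((isHomogeneous_X k (2 : Fin 3)).pow e).mul hy
      rwa [one_mul] at this
    apply hN₁ (e + N) (by omega) _ hdeg
    rw [← mul_assoc, ← pow_succ']
    exact he

/-- **Bezout for plane curves, affine form** -/
theorem finrank_dehom :
    Module.finrank k (MvPolynomial (Fin 2) k ⧸
      Ideal.span {aeval (vv (1 : MvPolynomial (Fin 2) k)) f,
        aeval (vv (1 : MvPolynomial (Fin 2) k)) g}) = n * m := by
  classical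
  obtain ⟨N₁, hN₁⟩ := exists_mem_of_dehom_mem n m f g hf hg hn hm hf0 hg0 hfg hT
  obtain ⟨N₂, hN₂⟩ := isHP_pair n m f g hf hg hn hm hf0 hg0 hfg
  set φ := aeval (R := k) (vv (1 : MvPolynomial (Fin 2) k)) with hφ
  set J := Ideal.span {φ f, φ g} with hJ
  set I := Ideal.span {f, g} with hI
  have hsurj : Function.Surjective φ := fun a => ⟨inc a, aeval_inc _ a⟩
  -- the linear map
  let ψ : MvPolynomial (Fin 3) k →ₗ[k] (MvPolynomial (Fin 2) k ⧸ J) :=
    (Ideal.Quotient.mkₐ k J).toLinearMap ∘ₗ φ.toLinearMap
  have hψ : ∀ y, ψ y = Ideal.Quotient.mk J (φ y) := fun y => rfl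
  let F : ℕ → Submodule k (MvPolynomial (Fin 2) k ⧸ J) := fun N => (gr k (Fin 3) N).map ψ
  have hφT : φ (X 2) = 1 := by rw [hφ, aeval_X, vv_two]
  have hFmono1 : ∀ N, F N ≤ F (N + 1) := by
    rintro N _ ⟨y, hy, rfl⟩
    refine ⟨X 2 * y, ?_, ?_⟩
    · have := (isHomogeneous_X k (2 : Fin 3)).mul ((mem_homogeneousSubmodule _ _).mp hy)
      rw [add_comm] at this
      exact (mem_homogeneousSubmodule _ _).mpr this
    · rw [hψ, hψ, map_mul, hφT, one_mul]
  have hFmono : ∀ N M, N ≤ M → F N ≤ F M := by
    intro N M hNM
    induction M, hNM using Nat.le_induction with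
    | base => exact le_rfl
    | succ M _ ih => exact ih.trans (hFmono1 M)
  have hcover : ∀ a : MvPolynomial (Fin 2) k ⧸ J, ∃ N, a ∈ F N := by
    intro a
    obtain ⟨b, rfl⟩ := Ideal.Quotient.mk_surjective a
    obtain ⟨y, rfl⟩ := hsurj b
    refine ⟨y.totalDegree, ?_⟩
    have h1 : Ideal.Quotient.mk J (φ y) =
        ∑ j ∈ Finset.range (y.totalDegree + 1), ψ (homogeneousComponent j y) := by
      rw [← map_sum, sum_homogeneousComponent]
      rfl
    rw [h1]
    refine Submodule.sum_mem _ fun j hj => ?_
    have hj' : j ≤ y.totalDegree := by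
      have := Finset.mem_range.mp hj
      omega
    exact hFmono j _ hj' ⟨_, homogeneousComponent_mem j y, rfl⟩
  -- the dimension of `F N`
  have hdim : ∀ N, N₁ + N₂ ≤ N → Module.finrank k (F N) = n * m := by
    intro N hN
    let ψN : gr k (Fin 3) N →ₗ[k] (MvPolynomial (Fin 2) k ⧸ J) := ψ.domRestrict (gr k (Fin 3) N)
    have hrange : LinearMap.range ψN = F N := LinearMap.range_domRestrict _ _
    have hker : LinearMap.ker ψN = (pc I N).comap (gr k (Fin 3) N).subtype := by
      ext ⟨y, hy⟩
      rw [LinearMap.mem_ker, Submodule.mem_comap]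
      change ψ y = 0 ↔ y ∈ pc I N
      rw [hψ, Ideal.Quotient.eq_zero_iff_mem]
      constructor
      · intro h
        exact ⟨hN₁ N (by omega) y ((mem_homogeneousSubmodule _ _).mp hy) h, hy⟩
      · rintro ⟨h, -⟩
        have : J = I.map φ := by rw [hJ, hI, Ideal.map_span, Set.image_pair]
        rw [this]
        exact Ideal.mem_map_of_mem _ h
    have hrk := LinearMap.finrank_range_add_finrank_ker ψN
    rw [hrange, hker] at hrk
    have hle : pc I N ≤ gr k (Fin 3) N := inf_le_right
    have e := (Submodule.comapSubtypeEquivOfLe hle).finrank_eq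
    rw [e] at hrk
    have hh := hN₂ N (by omega)
    rw [Polynomial.eval_C] at hh
    unfold hfn at hh
    have : ((n * m : ℕ) : ℚ) + Module.finrank k (pc I N) = Module.finrank k (gr k (Fin 3) N) := by
      linarith
    have h2 : n * m + Module.finrank k (pc I N) = Module.finrank k (gr k (Fin 3) N) := by
      exact_mod_cast this
    omega
  -- stabilization
  set N₀ := N₁ + N₂ with hN₀
  have hstab : ∀ N, N₀ ≤ N → F N = F N₀ := by
    intro N hN
    induction N, hN using Nat.le_induction with
    | base => rfl
    | succ N hN ih =>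
      rw [← ih]
      symm
      haveI : Module.Finite k (F (N + 1)) := by
        have : Module.Finite k (gr k (Fin 3) (N + 1)) := inferInstance
        exact Module.Finite.map _ _
      apply Submodule.eq_of_le_of_finrank_eq (hFmono1 N)
      rw [hdim N hN, hdim (N + 1) (by omega)]
  have htop : F N₀ = ⊤ := by
    rw [eq_top_iff]
    intro a _
    obtain ⟨N, hN⟩ := hcover a
    rcases le_total N N₀ with h | h
    · exact hFmono N N₀ h hN
    · rw [← hstab N h]
      exact hN
  rw [← finrank_top k (MvPolynomial (Fin 2) k ⧸ J), ← htop]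
  exact hdim N₀ le_rfl

end main

end Groth.Agent.Lib.Helper87.PlaneBezout
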