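import Groth.Agent.Lib.Helper87.PlaneBezoutA

/-!
# Exact Hilbert function of a plane complete intersection
-/

set_option autoImplicit false
universe u
open MvPolynomial
open Groth.Agent.Lib.Helper87.HilbFnA

namespace Groth.Agent.Lib.Helper87.PlaneHF

variable {k : Type u} [Field k]

attribute [local instance] MvPolynomial.gradedAlgebra

theorem hfn_bot (j : ℕ) :
    hfn (⊥ : Ideal (MvPolynomial (Fin 3) k)) j = ((j + 2).choose 2 : ℕ) := by
  unfold hfn
  have h1 : Module.finrank k (pc (⊥ : Ideal (MvPolynomial (Fin 3) k)) j) = 0 := by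
    have : pc (⊥ : Ideal (MvPolynomial (Fin 3) k)) j = ⊥ := by
      unfold pc
      rw [eq_bot_iff]
      rintro x ⟨hx, -⟩
      simpa using hx
    rw [this, finrank_bot]
  have h2 := Groth.Agent.Lib.Proj.HomogRank.finrank_homogeneousSubmodule_fin 2 k j
  rw [h1, h2]
  simp

theorem choose_two_cast (j : ℕ) : (((j + 2).choose 2 : ℕ) : ℚ) = ((j : ℚ) + 2) * ((j : ℚ) + 1) / 2 := by
  rw [Nat.cast_choose_two]
  push_cast
  ring

section main

variable (n m : ℕ) (f g : MvPolynomial (Fin 3) k) (hf : f.IsHomogeneous n) (hg : g.IsHomogeneous m)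
  (hf0 : f ≠ 0) (hg0 : g ≠ 0) (hfg : IsRelPrime f g)

include hf hg hf0 hg0 hfg

theorem hfn_pair (a : ℕ) : hfn (Ideal.span {f, g}) (n + m + a) = ((n * m : ℕ) : ℚ) := by
  have hbh : (⊥ : Ideal (MvPolynomial (Fin 3) k)).IsHomogeneous (homogeneousSubmodule (Fin 3) k) :=
    Ideal.IsHomogeneous.bot _
  have hreg1 : ∀ y, f * y ∈ (⊥ : Ideal (MvPolynomial (Fin 3) k)) →
      y ∈ (⊥ : Ideal (MvPolynomial (Fin 3) k)) := fun y hy => by
    rw [Ideal.mem_bot] at hy ⊢
    exact (mul_eq_zero.mp hy).resolve_left hf0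
  have h1 := fun j => hfn_cut (⊥ : Ideal (MvPolynomial (Fin 3) k)) hbh hf hf0 hreg1 j
  have h1h : ((⊥ : Ideal (MvPolynomial (Fin 3) k)) ⊔ Ideal.span {f}).IsHomogeneous
      (homogeneousSubmodule (Fin 3) k) := by
    refine hbh.sup (Ideal.homogeneous_span _ _ ?_)
    intro z hz
    rw [Set.mem_singleton_iff] at hz
    subst hz
    exact ⟨n, hf⟩
  have hreg2 : ∀ y, g * y ∈ ((⊥ : Ideal (MvPolynomial (Fin 3) k)) ⊔ Ideal.span {f}) →
      y ∈ ((⊥ : Ideal (MvPolynomial (Fin 3) k)) ⊔ Ideal.span {f}) := fun y hy => by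
    rw [bot_sup_eq, Ideal.mem_span_singleton] at hy ⊢
    exact hfg.dvd_of_dvd_mul_left hy
  have h2 := hfn_cut _ h1h hg hg0 hreg2 (n + a)
  have hI : ((⊥ : Ideal (MvPolynomial (Fin 3) k)) ⊔ Ideal.span {f}) ⊔ Ideal.span {g} =
      Ideal.span {f, g} := by
    rw [bot_sup_eq, Ideal.span_insert]
  rw [hI] at h2
  have e1 : n + m + a = m + (n + a) := by ring
  rw [e1, h2]
  have e2 : m + (n + a) = n + (m + a) := by ring
  rw [e2, h1 (m + a), h1 a, hfn_bot, hfn_bot, hfn_bot, hfn_bot]
  rw [choose_two_cast, choose_two_cast, choose_two_cast, choose_two_cast]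
  push_cast
  ring

theorem finrank_quot (d : ℕ) (hd : n + m ≤ d) :
    Module.finrank k
        (↥(MvPolynomial.homogeneousSubmodule (Fin 3) k d) ⧸
          Submodule.comap (MvPolynomial.homogeneousSubmodule (Fin 3) k d).subtype
            ((Ideal.span ({f, g} : Set (MvPolynomial (Fin 3) k))).restrictScalars k)) = n * m := by
  obtain ⟨a, rfl⟩ := Nat.exists_eq_add_of_le hd
  have h := hfn_pair n m f g hf hg hf0 hg0 hfg a
  unfold hfn at h
  set I := Ideal.span ({f, g} : Set (MvPolynomial (Fin 3) k)) with hI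
  have hc : Submodule.comap (MvPolynomial.homogeneousSubmodule (Fin 3) k (n + m + a)).subtype
      (I.restrictScalars k) =
      (pc I (n + m + a)).comap (gr k (Fin 3) (n + m + a)).subtype := by
    ext ⟨y, hy⟩
    simp only [Submodule.mem_comap, Submodule.subtype_apply]
    constructor
    · intro h
      exact ⟨h, hy⟩
    · rintro ⟨h, -⟩
      exact h
  rw [hc]
  have hle : pc I (n + m + a) ≤ gr k (Fin 3) (n + m + a) := inf_le_right
  have e := (Submodule.comapSubtypeEquivOfLe hle).finrank_eq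
  have hq := Submodule.finrank_quotient_add_finrank
    ((pc I (n + m + a)).comap (gr k (Fin 3) (n + m + a)).subtype)
  rw [e] at hq
  have : ((n * m : ℕ) : ℚ) + Module.finrank k (pc I (n + m + a)) =
      Module.finrank k (gr k (Fin 3) (n + m + a)) := by
    linarith
  have h2 : n * m + Module.finrank k (pc I (n + m + a)) =
      Module.finrank k (gr k (Fin 3) (n + m + a)) := by
    exact_mod_cast this
  change Module.finrank k
        (↥(gr k (Fin 3) (n + m + a)) ⧸ Submodule.comap (gr k (Fin 3) (n + m + a)).subtype (pc I (n + m + a))) = n * m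
  omega

end main

end Groth.Agent.Lib.Helper87.PlaneHF
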