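import Mathlib
import Groth.Agent.S17335

/-!
# Reduction commutes with tensor products of finite algebras over an algebraically closed field
-/

universe u v w
open scoped TensorProduct

namespace Groth.Agent.Lib.Helper87.RedTensor

variable (k : Type u) [Field k] [IsAlgClosed k]

/-- the evaluation map to the algebra of functions on the characters -/
noncomputable abbrev ev (A : Type v) [CommRing A] [Algebra k A] : A →ₐ[k] ((A →ₐ[k] k) → k) :=
  AlgHom.pi (R := k) (fun f : A →ₐ[k] k => f)

theorem isReduced_pi_tensor_pi (E : Type v) (F : Type w) [Finite E] [Finite F] :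
    IsReduced ((E → k) ⊗[k] (F → k)) := by
  classical
  have := Fintype.ofFinite F
  let e1 : ((E → k) ⊗[k] (F → k)) ≃ₐ[k] (F → (E → k) ⊗[k] k) :=
    Algebra.TensorProduct.piRight k k (E → k) (fun _ : F => k)
  let e2 : (F → (E → k) ⊗[k] k) ≃ₐ[k] (F → (E → k)) :=
    AlgEquiv.piCongrRight (fun _ => Algebra.TensorProduct.rid k k (E → k))
  have : IsReduced (F → (E → k)) := inferInstance
  exact isReduced_of_injective (e1.trans e2) (e1.trans e2).injective

theorem ker_mk (A : Type v) [CommRing A] [Algebra k A] (I : Ideal A) :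
    RingHom.ker (Ideal.Quotient.mkₐ k I) = I := by
  ext a
  rw [RingHom.mem_ker, Ideal.Quotient.mkₐ_eq_mk, Ideal.Quotient.eq_zero_iff_mem]

theorem ker_map_mk_eq (A : Type v) [CommRing A] [Algebra k A] [Module.Finite k A]
    (B : Type w) [CommRing B] [Algebra k B] [Module.Finite k B] :
    RingHom.ker (Algebra.TensorProduct.map (Ideal.Quotient.mkₐ k (nilradical A))
      (Ideal.Quotient.mkₐ k (nilradical B))) =
    RingHom.ker (Algebra.TensorProduct.map (ev k A) (ev k B)) := by
  obtain ⟨_, hsA, hkA⟩ := Groth.Agent.S17335.result k A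
  obtain ⟨_, hsB, hkB⟩ := Groth.Agent.S17335.result k B
  rw [Algebra.TensorProduct.map_ker _ _ (Ideal.Quotient.mkₐ_surjective k _)
    (Ideal.Quotient.mkₐ_surjective k _), Algebra.TensorProduct.map_ker _ _ hsA hsB]
  have h1 : RingHom.ker (Ideal.Quotient.mkₐ k (nilradical A)) = RingHom.ker (ev k A) := by
    rw [ker_mk]; exact hkA.symm
  have h2 : RingHom.ker (Ideal.Quotient.mkₐ k (nilradical B)) = RingHom.ker (ev k B) := by
    rw [ker_mk]; exact hkB.symm
  rw [h1, h2]

theorem ker_eq_nilradical (A : Type v) [CommRing A] [Algebra k A] [Module.Finite k A]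
    (B : Type w) [CommRing B] [Algebra k B] [Module.Finite k B] :
    RingHom.ker (Algebra.TensorProduct.map (Ideal.Quotient.mkₐ k (nilradical A))
      (Ideal.Quotient.mkₐ k (nilradical B))) = nilradical (A ⊗[k] B) := by
  apply le_antisymm
  · rw [Algebra.TensorProduct.map_ker _ _ (Ideal.Quotient.mkₐ_surjective k _)
      (Ideal.Quotient.mkₐ_surjective k _), sup_le_iff, Ideal.map_le_iff_le_comap,
      Ideal.map_le_iff_le_comap]
    constructor
    · intro a ha
      rw [ker_mk] at ha
      rw [Ideal.mem_comap, mem_nilradical]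
      exact (mem_nilradical.1 ha).map _
    · intro b hb
      rw [ker_mk] at hb
      rw [Ideal.mem_comap, mem_nilradical]
      exact (mem_nilradical.1 hb).map _
  · intro x hx
    rw [ker_map_mk_eq, RingHom.mem_ker]
    obtain ⟨hfA, _, _⟩ := Groth.Agent.S17335.result k A
    obtain ⟨hfB, _, _⟩ := Groth.Agent.S17335.result k B
    have hred := isReduced_pi_tensor_pi k (A →ₐ[k] k) (B →ₐ[k] k)
    have hn : IsNilpotent (Algebra.TensorProduct.map (ev k A) (ev k B) x) :=
      (mem_nilradical.1 hx).map _
    exact hn.eq_zero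

end Groth.Agent.Lib.Helper87.RedTensor
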