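import Mathlib
import Groth.Agent.Lib.Helper29.CMRing
import Groth.Agent.Lib.Helper29.CM
import Groth.Agent.Lib.Helper87.GrHtC
import Groth.Agent.Lib.Helper87.ModHilbG
import Groth.Agent.Lib.Helper87.SegPolyA
import Groth.Agent.Lib.Helper77.GLC0
import Groth.Agent.S5151

/-!
# Homogeneous regular sequences on graded Cohen–Macaulay modules
-/

set_option autoImplicit false
set_option linter.style.haveILetI false
set_option linter.unusedSectionVars false
universe u

namespace Groth.Agent.Lib.Helper87.SegModA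

open RingTheory.Sequence IsLocalRing
open Groth.Agent.Lib.Helper29 Groth.Agent.Lib.Helper29.CMLib Groth.Agent.Lib.Helper29.DepthLib
open Groth.Agent.Lib.Helper87.ModHilbG Groth.Agent.Lib.Helper87.SegPolyA
open Groth.Agent.Lib.Helper77.GLC

section Depth

variable {R : Type u} [CommRing R] [IsNoetherianRing R]
  (M : Type u) [AddCommGroup M] [Module R M] [Module.Finite R M]

/-- the depth with respect to a maximal ideal is the depth of the localization -/
theorem idealDepth_eq_depth_of_isMaximal (m : Ideal R) [hm : m.IsMaximal] :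
    LocCoh.idealDepth m M =
      LocCoh.depth (Localization.AtPrime m) (LocalizedModule m.primeCompl M) := by
  rw [Groth.Agent.Lib.Helper29.CMRing.idealDepth_eq_iInf_depth_localization R M m]
  apply le_antisymm
  · exact iInf₂_le (⟨m, hm.isPrime⟩ : PrimeSpectrum R) le_rfl
  · refine le_iInf₂ fun p hp => ?_
    have hpm : m = p.asIdeal := hm.eq_of_le p.isPrime.ne_top hp
    obtain ⟨p, hpp⟩ := p
    change m = p at hpm
    subst hpm
    exact le_rfl

end Depth

section Avoid

variable {k : Type u} [Field k] {R : Type u} [CommRing R] [Algebra k R]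
  (𝒜 : ℤ → Submodule k R) [GradedAlgebra 𝒜]
  (hpos : ∀ n : ℤ, n < 0 → 𝒜 n = ⊥) (h0 : 𝒜 0 = Submodule.span k {(1 : R)})

include hpos h0 in
/-- if some element of the irrelevant ideal is regular on a finitely generated module, so is a
homogeneous element of positive degree -/
theorem exists_homogeneous_regular [Nontrivial R] [IsNoetherianRing R] (N' : Type u)
    [AddCommGroup N'] [Module R N'] [Module.Finite R N']
    (hz : ∃ z ∈ irr 𝒜, IsSMulRegular N' z) :
    ∃ n : ℕ, 0 < n ∧ ∃ x ∈ 𝒜 (n : ℤ), IsSMulRegular N' x := by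
  classical
  haveI hmax := irr_isMaximal 𝒜 hpos h0
  obtain ⟨z, hzirr, hzreg⟩ := hz
  have hfin : (associatedPrimes R N').Finite := associatedPrimes.finite R N'
  set s : Finset (Ideal R) :=
    hfin.toFinset.image (fun p => (Ideal.homogeneousCore (flat 𝒜) p).toIdeal) with hs
  have hmem : ∀ P ∈ s, ∃ p ∈ associatedPrimes R N',
      P = (Ideal.homogeneousCore (flat 𝒜) p).toIdeal := by
    intro P hP
    rw [hs, Finset.mem_image] at hP
    obtain ⟨p, hp, rfl⟩ := hP
    exact ⟨p, (Set.Finite.mem_toFinset hfin).mp hp, rfl⟩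
  have hprime : ∀ P ∈ s, P.IsPrime := by
    intro P hP
    obtain ⟨p, hp, rfl⟩ := hmem P hP
    haveI : p.IsPrime := hp.isPrime
    exact Groth.Agent.Lib.Helper87.GrHtC.core_isPrime (𝒜 := flat 𝒜) p
  have hhom : ∀ P ∈ s, P.IsHomogeneous 𝒜 := by
    intro P hP
    obtain ⟨p, hp, rfl⟩ := hmem P hP
    intro i x hx
    have := (Ideal.homogeneousCore (flat 𝒜) p).isHomogeneous i hx
    rwa [coe_decompose_flat] at this
  have hI : ∀ P ∈ s, ∃ n : ℕ, 0 < n ∧ ∃ x ∈ 𝒜 (n : ℤ), x ∉ P := by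
    intro P hP
    obtain ⟨p, hp, rfl⟩ := hmem P hP
    by_contra hcon
    push Not at hcon
    have hle : irr 𝒜 ≤ (Ideal.homogeneousCore (flat 𝒜) p).toIdeal := by
      unfold irr
      rw [Ideal.span_le]
      intro x hx
      simp only [Set.mem_iUnion, Set.mem_Ioi] at hx
      obtain ⟨n, hn, hx⟩ := hx
      obtain ⟨m, rfl⟩ := Int.eq_ofNat_of_zero_le hn.le
      exact hcon m (by exact_mod_cast hn) x hx
    have hzp : z ∈ p := Ideal.toIdeal_homogeneousCore_le (flat 𝒜) p (hle hzirr)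
    have : ¬ IsSMulRegular N' z := by
      rw [not_isSMulRegular_iff_mem_biUnion_ass]
      simp only [Set.mem_iUnion]
      exact ⟨p, hp, hzp⟩
    exact this hzreg
  obtain ⟨n, hn, x, hx, hxs⟩ := exists_homogeneous_not_mem 𝒜 hpos s hprime hhom hI
  refine ⟨n, hn, x, hx, ?_⟩
  by_contra hnreg
  rw [not_isSMulRegular_iff_mem_biUnion_ass] at hnreg
  simp only [Set.mem_iUnion] at hnreg
  obtain ⟨p, hp, hxp⟩ := hnreg
  have hxcore : x ∈ (Ideal.homogeneousCore (flat 𝒜) p).toIdeal :=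
    Ideal.mem_homogeneousCore_of_homogeneous_of_mem ⟨(n : ℤ), hx⟩ hxp
  refine hxs _ ?_ hxcore
  rw [hs, Finset.mem_image]
  exact ⟨p, (Set.Finite.mem_toFinset hfin).mpr hp, rfl⟩

end Avoid

section Seq

variable {k : Type u} [Field k] {R : Type u} [CommRing R] [Algebra k R]
  (𝒜 : ℤ → Submodule k R) [GradedAlgebra 𝒜]
  (hpos : ∀ n : ℤ, n < 0 → 𝒜 n = ⊥) (h0 : 𝒜 0 = Submodule.span k {(1 : R)})
  {M : Type u} [AddCommGroup M] [Module R M]

include hpos h0 in
/-- for a graded Cohen–Macaulay module the depth at the irrelevant ideal is the dimension -/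
theorem idealDepth_irr_eq (ℳ : ℤ → AddSubgroup M) [DirectSum.Decomposition ℳ]
    [SetLike.GradedSMul 𝒜 ℳ] [Algebra.FiniteType k R] [Module.Finite R M] [Nontrivial M]
    (hMcm : ∀ (q : Ideal R) [q.IsPrime], Subsingleton (LocalizedModule q.primeCompl M) ∨
      LocCoh.IsCohenMacaulayModule (Localization.AtPrime q) (LocalizedModule q.primeCompl M)) :
    ((LocCoh.idealDepth (irr 𝒜) M : ℕ∞) : WithBot ℕ∞) = Module.supportDim R M := by
  haveI : Nontrivial R := Module.nontrivial R M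
  haveI : IsNoetherianRing R := Algebra.FiniteType.isNoetherianRing k R
  haveI hmax := irr_isMaximal 𝒜 hpos h0
  haveI hprime : (irr 𝒜).IsPrime := hmax.isPrime
  have hann : (Module.annihilator R M).IsHomogeneous 𝒜 := annihilator_isHomogeneous 𝒜 ℳ
  obtain ⟨hdim, hnt⟩ := supportDim_eq_localization 𝒜 hpos h0 (irr 𝒜) rfl M hann
  rw [idealDepth_eq_depth_of_isMaximal M (irr 𝒜), hdim]
  rcases hMcm (irr 𝒜) with h | h
  · exact absurd h (not_subsingleton _)
  · exact h.symm

include hpos h0 in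
/-- extend a regular sequence in the irrelevant ideal by a homogeneous element -/
theorem exists_next [Nontrivial R] [IsNoetherianRing R] [Module.Finite R M] {r : ℕ}
    (hdepth : LocCoh.idealDepth (irr 𝒜) M = (r : ℕ∞)) (l : List R)
    (hl : IsWeaklyRegular M l) (hmem : ∀ x ∈ l, x ∈ irr 𝒜) (hlen : l.length < r) :
    ∃ n : ℕ, 0 < n ∧ ∃ x ∈ 𝒜 (n : ℤ), IsWeaklyRegular M (l ++ [x]) := by
  classical
  have hIM : irr 𝒜 • (⊤ : Submodule R M) ≠ ⊤ := by
    intro h
    unfold LocCoh.idealDepth at hdepth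
    rw [if_pos h] at hdepth
    exact ENat.top_ne_natCast r hdepth
  obtain ⟨-, h2⟩ := Groth.Agent.S5151.result R (irr 𝒜) M hIM
  by_contra hcon
  push Not at hcon
  have hmaxl : ∀ z ∈ irr 𝒜, ¬ IsWeaklyRegular M (l ++ [z]) := by
    intro z hz hreg
    rw [isWeaklyRegular_append_iff, isWeaklyRegular_singleton_iff] at hreg
    obtain ⟨n, hn, x, hx, hxreg⟩ := exists_homogeneous_regular 𝒜 hpos h0
      (M ⧸ (Ideal.ofList l • (⊤ : Submodule R M))) ⟨z, hz, hreg.2⟩
    apply hcon n hn x hx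
    rw [isWeaklyRegular_append_iff, isWeaklyRegular_singleton_iff]
    exact ⟨hl, hxreg⟩
  have h3 := h2 l hl hmem hmaxl
  rw [hdepth] at h3
  have h4 : l.length = r := by exact_mod_cast h3
  omega

include hpos h0 in
theorem exists_regular_list_dvd [Nontrivial R] [IsNoetherianRing R] [Module.Finite R M] {r : ℕ}
    (hdepth : LocCoh.idealDepth (irr 𝒜) M = (r : ℕ∞)) (a : ℕ) (ha : 0 < a) :
    ∀ j, j ≤ r → ∃ l : List R, l.length = j ∧
      (∀ x ∈ l, ∃ n : ℕ, 0 < n ∧ x ∈ 𝒜 ((a * n : ℕ) : ℤ)) ∧ IsWeaklyRegular M l := by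
  intro j
  induction j with
  | zero =>
    intro _
    exact ⟨[], rfl, by simp, IsWeaklyRegular.nil R M⟩
  | succ j ih =>
    intro hj
    obtain ⟨l, hlen, hhom, hl⟩ := ih (by omega)
    have hmem : ∀ x ∈ l, x ∈ irr 𝒜 := by
      intro x hx
      obtain ⟨n, hn, hxn⟩ := hhom x hx
      apply Ideal.subset_span
      simp only [Set.mem_iUnion, Set.mem_Ioi]
      refine ⟨((a * n : ℕ) : ℤ), ?_, hxn⟩
      have := Nat.mul_pos ha hn
      exact_mod_cast this
    obtain ⟨n, hn, x, hx, hreg⟩ := exists_next 𝒜 hpos h0 hdepth l hl hmem (by omega)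
    refine ⟨l ++ [x ^ a], by rw [List.length_append, hlen, List.length_singleton], ?_, ?_⟩
    · intro y hy
      rw [List.mem_append, List.mem_singleton] at hy
      rcases hy with hy | rfl
      · exact hhom y hy
      · refine ⟨n, hn, ?_⟩
        have h1 : x ^ a ∈ 𝒜 (a • (n : ℤ)) := SetLike.pow_mem_graded a hx
        have h2 : a • (n : ℤ) = ((a * n : ℕ) : ℤ) := by rw [nsmul_eq_mul]; push_cast; ring
        rwa [h2] at h1
    · rw [isWeaklyRegular_append_iff, isWeaklyRegular_singleton_iff] at hreg ⊢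
      exact ⟨hreg.1, hreg.2.pow a⟩

include hpos h0 in
/-- a homogeneous regular sequence of length `depth` whose degrees are multiples of `a` -/
theorem exists_regular_seq_dvd [Nontrivial R] [IsNoetherianRing R] [Module.Finite R M] {r : ℕ}
    (hdepth : LocCoh.idealDepth (irr 𝒜) M = (r : ℕ∞)) (a : ℕ) (ha : 0 < a) :
    ∃ (f : Fin r → R) (c : Fin r → ℕ), (∀ i, 1 ≤ c i) ∧ (∀ i, f i ∈ 𝒜 ((a * c i : ℕ) : ℤ)) ∧
      IsWeaklyRegular M (List.ofFn f) := by
  classical
  obtain ⟨l, hlen, hhom, hl⟩ := exists_regular_list_dvd 𝒜 hpos h0 hdepth a ha r le_rfl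
  subst hlen
  have hex : ∀ i : Fin l.length, ∃ n : ℕ, 0 < n ∧ l.get i ∈ 𝒜 ((a * n : ℕ) : ℤ) :=
    fun i => hhom _ (List.get_mem l i)
  choose d hd1 hd2 using hex
  refine ⟨fun i => l.get i, d, hd1, hd2, ?_⟩
  rw [List.ofFn_get]
  exact hl

end Seq

end Groth.Agent.Lib.Helper87.SegModA
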