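import Mathlib
import Groth.Agent.Lib.Helper87.APolyA
import Groth.Agent.Lib.Helper87.SegreB

/-!
# Homogeneous regular sequences with prescribed divisibility of degrees; torsion of quotients
-/

set_option autoImplicit false
set_option linter.style.haveILetI false
set_option linter.unusedSectionVars false
universe u

namespace Groth.Agent.Lib.Helper87.SegSeqA

open Groth.Agent.Lib.Helper87.ModHilbG Groth.Agent.Lib.Helper87.SegPolyA
open Groth.Agent.Lib.Helper87.APolyA

section Reg

variable {R : Type u} [CommRing R]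

theorem reg_prefix {l : List R} {x : R} (h : Reg (l ++ [x])) : Reg l := by
  intro i hi y hy
  have hi' : i < (l ++ [x]).length := by
    rw [List.length_append, List.length_singleton]; omega
  have h1 := h i hi' y
  rw [List.getElem_append_left hi, List.take_append_of_le_length hi.le] at h1
  exact h1 hy

theorem reg_last {l : List R} {x : R} (h : Reg (l ++ [x])) :
    ∀ y, x * y ∈ Ideal.ofList l → y ∈ Ideal.ofList l := by
  intro y hy
  have hi' : l.length < (l ++ [x]).length := by
    rw [List.length_append, List.length_singleton]; omega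
  have h1 := h l.length hi' y
  rw [List.getElem_append_right (le_refl _)] at h1
  simp only [Nat.sub_self, List.getElem_cons_zero] at h1
  rw [List.take_left' rfl] at h1
  exact h1 hy

theorem reg_append_pow {l : List R} {x : R} (h : Reg (l ++ [x])) (n : ℕ) :
    Reg (l ++ [x ^ n]) := by
  refine reg_append_singleton (reg_prefix h) ?_
  have hx := reg_last h
  induction n with
  | zero => intro y hy; rwa [pow_zero, one_mul] at hy
  | succ n ih =>
    intro y hy
    rw [pow_succ, mul_assoc] at hy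
    exact hx y (ih _ hy)

end Reg

section Seq

variable {k : Type u} [Field k] {R : Type u} [CommRing R] [Algebra k R]
  (𝒜 : ℤ → Submodule k R) [GradedAlgebra 𝒜]
  (hpos : ∀ n : ℤ, n < 0 → 𝒜 n = ⊥) (h0 : 𝒜 0 = Submodule.span k {(1 : R)})

include hpos h0 in
theorem exists_regular_list_dvd [Nontrivial R] [Algebra.FiniteType k R]
    [hR : LocCoh.IsCohenMacaulayRing R] {r : ℕ} (hr : ringKrullDim R = r) (a : ℕ) (ha : 0 < a) :
    ∀ j, j ≤ r → ∃ l : List R, l.length = j ∧
      (∀ x ∈ l, ∃ n : ℕ, 0 < n ∧ x ∈ 𝒜 ((a * n : ℕ) : ℤ)) ∧ Reg l := by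
  intro j
  induction j with
  | zero =>
    intro _
    exact ⟨[], rfl, by simp, fun i hi => absurd hi (by simp)⟩
  | succ j ih =>
    intro hj
    obtain ⟨l, hlen, hhom, hl⟩ := ih (by omega)
    have hhom' : ∀ x ∈ l, ∃ n : ℕ, 0 < n ∧ x ∈ 𝒜 (n : ℤ) := by
      intro x hx
      obtain ⟨n, hn, hxn⟩ := hhom x hx
      exact ⟨a * n, Nat.mul_pos ha hn, hxn⟩
    obtain ⟨n, hn, x, hx, hreg⟩ := exists_next 𝒜 hpos h0 hr l hl hhom' (by omega)
    refine ⟨l ++ [x ^ a], by rw [List.length_append, hlen, List.length_singleton], ?_,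
      reg_append_pow hreg a⟩
    intro y hy
    rw [List.mem_append, List.mem_singleton] at hy
    rcases hy with hy | rfl
    · exact hhom y hy
    · refine ⟨n, hn, ?_⟩
      have h1 : x ^ a ∈ 𝒜 (a • (n : ℤ)) := SetLike.pow_mem_graded a hx
      have h2 : a • (n : ℤ) = ((a * n : ℕ) : ℤ) := by rw [nsmul_eq_mul]; push_cast; ring
      rwa [h2] at h1

include hpos h0 in
/-- a homogeneous regular sequence of length `dim R` whose degrees are multiples of `a` -/
theorem exists_regular_seq_dvd [Nontrivial R] [Algebra.FiniteType k R]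
    [hR : LocCoh.IsCohenMacaulayRing R] {r : ℕ} (hr : ringKrullDim R = r) (a : ℕ) (ha : 0 < a) :
    ∃ (f : Fin r → R) (c : Fin r → ℕ), (∀ i, 1 ≤ c i) ∧ (∀ i, f i ∈ 𝒜 ((a * c i : ℕ) : ℤ)) ∧
      Reg (List.ofFn f) := by
  classical
  obtain ⟨l, hlen, hhom, hl⟩ := exists_regular_list_dvd 𝒜 hpos h0 hr a ha r le_rfl
  subst hlen
  have hex : ∀ i : Fin l.length, ∃ n : ℕ, 0 < n ∧ l.get i ∈ 𝒜 ((a * n : ℕ) : ℤ) :=
    fun i => hhom _ (List.get_mem l i)
  choose d hd1 hd2 using hex
  refine ⟨fun i => l.get i, d, hd1, hd2, ?_⟩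
  rw [List.ofFn_get]
  exact hl

end Seq

section Tors

open MvPolynomial Groth.Agent.Lib.Helper87.SegreB

variable {k : Type u} [Field k] {R : Type u} [CommRing R] [Algebra k R]
  (𝒜 : ℤ → Submodule k R) [GradedAlgebra 𝒜]
  (hpos : ∀ n : ℤ, n < 0 → 𝒜 n = ⊥) (h0 : 𝒜 0 = Submodule.span k {(1 : R)})

include hpos h0 in
/-- in a one-dimensional graded ring, a power of the irrelevant ideal lies in `(z)` for a
homogeneous non-zero-divisor `z` of positive degree -/
theorem exists_irr_pow_le [Nontrivial R] [Algebra.FiniteType k R] (hdim : ringKrullDim R = 1)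
    {e : ℤ} (he : 0 < e) {z : R} (hz : z ∈ 𝒜 e) (hreg : ∀ y : R, z * y = 0 → y = 0) :
    ∃ N : ℕ, irr 𝒜 ^ N ≤ Ideal.span {z} := by
  classical
  haveI : IsNoetherianRing R := Algebra.FiniteType.isNoetherianRing k R
  haveI hmax := irr_isMaximal 𝒜 hpos h0
  have hJ : (Ideal.span {z}).IsHomogeneous 𝒜 := by
    apply Ideal.homogeneous_span
    intro w hw
    rw [Set.mem_singleton_iff] at hw
    subst hw
    exact ⟨_, hz⟩
  have hzirr : z ∈ irr 𝒜 := by
    apply Ideal.subset_span
    simp only [Set.mem_iUnion, Set.mem_Ioi]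
    exact ⟨e, he, hz⟩
  have hht : (irr 𝒜).height = 1 := by
    have h1 := ringKrullDim_eq_height_irr 𝒜 hpos h0
    rw [hdim] at h1
    have h2 : ((1 : ℕ∞) : WithBot ℕ∞) = ((irr 𝒜).height : WithBot ℕ∞) := h1
    exact (WithBot.coe_injective h2).symm
  have hle : irr 𝒜 ≤ (Ideal.span {z}).radical := by
    rw [← Ideal.sInf_minimalPrimes]
    apply le_sInf
    intro P hP
    haveI hPprime : P.IsPrime := hP.1.1
    have hPhom := isHomogeneous_of_mem_minimalPrimes 𝒜 hpos h0 hJ hP
    have hPle : P ≤ irr 𝒜 := le_irr 𝒜 hpos h0 hPhom hPprime.ne_top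
    by_contra hcon
    have hlt : P < irr 𝒜 := lt_of_le_of_ne hPle (fun h => hcon (h ▸ le_rfl))
    have hzP : z ∈ P := hP.1.2 (Ideal.mem_span_singleton_self z)
    -- `P` is not a minimal prime of `R`
    have hnotmin : P ∉ minimalPrimes R := by
      intro hmin
      have hdisj := Ideal.disjoint_nonZeroDivisors_of_mem_minimalPrimes hmin
      have hznzd : z ∈ nonZeroDivisors R := by
        rw [mem_nonZeroDivisors_iff_right]
        intro y hy
        exact hreg y (by rw [mul_comm]; exact hy)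
      exact Set.disjoint_left.mp hdisj hzP hznzd
    obtain ⟨Q, hQmin, hQle⟩ := Ideal.exists_minimalPrimes_le (show (⊥ : Ideal R) ≤ P from bot_le)
    haveI hQprime : Q.IsPrime := hQmin.1.1
    have hQlt : Q < P := lt_of_le_of_ne hQle (fun h => hnotmin (h ▸ hQmin))
    have h1 : Q.height < P.height := Ideal.height_strict_mono_of_isPrime hQlt
    have h2 : P.height < (irr 𝒜).height := Ideal.height_strict_mono_of_isPrime hlt
    rw [hht] at h2
    have h3 : P.height = 0 := ENat.lt_one_iff_eq_zero.mp h2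
    rw [h3] at h1
    exact absurd h1 (by simp)
  exact Ideal.exists_pow_le_of_le_radical_of_fg hle (IsNoetherian.noetherian _)

include hpos h0 in
/-- high degree pieces lie in high powers of the irrelevant ideal -/
theorem exists_piece_le_irr_pow [Algebra.FiniteType k R] (N : ℕ) :
    ∃ N₀ : ℕ, ∀ m : ℕ, N₀ ≤ m → ∀ a ∈ 𝒜 (m : ℤ), a ∈ irr 𝒜 ^ N := by
  classical
  obtain ⟨g, x, e, he, hx, hgen⟩ := exists_generators 𝒜 hpos h0
  set E : ℕ := ∑ i, e i with hE
  refine ⟨N * E + 1, fun m hm a ha => ?_⟩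
  have h1 := le_monSpan 𝒜 x e hx hgen (m : ℤ) ha
  unfold monSpan at h1
  refine Submodule.span_induction (p := fun y _ => y ∈ irr 𝒜 ^ N) ?_ ?_ ?_ ?_ h1
  · rintro _ ⟨d, hd, rfl⟩
    rw [aeval_monomial, map_one, one_mul, Finsupp.prod_pow]
    have hxirr : ∀ i, x i ∈ irr 𝒜 := by
      intro i
      apply Ideal.subset_span
      simp only [Set.mem_iUnion, Set.mem_Ioi]
      exact ⟨(e i : ℤ), by exact_mod_cast he i, hx i⟩
    have h2 : ∏ i, x i ^ d i ∈ irr 𝒜 ^ (∑ i, d i) := by
      rw [← Finset.prod_pow_eq_pow_sum]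
      exact Ideal.prod_mem_prod fun i _ => Ideal.pow_mem_pow (hxirr i) (d i)
    have h3 : N ≤ ∑ i, d i := by
      have hw : Finsupp.weight e d = m := by exact_mod_cast hd
      rw [Finsupp.weight_eq_sum] at hw
      simp only [smul_eq_mul] at hw
      have h4 : ∑ i, d i * e i ≤ (∑ i, d i) * E := by
        rw [Finset.sum_mul]
        refine Finset.sum_le_sum fun i _ => ?_
        refine Nat.mul_le_mul_left _ ?_
        rw [hE]
        exact Finset.single_le_sum (fun j _ => Nat.zero_le _) (Finset.mem_univ i)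
      have h5 : N * E < (∑ i, d i) * E := by
        rw [hw] at h4
        omega
      exact (Nat.lt_of_mul_lt_mul_right h5).le
    exact Ideal.pow_le_pow_right h3 h2
  · exact zero_mem _
  · intro y y' _ _ hy hy'
    exact add_mem hy hy'
  · intro c y _ hy
    rw [Algebra.smul_def]
    exact Ideal.mul_mem_left _ _ hy

include hpos h0 in
theorem exists_piece_le_span [Nontrivial R] [Algebra.FiniteType k R] (hdim : ringKrullDim R = 1)
    {e : ℤ} (he : 0 < e) {z : R} (hz : z ∈ 𝒜 e) (hreg : ∀ y : R, z * y = 0 → y = 0) :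
    ∃ N₀ : ℕ, ∀ m : ℕ, N₀ ≤ m → ∀ a ∈ 𝒜 (m : ℤ), a ∈ Ideal.span {z} := by
  obtain ⟨N, hN⟩ := exists_irr_pow_le 𝒜 hpos h0 hdim he hz hreg
  obtain ⟨N₀, hN₀⟩ := exists_piece_le_irr_pow 𝒜 hpos h0 N
  exact ⟨N₀, fun m hm a ha => hN (hN₀ m hm a ha)⟩

end Tors

end Groth.Agent.Lib.Helper87.SegSeqA
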