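import Mathlib
import Groth.Prelude.Def_GrLC
import Groth.Agent.Lib.Helper77.GLC5
import Groth.Agent.Lib.Helper66.GradedQuot
import Groth.Agent.Lib.Helper87.SegSeqA
import Groth.Agent.Lib.Helper87.GrHtC
import Groth.Agent.Lib.Helper87.GrSuppDimA
import Groth.Agent.Lib.Helper87.ModHilbG
import Groth.Agent.Lib.Helper29.AssDepth

/-!
# `H^1_m(M)_n` of a one-dimensional graded module via quotients by a homogeneous regular element
-/

set_option autoImplicit false
set_option linter.style.haveILetI false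
set_option linter.unusedSectionVars false
universe u

namespace Groth.Agent.Lib.Helper87.SegModD

open GrLC DirectSum Groth.Agent.Lib.Helper77.GLC Groth.Agent.Lib.Helper66.GradedQuot
open Pointwise

section General

variable {R : Type u} [CommRing R] (𝒜 : ℤ → AddSubgroup R) [GradedRing 𝒜]
  {M : Type u} [AddCommGroup M] [Module R M] (ℳ : ℤ → AddSubgroup M)
  [DirectSum.Decomposition ℳ] [SetLike.GradedSMul 𝒜 ℳ]

/-- components of `z • w` for homogeneous `z` -/
theorem coe_decompose_smul_of_mem {e : ℤ} {z : R} (hz : z ∈ 𝒜 e) (w : M) (i : ℤ) :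
    ((decompose ℳ (z • w) i : ℳ i) : M) = z • ((decompose ℳ w (i - e) : ℳ (i - e)) : M) := by
  classical
  induction w using DirectSum.Decomposition.inductionOn ℳ with
  | zero => simp
  | @homogeneous j w =>
    have hzw : z • (w : M) ∈ ℳ (e + j) := by
      have := SetLike.GradedSMul.smul_mem (A := 𝒜) (B := ℳ) hz w.2
      rwa [vadd_eq_add] at this
    by_cases h : e + j = i
    · subst h
      have hw' : (w : M) ∈ ℳ (e + j - e) := by rw [add_sub_cancel_left]; exact w.2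
      rw [decompose_of_mem_same ℳ hzw, decompose_of_mem_same ℳ hw']
    · have h' : j ≠ i - e := fun h' => h (by rw [h']; ring)
      rw [decompose_of_mem_ne ℳ hzw h, decompose_of_mem_ne ℳ w.2 h', smul_zero]
  | add w w' hw hw' =>
    rw [smul_add, decompose_add, decompose_add, DirectSum.add_apply, DirectSum.add_apply,
      AddSubgroup.coe_add, AddSubgroup.coe_add, hw, hw', smul_add]

/-- components of `r • x` for homogeneous `x` -/
theorem coe_decompose_smul_of_mem_right {j : ℤ} {x : M} (hx : x ∈ ℳ j) (r : R) (i : ℤ) :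
    ((decompose ℳ (r • x) i : ℳ i) : M) = ((decompose 𝒜 r (i - j) : 𝒜 (i - j)) : R) • x := by
  classical
  induction r using DirectSum.Decomposition.inductionOn 𝒜 with
  | zero => simp
  | @homogeneous c r =>
    have hrx : (r : R) • x ∈ ℳ (c + j) := by
      have := SetLike.GradedSMul.smul_mem (A := 𝒜) (B := ℳ) r.2 hx
      rwa [vadd_eq_add] at this
    by_cases h : c + j = i
    · subst h
      have hr' : (r : R) ∈ 𝒜 (c + j - j) := by rw [add_sub_cancel_right]; exact r.2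
      rw [decompose_of_mem_same ℳ hrx, decompose_of_mem_same 𝒜 hr']
    · have h' : c ≠ i - j := fun h' => h (by rw [h']; ring)
      rw [decompose_of_mem_ne ℳ hrx h, decompose_of_mem_ne 𝒜 r.2 h', zero_smul]
  | add r r' hr hr' =>
    rw [add_smul, decompose_add, decompose_add, DirectSum.add_apply, DirectSum.add_apply,
      AddSubgroup.coe_add, AddSubgroup.coe_add, hr, hr', add_smul]

/-- `z M` is a homogeneous submodule -/
theorem range_smul_isHomogeneous {e : ℤ} {z : R} (hz : z ∈ 𝒜 e) :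
    (LinearMap.range (z • (LinearMap.id : M →ₗ[R] M))).IsHomogeneous ℳ := by
  rintro i _ ⟨w, rfl⟩
  rw [LinearMap.smul_apply, LinearMap.id_apply, coe_decompose_smul_of_mem 𝒜 ℳ hz]
  exact ⟨_, by rw [LinearMap.smul_apply, LinearMap.id_apply]⟩

variable [IsNoetherianRing R]

/-- `H^1_a(M)_n = 0` forces `M_{n+e} ⊆ z M` when `M/zM` is `a`-torsion. -/
theorem le_smul_of_HV (a : Ideal R) (E : StarInjRes 𝒜 ℳ) {e : ℤ} {z : R} (hz : z ∈ 𝒜 e)
    (hza : z ∈ a) (hreg : ∀ y : M, z • y = 0 → y = 0) {N : ℕ}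
    (hN : ∀ c ∈ a ^ N, ∀ y : M, ∃ w : M, c • y = z • w)
    {n : ℤ} (h : HV E a 1 n) : ∀ r ∈ ℳ (n + e), ∃ w : M, r = z • w := by
  classical
  set J : Submodule R M := LinearMap.range (z • (LinearMap.id : M →ₗ[R] M)) with hJ
  have hJhom : J.IsHomogeneous ℳ := range_smul_isHomogeneous 𝒜 ℳ hz
  letI := quotDecomposition ℳ J hJhom
  letI := quotGradedSMul 𝒜 ℳ J
  obtain ⟨EQ⟩ := exists_res (𝒜 := 𝒜) (M ⧸ J) (qpiece ℳ J)
  have hinj : Function.Injective (fun y : M => z • y) := by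
    intro y y' hyy
    have h1 : z • (y - y') = 0 := by
      rw [smul_sub, sub_eq_zero]
      exact hyy
    exact sub_eq_zero.mp (hreg _ h1)
  have hker : LinearMap.ker J.mkQ = LinearMap.range (z • (LinearMap.id : M →ₗ[R] M)) := by
    rw [Submodule.ker_mkQ]
  have h0 : HV E a 0 (n + e) := HV_zero_of_regular E hza hinj (n + e)
  have h1 : HV E a 1 (-e + (n + e)) := by
    have : -e + (n + e) = n := by ring
    rw [this]
    exact h
  have hQ : HV EQ a 0 (n + e) :=
    HV_quot E EQ hz hinj J.mkQ (mkQ_grHom ℳ J) (Submodule.mkQ_surjective J) hker h0 h1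
  rw [HV_zero_iff] at hQ
  intro r hr
  have h2 : J.mkQ r = 0 := by
    apply hQ _ (mk_mem_qpiece ℳ J hr)
    refine ⟨N, fun c hc => ?_⟩
    obtain ⟨w, hw⟩ := hN c hc r
    rw [← map_smul, Submodule.mkQ_apply, Submodule.Quotient.mk_eq_zero, hw]
    exact ⟨w, by rw [LinearMap.smul_apply, LinearMap.id_apply]⟩
  have h3 : r ∈ J := (Submodule.Quotient.mk_eq_zero J).mp h2
  obtain ⟨w, hw⟩ := h3
  exact ⟨w, by rw [← hw, LinearMap.smul_apply, LinearMap.id_apply]⟩

/-- if all `M_{n + j e}`, `j ≥ 1`, lie in `z M` then `H^1_a(M)_n = 0` -/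
theorem HV_of_le_smul (a : Ideal R) (E : StarInjRes 𝒜 ℳ) {e : ℤ} {z : R} (hz : z ∈ 𝒜 e)
    (hza : z ∈ a) (hreg : ∀ y : M, z • y = 0 → y = 0) {n : ℤ}
    (h : ∀ j : ℕ, 1 ≤ j → ∀ r ∈ ℳ (n + j * e), ∃ w : M, r = z • w) : HV E a 1 n := by
  classical
  set J : Submodule R M := LinearMap.range (z • (LinearMap.id : M →ₗ[R] M)) with hJ
  have hJhom : J.IsHomogeneous ℳ := range_smul_isHomogeneous 𝒜 ℳ hz
  letI := quotDecomposition ℳ J hJhom
  letI := quotGradedSMul 𝒜 ℳ J
  obtain ⟨EQ⟩ := exists_res (𝒜 := 𝒜) (M ⧸ J) (qpiece ℳ J)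
  have hinj : Function.Injective (fun y : M => z • y) := by
    intro y y' hyy
    have h1 : z • (y - y') = 0 := by
      rw [smul_sub, sub_eq_zero]
      exact hyy
    exact sub_eq_zero.mp (hreg _ h1)
  have hker : LinearMap.ker J.mkQ = LinearMap.range (z • (LinearMap.id : M →ₗ[R] M)) := by
    rw [Submodule.ker_mkQ]
  set S : Set ℤ := {g | ∃ j : ℕ, 1 ≤ j ∧ g = n + j * e} with hS
  have hSup : ∀ g ∈ S, e + g ∈ S := by
    rintro g ⟨j, hj, rfl⟩
    exact ⟨j + 1, by omega, by push_cast; ring⟩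
  have hQ : ∀ g ∈ S, HV EQ a 0 g := by
    rintro g ⟨j, hj, rfl⟩
    rw [HV_zero_iff]
    rintro q ⟨r, hr, rfl⟩ _
    obtain ⟨w, hw⟩ := h j hj r hr
    refine (Submodule.Quotient.mk_eq_zero J).mpr ?_
    exact ⟨w, by rw [hw, LinearMap.smul_apply, LinearMap.id_apply]⟩
  exact HV_succ_of_quot E EQ hz hinj J.mkQ (mkQ_grHom ℳ J) (Submodule.mkQ_surjective J) hker
    hza 0 S hSup hQ n ⟨1, le_rfl, by push_cast; ring⟩

end General

section Field

open Groth.Agent.Lib.Helper87.ModHilbG Groth.Agent.Lib.Helper87.SegSeqA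
open Groth.Agent.Lib.Helper29

variable {k : Type u} [Field k] {R : Type u} [CommRing R] [Algebra k R]
  (𝒜 : ℤ → Submodule k R) [GradedAlgebra 𝒜]
  (hpos : ∀ n : ℤ, n < 0 → 𝒜 n = ⊥) (h0 : 𝒜 0 = Submodule.span k {(1 : R)})
  {M : Type u} [AddCommGroup M] [Module R M] (ℳ : ℤ → AddSubgroup M)
  [DirectSum.Decomposition ℳ] [SetLike.GradedSMul 𝒜 ℳ]

include hpos h0 ℳ in
/-- for a one-dimensional graded module with a homogeneous regular element `z`, the only prime
of the support containing `z` is the irrelevant ideal -/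
theorem eq_irr_of_mem [Algebra.FiniteType k R] [Module.Finite R M] [Nontrivial M]
    (hdim : Module.supportDim R M = 1) {e : ℤ} {z : R} (hz : z ∈ 𝒜 e)
    (hreg : IsSMulRegular M z) (P : Ideal R) [hP : P.IsPrime]
    (hann : Module.annihilator R M ≤ P) (hzP : z ∈ P) : P = irr 𝒜 := by
  classical
  haveI : Nontrivial R := Module.nontrivial R M
  haveI : IsNoetherianRing R := Algebra.FiniteType.isNoetherianRing k R
  haveI hmax := irr_isMaximal 𝒜 hpos h0
  haveI hirrp : (irr 𝒜).IsPrime := hmax.isPrime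
  haveI hcore := Groth.Agent.Lib.Helper87.GrHtC.core_isPrime (𝒜 := flat 𝒜) P
  set Q := (Ideal.homogeneousCore (flat 𝒜) P).toIdeal with hQ
  have hannhom : (Module.annihilator R M).IsHomogeneous 𝒜 := annihilator_isHomogeneous 𝒜 ℳ
  have hannhom' : (Module.annihilator R M).IsHomogeneous (flat 𝒜) := by
    intro i x hx
    have := hannhom i hx
    rwa [← coe_decompose_flat] at this
  have hannQ : Module.annihilator R M ≤ Q :=
    Groth.Agent.Lib.Helper87.GrSuppDimA.le_core_of_isHomogeneous (flat 𝒜) hannhom' hann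
  have hzQ : z ∈ Q := Ideal.mem_homogeneousCore_of_homogeneous_of_mem ⟨e, hz⟩ hzP
  have hQhom : Q.IsHomogeneous 𝒜 := by
    intro i x hx
    have := (Ideal.homogeneousCore (flat 𝒜) P).isHomogeneous i hx
    rwa [coe_decompose_flat] at this
  have hQle : Q ≤ irr 𝒜 := le_irr 𝒜 hpos h0 hQhom hcore.ne_top
  have hanntop : Module.annihilator R M ≠ ⊤ := by
    rw [Ne, Module.annihilator_eq_top_iff]
    exact not_subsingleton M
  have hannirr : Module.annihilator R M ≤ irr 𝒜 := le_irr 𝒜 hpos h0 hannhom hanntop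
  have hk : Order.krullDim (Module.support R M) ≤ 1 := by
    have := hdim
    unfold Module.supportDim at this
    rw [this]
  have hQs : (⟨Q, hcore⟩ : PrimeSpectrum R) ∈ Module.support R M :=
    Module.mem_support_iff_of_finite.mpr hannQ
  have hirrs : (⟨irr 𝒜, hirrp⟩ : PrimeSpectrum R) ∈ Module.support R M :=
    Module.mem_support_iff_of_finite.mpr hannirr
  rcases (Order.krullDim_le_one_iff.mp hk) ⟨⟨Q, hcore⟩, hQs⟩ with hmin | hmaxQ
  · exfalso
    have hQmin : Q ∈ (Module.annihilator R M).minimalPrimes := by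
      refine ⟨⟨hcore, hannQ⟩, ?_⟩
      rintro P' ⟨hP'prime, hP'ann⟩ hP'Q
      have hP's : (⟨P', hP'prime⟩ : PrimeSpectrum R) ∈ Module.support R M :=
        Module.mem_support_iff_of_finite.mpr hP'ann
      exact hmin (b := ⟨⟨P', hP'prime⟩, hP's⟩) hP'Q
    have hass := Module.associatedPrimes.minimalPrimes_annihilator_subset_associatedPrimes R M hQmin
    have hnreg : ¬ IsSMulRegular M z := by
      rw [not_isSMulRegular_iff_mem_biUnion_ass]
      simp only [Set.mem_iUnion]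
      exact ⟨Q, hass, hzQ⟩
    exact hnreg hreg
  · have h1 : irr 𝒜 ≤ Q := hmaxQ (b := ⟨⟨irr 𝒜, hirrp⟩, hirrs⟩) hQle
    have h2 : irr 𝒜 ≤ P := h1.trans (Ideal.toIdeal_homogeneousCore_le _ P)
    exact (hmax.eq_of_le hP.ne_top h2).symm

include hpos h0 ℳ in
/-- `M / z M` is killed by a power of the irrelevant ideal -/
theorem exists_irr_pow_smul_le [Algebra.FiniteType k R] [Module.Finite R M] [Nontrivial M]
    (hdim : Module.supportDim R M = 1) {e : ℤ} {z : R} (hz : z ∈ 𝒜 e)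
    (hreg : IsSMulRegular M z) :
    ∃ N : ℕ, ∀ c ∈ irr 𝒜 ^ N, ∀ y : M, ∃ w : M, c • y = z • w := by
  classical
  haveI : IsNoetherianRing R := Algebra.FiniteType.isNoetherianRing k R
  set I := Module.annihilator R (QuotSMulTop z M) with hI
  have hannI : Module.annihilator R M ≤ I := by
    intro r hr
    rw [hI, Module.mem_annihilator]
    intro q
    obtain ⟨y, rfl⟩ := Submodule.Quotient.mk_surjective _ q
    rw [← Submodule.Quotient.mk_smul, Module.mem_annihilator.mp hr y, Submodule.Quotient.mk_zero]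
  have hzI : z ∈ I := by
    rw [hI, Module.mem_annihilator]
    intro q
    obtain ⟨y, rfl⟩ := Submodule.Quotient.mk_surjective _ q
    rw [← Submodule.Quotient.mk_smul, Submodule.Quotient.mk_eq_zero]
    exact Submodule.smul_mem_pointwise_smul _ _ _ Submodule.mem_top
  have hle : irr 𝒜 ≤ I.radical := by
    rw [Ideal.radical_eq_sInf]
    apply le_sInf
    rintro P ⟨hIP, hPprime⟩
    rw [eq_irr_of_mem 𝒜 hpos h0 ℳ hdim hz hreg P (hannI.trans hIP) (hIP hzI)]
  obtain ⟨N, hN⟩ := Ideal.exists_pow_le_of_le_radical_of_fg hle (IsNoetherian.noetherian _)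
  refine ⟨N, fun c hc y => ?_⟩
  have h1 := Module.mem_annihilator.mp (hN hc) (Submodule.Quotient.mk y)
  rw [← Submodule.Quotient.mk_smul, Submodule.Quotient.mk_eq_zero,
    Submodule.mem_smul_pointwise_iff_exists] at h1
  obtain ⟨w, -, hw⟩ := h1
  exact ⟨w, hw.symm⟩

include hpos h0 ℳ in
/-- high degree pieces of a one-dimensional graded module lie in `z M` -/
theorem exists_piece_le_smul [Algebra.FiniteType k R] [Module.Finite R M] [Nontrivial M]
    (hdim : Module.supportDim R M = 1) {e : ℤ} {z : R} (hz : z ∈ 𝒜 e)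
    (hreg : IsSMulRegular M z) :
    ∃ N₀ : ℤ, ∀ g : ℤ, N₀ ≤ g → ∀ m ∈ ℳ g, ∃ w : M, m = z • w := by
  classical
  obtain ⟨N, hN⟩ := exists_irr_pow_smul_le 𝒜 hpos h0 ℳ hdim hz hreg
  obtain ⟨N₁, hN₁⟩ := exists_piece_le_irr_pow 𝒜 hpos h0 N
  obtain ⟨S, hS⟩ := (Module.Finite.fg_top : (⊤ : Submodule R M).FG)
  set I : Finset ℤ := S.biUnion (fun s => (decompose ℳ s).support) with hIdef
  obtain ⟨B, hB⟩ := I.exists_le
  set J : Submodule R M := LinearMap.range (z • (LinearMap.id : M →ₗ[R] M)) with hJ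
  refine ⟨N₁ + B, fun g hg m hm => ?_⟩
  have key1 : ∀ (j : ℤ) (x : M), x ∈ ℳ j → j ≤ B → ∀ r : R,
      ((decompose ℳ (r • x) g : ℳ g) : M) ∈ J := by
    intro j x hx hj r
    rw [coe_decompose_smul_of_mem_right (flat 𝒜) ℳ hx r g, coe_decompose_flat]
    have hdeg : (N₁ : ℤ) ≤ g - j := by omega
    obtain ⟨d, hd⟩ := Int.eq_ofNat_of_zero_le (le_trans (Int.natCast_nonneg N₁) hdeg)
    have hall : ∀ a ∈ 𝒜 (g - j), a ∈ irr 𝒜 ^ N := by
      rw [hd]
      exact hN₁ d (by omega)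
    obtain ⟨w, hw⟩ := hN _ (hall _ (SetLike.coe_mem _)) x
    rw [hw]
    exact ⟨w, by rw [LinearMap.smul_apply, LinearMap.id_apply]⟩
  have key2 : ∀ s ∈ S, ∀ r : R, ((decompose ℳ (r • s) g : ℳ g) : M) ∈ J := by
    intro s hs r
    have hrs : r • s = ∑ i ∈ (decompose ℳ s).support, r • ((decompose ℳ s i : ℳ i) : M) := by
      conv_lhs => rw [← DirectSum.sum_support_decompose ℳ s, Finset.smul_sum]
    rw [hrs, decompose_sum, DFinsupp.finsetSum_apply, AddSubmonoidClass.coe_finsetSum]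
    refine J.sum_mem fun i hi => ?_
    refine key1 i _ (SetLike.coe_mem _) (hB i ?_) r
    rw [hIdef, Finset.mem_biUnion]
    exact ⟨s, hs, hi⟩
  have hmS : m ∈ Submodule.span R (S : Set M) := by rw [hS]; exact Submodule.mem_top
  obtain ⟨f, -, hf⟩ := Submodule.mem_span_finset.mp hmS
  have hmJ : m ∈ J := by
    have h1 : ((decompose ℳ m g : ℳ g) : M) = m := decompose_of_mem_same ℳ hm
    rw [← h1, ← hf, decompose_sum, DFinsupp.finsetSum_apply, AddSubmonoidClass.coe_finsetSum]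
    exact J.sum_mem fun s hs => key2 s hs (f s)
  obtain ⟨w, hw⟩ := hmJ
  exact ⟨w, by rw [← hw, LinearMap.smul_apply, LinearMap.id_apply]⟩

variable (mR : HomogeneousIdeal 𝒜)
  (hmR : mR.toIdeal = Ideal.span (⋃ n ∈ Set.Ioi (0 : ℤ), (𝒜 n : Set R)))
  (EM : GrLC.StarInjRes 𝒜 ℳ)

include hpos h0 hmR in
theorem le_smul_of_Hcomp_eq_bot [Algebra.FiniteType k R] [Module.Finite R M] [Nontrivial M]
    (hdim : Module.supportDim R M = 1) {e : ℤ} (he : 0 < e) {z : R} (hz : z ∈ 𝒜 e)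
    (hreg : IsSMulRegular M z) {n : ℤ} (h : EM.Hcomp mR 1 n = ⊥) :
    ∀ r ∈ ℳ (n + e), ∃ w : M, r = z • w := by
  haveI : IsNoetherianRing R := Algebra.FiniteType.isNoetherianRing k R
  rw [Hcomp_eq_bot_iff] at h
  obtain ⟨N, hN⟩ := exists_irr_pow_smul_le 𝒜 hpos h0 ℳ hdim hz hreg
  have hirr : irr 𝒜 = mR.toIdeal := hmR.symm
  have hza : z ∈ mR.toIdeal := by
    rw [hmR]
    apply Ideal.subset_span
    simp only [Set.mem_iUnion, Set.mem_Ioi]
    exact ⟨e, he, hz⟩
  have hreg' : ∀ y : M, z • y = 0 → y = 0 := fun y hy =>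
    hreg (show z • y = z • 0 by rw [hy, smul_zero])
  exact le_smul_of_HV (flat 𝒜) (flat ℳ) mR.toIdeal (flatRes 𝒜 EM) hz hza hreg' (N := N)
    (by rw [← hirr]; exact hN) ((HV_flatRes_iff EM _ _ _).mpr h)

include hmR in
theorem Hcomp_eq_bot_of_le_smul [IsNoetherianRing R] {e : ℤ} (he : 0 < e) {z : R}
    (hz : z ∈ 𝒜 e) (hreg : IsSMulRegular M z) {n : ℤ}
    (h : ∀ j : ℕ, 1 ≤ j → ∀ r ∈ ℳ (n + j * e), ∃ w : M, r = z • w) :
    EM.Hcomp mR 1 n = ⊥ := by
  rw [Hcomp_eq_bot_iff]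
  have hza : z ∈ mR.toIdeal := by
    rw [hmR]
    apply Ideal.subset_span
    simp only [Set.mem_iUnion, Set.mem_Ioi]
    exact ⟨e, he, hz⟩
  have hreg' : ∀ y : M, z • y = 0 → y = 0 := fun y hy =>
    hreg (show z • y = z • 0 by rw [hy, smul_zero])
  exact (HV_flatRes_iff EM _ _ _).mp
    (HV_of_le_smul (flat 𝒜) (flat ℳ) mR.toIdeal (flatRes 𝒜 EM) hz hza hreg' h)

end Field

end Groth.Agent.Lib.Helper87.SegModD
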