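import Mathlib
import Groth.Prelude.Def_GrSeg
import Groth.Agent.Lib.Helper99.SegreFin
import Groth.Agent.Lib.Helper87.SegModD
import Groth.Agent.Lib.Helper87.APolyE

/-!
# Regular sequences on a Segre product `M # N` with `dim M = 1`
-/

set_option autoImplicit false
set_option linter.style.haveILetI false
set_option linter.unusedSectionVars false
universe u
open scoped TensorProduct

namespace Groth.Agent.Lib.Helper87.SegModB

open Groth.Agent.Lib.Helper99.Segre Groth.Agent.Lib.Helper99.SegreFin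
open Groth.Agent.Lib.Helper77.GLC Groth.Agent.Lib.Helper87.APolyE

section Proj

variable {k : Type u} [Field k] {R : Type u} [CommRing R] [Algebra k R]
  (𝒜 : ℤ → Submodule k R) [GradedAlgebra 𝒜]
  {S : Type u} [CommRing S] [Algebra k S] (ℬ : ℤ → Submodule k S) [GradedAlgebra ℬ]
  {M : Type u} [AddCommGroup M] [Module R M] [Module k M] [IsScalarTower k R M]
  (ℳ : ℤ → AddSubgroup M) [DirectSum.Decomposition ℳ] [SetLike.GradedSMul 𝒜 ℳ]
  {N : Type u} [AddCommGroup N] [Module S N] [Module k N] [IsScalarTower k S N]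
  (𝒩 : ℤ → AddSubgroup N) [DirectSum.Decomposition 𝒩] [SetLike.GradedSMul ℬ 𝒩]

/-- components of `z • w` for homogeneous `z` -/
theorem proj_smul_left {e : ℤ} {z : R} (hz : z ∈ 𝒜 e) (w : M) (g : ℤ) :
    proj 𝒜 ℳ g (z • w) = z • proj 𝒜 ℳ (g - e) w := by
  rw [proj_apply, proj_apply]
  exact Groth.Agent.Lib.Helper87.SegModD.coe_decompose_smul_of_mem (flat 𝒜) ℳ hz w g

theorem proj_of_mem_ne {g g' : ℤ} (hne : g' ≠ g) {x : M} (hx : x ∈ ℳ g') :
    proj 𝒜 ℳ g x = 0 := by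
  rw [proj_apply, DirectSum.decompose_of_mem_ne ℳ hx hne]

/-- the projection onto the bidegree `(g, g)` part of `M ⊗ N` -/
noncomputable def PE (g : ℤ) : M ⊗[k] N →ₗ[k] M ⊗[k] N :=
  TensorProduct.map (proj 𝒜 ℳ g) (proj ℬ 𝒩 g)

theorem PE_tmul (g : ℤ) (m : M) (n : N) :
    PE 𝒜 ℬ ℳ 𝒩 g (m ⊗ₜ[k] n) = (proj 𝒜 ℳ g m) ⊗ₜ[k] (proj ℬ 𝒩 g n) := by
  unfold PE
  rw [TensorProduct.map_tmul]

theorem PE_of_mem {g : ℤ} {z : M ⊗[k] N} (hz : z ∈ GrSeg.segrePiece k ℳ 𝒩 g) :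
    PE 𝒜 ℬ ℳ 𝒩 g z = z := by
  unfold GrSeg.segrePiece at hz
  induction hz using Submodule.span_induction with
  | mem z hz =>
    obtain ⟨a, ha, b, hb, rfl⟩ := hz
    rw [PE_tmul, proj_of_mem 𝒜 ℳ ha, proj_of_mem ℬ 𝒩 hb]
  | zero => rw [map_zero]
  | add z z' _ _ hz hz' => rw [map_add, hz, hz']
  | smul c z _ hz => rw [map_smul, hz]

theorem PE_of_mem_ne {g g' : ℤ} (hne : g' ≠ g) {z : M ⊗[k] N}
    (hz : z ∈ GrSeg.segrePiece k ℳ 𝒩 g') : PE 𝒜 ℬ ℳ 𝒩 g z = 0 := by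
  unfold GrSeg.segrePiece at hz
  induction hz using Submodule.span_induction with
  | mem z hz =>
    obtain ⟨a, ha, b, hb, rfl⟩ := hz
    rw [PE_tmul, proj_of_mem_ne 𝒜 ℳ hne ha, TensorProduct.zero_tmul]
  | zero => rw [map_zero]
  | add z z' _ _ hz hz' => rw [map_add, hz, hz', add_zero]
  | smul c z _ hz => rw [map_smul, hz, smul_zero]

/-- the part of the Segre piece lying over the submodule `W ⊆ N` -/
def segJ (W : Submodule S N) (g : ℤ) : Submodule k (M ⊗[k] N) :=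
  Submodule.span k {z : M ⊗[k] N | ∃ m ∈ ℳ g, ∃ n ∈ 𝒩 g, n ∈ W ∧ z = m ⊗ₜ[k] n}

/-- `M ⊗ N → M ⊗ N/W` -/
noncomputable def ΦW (W : Submodule S N) : M ⊗[k] N →ₗ[k] M ⊗[k] (N ⧸ W) :=
  LinearMap.lTensor M (W.mkQ.restrictScalars k)

omit [IsScalarTower k R M] in
theorem ΦW_tmul (W : Submodule S N) (m : M) (n : N) :
    ΦW (k := k) (M := M) W (m ⊗ₜ[k] n) = m ⊗ₜ[k] (Submodule.Quotient.mk n : N ⧸ W) := by
  unfold ΦW
  rw [LinearMap.lTensor_tmul]
  rfl

theorem PE_mem_segJ_of_ΦW_eq_zero (W : Submodule S N)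
    (hW : ∀ g : ℤ, ∀ n ∈ W, proj ℬ 𝒩 g n ∈ W) (g : ℤ) {z : M ⊗[k] N}
    (hz : ΦW (k := k) (M := M) W z = 0) : PE 𝒜 ℬ ℳ 𝒩 g z ∈ segJ ℳ 𝒩 W g := by
  classical
  set f : (W.restrictScalars k) →ₗ[k] N := (W.restrictScalars k).subtype with hf
  set q : N →ₗ[k] N ⧸ W := W.mkQ.restrictScalars k with hq
  have hex : Function.Exact f q := by
    intro b
    constructor
    · intro hb
      have hbW : b ∈ W := (Submodule.Quotient.mk_eq_zero W).mp hb
      exact ⟨⟨b, hbW⟩, rfl⟩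
    · rintro ⟨b', rfl⟩
      exact (Submodule.Quotient.mk_eq_zero W).mpr b'.2
  have hsurj : Function.Surjective q := Submodule.mkQ_surjective W
  have hex2 := lTensor_exact M hex hsurj
  unfold ΦW at hz
  obtain ⟨z', rfl⟩ := (hex2 z).mp hz
  clear hz
  induction z' using TensorProduct.induction_on with
  | zero => rw [map_zero, map_zero]; exact zero_mem _
  | tmul a b =>
    rw [LinearMap.lTensor_tmul, PE_tmul]
    refine Submodule.subset_span ⟨_, proj_mem 𝒜 ℳ g a, _, proj_mem ℬ 𝒩 g _, ?_, rfl⟩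
    exact hW g _ b.2
  | add z z' hz hz' => rw [map_add, map_add]; exact add_mem hz hz'

end Proj

section Span

variable {S : Type u} [CommRing S] {N : Type u} [AddCommGroup N] [Module S N]
  {ι : Type} [Fintype ι] (y : ι → S)

theorem exists_sum_of_mem {n : N}
    (hn : n ∈ Ideal.span (Set.range y) • (⊤ : Submodule S N)) :
    ∃ d : ι → N, n = ∑ l, y l • d l := by
  classical
  refine Submodule.smul_induction_on hn ?_ ?_
  · intro r hr n' _
    obtain ⟨cc, hcc⟩ := (Ideal.mem_span_range_iff_exists_fun).mp hr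
    refine ⟨fun l => cc l • n', ?_⟩
    rw [← hcc, Finset.sum_smul]
    refine Finset.sum_congr rfl fun l _ => ?_
    rw [mul_comm, mul_smul]
  · rintro n1 n2 ⟨d1, rfl⟩ ⟨d2, rfl⟩
    refine ⟨fun l => d1 l + d2 l, ?_⟩
    rw [← Finset.sum_add_distrib]
    exact Finset.sum_congr rfl fun l _ => (smul_add _ _ _).symm

theorem sum_mem_span_smul (d : ι → N) :
    ∑ l, y l • d l ∈ Ideal.span (Set.range y) • (⊤ : Submodule S N) :=
  Submodule.sum_mem _ fun l _ =>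
    Submodule.smul_mem_smul (Ideal.subset_span ⟨l, rfl⟩) Submodule.mem_top

theorem isSMulRegular_quot_iff (I : Ideal S) (g : S) :
    IsSMulRegular (N ⧸ (I • (⊤ : Submodule S N))) g ↔
      ∀ w : N, g • w ∈ I • (⊤ : Submodule S N) → w ∈ I • (⊤ : Submodule S N) := by
  rw [isSMulRegular_iff_right_eq_zero_of_smul]
  constructor
  · intro h w hw
    have h1 := h (Submodule.Quotient.mk w) (by
      rw [← Submodule.Quotient.mk_smul, Submodule.Quotient.mk_eq_zero]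
      exact hw)
    rwa [Submodule.Quotient.mk_eq_zero] at h1
  · intro h x hx
    obtain ⟨w, rfl⟩ := Submodule.Quotient.mk_surjective _ x
    rw [← Submodule.Quotient.mk_smul, Submodule.Quotient.mk_eq_zero] at hx
    rw [Submodule.Quotient.mk_eq_zero]
    exact h w hx

end Span

section Reg

variable {k : Type u} [Field k] {R : Type u} [CommRing R] [Algebra k R]
  (𝒜 : ℤ → Submodule k R) [GradedAlgebra 𝒜]
  {S : Type u} [CommRing S] [Algebra k S] (ℬ : ℤ → Submodule k S) [GradedAlgebra ℬ]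
  {T : Type u} [CommRing T] [Algebra k T] (𝒯 : ℤ → Submodule k T) [GradedAlgebra 𝒯]
  (ψ : T →ₐ[k] R ⊗[k] S) (hT : GrSeg.IsSegreRing 𝒜 ℬ 𝒯 ψ)
  {M : Type u} [AddCommGroup M] [Module R M] [Module k M] [IsScalarTower k R M]
  (ℳ : ℤ → AddSubgroup M) [DirectSum.Decomposition ℳ] [SetLike.GradedSMul 𝒜 ℳ]
  {N : Type u} [AddCommGroup N] [Module S N] [Module k N] [IsScalarTower k S N]
  (𝒩 : ℤ → AddSubgroup N) [DirectSum.Decomposition 𝒩] [SetLike.GradedSMul ℬ 𝒩]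
  {P : Type u} [AddCommGroup P] [Module T P] [Module k P] [IsScalarTower k T P]
  (𝒬 : ℤ → AddSubgroup P) [DirectSum.Decomposition 𝒬]
  (φ : P →ₗ[k] M ⊗[k] N) (hP : GrSeg.IsSegreMod ψ ℳ 𝒩 𝒬 φ)
  {a : ℕ} {x : R} (hx : x ∈ 𝒜 (a : ℤ))
  (H : ∀ (g : ℤ) (j : ℕ), 1 ≤ j → (∀ m ∈ ℳ g, ∃ m' : M, m = x ^ j • m') ∨ 𝒩 (g - j * a) = ⊥)
  {ι : Type} [Fintype ι] (y : ι → S) (c : ι → ℕ) (hc : ∀ l, 1 ≤ c l)
  (hy : ∀ l, y l ∈ ℬ ((a * c l : ℕ) : ℤ)) (t : ι → T)
  (ht : ∀ l, ψ (t l) = (x ^ c l) ⊗ₜ[k] (y l))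

include hy in
/-- `(y) N` is a homogeneous submodule -/
theorem proj_mem_W (g : ℤ) (n : N)
    (hn : n ∈ Ideal.span (Set.range y) • (⊤ : Submodule S N)) :
    proj ℬ 𝒩 g n ∈ Ideal.span (Set.range y) • (⊤ : Submodule S N) := by
  obtain ⟨d, rfl⟩ := exists_sum_of_mem y hn
  rw [map_sum]
  have h1 : ∀ l, proj ℬ 𝒩 g (y l • d l) = y l • proj ℬ 𝒩 (g - ((a * c l : ℕ) : ℤ)) (d l) :=
    fun l => proj_smul_left ℬ 𝒩 (hy l) (d l) g
  simp_rw [h1]
  exact sum_mem_span_smul y _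

include hP hx H hc hy ht in
/-- every elementary tensor over `(y) N` of bidegree `(g, g)` comes from `(t) P` -/
theorem exists_of_tmul {g : ℤ} {m : M} (hm : m ∈ ℳ g) {n : N} (hn : n ∈ 𝒩 g)
    (hnW : n ∈ Ideal.span (Set.range y) • (⊤ : Submodule S N)) :
    ∃ w ∈ Ideal.span (Set.range t) • (⊤ : Submodule T P), φ w = m ⊗ₜ[k] n := by
  classical
  obtain ⟨d, hd⟩ := exists_sum_of_mem y hnW
  set bl : ι → N := fun l => proj ℬ 𝒩 (g - ((a * c l : ℕ) : ℤ)) (d l) with hbl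
  have hblmem : ∀ l, bl l ∈ 𝒩 (g - ((a * c l : ℕ) : ℤ)) := fun l => proj_mem ℬ 𝒩 _ _
  have hnsum : n = ∑ l, y l • bl l := by
    have h1 : proj ℬ 𝒩 g n = n := proj_of_mem ℬ 𝒩 hn
    rw [← h1, hd, map_sum]
    exact Finset.sum_congr rfl fun l _ => proj_smul_left ℬ 𝒩 (hy l) (d l) g
  have hxc : ∀ l, x ^ c l ∈ 𝒜 ((a * c l : ℕ) : ℤ) := by
    intro l
    have h1 : x ^ c l ∈ 𝒜 (c l • (a : ℤ)) := SetLike.pow_mem_graded (c l) hx
    have h2 : c l • (a : ℤ) = ((a * c l : ℕ) : ℤ) := by rw [nsmul_eq_mul]; push_cast; ring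
    rwa [h2] at h1
  have hex : ∀ l, ∃ w : P, φ (t l • w) = m ⊗ₜ[k] (y l • bl l) := by
    intro l
    rcases H g (c l) (hc l) with h | h
    · obtain ⟨m', hm'⟩ := h m hm
      set m'' : M := proj 𝒜 ℳ (g - ((a * c l : ℕ) : ℤ)) m' with hm''
      have hm''mem : m'' ∈ ℳ (g - ((a * c l : ℕ) : ℤ)) := proj_mem 𝒜 ℳ _ _
      have hmeq : m = x ^ c l • m'' := by
        have h1 : proj 𝒜 ℳ g m = m := proj_of_mem 𝒜 ℳ hm
        rw [← h1, hm', proj_smul_left 𝒜 ℳ (hxc l) m' g]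
      have hseg : m'' ⊗ₜ[k] bl l ∈
          (GrSeg.segrePiece k ℳ 𝒩 (g - ((a * c l : ℕ) : ℤ)) : Set (M ⊗[k] N)) :=
        tmul_mem_segrePiece hm''mem (hblmem l)
      rw [← hP.image_piece] at hseg
      obtain ⟨w, -, hw⟩ := hseg
      refine ⟨w, ?_⟩
      rw [hP.map_smul, ht, hw, GrSeg.act_tmul, ← hmeq]
    · have h0 : bl l = 0 := by
        have h1 := hblmem l
        have h2 : g - ((a * c l : ℕ) : ℤ) = g - (c l : ℤ) * (a : ℤ) := by push_cast; ring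
        rw [h2, h] at h1
        exact (AddSubgroup.mem_bot).mp h1
      refine ⟨0, ?_⟩
      rw [smul_zero, map_zero, h0, smul_zero, TensorProduct.tmul_zero]
  choose w hw using hex
  refine ⟨∑ l, t l • w l, sum_mem_span_smul t w, ?_⟩
  rw [map_sum, hnsum, TensorProduct.tmul_sum]
  exact Finset.sum_congr rfl fun l _ => hw l

include hP hx H hc hy ht in
/-- `(t) P` is the kernel of `P → M ⊗ N/(y)N` -/
theorem mem_of_ΦW_eq_zero {w : P}
    (hw : ΦW (k := k) (M := M) (Ideal.span (Set.range y) • (⊤ : Submodule S N)) (φ w) = 0) :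
    w ∈ Ideal.span (Set.range t) • (⊤ : Submodule T P) := by
  classical
  set W := Ideal.span (Set.range y) • (⊤ : Submodule S N) with hWdef
  rw [← DirectSum.sum_support_decompose 𝒬 w]
  refine Submodule.sum_mem _ fun g _ => ?_
  have hpiece : ∀ g' : ℤ, φ (DirectSum.decompose 𝒬 w g' : P) ∈ GrSeg.segrePiece k ℳ 𝒩 g' :=
    fun g' => (mem_piece_iff hP).mp (SetLike.coe_mem _)
  have hcomp : φ (DirectSum.decompose 𝒬 w g : P) = PE 𝒜 ℬ ℳ 𝒩 g (φ w) := by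
    conv_rhs => rw [← DirectSum.sum_support_decompose 𝒬 w, map_sum, map_sum]
    by_cases hg : g ∈ (DirectSum.decompose 𝒬 w).support
    · rw [Finset.sum_eq_single_of_mem g hg]
      · exact (PE_of_mem 𝒜 ℬ ℳ 𝒩 (hpiece g)).symm
      · intro g' _ hne
        exact PE_of_mem_ne 𝒜 ℬ ℳ 𝒩 hne (hpiece g')
    · rw [Finset.sum_eq_zero]
      · have := DFinsupp.notMem_support_iff.mp hg
        rw [this]
        exact map_zero φ
      · intro g' hg'
        have hne : g' ≠ g := fun h => hg (h ▸ hg')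
        exact PE_of_mem_ne 𝒜 ℬ ℳ 𝒩 hne (hpiece g')
  have hmem : PE 𝒜 ℬ ℳ 𝒩 g (φ w) ∈ segJ ℳ 𝒩 W g :=
    PE_mem_segJ_of_ΦW_eq_zero 𝒜 ℬ ℳ 𝒩 W (fun g n hn => proj_mem_W ℬ 𝒩 y c hy g n hn) g hw
  have hall : ∀ z ∈ segJ ℳ 𝒩 W g, ∃ w' ∈ Ideal.span (Set.range t) • (⊤ : Submodule T P),
      φ w' = z := by
    intro z hz
    unfold segJ at hz
    induction hz using Submodule.span_induction with
    | mem z hz =>
      obtain ⟨m, hm, n, hn, hnW, rfl⟩ := hz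
      exact exists_of_tmul 𝒜 ℬ ψ ℳ 𝒩 𝒬 φ hP hx H y c hc hy t ht hm hn hnW
    | zero => exact ⟨0, zero_mem _, map_zero _⟩
    | add z z' _ _ hz hz' =>
      obtain ⟨w1, hw1, rfl⟩ := hz
      obtain ⟨w2, hw2, rfl⟩ := hz'
      exact ⟨w1 + w2, add_mem hw1 hw2, map_add _ _ _⟩
    | smul e z _ hz =>
      obtain ⟨w1, hw1, rfl⟩ := hz
      exact ⟨e • w1, Submodule.smul_of_tower_mem _ e hw1, map_smul _ _ _⟩
  obtain ⟨w', hw', hw'eq⟩ := hall _ hmem
  rw [← hcomp] at hw'eq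
  rw [← hP.injective hw'eq]
  exact hw'

omit [GradedAlgebra 𝒜] [GradedAlgebra ℬ] in
theorem ΦW_act_eq_zero (W : Submodule S N) {b : S} (hb : ∀ n : N, b • n ∈ W) (a' : R)
    (z : M ⊗[k] N) :
    ΦW (k := k) (M := M) W (GrSeg.act k R S M N (a' ⊗ₜ[k] b) z) = 0 := by
  induction z using TensorProduct.induction_on with
  | zero => rw [map_zero, map_zero]
  | tmul m n =>
    rw [GrSeg.act_tmul, ΦW_tmul, (Submodule.Quotient.mk_eq_zero W).mpr (hb n),
      TensorProduct.tmul_zero]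
  | add z z' hz hz' => rw [map_add, map_add, hz, hz', add_zero]

omit [GradedAlgebra 𝒜] [GradedAlgebra ℬ] in
theorem ΦW_act (W : Submodule S N) (a' : R) (b : S) (z : M ⊗[k] N) :
    ΦW (k := k) (M := M) W (GrSeg.act k R S M N (a' ⊗ₜ[k] b) z) =
      TensorProduct.map (Algebra.lsmul k k M a') (Algebra.lsmul k k (N ⧸ W) b)
        (ΦW (k := k) (M := M) W z) := by
  induction z using TensorProduct.induction_on with
  | zero => rw [map_zero, map_zero, map_zero]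
  | tmul m n =>
    rw [GrSeg.act_tmul, ΦW_tmul, ΦW_tmul, TensorProduct.map_tmul]
    rfl
  | add z z' hz hz' => rw [map_add, map_add, map_add, map_add, hz, hz']

include hP ht in
omit [GradedAlgebra 𝒜] [GradedAlgebra ℬ] [GradedAlgebra 𝒯] in
theorem ΦW_eq_zero_of_mem {w : P}
    (hw : w ∈ Ideal.span (Set.range t) • (⊤ : Submodule T P)) :
    ΦW (k := k) (M := M) (Ideal.span (Set.range y) • (⊤ : Submodule S N)) (φ w) = 0 := by
  classical
  obtain ⟨d, rfl⟩ := exists_sum_of_mem t hw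
  rw [map_sum, map_sum]
  refine Finset.sum_eq_zero fun l _ => ?_
  rw [hP.map_smul, ht]
  refine ΦW_act_eq_zero _ (fun n => ?_) _ _
  exact Submodule.smul_mem_smul (Ideal.subset_span ⟨l, rfl⟩) Submodule.mem_top

include hP hx H hc hy ht in
/-- **regularity of the next element** -/
theorem next_regular {X₀ : R} (hX₀ : IsSMulRegular M X₀) {y₀ : S}
    (hy₀ : IsSMulRegular (N ⧸ (Ideal.span (Set.range y) • (⊤ : Submodule S N))) y₀)
    {t₀ : T} (ht₀ : ψ t₀ = X₀ ⊗ₜ[k] y₀) :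
    ∀ w : P, t₀ • w ∈ Ideal.span (Set.range t) • (⊤ : Submodule T P) →
      w ∈ Ideal.span (Set.range t) • (⊤ : Submodule T P) := by
  intro w hw
  apply mem_of_ΦW_eq_zero 𝒜 ℬ ψ ℳ 𝒩 𝒬 φ hP hx H y c hc hy t ht
  have h1 := ΦW_eq_zero_of_mem ψ ℳ 𝒩 𝒬 φ hP (y := y) (c := c) (t := t) ht hw
  rw [hP.map_smul, ht₀, ΦW_act] at h1
  have hinj : Function.Injective (TensorProduct.map (Algebra.lsmul k k M X₀)
      (Algebra.lsmul k k (N ⧸ (Ideal.span (Set.range y) • (⊤ : Submodule S N))) y₀)) :=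
    TensorProduct.map_injective_of_flat_flat _ _ hX₀ hy₀
  exact hinj (h1.trans (map_zero _).symm)

end Reg

section RegList

variable {k : Type u} [Field k] {R : Type u} [CommRing R] [Algebra k R]
  (𝒜 : ℤ → Submodule k R) [GradedAlgebra 𝒜]
  {S : Type u} [CommRing S] [Algebra k S] (ℬ : ℤ → Submodule k S) [GradedAlgebra ℬ]
  {T : Type u} [CommRing T] [Algebra k T] (𝒯 : ℤ → Submodule k T) [GradedAlgebra 𝒯]
  (ψ : T →ₐ[k] R ⊗[k] S)
  {M : Type u} [AddCommGroup M] [Module R M] [Module k M] [IsScalarTower k R M]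
  (ℳ : ℤ → AddSubgroup M) [DirectSum.Decomposition ℳ] [SetLike.GradedSMul 𝒜 ℳ]
  {N : Type u} [AddCommGroup N] [Module S N] [Module k N] [IsScalarTower k S N]
  (𝒩 : ℤ → AddSubgroup N) [DirectSum.Decomposition 𝒩] [SetLike.GradedSMul ℬ 𝒩]
  {P : Type u} [AddCommGroup P] [Module T P] [Module k P] [IsScalarTower k T P]
  (𝒬 : ℤ → AddSubgroup P) [DirectSum.Decomposition 𝒬]
  (φ : P →ₗ[k] M ⊗[k] N) (hP : GrSeg.IsSegreMod ψ ℳ 𝒩 𝒬 φ)
  {a : ℕ} {x : R} (hx : x ∈ 𝒜 (a : ℤ))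
  (H : ∀ (g : ℤ) (j : ℕ), 1 ≤ j → (∀ m ∈ ℳ g, ∃ m' : M, m = x ^ j • m') ∨ 𝒩 (g - j * a) = ⊥)

include hP hx H in
theorem reg_t (hxreg : IsSMulRegular M x) {s : ℕ} (y : Fin s → S) (c : Fin s → ℕ)
    (hc : ∀ l, 1 ≤ c l) (hy : ∀ l, y l ∈ ℬ ((a * c l : ℕ) : ℤ)) (t : Fin s → T)
    (ht : ∀ l, ψ (t l) = (x ^ c l) ⊗ₜ[k] (y l))
    (hyreg : RingTheory.Sequence.IsWeaklyRegular N (List.ofFn y)) :
    RingTheory.Sequence.IsWeaklyRegular P (List.ofFn t) := by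
  classical
  rw [RingTheory.Sequence.isWeaklyRegular_iff] at hyreg ⊢
  intro i hi
  rw [List.length_ofFn] at hi
  have hyi := hyreg i (by rw [List.length_ofFn]; exact hi)
  rw [ofList_take_ofFn, List.getElem_ofFn] at hyi ⊢
  rw [isSMulRegular_quot_iff]
  set ι := {l : Fin s // (l : ℕ) < i} with hι
  have hrt : Set.range (fun l : ι => t l.1) = t '' {j : Fin s | (j : ℕ) < i} := by
    ext z
    constructor
    · rintro ⟨l, rfl⟩
      exact ⟨l.1, l.2, rfl⟩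
    · rintro ⟨l, hl, rfl⟩
      exact ⟨⟨l, hl⟩, rfl⟩
  have hry : Set.range (fun l : ι => y l.1) = y '' {j : Fin s | (j : ℕ) < i} := by
    ext z
    constructor
    · rintro ⟨l, rfl⟩
      exact ⟨l.1, l.2, rfl⟩
    · rintro ⟨l, hl, rfl⟩
      exact ⟨⟨l, hl⟩, rfl⟩
  rw [← hrt]
  rw [← hry] at hyi
  exact next_regular 𝒜 ℬ ψ ℳ 𝒩 𝒬 φ hP hx H (fun l : ι => y l.1) (fun l : ι => c l.1)
    (fun l => hc l.1) (fun l => hy l.1) (fun l : ι => t l.1) (fun l => ht l.1)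
    (hxreg.pow (c ⟨i, hi⟩)) hyi (ht ⟨i, hi⟩)

end RegList

section Socle

variable {k : Type u} [Field k] {R : Type u} [CommRing R] [Algebra k R]
  (𝒜 : ℤ → Submodule k R) [GradedAlgebra 𝒜]
  {S : Type u} [CommRing S] [Algebra k S] (ℬ : ℤ → Submodule k S) [GradedAlgebra ℬ]
  {T : Type u} [CommRing T] [Algebra k T] (𝒯 : ℤ → Submodule k T) [GradedAlgebra 𝒯]
  (ψ : T →ₐ[k] R ⊗[k] S) (hT : GrSeg.IsSegreRing 𝒜 ℬ 𝒯 ψ)
  {M : Type u} [AddCommGroup M] [Module R M] [Module k M] [IsScalarTower k R M]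
  (ℳ : ℤ → AddSubgroup M) [DirectSum.Decomposition ℳ] [SetLike.GradedSMul 𝒜 ℳ]
  {N : Type u} [AddCommGroup N] [Module S N] [Module k N] [IsScalarTower k S N]
  (𝒩 : ℤ → AddSubgroup N) [DirectSum.Decomposition 𝒩] [SetLike.GradedSMul ℬ 𝒩]
  {P : Type u} [AddCommGroup P] [Module T P] [Module k P] [IsScalarTower k T P]
  (𝒬 : ℤ → AddSubgroup P) [DirectSum.Decomposition 𝒬]
  (φ : P →ₗ[k] M ⊗[k] N) (hP : GrSeg.IsSegreMod ψ ℳ 𝒩 𝒬 φ)

omit [GradedAlgebra 𝒜] [GradedAlgebra ℬ] in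
theorem act_tmul_eq_map (a' : R) (b : S) (z : M ⊗[k] N) :
    GrSeg.act k R S M N (a' ⊗ₜ[k] b) z =
      TensorProduct.map (Algebra.lsmul k k M a') (Algebra.lsmul k k N b) z := by
  induction z using TensorProduct.induction_on with
  | zero => rw [map_zero, map_zero]
  | tmul m n =>
    rw [GrSeg.act_tmul, TensorProduct.map_tmul]
    rfl
  | add z z' hz hz' => rw [map_add, map_add, hz, hz']

include hP in
omit [GradedAlgebra 𝒜] [GradedAlgebra ℬ] [GradedAlgebra 𝒯] in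
/-- the element `t` with `ψ t = X ⊗ Y` is regular on `P` -/
theorem t_regular {X : R} {Y : S} (hX : IsSMulRegular M X) (hY : IsSMulRegular N Y) {t₀ : T}
    (ht₀ : ψ t₀ = X ⊗ₜ[k] Y) : IsSMulRegular P t₀ := by
  intro w w' hww
  apply hP.injective
  have h1 : φ (t₀ • w) = φ (t₀ • w') := congrArg φ hww
  rw [hP.map_smul, hP.map_smul, ht₀, act_tmul_eq_map, act_tmul_eq_map] at h1
  have hinj : Function.Injective (TensorProduct.map (Algebra.lsmul k k M X)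
      (Algebra.lsmul k k N Y)) :=
    TensorProduct.map_injective_of_flat_flat _ _ hX hY
  exact hinj h1

/-- contraction of the right factor with a functional -/
noncomputable def contrM (l : N →ₗ[k] k) : M ⊗[k] N →ₗ[k] M :=
  (TensorProduct.rid k M).toLinearMap ∘ₗ LinearMap.lTensor M l

omit [IsScalarTower k R M] [IsScalarTower k S N] in
theorem contrM_tmul (l : N →ₗ[k] k) (m : M) (n : N) :
    contrM (M := M) l (m ⊗ₜ[k] n) = l n • m := by
  simp [contrM]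

omit [IsScalarTower k S N] in
theorem contrM_rTensor (l : N →ₗ[k] k) (X : R) (z : M ⊗[k] N) :
    contrM (M := M) l (LinearMap.rTensor N (Algebra.lsmul k k M X : M →ₗ[k] M) z) =
      X • contrM (M := M) l z := by
  induction z using TensorProduct.induction_on with
  | zero => simp
  | tmul m n =>
    rw [LinearMap.rTensor_tmul, contrM_tmul, contrM_tmul]
    show l n • X • m = X • l n • m
    rw [smul_comm]
  | add z z' hz hz' => rw [map_add, map_add, hz, hz', map_add, smul_add]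

include hP in
omit [GradedAlgebra 𝒜] [GradedAlgebra ℬ] [GradedAlgebra 𝒯] in
/-- the socle element is not a multiple of `t` -/
theorem u_not_smul {X : R} {Y : S} (hY : IsSMulRegular N Y) {μ : M}
    (hμ : ∀ m' : M, μ ≠ X • m') {ν₁ : N} (hν₁ : ν₁ ≠ 0) {t₀ : T} {u : P}
    (ht₀ : ψ t₀ = X ⊗ₜ[k] Y) (hu : φ u = μ ⊗ₜ[k] (Y • ν₁)) : ∀ w : P, u ≠ t₀ • w := by
  intro w huw
  have h1 : φ u = φ (t₀ • w) := congrArg φ huw
  rw [hP.map_smul, ht₀, act_tmul_eq_map, hu] at h1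
  have hfac : TensorProduct.map (Algebra.lsmul k k M X : M →ₗ[k] M)
      (Algebra.lsmul k k N Y : N →ₗ[k] N) =
      (LinearMap.lTensor M (Algebra.lsmul k k N Y : N →ₗ[k] N)) ∘ₗ
        (LinearMap.rTensor N (Algebra.lsmul k k M X : M →ₗ[k] M)) := by
    rw [LinearMap.lTensor_comp_rTensor]
  have h2 : μ ⊗ₜ[k] (Y • ν₁) =
      LinearMap.lTensor M (Algebra.lsmul k k N Y : N →ₗ[k] N) (μ ⊗ₜ[k] ν₁) := by
    rw [LinearMap.lTensor_tmul]
    rfl
  rw [hfac, LinearMap.comp_apply, h2] at h1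
  have hinj : Function.Injective (LinearMap.lTensor M (Algebra.lsmul k k N Y : N →ₗ[k] N)) :=
    Module.Flat.lTensor_preserves_injective_linearMap _ hY
  have h3 := hinj h1
  obtain ⟨l, hl⟩ := Module.Projective.exists_dual_eq_one k hν₁
  have h4 := congrArg (contrM (M := M) l) h3
  rw [contrM_tmul, contrM_rTensor, hl, one_smul] at h4
  exact hμ _ h4

include hT hP in
/-- high degree elements multiply the socle element into `t P` -/
theorem smul_u_mem {X : R} {Y : S} {D n' : ℤ} (hX : X ∈ 𝒜 D) {μ : M}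
    (hμ : μ ∈ ℳ n') {ν₁ : N} (hν₁ : ν₁ ∈ 𝒩 (n' - D)) {t₀ : T} {u : P}
    (ht₀ : ψ t₀ = X ⊗ₜ[k] Y) (hu : φ u = μ ⊗ₜ[k] (Y • ν₁)) {m' : ℤ}
    (hm : ∀ m₁ ∈ ℳ (m' + n'), ∃ m₂ : M, m₁ = X • m₂) {w : T} (hw : w ∈ 𝒯 m') :
    ∃ w' : P, w • u = t₀ • w' := by
  set W : Submodule k (M ⊗[k] N) :=
    (⊤ : Submodule k P).map (φ ∘ₗ (Algebra.lsmul k k P t₀ : P →ₗ[k] P)) with hW
  have hψw : ψ w ∈ GrSeg.segrePiece k 𝒜 ℬ m' := by
    rw [← hT.2 m']
    exact ⟨w, hw, rfl⟩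
  have key : GrSeg.act k R S M N (ψ w) (φ u) ∈ W := by
    rw [hu]
    unfold GrSeg.segrePiece at hψw
    generalize ψ w = zz at hψw
    induction hψw using Submodule.span_induction with
    | mem z hz =>
      obtain ⟨a', ha', b', hb', rfl⟩ := hz
      rw [GrSeg.act_tmul]
      have haμ : a' • μ ∈ ℳ (m' + n') := by
        have := SetLike.GradedSMul.smul_mem (A := 𝒜) (B := ℳ) ha' hμ
        rwa [vadd_eq_add] at this
      obtain ⟨m₂, hm₂⟩ := hm _ haμ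
      set m₂' : M := proj 𝒜 ℳ (m' + n' - D) m₂ with hm₂'
      have hm₂'mem : m₂' ∈ ℳ (m' + n' - D) := proj_mem 𝒜 ℳ _ _
      have heq : a' • μ = X • m₂' := by
        have h1 : proj 𝒜 ℳ (m' + n') (a' • μ) = a' • μ := proj_of_mem 𝒜 ℳ haμ
        rw [← h1, hm₂, proj_smul_left 𝒜 ℳ hX m₂ (m' + n')]
      have hbν : b' • ν₁ ∈ 𝒩 (m' + n' - D) := by
        have := SetLike.GradedSMul.smul_mem (A := ℬ) (B := 𝒩) hb' hν₁
        rw [vadd_eq_add] at this
        have e : m' + (n' - D) = m' + n' - D := by ring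
        rwa [e] at this
      have hseg : m₂' ⊗ₜ[k] (b' • ν₁) ∈
          (GrSeg.segrePiece k ℳ 𝒩 (m' + n' - D) : Set (M ⊗[k] N)) :=
        tmul_mem_segrePiece hm₂'mem hbν
      rw [← hP.image_piece] at hseg
      obtain ⟨w'', -, hw''⟩ := hseg
      refine ⟨w'', Submodule.mem_top, ?_⟩
      rw [LinearMap.comp_apply]
      show φ (t₀ • w'') = _
      rw [hP.map_smul, ht₀, hw'', GrSeg.act_tmul, heq, smul_comm]
    | zero => rw [map_zero, LinearMap.zero_apply]; exact zero_mem _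
    | add z z' _ _ hz hz' => rw [map_add, LinearMap.add_apply]; exact add_mem hz hz'
    | smul e z _ hz => rw [map_smul, LinearMap.smul_apply]; exact Submodule.smul_mem _ _ hz
  obtain ⟨w', -, hw'⟩ := key
  refine ⟨w', hP.injective ?_⟩
  rw [hP.map_smul, ← hw']
  rfl

end Socle

end Groth.Agent.Lib.Helper87.SegModB
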