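import Mathlib
import Groth.Agent.Lib.Helper29.CMRing
import Groth.Agent.Lib.Helper29.CM
import Groth.Agent.Lib.Helper29.SuppLoc
import Groth.Agent.Lib.Helper87.GrDepthE
import Groth.Agent.Lib.Helper87.GrSuppDimB
import Groth.Agent.Lib.Helper87.ModHilbG
import Groth.Agent.Lib.Helper77.GLC0

/-!
# Localizations of a module that is Cohen–Macaulay at a larger prime
-/

set_option autoImplicit false
set_option linter.style.haveILetI false
set_option linter.unusedSectionVars false
universe u

namespace Groth.Agent.Lib.Helper87.SegModC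

open RingTheory.Sequence IsLocalRing Pointwise
open Groth.Agent.Lib.Helper29 Groth.Agent.Lib.Helper29.CMLib Groth.Agent.Lib.Helper29.SuppLoc

section Compare

variable {R : Type u} [CommRing R]

/-- `dim R_m / q' ≤ dim R/(q' ∩ R)` -/
theorem ringKrullDim_quotient_le_comap (m : Ideal R) [m.IsPrime]
    (q' : Ideal (Localization.AtPrime m)) :
    ringKrullDim (Localization.AtPrime m ⧸ q') ≤
      ringKrullDim (R ⧸ q'.comap (algebraMap R (Localization.AtPrime m))) := by
  set A := Localization.AtPrime m with hA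
  set q := q'.comap (algebraMap R A) with hq
  let f : R ⧸ q →+* A ⧸ q' := Ideal.quotientMap q' (algebraMap R A) le_rfl
  have hcomp : f.comp (Ideal.Quotient.mk q) = (Ideal.Quotient.mk q').comp (algebraMap R A) := by
    ext x
    rfl
  have hinj : Function.Injective (PrimeSpectrum.comap f) := by
    intro P₁ P₂ h
    have h1 : PrimeSpectrum.comap (f.comp (Ideal.Quotient.mk q)) P₁ =
        PrimeSpectrum.comap (f.comp (Ideal.Quotient.mk q)) P₂ := by
      rw [PrimeSpectrum.comap_comp_apply, PrimeSpectrum.comap_comp_apply, h]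
    rw [hcomp, PrimeSpectrum.comap_comp_apply, PrimeSpectrum.comap_comp_apply] at h1
    have h2 := comap_injective_atPrime R m h1
    exact PrimeSpectrum.comap_injective_of_surjective _ Ideal.Quotient.mk_surjective h2
  exact Order.krullDim_le_of_strictMono (PrimeSpectrum.comap f)
    (Monotone.strictMono_of_injective (fun _ _ hab => Ideal.comap_mono hab) hinj)

end Compare

section LL

open Groth.Agent.Lib.Helper29.DepthLib Groth.Agent.Lib.Helper29.DepthFinite

variable {R : Type u} [CommRing R] [IsNoetherianRing R]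
  (M : Type u) [AddCommGroup M] [Module R M] [Module.Finite R M]

/-- maximal sequences in `Q` that are regular on `M_m` -/
theorem exists_maximal_seq (m Q : Ideal R) [m.IsPrime] (hQm : Q ≤ m)
    [Nontrivial (LocalizedModule m.primeCompl M)] :
    ∃ rs : List R, (∀ r ∈ rs, r ∈ Q) ∧
      IsWeaklyRegular (LocalizedModule m.primeCompl M)
        (rs.map (algebraMap R (Localization.AtPrime m))) ∧
      ∀ x ∈ Q, ¬ IsWeaklyRegular (LocalizedModule m.primeCompl M)
        ((rs ++ [x]).map (algebraMap R (Localization.AtPrime m))) := by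
  classical
  set A := Localization.AtPrime m with hA
  set M' := LocalizedModule m.primeCompl M with hM'
  obtain ⟨d, hd⟩ := ENat.ne_top_iff_exists.1 (depth_ne_top A M')
  have hbound : ∀ rs : List R, (∀ r ∈ rs, r ∈ Q) →
      IsWeaklyRegular M' (rs.map (algebraMap R A)) → rs.length ≤ d := by
    intro rs hmem hreg
    have hmem' : ∀ r ∈ rs.map (algebraMap R A), r ∈ maximalIdeal A := by
      intro r hr
      obtain ⟨a, ha, rfl⟩ := List.mem_map.1 hr
      rw [IsLocalization.AtPrime.to_map_mem_maximal_iff A m]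
      exact hQm (hmem a ha)
    have h1 := length_le_idealDepth (maximalIdeal A) M' hreg hmem'
    rw [List.length_map] at h1
    have h2 : (rs.length : ℕ∞) ≤ (d : ℕ∞) := by rw [hd]; exact h1
    exact_mod_cast h2
  have key : ∀ k : ℕ, ∀ rs : List R, (∀ r ∈ rs, r ∈ Q) →
      IsWeaklyRegular M' (rs.map (algebraMap R A)) → d - rs.length = k →
      ∃ rs' : List R, (∀ r ∈ rs', r ∈ Q) ∧ IsWeaklyRegular M' (rs'.map (algebraMap R A)) ∧
        ∀ x ∈ Q, ¬ IsWeaklyRegular M' ((rs' ++ [x]).map (algebraMap R A)) := by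
    intro k
    induction k using Nat.strong_induction_on with
    | _ k ih =>
      intro rs hmem hreg hk
      by_cases hmax : ∀ x ∈ Q, ¬ IsWeaklyRegular M' ((rs ++ [x]).map (algebraMap R A))
      · exact ⟨rs, hmem, hreg, hmax⟩
      · push Not at hmax
        obtain ⟨x, hxQ, hx⟩ := hmax
        have hmem2 : ∀ r ∈ rs ++ [x], r ∈ Q := by
          intro r hr
          rw [List.mem_append, List.mem_singleton] at hr
          rcases hr with hr | rfl
          · exact hmem r hr
          · exact hxQ
        have hb := hbound (rs ++ [x]) hmem2 hx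
        rw [List.length_append, List.length_singleton] at hb
        exact ih (d - (rs ++ [x]).length)
          (by rw [List.length_append, List.length_singleton]; omega) (rs ++ [x]) hmem2 hx rfl
  exact key _ [] (by simp) (by simp) rfl

/-- **localization of a Cohen–Macaulay localization**: if `M_m` is Cohen–Macaulay, `dim M = dim M_m`
and `Q ≤ m` lies in the support, then `M_Q` is Cohen–Macaulay. -/
theorem isCM_localization_of_le (m Q : Ideal R) [m.IsPrime] [hQp : Q.IsPrime] (hQm : Q ≤ m)
    (hM : LocCoh.IsCohenMacaulayModule (Localization.AtPrime m)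
      (LocalizedModule m.primeCompl M))
    (hdim : Module.supportDim R M =
      Module.supportDim (Localization.AtPrime m) (LocalizedModule m.primeCompl M))
    (hQ : Nontrivial (LocalizedModule Q.primeCompl M)) :
    LocCoh.IsCohenMacaulayModule (Localization.AtPrime Q) (LocalizedModule Q.primeCompl M) := by
  classical
  set A := Localization.AtPrime m with hA
  set M' := LocalizedModule m.primeCompl M with hM'
  haveI : Nontrivial M' := nontrivial_of_isCM A M' hM
  obtain ⟨d, hd1, hd2⟩ := exists_nat_of_isCM A M' hM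
  obtain ⟨rs, hmem, hreg, hmax⟩ := exists_maximal_seq M m Q hQm
  have hmem' : ∀ r ∈ rs.map (algebraMap R A), r ∈ maximalIdeal A := by
    intro r hr
    obtain ⟨a, ha, rfl⟩ := List.mem_map.1 hr
    rw [IsLocalization.AtPrime.to_map_mem_maximal_iff A m]
    exact hQm (hmem a ha)
  obtain ⟨h1, h2⟩ := isWeaklyRegular_iff_of_isCM A (rs.map (algebraMap R A)) M' hM hmem'
  have hN := h2 hreg
  have hdimN := h1.1 hreg
  rw [List.length_map, hd2] at hdimN
  obtain ⟨n'', -, hn''⟩ := exists_nat_of_isCM A _ hN
  rw [hn''] at hdimN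
  have hzd : ∀ x' ∈ Q.map (algebraMap R A), ¬ IsSMulRegular
      (M' ⧸ (Ideal.ofList (rs.map (algebraMap R A)) • (⊤ : Submodule A M'))) x' := by
    intro x' hx' hreg'
    obtain ⟨⟨⟨x, hxQ⟩, s⟩, hxs⟩ := (IsLocalization.mem_map_algebraMap_iff m.primeCompl A).mp hx'
    have hunit : IsUnit (algebraMap R A s) := IsLocalization.map_units A s
    have h3 : IsSMulRegular (M' ⧸ (Ideal.ofList (rs.map (algebraMap R A)) •
        (⊤ : Submodule A M'))) (algebraMap R A x) := by
      have hxs' : x' * algebraMap R A s = algebraMap R A x := hxs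
      rw [← hxs']
      exact hreg'.mul (hunit.isSMulRegular _)
    apply hmax x hxQ
    rw [List.map_append, isWeaklyRegular_append_iff]
    exact ⟨hreg, (isWeaklyRegular_singleton_iff _ _).2 h3⟩
  obtain ⟨q', hq', hQq'⟩ := exists_mem_ass_ge A _ (Q.map (algebraMap R A)) hzd
  haveI hq'p : q'.IsPrime := hq'.isPrime
  have hdimq' := ringKrullDim_quotient_eq_of_isCM A _ hN hq'
  rw [hn''] at hdimq'
  have hQq : Q ≤ q'.comap (algebraMap R A) := fun x hx => hQq' (Ideal.mem_map_of_mem _ hx)
  have h4 : ((n'' : ℕ) : WithBot ℕ∞) ≤ ringKrullDim (R ⧸ Q) := by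
    rw [← hdimq']
    exact (ringKrullDim_quotient_le_comap m q').trans (ringKrullDim_le_of_surjective
      (Ideal.Quotient.factor hQq) (Ideal.Quotient.factor_surjective hQq))
  have hQsupp : (⟨Q, hQp⟩ : PrimeSpectrum R) ∈ Module.support R M :=
    Module.mem_support_iff.mpr hQ
  have h5 := supportDim_localizedModule_add_supportDim_quotient_le R M Q
  have h6 := supportDim_quotient_smul_top_eq R M ⟨Q, hQp⟩ hQsupp
  rw [show (⟨Q, hQp⟩ : PrimeSpectrum R).asIdeal = Q from rfl] at h6
  rw [h6, hdim, hd2] at h5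
  have h7 : Module.supportDim (Localization.AtPrime Q) (LocalizedModule Q.primeCompl M) +
      ((n'' : ℕ) : WithBot ℕ∞) ≤ (d : WithBot ℕ∞) :=
    le_trans (add_le_add_right h4 _) h5
  have h8 : Module.supportDim (Localization.AtPrime Q) (LocalizedModule Q.primeCompl M) ≤
      (rs.length : WithBot ℕ∞) := le_of_add_le_nat hdimN h7
  -- the depth
  have hregR : IsWeaklyRegular M' rs := (isWeaklyRegular_map_algebraMap_iff A M' rs).mp hreg
  have hle : m.primeCompl ≤ Q.primeCompl := fun x hx hxQ => hx (hQm hxQ)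
  have hregQ := hregR.of_isLocalizedModule (Localization.AtPrime Q) Q.primeCompl
    (IsLocalizedModule.liftOfLE m.primeCompl Q.primeCompl hle
      (LocalizedModule.mkLinearMap m.primeCompl M) (LocalizedModule.mkLinearMap Q.primeCompl M))
  have hmemQ : ∀ r ∈ rs.map (algebraMap R (Localization.AtPrime Q)),
      r ∈ maximalIdeal (Localization.AtPrime Q) := by
    intro r hr
    obtain ⟨a, ha, rfl⟩ := List.mem_map.1 hr
    rw [IsLocalization.AtPrime.to_map_mem_maximal_iff (Localization.AtPrime Q) Q]
    exact hmem a ha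
  have h9 := length_le_idealDepth (maximalIdeal (Localization.AtPrime Q))
    (LocalizedModule Q.primeCompl M) hregQ hmemQ
  rw [List.length_map] at h9
  have h9' : (rs.length : WithBot ℕ∞) ≤ ((LocCoh.depth (Localization.AtPrime Q)
      (LocalizedModule Q.primeCompl M) : ℕ∞) : WithBot ℕ∞) := by
    exact_mod_cast h9
  have h10 := depth_le_supportDim (Localization.AtPrime Q) (LocalizedModule Q.primeCompl M)
  exact le_antisymm (h8.trans h9') h10

end LL

section Graded

open Groth.Agent.Lib.Helper87.ModHilbG Groth.Agent.Lib.Helper77.GLC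

variable {k : Type u} [Field k] {T : Type u} [CommRing T] [Algebra k T]
  (𝒯 : ℤ → Submodule k T) [GradedAlgebra 𝒯]
  (hpos : ∀ n : ℤ, n < 0 → 𝒯 n = ⊥) (h0 : 𝒯 0 = Submodule.span k {(1 : T)})
  {P : Type u} [AddCommGroup P] [Module T P] (𝒬 : ℤ → AddSubgroup P)
  [DirectSum.Decomposition 𝒬] [SetLike.GradedSMul 𝒯 𝒬]

include hpos h0 𝒬 in
/-- a finitely generated graded module which is Cohen–Macaulay at the irrelevant ideal is
Cohen–Macaulay at every prime of its support -/
theorem isCM_of_isCM_irr [Algebra.FiniteType k T] [Module.Finite T P] [Nontrivial P]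
    (m : Ideal T) [m.IsPrime] (hm : m = irr 𝒯)
    (hcm : LocCoh.IsCohenMacaulayModule (Localization.AtPrime m)
      (LocalizedModule m.primeCompl P)) :
    ∀ (q : Ideal T) [q.IsPrime], Subsingleton (LocalizedModule q.primeCompl P) ∨
      LocCoh.IsCohenMacaulayModule (Localization.AtPrime q)
        (LocalizedModule q.primeCompl P) := by
  classical
  intro q hq
  haveI : IsNoetherianRing T := Algebra.FiniteType.isNoetherianRing k T
  by_cases hsub : Subsingleton (LocalizedModule q.primeCompl P)
  · exact Or.inl hsub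
  right
  rw [not_subsingleton_iff_nontrivial] at hsub
  haveI hcore := Groth.Agent.Lib.Helper87.GrHtC.core_isPrime (𝒜 := flat 𝒯) q
  set Q := (Ideal.homogeneousCore (flat 𝒯) q).toIdeal with hQ
  have hQhom : Q.IsHomogeneous 𝒯 := by
    intro i x hx
    have := (Ideal.homogeneousCore (flat 𝒯) q).isHomogeneous i hx
    rwa [coe_decompose_flat] at this
  have hQm : Q ≤ m := by
    rw [hm]
    exact le_irr 𝒯 hpos h0 hQhom hcore.ne_top
  have hann : (Module.annihilator T P).IsHomogeneous 𝒯 := annihilator_isHomogeneous 𝒯 𝒬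
  have hann' : (Module.annihilator T P).IsHomogeneous (flat 𝒯) := by
    intro i x hx
    have := hann i hx
    rwa [← coe_decompose_flat] at this
  have hannq : Module.annihilator T P ≤ q := by
    have h1 : (⟨q, hq⟩ : PrimeSpectrum T) ∈ Module.support T P := Module.mem_support_iff.mpr hsub
    rwa [Module.mem_support_iff_of_finite] at h1
  have hannQ : Module.annihilator T P ≤ Q :=
    Groth.Agent.Lib.Helper87.GrSuppDimA.le_core_of_isHomogeneous (flat 𝒯) hann' hannq
  have hQnt : Nontrivial (LocalizedModule Q.primeCompl P) := by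
    have h1 : (⟨Q, hcore⟩ : PrimeSpectrum T) ∈ Module.support T P := by
      rw [Module.mem_support_iff_of_finite]
      exact hannQ
    exact Module.mem_support_iff.mp h1
  have hdim := (supportDim_eq_localization 𝒯 hpos h0 m hm P hann).1
  have hQcm := isCM_localization_of_le P m Q hQm hcm hdim hQnt
  have hqmap : (q.map (Ideal.Quotient.mk Q)).IsPrime :=
    Ideal.map_isPrime_of_surjective Ideal.Quotient.mk_surjective
      (by rw [Ideal.mk_ker]; exact Ideal.toIdeal_homogeneousCore_le (flat 𝒯) q)
  have hfin : (q.map (Ideal.Quotient.mk Q)).height ≠ ⊤ := Ideal.height_ne_top hqmap.ne_top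
  obtain ⟨d, hd⟩ := ENat.ne_top_iff_exists.1 hfin
  have h1 := Groth.Agent.Lib.Helper87.GrSuppDimB.main (𝒜 := flat 𝒯) 𝒬 q hsub
  have h2 := Groth.Agent.Lib.Helper87.GrDepthE.main (flat 𝒯) 𝒬 q d hd.symm
  unfold LocCoh.IsCohenMacaulayModule at hQcm ⊢
  rw [h1, h2, hQcm, ← hd]
  push_cast
  rfl

include hpos h0 𝒬 in
/-- a homogeneous regular sequence of length `dim P` in the irrelevant ideal makes `P`
Cohen–Macaulay -/
theorem isCM_of_regular_seq [Nontrivial T] [Algebra.FiniteType k T] [Module.Finite T P]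
    [Nontrivial P] (rs : List T) (hreg : IsWeaklyRegular P rs) (hmem : ∀ r ∈ rs, r ∈ irr 𝒯)
    (hlen : ((rs.length : ℕ) : WithBot ℕ∞) = Module.supportDim T P) :
    ∀ (q : Ideal T) [q.IsPrime], Subsingleton (LocalizedModule q.primeCompl P) ∨
      LocCoh.IsCohenMacaulayModule (Localization.AtPrime q)
        (LocalizedModule q.primeCompl P) := by
  classical
  haveI : IsNoetherianRing T := Algebra.FiniteType.isNoetherianRing k T
  haveI hmax := irr_isMaximal 𝒯 hpos h0
  haveI hprime : (irr 𝒯).IsPrime := hmax.isPrime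
  have hann : (Module.annihilator T P).IsHomogeneous 𝒯 := annihilator_isHomogeneous 𝒯 𝒬
  obtain ⟨hdim, hnt⟩ := supportDim_eq_localization 𝒯 hpos h0 (irr 𝒯) rfl P hann
  have h1 := Groth.Agent.Lib.Helper29.CMRing.length_le_depth_localizedModule T P hreg hmem
  have h2 := Groth.Agent.Lib.Helper29.DepthLib.depth_le_supportDim
    (Localization.AtPrime (irr 𝒯)) (LocalizedModule (irr 𝒯).primeCompl P)
  have h1' : ((rs.length : ℕ) : WithBot ℕ∞) ≤ ((LocCoh.depth (Localization.AtPrime (irr 𝒯))
      (LocalizedModule (irr 𝒯).primeCompl P) : ℕ∞) : WithBot ℕ∞) := by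
    exact_mod_cast h1
  have hcm : LocCoh.IsCohenMacaulayModule (Localization.AtPrime (irr 𝒯))
      (LocalizedModule (irr 𝒯).primeCompl P) := by
    unfold LocCoh.IsCohenMacaulayModule
    refine le_antisymm ?_ h2
    rw [← hdim, ← hlen]
    exact h1'
  exact isCM_of_isCM_irr 𝒯 hpos h0 𝒬 (irr 𝒯) rfl hcm

include hpos h0 𝒬 in
/-- a socle element modulo a regular element of `T_+` obstructs Cohen–Macaulayness of a graded
module of dimension `≥ 2` -/
theorem not_isCM_of_socle [Nontrivial T] [Algebra.FiniteType k T] [Module.Finite T P]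
    [Nontrivial P] {t : T} (htirr : t ∈ irr 𝒯) (htreg : IsSMulRegular P t) {u : P}
    (hunot : ∀ w : P, u ≠ t • w) (N : ℕ) (hge : ∀ c ∈ irr 𝒯 ^ N, ∃ w : P, c • u = t • w)
    (hdim : (2 : WithBot ℕ∞) ≤ Module.supportDim T P) :
    ¬ ∀ (q : Ideal T) [q.IsPrime], Subsingleton (LocalizedModule q.primeCompl P) ∨
      LocCoh.IsCohenMacaulayModule (Localization.AtPrime q)
        (LocalizedModule q.primeCompl P) := by
  classical
  intro hall
  haveI : IsNoetherianRing T := Algebra.FiniteType.isNoetherianRing k T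
  haveI hmax := irr_isMaximal 𝒯 hpos h0
  haveI hprime : (irr 𝒯).IsPrime := hmax.isPrime
  have hann : (Module.annihilator T P).IsHomogeneous 𝒯 := annihilator_isHomogeneous 𝒯 𝒬
  obtain ⟨hdimeq, hnt⟩ := supportDim_eq_localization 𝒯 hpos h0 (irr 𝒯) rfl P hann
  have hcm : LocCoh.IsCohenMacaulayModule (Localization.AtPrime (irr 𝒯))
      (LocalizedModule (irr 𝒯).primeCompl P) := by
    rcases hall (irr 𝒯) with h | h
    · exact absurd h (not_subsingleton _)
    · exact h
  have hreg : IsWeaklyRegular P [t] := (isWeaklyRegular_singleton_iff P t).mpr htreg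
  have hmem : ∀ r ∈ [t], r ∈ irr 𝒯 := by
    intro r hr
    rw [List.mem_singleton] at hr
    rw [hr]
    exact htirr
  have hsub : Ideal.ofList [t] • (⊤ : Submodule T P) = t • (⊤ : Submodule T P) := by
    rw [Ideal.ofList_singleton, Submodule.ideal_span_singleton_smul]
  have hass : irr 𝒯 ∈ associatedPrimes T (P ⧸ (Ideal.ofList [t] • (⊤ : Submodule T P))) := by
    refine ⟨hprime, Submodule.Quotient.mk u, ?_⟩
    have hu0 : (Submodule.Quotient.mk u : P ⧸ (Ideal.ofList [t] • (⊤ : Submodule T P))) ≠ 0 := by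
      intro h
      rw [Submodule.Quotient.mk_eq_zero, hsub, Submodule.mem_smul_pointwise_iff_exists] at h
      obtain ⟨w, -, hw⟩ := h
      exact hunot w hw.symm
    have hle : irr 𝒯 ≤ ((⊥ : Submodule T (P ⧸ (Ideal.ofList [t] • (⊤ : Submodule T P)))).colon
        {Submodule.Quotient.mk u}).radical := by
      intro x hx
      refine ⟨N, ?_⟩
      rw [Submodule.mem_colon_singleton, Submodule.mem_bot, ← Submodule.Quotient.mk_smul,
        Submodule.Quotient.mk_eq_zero, hsub, Submodule.mem_smul_pointwise_iff_exists]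
      obtain ⟨w, hw⟩ := hge _ (Ideal.pow_mem_pow hx N)
      exact ⟨w, Submodule.mem_top, hw.symm⟩
    refine hmax.eq_of_le ?_ hle
    rw [Ne, Ideal.radical_eq_top, Ideal.eq_top_iff_one, Submodule.mem_colon_singleton,
      Submodule.mem_bot, one_smul]
    exact hu0
  have hdepth := Groth.Agent.Lib.Helper29.CMRing.depth_localizedModule_eq_length_of_mem_ass T P
    hreg hmem hass
  unfold LocCoh.IsCohenMacaulayModule at hcm
  rw [hdepth, ← hdimeq] at hcm
  rw [hcm] at hdim
  simp only [List.length_singleton] at hdim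
  have h3 : ((2 : ℕ∞) : WithBot ℕ∞) ≤ ((1 : ℕ∞) : WithBot ℕ∞) := hdim
  have h4 : (2 : ℕ∞) ≤ 1 := WithBot.coe_le_coe.mp h3
  exact absurd h4 (by decide)

end Graded

end Groth.Agent.Lib.Helper87.SegModC
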