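import Mathlib
import Groth.Agent.Lib.Helper87.SegModA
import Groth.Agent.Lib.Helper87.SegModB
import Groth.Agent.Lib.Helper87.SegModC
import Groth.Agent.Lib.Helper87.SegModD
import Groth.Agent.Lib.Helper87.ModHilbH

/-!
# The Segre product `M # N` with `dim M = 1`: Cohen–Macaulay iff `H^1(M) # N = 0`
-/

set_option autoImplicit false
set_option linter.style.haveILetI false
set_option linter.unusedSectionVars false
universe u
open scoped TensorProduct

namespace Groth.Agent.Lib.Helper87.SegModE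

open Groth.Agent.Lib.Helper87.ModHilbG Groth.Agent.Lib.Helper87.SegPolyA
open Groth.Agent.Lib.Helper87.SegreC
open Groth.Agent.Lib.Helper87.SegModA Groth.Agent.Lib.Helper87.SegModB
open Groth.Agent.Lib.Helper87.SegModC Groth.Agent.Lib.Helper87.SegModD
open Groth.Agent.Lib.Helper99.Segre RingTheory.Sequence

theorem main (k : Type u) [Field k] (R : Type u) [CommRing R] [Algebra k R]
    (𝒜 : ℤ → Submodule k R) [GradedAlgebra 𝒜] (hposR : ∀ n : ℤ, n < 0 → 𝒜 n = ⊥)
    (h0R : 𝒜 0 = Submodule.span k {(1 : R)}) [Algebra.FiniteType k R] (S : Type u) [CommRing S]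
    [Algebra k S] (ℬ : ℤ → Submodule k S) [GradedAlgebra ℬ] (hposS : ∀ n : ℤ, n < 0 → ℬ n = ⊥)
    (h0S : ℬ 0 = Submodule.span k {(1 : S)}) [Algebra.FiniteType k S] (T : Type u) [CommRing T]
    [Algebra k T] (𝒯 : ℤ → Submodule k T) [GradedAlgebra 𝒯] (ψ : T →ₐ[k] TensorProduct k R S)
    (hT : GrSeg.IsSegreRing 𝒜 ℬ 𝒯 ψ) (mR : HomogeneousIdeal 𝒜)
    (hmR : mR.toIdeal = Ideal.span (⋃ n ∈ Set.Ioi (0 : ℤ), (𝒜 n : Set R)))
    (M : Type u) [AddCommGroup M] [Module R M] [Module k M] [IsScalarTower k R M]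
    (ℳ : ℤ → AddSubgroup M) [DirectSum.Decomposition ℳ] [SetLike.GradedSMul 𝒜 ℳ]
    [Module.Finite R M] (EM : GrLC.StarInjRes 𝒜 ℳ) (N : Type u) [AddCommGroup N] [Module S N]
    [Module k N] [IsScalarTower k S N] (𝒩 : ℤ → AddSubgroup N) [DirectSum.Decomposition 𝒩]
    [SetLike.GradedSMul ℬ 𝒩] [Module.Finite S N] (P : Type u) [AddCommGroup P] [Module T P]
    [Module k P] [IsScalarTower k T P] (𝒬 : ℤ → AddSubgroup P) [DirectSum.Decomposition 𝒬]
    (φ : P →ₗ[k] TensorProduct k M N) (hP : GrSeg.IsSegreMod ψ ℳ 𝒩 𝒬 φ) [Nontrivial P] (s : ℕ)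
    (h1s : 1 ≤ s) (hdM : Module.supportDim R M = 1) (hdN : Module.supportDim S N = s)
    (hMcm : ∀ (q : Ideal R) [q.IsPrime], Subsingleton (LocalizedModule q.primeCompl M) ∨
      LocCoh.IsCohenMacaulayModule (Localization.AtPrime q) (LocalizedModule q.primeCompl M))
    (hNcm : ∀ (q : Ideal S) [q.IsPrime], Subsingleton (LocalizedModule q.primeCompl N) ∨
      LocCoh.IsCohenMacaulayModule (Localization.AtPrime q) (LocalizedModule q.primeCompl N)) :
    (2 ≤ s → ((∀ (q : Ideal T) [q.IsPrime], Subsingleton (LocalizedModule q.primeCompl P) ∨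
      LocCoh.IsCohenMacaulayModule (Localization.AtPrime q) (LocalizedModule q.primeCompl P)) ↔
        ∀ d : ℤ, EM.Hcomp mR 1 d = ⊥ ∨ 𝒩 d = ⊥)) ∧
      (s = 1 → (∀ (q : Ideal T) [q.IsPrime], Subsingleton (LocalizedModule q.primeCompl P) ∨
        LocCoh.IsCohenMacaulayModule (Localization.AtPrime q)
          (LocalizedModule q.primeCompl P))) := by
  classical
  have hψ : Function.Injective ψ := hT.1
  have hdegT : ∀ n : ℤ, (𝒯 n).map ψ.toLinearMap = seg 𝒜 ℬ n := hT.2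
  haveI : Nontrivial M := by
    rw [← Module.supportDim_ne_bot_iff_nontrivial R, hdM]
    exact WithBot.coe_ne_bot
  haveI : Nontrivial N := by
    rw [← Module.supportDim_ne_bot_iff_nontrivial S, hdN]
    exact WithBot.coe_ne_bot
  haveI : Nontrivial R := Module.nontrivial R M
  haveI : Nontrivial S := Module.nontrivial S N
  haveI : Nontrivial T := Module.nontrivial T P
  haveI : IsNoetherianRing R := Algebra.FiniteType.isNoetherianRing k R
  haveI : IsNoetherianRing S := Algebra.FiniteType.isNoetherianRing k S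
  have hposT : ∀ n : ℤ, n < 0 → 𝒯 n = ⊥ := fun n hn =>
    T_neg 𝒜 ℬ 𝒯 ψ hψ hdegT (hposR n hn)
  have h0T := T_zero 𝒜 ℬ 𝒯 ψ hψ hdegT h0R h0S
  haveI : IsNoetherianRing T :=
    Groth.Agent.S18646.result k R 𝒜 hposR h0R S ℬ hposS h0S T 𝒯 ψ hψ hT.2
  haveI : Algebra.FiniteType k T := finiteType_of_isNoetherianRing 𝒯 hposT h0T
  haveI : Module.Finite T P :=
    Groth.Agent.S19747.result k R 𝒜 hposR h0R S ℬ hposS h0S T 𝒯 ψ hT M ℳ N 𝒩 P 𝒬 φ hP
  haveI : SetLike.GradedSMul 𝒯 𝒬 :=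
    ⟨fun {c n t p} ht hp => Groth.Agent.Lib.Helper99.Segre.smul_mem_piece hT hP
      (fun a ha x hx => SetLike.GradedSMul.smul_mem (A := 𝒜) (B := ℳ) ha hx)
      (fun b hb y hy => SetLike.GradedSMul.smul_mem (A := ℬ) (B := 𝒩) hb hy) ht hp⟩
  -- depths
  have hdepthM : LocCoh.idealDepth (irr 𝒜) M = ((1 : ℕ) : ℕ∞) := by
    have h1 := idealDepth_irr_eq 𝒜 hposR h0R ℳ hMcm
    rw [hdM] at h1
    have h2 : ((LocCoh.idealDepth (irr 𝒜) M : ℕ∞) : WithBot ℕ∞) = ((1 : ℕ∞) : WithBot ℕ∞) := h1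
    rw [Nat.cast_one]
    exact WithBot.coe_injective h2
  have hdepthN : LocCoh.idealDepth (irr ℬ) N = ((s : ℕ) : ℕ∞) := by
    have h1 := idealDepth_irr_eq ℬ hposS h0S 𝒩 hNcm
    rw [hdN] at h1
    have h2 : ((LocCoh.idealDepth (irr ℬ) N : ℕ∞) : WithBot ℕ∞) = (((s : ℕ) : ℕ∞) : WithBot ℕ∞) :=
      h1
    exact WithBot.coe_injective h2
  -- the regular element on `M`
  obtain ⟨f, c₁, hc₁, hf, hfreg⟩ := exists_regular_seq_dvd 𝒜 hposR h0R hdepthM 1 one_pos
  set a : ℕ := c₁ 0 with ha_def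
  have ha : 0 < a := hc₁ 0
  set x : R := f 0 with hx_def
  have hx : x ∈ 𝒜 (a : ℤ) := by
    have := hf 0
    rwa [one_mul] at this
  have hxreg : IsSMulRegular M x := by
    have h1 : List.ofFn f = [f 0] := by
      rw [List.ofFn_succ, List.ofFn_zero]
    rw [h1, isWeaklyRegular_singleton_iff] at hfreg
    exact hfreg
  -- the regular sequence on `N`
  obtain ⟨y, c, hc, hy, hyreg⟩ := exists_regular_seq_dvd ℬ hposS h0S hdepthN a ha
  have hxc : ∀ j : ℕ, x ^ j ∈ 𝒜 ((a * j : ℕ) : ℤ) := by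
    intro j
    have h1 : x ^ j ∈ 𝒜 (j • (a : ℤ)) := SetLike.pow_mem_graded j hx
    have h2 : j • (a : ℤ) = ((a * j : ℕ) : ℤ) := by rw [nsmul_eq_mul]; push_cast; ring
    rwa [h2] at h1
  have hex : ∀ l, ∃ tl ∈ 𝒯 ((a * c l : ℕ) : ℤ), ψ tl = (x ^ c l) ⊗ₜ[k] (y l) := fun l =>
    exists_psi_eq_tmul hT (tmul_mem_segrePiece (hxc (c l)) (hy l))
  choose t htdeg ht using hex
  have htirr : ∀ l, t l ∈ irr 𝒯 := by
    intro l
    apply Ideal.subset_span
    simp only [Set.mem_iUnion, Set.mem_Ioi]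
    refine ⟨((a * c l : ℕ) : ℤ), ?_, htdeg l⟩
    have := Nat.mul_pos ha (hc l)
    exact_mod_cast this
  have hmemT : ∀ r ∈ List.ofFn t, r ∈ irr 𝒯 := by
    intro r hr
    rw [List.mem_ofFn] at hr
    obtain ⟨l, rfl⟩ := hr
    exact htirr l
  -- the dimension of `P`
  have hPdim : Module.supportDim T P = ((s : ℕ) : WithBot ℕ∞) := by
    have h1 := Groth.Agent.Lib.Helper87.ModHilbH.main k R 𝒜 hposR h0R S ℬ hposS h0S T 𝒯 ψ hT
      M ℳ N 𝒩 P 𝒬 φ hP 1 s le_rfl h1s (by rw [hdM]; rfl) hdN hMcm hNcm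
    rcases h1 with h1 | h1
    · have e : 1 + s - 1 = s := by omega
      rwa [e] at h1
    · exact absurd h1 (not_subsingleton P)
  have hlenT : (((List.ofFn t).length : ℕ) : WithBot ℕ∞) = Module.supportDim T P := by
    rw [List.length_ofFn, hPdim]
  -- Cohen–Macaulayness from the vanishing condition
  have hCM_of_H : (∀ (g : ℤ) (j : ℕ), 1 ≤ j →
      (∀ m ∈ ℳ g, ∃ m' : M, m = x ^ j • m') ∨ 𝒩 (g - j * a) = ⊥) →
      ∀ (q : Ideal T) [q.IsPrime], Subsingleton (LocalizedModule q.primeCompl P) ∨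
        LocCoh.IsCohenMacaulayModule (Localization.AtPrime q)
          (LocalizedModule q.primeCompl P) := by
    intro H
    have hreg := reg_t 𝒜 ℬ ψ ℳ 𝒩 𝒬 φ hP hx H hxreg y c hc hy t ht hyreg
    exact isCM_of_regular_seq 𝒯 hposT h0T 𝒬 (List.ofFn t) hreg hmemT hlenT
  constructor
  · intro h2s
    constructor
    · -- Cohen–Macaulay implies the vanishing
      intro hall
      by_contra hcon
      push Not at hcon
      obtain ⟨n, hH1, hNn⟩ := hcon
      obtain ⟨s', rfl⟩ : ∃ s', s = s' + 1 := ⟨s - 1, by omega⟩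
      set i0 : Fin (s' + 1) := 0 with hi0
      set D : ℕ := a * c i0 with hD
      have hDpos : (0 : ℤ) < (D : ℤ) := by
        have := Nat.mul_pos ha (hc i0)
        exact_mod_cast this
      set X : R := x ^ c i0 with hX
      set Y : S := y i0 with hY
      have hXD : X ∈ 𝒜 (D : ℤ) := hxc (c i0)
      have hYD : Y ∈ ℬ (D : ℤ) := hy i0
      have hXreg : IsSMulRegular M X := hxreg.pow (c i0)
      have hYreg : IsSMulRegular N Y := by
        rw [List.ofFn_succ, isWeaklyRegular_cons_iff] at hyreg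
        exact hyreg.1
      -- a piece not in `X M`
      have hex2 : ∃ j : ℕ, 1 ≤ j ∧ ∃ μ ∈ ℳ (n + j * (D : ℤ)), ∀ m' : M, μ ≠ X • m' := by
        by_contra hno
        push Not at hno
        exact hH1 (Hcomp_eq_bot_of_le_smul 𝒜 ℳ mR hmR EM hDpos hXD hXreg hno)
      obtain ⟨j, hj, μ, hμmem, hμX⟩ := hex2
      obtain ⟨⟨ν₀, hν₀⟩, hν₀0'⟩ := (AddSubgroup.ne_bot_iff_exists_ne_zero).mp hNn
      have hν₀0 : ν₀ ≠ 0 := fun h => hν₀0' (Subtype.ext h)
      set n' : ℤ := n + j * (D : ℤ) with hn'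
      set ν₁ : N := Y ^ (j - 1) • ν₀ with hν₁
      have hν₁0 : ν₁ ≠ 0 := by
        intro h
        apply hν₀0
        have := (hYreg.pow (j - 1)) (show Y ^ (j - 1) • ν₀ = Y ^ (j - 1) • 0 by
          rw [smul_zero]; exact h)
        exact this
      have hν₁mem : ν₁ ∈ 𝒩 (n' - (D : ℤ)) := by
        have h1 : Y ^ (j - 1) ∈ ℬ ((j - 1) • (D : ℤ)) := SetLike.pow_mem_graded (j - 1) hYD
        have h2 := SetLike.GradedSMul.smul_mem (A := ℬ) (B := 𝒩) h1 hν₀
        rw [vadd_eq_add] at h2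
        have e : (j - 1) • (D : ℤ) + n = n' - (D : ℤ) := by
          rw [hn', nsmul_eq_mul, Nat.cast_sub hj]
          push_cast
          ring
        rwa [e] at h2
      have hYν : Y • ν₁ ∈ 𝒩 n' := by
        have := SetLike.GradedSMul.smul_mem (A := ℬ) (B := 𝒩) hYD hν₁mem
        rw [vadd_eq_add] at this
        have e : (D : ℤ) + (n' - (D : ℤ)) = n' := by ring
        rwa [e] at this
      have hseg : μ ⊗ₜ[k] (Y • ν₁) ∈ (GrSeg.segrePiece k ℳ 𝒩 n' : Set (M ⊗[k] N)) :=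
        tmul_mem_segrePiece hμmem hYν
      rw [← hP.image_piece] at hseg
      obtain ⟨u, -, hu⟩ := hseg
      have htt : ψ (t i0) = X ⊗ₜ[k] Y := ht i0
      have htreg := t_regular ψ ℳ 𝒩 𝒬 φ hP hXreg hYreg htt
      have hunot := u_not_smul ψ ℳ 𝒩 𝒬 φ hP hYreg hμX hν₁0 htt hu
      obtain ⟨N₀, hN₀⟩ := exists_piece_le_smul 𝒜 hposR h0R ℳ hdM hXD hXreg
      have hmul : ∀ m' : ℤ, N₀ - n' ≤ m' → ∀ w ∈ 𝒯 m', ∃ w' : P, w • u = t i0 • w' := by
        intro m' hm' w hw
        exact smul_u_mem 𝒜 ℬ 𝒯 ψ hT ℳ 𝒩 𝒬 φ hP hXD hμmem hν₁mem htt hu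
          (fun m₁ hm₁ => hN₀ (m' + n') (by omega) m₁ hm₁) hw
      set K : ℕ := (N₀ - n').toNat with hK
      have hge : ∀ c' ∈ geIdeal 𝒯 (K : ℤ), ∃ w' : P, c' • u = t i0 • w' := by
        intro c' hc'
        unfold geIdeal at hc'
        induction hc' using Submodule.span_induction with
        | mem w hw =>
          simp only [Set.mem_iUnion, Set.mem_Ici] at hw
          obtain ⟨m, hm, hw⟩ := hw
          exact hmul m (by omega) w hw
        | zero => exact ⟨0, by rw [zero_smul, smul_zero]⟩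
        | add c1 c2 _ _ hc1 hc2 =>
          obtain ⟨w1, h1⟩ := hc1
          obtain ⟨w2, h2⟩ := hc2
          exact ⟨w1 + w2, by rw [add_smul, h1, h2, smul_add]⟩
        | smul d c1 _ hc1 =>
          obtain ⟨w1, h1⟩ := hc1
          exact ⟨d • w1, by rw [smul_eq_mul, mul_smul, h1, smul_comm]⟩
      refine not_isCM_of_socle 𝒯 hposT h0T 𝒬 (htirr i0) htreg hunot K
        (fun c' hc' => hge c' (irr_pow_le_geIdeal 𝒯 K hc')) ?_ hall
      rw [hPdim]
      exact_mod_cast h2s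
    · -- the vanishing implies Cohen–Macaulay
      intro hC
      apply hCM_of_H
      intro g j hj
      rcases hC (g - j * a) with h | h
      · left
        have hja : (0 : ℤ) < ((a * j : ℕ) : ℤ) := by
          have := Nat.mul_pos ha hj
          exact_mod_cast this
        have h1 := le_smul_of_Hcomp_eq_bot 𝒜 hposR h0R ℳ mR hmR EM hdM hja (hxc j)
          (hxreg.pow j) h
        have e : g - (j : ℤ) * (a : ℤ) + ((a * j : ℕ) : ℤ) = g := by push_cast; ring
        rw [e] at h1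
        exact h1
      · right
        exact h
  · intro hs1
    subst hs1
    have hYreg : IsSMulRegular N (y 0) := by
      rw [List.ofFn_succ, isWeaklyRegular_cons_iff] at hyreg
      exact hyreg.1
    have htreg := t_regular ψ ℳ 𝒩 𝒬 φ hP (hxreg.pow (c 0)) hYreg (ht 0)
    have hlist : List.ofFn t = [t 0] := by
      rw [List.ofFn_succ, List.ofFn_zero]
    refine isCM_of_regular_seq 𝒯 hposT h0T 𝒬 (List.ofFn t) ?_ hmemT hlenT
    rw [hlist, isWeaklyRegular_singleton_iff]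
    exact htreg

end Groth.Agent.Lib.Helper87.SegModE
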