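import Mathlib
import Groth.Agent.Lib.Helper87.SegPolyA
import Groth.Agent.Lib.Helper87.SegreC
import Groth.Agent.Lib.Helper28.CMRingAux
import Groth.Agent.S14424
import Groth.Agent.S5151
import Groth.Agent.S18646

/-!
# The Segre product `R # S` with `dim R = 1`: Cohen–Macaulay iff `R` is a polynomial ring
-/

set_option autoImplicit false
set_option linter.style.haveILetI false
set_option linter.unusedSectionVars false
universe u
open scoped TensorProduct

namespace Groth.Agent.Lib.Helper87.SegPolyB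

open Groth.Agent.Lib.Helper87.ModHilbG Groth.Agent.Lib.Helper87.ModHilbB
open Groth.Agent.Lib.Helper87.SegPolyA Groth.Agent.Lib.Helper87.SegreC

section Tensor

variable {k : Type u} [Field k] {R : Type u} [CommRing R] [Algebra k R]
  {S : Type u} [CommRing S] [Algebra k S]

theorem tmul_one_mul_eq_zero {x : R} (hx : ∀ z : R, x * z = 0 → z = 0) (z : R ⊗[k] S)
    (h : (x ⊗ₜ[k] (1 : S)) * z = 0) : z = 0 := by
  have hinj0 : Function.Injective (LinearMap.mulLeft k x) := by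
    intro a b hab
    have h1 : x * (a - b) = 0 := by
      rw [mul_sub]
      exact sub_eq_zero.mpr hab
    exact sub_eq_zero.mp (hx _ h1)
  have hinj : Function.Injective (LinearMap.rTensor S (LinearMap.mulLeft k x)) :=
    Module.Flat.rTensor_preserves_injective_linearMap _ hinj0
  have heq : ∀ z : R ⊗[k] S, LinearMap.rTensor S (LinearMap.mulLeft k x) z =
      (x ⊗ₜ[k] (1 : S)) * z := by
    intro z
    induction z using TensorProduct.induction_on with
    | zero => simp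
    | tmul a b => simp [Algebra.TensorProduct.tmul_mul_tmul]
    | add a b ha hb => rw [map_add, mul_add, ha, hb]
  apply hinj
  rw [heq, h, map_zero]

theorem one_tmul_mul_eq_zero {y : S} (hy : ∀ z : S, y * z = 0 → z = 0) (z : R ⊗[k] S)
    (h : ((1 : R) ⊗ₜ[k] y) * z = 0) : z = 0 := by
  have hinj0 : Function.Injective (LinearMap.mulLeft k y) := by
    intro a b hab
    have h1 : y * (a - b) = 0 := by
      rw [mul_sub]
      exact sub_eq_zero.mpr hab
    exact sub_eq_zero.mp (hy _ h1)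
  have hinj : Function.Injective (LinearMap.lTensor R (LinearMap.mulLeft k y)) :=
    Module.Flat.lTensor_preserves_injective_linearMap _ hinj0
  have heq : ∀ z : R ⊗[k] S, LinearMap.lTensor R (LinearMap.mulLeft k y) z =
      ((1 : R) ⊗ₜ[k] y) * z := by
    intro z
    induction z using TensorProduct.induction_on with
    | zero => simp
    | tmul a b => simp [Algebra.TensorProduct.tmul_mul_tmul]
    | add a b ha hb => rw [map_add, mul_add, ha, hb]
  apply hinj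
  rw [heq, h, map_zero]

/-- contraction of the right factor with a functional -/
noncomputable def contr (l : S →ₗ[k] k) : R ⊗[k] S →ₗ[k] R :=
  (TensorProduct.rid k R).toLinearMap ∘ₗ LinearMap.lTensor R l

theorem contr_tmul (l : S →ₗ[k] k) (a : R) (b : S) : contr l (a ⊗ₜ[k] b) = l b • a := by
  simp [contr]

theorem contr_mul (l : S →ₗ[k] k) (x : R) (z : R ⊗[k] S) :
    contr l ((x ⊗ₜ[k] (1 : S)) * z) = x * contr l z := by
  induction z using TensorProduct.induction_on with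
  | zero => simp
  | tmul a b =>
    rw [Algebra.TensorProduct.tmul_mul_tmul, one_mul, contr_tmul, contr_tmul, mul_smul_comm]
  | add a b ha hb => rw [mul_add, map_add, ha, hb, map_add, mul_add]

end Tensor

section Main

variable {k : Type u} [Field k] {R : Type u} [CommRing R] [Algebra k R]
  (𝒜 : ℤ → Submodule k R) [GradedAlgebra 𝒜]
  {S : Type u} [CommRing S] [Algebra k S] (ℬ : ℤ → Submodule k S) [GradedAlgebra ℬ]
  {T : Type u} [CommRing T] [Algebra k T] (𝒯 : ℤ → Submodule k T) [GradedAlgebra 𝒯]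
  (ψ : T →ₐ[k] R ⊗[k] S) (hψ : Function.Injective ψ)
  (hdegT : ∀ n : ℤ, (𝒯 n).map ψ.toLinearMap = seg 𝒜 ℬ n)

include hψ hdegT

omit [GradedAlgebra 𝒜] [GradedAlgebra ℬ] [GradedAlgebra 𝒯] in
theorem exists_of_mem_seg {n : ℤ} {z : R ⊗[k] S} (hz : z ∈ seg 𝒜 ℬ n) : ∃ w ∈ 𝒯 n, ψ w = z := by
  rw [← hdegT n] at hz
  obtain ⟨w, hw, hwz⟩ := hz
  exact ⟨w, hw, hwz⟩

omit [GradedAlgebra 𝒜] [GradedAlgebra ℬ] [GradedAlgebra 𝒯] in
theorem psi_mem_seg {n : ℤ} {w : T} (hw : w ∈ 𝒯 n) : ψ w ∈ seg 𝒜 ℬ n := by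
  rw [← hdegT n]
  exact ⟨w, hw, rfl⟩

/-- the element `t` with `ψ t = x ⊗ y` is regular -/
theorem t_regular {x : R} {y : S} (hx : ∀ z : R, x * z = 0 → z = 0)
    (hy : ∀ z : S, y * z = 0 → z = 0) {t : T} (ht : ψ t = x ⊗ₜ[k] y) :
    ∀ w : T, t * w = 0 → w = 0 := by
  intro w hw
  apply hψ
  rw [map_zero]
  have h1 : ψ t * ψ w = 0 := by rw [← map_mul, hw, map_zero]
  have h2 : x ⊗ₜ[k] y = (x ⊗ₜ[k] (1 : S)) * ((1 : R) ⊗ₜ[k] y) := by
    rw [Algebra.TensorProduct.tmul_mul_tmul, mul_one, one_mul]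
  rw [ht, h2, mul_assoc] at h1
  exact one_tmul_mul_eq_zero hy _ (tmul_one_mul_eq_zero hx _ h1)

/-- the socle element is not a multiple of `t` -/
theorem u_not_mem {x a : R} {y b₀ : S} (hy : ∀ z : S, y * z = 0 → z = 0)
    (ha : a ∉ Ideal.span {x}) (hb₀ : b₀ ≠ 0) {t u : T} (ht : ψ t = x ⊗ₜ[k] y)
    (hu : ψ u = a ⊗ₜ[k] (y * b₀)) : u ∉ Ideal.span {t} := by
  intro hmem
  obtain ⟨c, hc⟩ := Ideal.mem_span_singleton'.mp hmem
  have h1 : ψ c * ψ t = ψ u := by rw [← map_mul, hc]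
  rw [ht, hu] at h1
  have h2 : ((1 : R) ⊗ₜ[k] y) * (a ⊗ₜ[k] b₀ - (x ⊗ₜ[k] (1 : S)) * ψ c) = 0 := by
    rw [mul_sub, Algebra.TensorProduct.tmul_mul_tmul, one_mul, ← mul_assoc,
      Algebra.TensorProduct.tmul_mul_tmul, one_mul, mul_one, ← h1, mul_comm (ψ c)]
    exact sub_self _
  have h3 := sub_eq_zero.mp (one_tmul_mul_eq_zero hy _ h2)
  obtain ⟨l, hl⟩ := Module.Projective.exists_dual_eq_one k hb₀
  have h4 := congrArg (contr (R := R) l) h3
  rw [contr_tmul, contr_mul, hl, one_smul] at h4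
  apply ha
  rw [h4]
  exact Ideal.mul_mem_right _ _ (Ideal.mem_span_singleton_self x)

/-- high degree elements multiply the socle element into `t T` -/
theorem mul_u_mem {x a : R} {y b₀ : S} {D n : ℤ} (hx : x ∈ 𝒜 D)
    (ha : a ∈ 𝒜 n) (hb₀ : b₀ ∈ ℬ (n - D)) {t u : T} (ht : ψ t = x ⊗ₜ[k] y)
    (hu : ψ u = a ⊗ₜ[k] (y * b₀)) {m : ℤ}
    (hm : ∀ a' ∈ 𝒜 m, a' ∈ Ideal.span {x}) {w : T} (hw : w ∈ 𝒯 m) :
    w * u ∈ Ideal.span {t} := by
  set W : Submodule k (R ⊗[k] S) :=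
    (seg 𝒜 ℬ (m + n - D)).map (LinearMap.mulLeft k (x ⊗ₜ[k] y)) with hW
  have hle : seg 𝒜 ℬ m ≤ W.comap (LinearMap.mulRight k (a ⊗ₜ[k] (y * b₀))) := by
    unfold seg
    rw [Submodule.span_le]
    rintro _ ⟨a', ha', b', hb', rfl⟩
    rw [SetLike.mem_coe, Submodule.mem_comap, LinearMap.mulRight_apply,
      Algebra.TensorProduct.tmul_mul_tmul]
    obtain ⟨c, hc, rfl⟩ := exists_mul_of_mem_span_singleton 𝒜 ha' hx (hm a' ha')
    refine ⟨(c * a) ⊗ₜ[k] (b' * b₀), ?_, ?_⟩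
    · refine tmul_mem_seg 𝒜 ℬ ?_ ?_
      · have := SetLike.GradedMul.mul_mem hc ha
        have e : m - D + n = m + n - D := by ring
        rwa [e] at this
      · have := SetLike.GradedMul.mul_mem hb' hb₀
        have e : m + (n - D) = m + n - D := by ring
        rwa [e] at this
    · rw [LinearMap.mulLeft_apply, Algebra.TensorProduct.tmul_mul_tmul]
      congr 1
      · ring
      · ring
  have h1 := hle (psi_mem_seg 𝒜 ℬ 𝒯 ψ hψ hdegT hw)
  rw [Submodule.mem_comap, LinearMap.mulRight_apply, ← hu, ← map_mul] at h1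
  obtain ⟨z', hz', hz'eq⟩ := h1
  obtain ⟨w', -, hw'⟩ := exists_of_mem_seg 𝒜 ℬ 𝒯 ψ hψ hdegT hz'
  rw [LinearMap.mulLeft_apply, ← hw', ← ht, ← map_mul] at hz'eq
  have h2 := hψ hz'eq
  rw [← h2, mul_comm]
  exact Ideal.mul_mem_left _ _ (Ideal.mem_span_singleton_self t)

omit hψ hdegT [GradedAlgebra 𝒜] [GradedAlgebra 𝒯] in
/-- all nonnegative pieces of a standard graded ring with a homogeneous regular element of
positive degree are nonzero -/
theorem exists_ne_zero_piece [Nontrivial S] (hStd : Std ℬ) {D : ℕ} (hD : 0 < D) {y : S}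
    (hy : y ∈ ℬ (D : ℤ)) (hreg : ∀ z : S, y * z = 0 → z = 0) (j : ℕ) :
    ∃ b ∈ ℬ (j : ℤ), b ≠ 0 := by
  by_contra hcon
  push Not at hcon
  have hbot : ∀ i : ℕ, ∀ b ∈ ℬ ((j + i : ℕ) : ℤ), b = 0 := by
    intro i
    induction i with
    | zero => exact hcon
    | succ i ih =>
      intro b hb
      have h1 : ((j + (i + 1) : ℕ) : ℤ) = ((j + i + 1 : ℕ) : ℤ) := by push_cast; ring
      rw [h1, hStd.succ (j + i)] at hb
      have hle : ℬ 1 * ℬ ((j + i : ℕ) : ℤ) ≤ ⊥ := by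
        rw [Submodule.mul_le]
        intro u _ v hv
        rw [Submodule.mem_bot, ih v hv, mul_zero]
      exact (Submodule.mem_bot k).mp (hle hb)
  have hypow : ∀ i : ℕ, y ^ i ≠ 0 := by
    intro i
    induction i with
    | zero => simp
    | succ i ih =>
      intro h
      rw [pow_succ'] at h
      exact ih (hreg _ h)
  have h2 : y ^ j ∈ ℬ (j • (D : ℤ)) := SetLike.pow_mem_graded j hy
  have h3 : j • (D : ℤ) = ((j + j * (D - 1) : ℕ) : ℤ) := by
    rw [nsmul_eq_mul]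
    obtain ⟨D', rfl⟩ : ∃ D', D = D' + 1 := ⟨D - 1, by omega⟩
    have e : D' + 1 - 1 = D' := by omega
    rw [e]
    push_cast
    ring
  rw [h3] at h2
  exact hypow j (hbot _ _ h2)

/-- **If `R # S` is Cohen–Macaulay (`dim R = 1`, `dim S ≥ 2`) then `R` is a polynomial ring.** -/
theorem nonempty_algEquiv_of_isCM (hposR : ∀ n : ℤ, n < 0 → 𝒜 n = ⊥)
    (h0R : 𝒜 0 = Submodule.span k {(1 : R)}) [Algebra.FiniteType k R]
    (hposS : ∀ n : ℤ, n < 0 → ℬ n = ⊥) (h0S : ℬ 0 = Submodule.span k {(1 : S)})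
    [Algebra.FiniteType k S] [LocCoh.IsCohenMacaulayRing R] [LocCoh.IsCohenMacaulayRing S]
    (hStdR : Std 𝒜) (hStdS : Std ℬ) (hr : ringKrullDim R = 1) (hs : 2 ≤ ringKrullDim S)
    (hTcm : LocCoh.IsCohenMacaulayRing T) : Nonempty (R ≃ₐ[k] Polynomial k) := by
  classical
  haveI : Nontrivial R := by
    by_contra hnt
    rw [not_nontrivial_iff_subsingleton] at hnt
    rw [ringKrullDim_eq_bot_of_subsingleton] at hr
    exact absurd hr (by decide)
  haveI : Nontrivial S := by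
    by_contra hnt
    rw [not_nontrivial_iff_subsingleton] at hnt
    rw [ringKrullDim_eq_bot_of_subsingleton] at hs
    exact absurd hs (by decide)
  haveI : IsNoetherianRing R := Algebra.FiniteType.isNoetherianRing k R
  haveI : IsNoetherianRing S := Algebra.FiniteType.isNoetherianRing k S
  obtain ⟨D1, hD1, x1, hx1, hreg1⟩ := exists_homogeneous_regular 𝒜 hposR h0R
    (by rw [hr])
  obtain ⟨D2, hD2, y2, hy2, hreg2⟩ := exists_homogeneous_regular ℬ hposS h0S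
    (le_trans (by norm_num) hs)
  set D : ℕ := D1 * D2 with hD
  have hDpos : 0 < D := Nat.mul_pos hD1 hD2
  set x : R := x1 ^ D2 with hx
  set y : S := y2 ^ D1 with hy
  have hxD : x ∈ 𝒜 (D : ℤ) := by
    have h1 : x1 ^ D2 ∈ 𝒜 (D2 • (D1 : ℤ)) := SetLike.pow_mem_graded D2 hx1
    have h2 : D2 • (D1 : ℤ) = ((D1 * D2 : ℕ) : ℤ) := by rw [nsmul_eq_mul]; push_cast; ring
    rwa [h2] at h1
  have hyD : y ∈ ℬ (D : ℤ) := by
    have h1 : y2 ^ D1 ∈ ℬ (D1 • (D2 : ℤ)) := SetLike.pow_mem_graded D1 hy2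
    have h2 : D1 • (D2 : ℤ) = ((D1 * D2 : ℕ) : ℤ) := by rw [nsmul_eq_mul]; push_cast; ring
    rwa [h2] at h1
  have hxreg : IsSMulRegular R x := hreg1.pow D2
  have hyreg : IsSMulRegular S y := hreg2.pow D1
  have hxreg' := isSMulRegular_iff_mul.mp hxreg
  have hyreg' := isSMulRegular_iff_mul.mp hyreg
  by_cases hall : ∀ n : ℕ, D ≤ n → ∀ a ∈ 𝒜 (n : ℤ), a ∈ Ideal.span {x}
  · obtain ⟨y₁, hy₁, h1⟩ := exists_piece_one_le 𝒜 hposR h0R hStdR hDpos hxD hxreg hall
    have hbij := aeval_bijective 𝒜 hStdR hr hy₁ h1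
    exact ⟨(AlgEquiv.ofBijective _ hbij).symm⟩
  exfalso
  push Not at hall
  obtain ⟨n, hn, a, ha, hax⟩ := hall
  obtain ⟨N, hN⟩ := exists_piece_le_span 𝒜 hposR h0R hStdR hr hxD hxreg
  obtain ⟨b₀, hb₀, hb₀0⟩ := exists_ne_zero_piece ℬ hStdS hDpos hyD hyreg' (n - D)
  have hb₀' : b₀ ∈ ℬ ((n : ℤ) - (D : ℤ)) := by
    have : ((n - D : ℕ) : ℤ) = (n : ℤ) - (D : ℤ) := by omega
    rwa [this] at hb₀
  obtain ⟨t, htD, ht⟩ := exists_of_mem_seg 𝒜 ℬ 𝒯 ψ hψ hdegT (tmul_mem_seg 𝒜 ℬ hxD hyD)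
  have hyb : y * b₀ ∈ ℬ (n : ℤ) := by
    have := SetLike.GradedMul.mul_mem hyD hb₀'
    have e : (D : ℤ) + ((n : ℤ) - (D : ℤ)) = n := by ring
    rwa [e] at this
  obtain ⟨u, -, hu⟩ := exists_of_mem_seg 𝒜 ℬ 𝒯 ψ hψ hdegT (tmul_mem_seg 𝒜 ℬ ha hyb)
  have htreg := t_regular 𝒜 ℬ 𝒯 ψ hψ hdegT hxreg' hyreg' ht
  have hunot := u_not_mem 𝒜 ℬ 𝒯 ψ hψ hdegT hyreg' hax hb₀0 ht hu
  have hmul : ∀ m : ℤ, (N : ℤ) ≤ m → ∀ w ∈ 𝒯 m, w * u ∈ Ideal.span {t} := by
    intro m hm w hw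
    obtain ⟨m', rfl⟩ := Int.eq_ofNat_of_zero_le (le_trans (Int.natCast_nonneg N) hm)
    exact mul_u_mem 𝒜 ℬ 𝒯 ψ hψ hdegT hxD ha hb₀' ht hu
      (fun a' ha' => hN m' (by exact_mod_cast hm) a' ha') hw
  have hge : ∀ c ∈ geIdeal 𝒯 (N : ℤ), c * u ∈ Ideal.span {t} := by
    intro c hc
    unfold geIdeal at hc
    induction hc using Submodule.span_induction with
    | mem w hw =>
      simp only [Set.mem_iUnion, Set.mem_Ici] at hw
      obtain ⟨m, hm, hw⟩ := hw
      exact hmul m hm w hw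
    | zero => rw [zero_mul]; exact zero_mem _
    | add c c' _ _ hc hc' => rw [add_mul]; exact add_mem hc hc'
    | smul d c _ hc => rw [smul_eq_mul, mul_assoc]; exact Ideal.mul_mem_left _ _ hc
  -- the structure of `T`
  have hposT : ∀ n : ℤ, n < 0 → 𝒯 n = ⊥ := fun n hn =>
    T_neg 𝒜 ℬ 𝒯 ψ hψ hdegT (hposR n hn)
  have h0T := T_zero 𝒜 ℬ 𝒯 ψ hψ hdegT h0R h0S
  haveI : IsNoetherianRing T :=
    Groth.Agent.S18646.result k R 𝒜 hposR h0R S ℬ hposS h0S T 𝒯 ψ hψ hdegT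
  haveI : Algebra.FiniteType k T := finiteType_of_isNoetherianRing 𝒯 hposT h0T
  -- the dimension of `S`
  have hSdim := ringKrullDim_eq_height_irr ℬ hposS h0S
  haveI hmaxS := irr_isMaximal ℬ hposS h0S
  obtain ⟨s', hs'⟩ := ENat.ne_top_iff_exists.mp (Ideal.height_ne_top hmaxS.ne_top)
  rw [← hs'] at hSdim
  have hSdim' : ringKrullDim S = ((s' : ℕ) : WithBot ℕ∞) := by rw [hSdim]; rfl
  have hs2 : 2 ≤ s' := by
    rw [hSdim'] at hs
    have hs'' : ((2 : ℕ) : WithBot ℕ∞) ≤ ((s' : ℕ) : WithBot ℕ∞) := hs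
    exact_mod_cast hs''
  have hTdim := SegreC.main 𝒜 ℬ 𝒯 ψ hψ hdegT hposR h0R hposS h0S 1 s' (by rw [hr]; rfl)
    hSdim' le_rfl (by omega)
  haveI : Nontrivial T := by
    by_contra hnt
    rw [not_nontrivial_iff_subsingleton] at hnt
    rw [ringKrullDim_eq_bot_of_subsingleton] at hTdim
    exact absurd hTdim (by simp)
  haveI hmaxT := irr_isMaximal 𝒯 hposT h0T
  have htirr : t ∈ irr 𝒯 := by
    apply Ideal.subset_span
    simp only [Set.mem_iUnion, Set.mem_Ioi]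
    exact ⟨D, by exact_mod_cast hDpos, htD⟩
  -- `[t]` is a maximal regular sequence in `T_+`
  have htsmul : IsSMulRegular T t := isSMulRegular_iff_mul.mpr htreg
  have hmaxseq : ∀ r ∈ irr 𝒯, ¬ RingTheory.Sequence.IsWeaklyRegular T ([t] ++ [r]) := by
    intro r hr hreg
    rw [List.singleton_append, RingTheory.Sequence.isWeaklyRegular_cons_iff,
      RingTheory.Sequence.isWeaklyRegular_singleton_iff] at hreg
    obtain ⟨-, hrreg⟩ := hreg
    have hrN : r ^ N * u ∈ Ideal.span {t} :=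
      hge _ (irr_pow_le_geIdeal 𝒯 N (Ideal.pow_mem_pow hr N))
    obtain ⟨c, hc⟩ := Ideal.mem_span_singleton'.mp hrN
    have h1 : r ^ N • (Submodule.Quotient.mk u : QuotSMulTop t T) = 0 := by
      rw [← Submodule.Quotient.mk_smul, Submodule.Quotient.mk_eq_zero,
        Submodule.mem_smul_pointwise_iff_exists]
      exact ⟨c, Submodule.mem_top, by rw [smul_eq_mul, smul_eq_mul, mul_comm, hc]⟩
    have h2 : (Submodule.Quotient.mk u : QuotSMulTop t T) = 0 :=
      (hrreg.pow N).right_eq_zero_of_smul h1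
    rw [Submodule.Quotient.mk_eq_zero, Submodule.mem_smul_pointwise_iff_exists] at h2
    obtain ⟨c', -, hc'⟩ := h2
    apply hunot
    rw [Ideal.mem_span_singleton']
    exact ⟨c', by rw [← hc', smul_eq_mul, mul_comm]⟩
  have hIM : irr 𝒯 • (⊤ : Submodule T T) ≠ ⊤ := by
    rw [Ideal.smul_top_eq_map]
    simp only [Algebra.algebraMap_self, Ideal.map_id]
    intro h
    apply hmaxT.ne_top
    rw [Ideal.eq_top_iff_one]
    have h1 : (1 : T) ∈ Submodule.restrictScalars T (irr 𝒯) := by rw [h]; trivial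
    exact h1
  have hdepth := (Groth.Agent.S5151.result T (irr 𝒯) T hIM).2 [t]
    ((RingTheory.Sequence.isWeaklyRegular_singleton_iff T t).mpr htsmul)
    (fun r hr => by rw [List.mem_singleton] at hr; rw [hr]; exact htirr) hmaxseq
  have hcm := (Groth.Agent.S14424.result T).mp hTcm (irr 𝒯) hmaxT.ne_top
  have hTh := ringKrullDim_eq_height_irr 𝒯 hposT h0T
  rw [← hcm, ← hdepth, hTdim] at hTh
  have h3 : ((1 + s' - 1 : ℕ) : WithBot ℕ∞) = ((1 : ℕ) : WithBot ℕ∞) := by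
    rw [hTh]; rfl
  have h4 : 1 + s' - 1 = 1 := by exact_mod_cast h3
  omega

/-- **If `R` is a polynomial ring in one variable then `R # S ≅ S` is Cohen–Macaulay.** -/
theorem isCM_of_algEquiv (hposR : ∀ n : ℤ, n < 0 → 𝒜 n = ⊥)
    (h0R : 𝒜 0 = Submodule.span k {(1 : R)})
    (hposS : ∀ n : ℤ, n < 0 → ℬ n = ⊥)
    [hScm : LocCoh.IsCohenMacaulayRing S]
    (hStdR : Std 𝒜) (hr : ringKrullDim R = 1) (e : R ≃ₐ[k] Polynomial k) :
    LocCoh.IsCohenMacaulayRing T := by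
  classical
  obtain ⟨y, hy, h1⟩ := exists_piece_one_le_of_algEquiv 𝒜 hposR h0R e
  have hbij := aeval_bijective 𝒜 hStdR hr hy h1
  set φ : Polynomial k ≃ₐ[k] R := AlgEquiv.ofBijective _ hbij with hφ
  set ε : R →ₐ[k] k := (Polynomial.aeval (1 : k)).comp φ.symm.toAlgHom with hε
  have hεy : ε y = 1 := by
    have h2 : φ Polynomial.X = y := by
      rw [hφ, AlgEquiv.ofBijective_apply, Polynomial.aeval_X]
    have h3 : φ.symm y = Polynomial.X := by rw [← h2, AlgEquiv.symm_apply_apply]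
    rw [hε, AlgHom.comp_apply]
    show (Polynomial.aeval (1 : k)) (φ.symm y) = 1
    rw [h3, Polynomial.aeval_X]
  set π : T →ₐ[k] S := (Algebra.TensorProduct.lid k S).toAlgHom.comp
    ((Algebra.TensorProduct.map ε (AlgHom.id k S)).comp ψ) with hπ
  have hπt : ∀ (w : T) (a : R) (b : S), ψ w = a ⊗ₜ[k] b → π w = ε a • b := by
    intro w a b hw
    rw [hπ, AlgHom.comp_apply, AlgHom.comp_apply, hw, Algebra.TensorProduct.map_tmul]
    simp
  have hpiece : ∀ n : ℕ, ∀ w ∈ 𝒯 (n : ℤ), ∃ b ∈ ℬ (n : ℤ), ψ w = (y ^ n) ⊗ₜ[k] b := by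
    intro n w hw
    have h2 := psi_mem_seg 𝒜 ℬ 𝒯 ψ hψ hdegT hw
    have hle : seg 𝒜 ℬ (n : ℤ) ≤ (ℬ (n : ℤ)).map (TensorProduct.mk k R S (y ^ n)) := by
      unfold seg
      rw [Submodule.span_le]
      rintro _ ⟨a, ha, b', hb', rfl⟩
      obtain ⟨c, rfl⟩ := piece_le_span_pow 𝒜 hStdR hy h1 n a ha
      refine ⟨c • b', Submodule.smul_mem _ _ hb', ?_⟩
      rw [TensorProduct.mk_apply, TensorProduct.smul_tmul]
    obtain ⟨b, hb, hbw⟩ := hle h2
    exact ⟨b, hb, by rw [← hbw, TensorProduct.mk_apply]⟩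
  have hπpiece : ∀ n : ℕ, ∀ w ∈ 𝒯 (n : ℤ), ∀ b : S, ψ w = (y ^ n) ⊗ₜ[k] b → π w = b := by
    intro n w _ b hb
    rw [hπt w _ b hb, map_pow, hεy, one_pow, one_smul]
  have hposT : ∀ n : ℤ, n < 0 → 𝒯 n = ⊥ := fun n hn =>
    T_neg 𝒜 ℬ 𝒯 ψ hψ hdegT (hposR n hn)
  have hπmem : ∀ i : ℤ, ∀ w ∈ 𝒯 i, π w ∈ ℬ i := by
    intro i w hw
    by_cases hi : i < 0
    · rw [hposT i hi, Submodule.mem_bot] at hw
      rw [hw, map_zero]
      exact zero_mem _
    · obtain ⟨n, rfl⟩ := Int.eq_ofNat_of_zero_le (not_lt.mp hi)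
      obtain ⟨b, hb, hbw⟩ := hpiece n w hw
      rw [hπpiece n w hw b hbw]
      exact hb
  have hπzero : ∀ i : ℤ, ∀ w ∈ 𝒯 i, π w = 0 → w = 0 := by
    intro i w hw hz
    by_cases hi : i < 0
    · rw [hposT i hi, Submodule.mem_bot] at hw
      exact hw
    · obtain ⟨n, rfl⟩ := Int.eq_ofNat_of_zero_le (not_lt.mp hi)
      obtain ⟨b, hb, hbw⟩ := hpiece n w hw
      rw [hπpiece n w hw b hbw] at hz
      apply hψ
      rw [hbw, hz, TensorProduct.tmul_zero, map_zero]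
  have hinj : Function.Injective π := by
    rw [injective_iff_map_eq_zero]
    intro w hw
    have hcomp : ∀ i : ℤ, (DirectSum.decompose ℬ (π w) i : S) =
        π (DirectSum.decompose 𝒯 w i : T) := by
      intro i
      conv_lhs => rw [← DirectSum.sum_support_decompose 𝒯 w, map_sum, DirectSum.decompose_sum,
        DFinsupp.finsetSum_apply, AddSubmonoidClass.coe_finsetSum]
      by_cases hmem : i ∈ (DirectSum.decompose 𝒯 w).support
      · rw [Finset.sum_eq_single_of_mem i hmem]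
        · exact DirectSum.decompose_of_mem_same ℬ (hπmem i _ (SetLike.coe_mem _))
        · intro j _ hji
          exact DirectSum.decompose_of_mem_ne ℬ (hπmem j _ (SetLike.coe_mem _)) hji
      · rw [Finset.sum_eq_zero]
        · have h5 : (DirectSum.decompose 𝒯 w i : T) = 0 := by
            have := DFinsupp.notMem_support_iff.mp hmem
            rw [this]; rfl
          rw [h5, map_zero]
        · intro j hj
          exact DirectSum.decompose_of_mem_ne ℬ (hπmem j _ (SetLike.coe_mem _))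
            (fun h => hmem (h ▸ hj))
    rw [← DirectSum.sum_support_decompose 𝒯 w]
    refine Finset.sum_eq_zero fun i _ => ?_
    apply hπzero i _ (SetLike.coe_mem _)
    rw [← hcomp, hw, DirectSum.decompose_zero]
    rfl
  have hsurj : Function.Surjective π := by
    intro b
    induction b using DirectSum.Decomposition.inductionOn ℬ with
    | zero => exact ⟨0, map_zero _⟩
    | @homogeneous i b =>
      by_cases hi : i < 0
      · have hb0 : (b : S) = 0 := eq_zero_of_mem_neg ℬ hposS hi b.2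
        exact ⟨0, by rw [map_zero, hb0]⟩
      · obtain ⟨n, rfl⟩ := Int.eq_ofNat_of_zero_le (not_lt.mp hi)
        have hyn : y ^ n ∈ 𝒜 (n : ℤ) := by
          have h2 : y ^ n ∈ 𝒜 (n • (1 : ℤ)) := SetLike.pow_mem_graded n hy
          simpa using h2
        obtain ⟨w, hw, hwb⟩ := exists_of_mem_seg 𝒜 ℬ 𝒯 ψ hψ hdegT
          (tmul_mem_seg 𝒜 ℬ hyn b.2)
        exact ⟨w, hπpiece n w hw _ hwb⟩
    | add b b' hb hb' =>
      obtain ⟨w, rfl⟩ := hb
      obtain ⟨w', rfl⟩ := hb'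
      exact ⟨w + w', map_add _ _ _⟩
  exact Groth.Agent.Lib.Helper28.CMRingAux.isCohenMacaulayRing_of_ringEquiv
    (RingEquiv.ofBijective π.toRingHom ⟨hinj, hsurj⟩) hScm

end Main

end Groth.Agent.Lib.Helper87.SegPolyB
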