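import Mathlib
import Groth.Agent.Lib.Helper87.SegPolyB
import Groth.Agent.Lib.Helper87.APolyE

/-!
# Regular sequences on a Segre product `R # S` with `dim R = 1`
-/

set_option autoImplicit false
set_option linter.style.haveILetI false
set_option linter.unusedSectionVars false
universe u
open scoped TensorProduct

namespace Groth.Agent.Lib.Helper87.SegSeqB

open Groth.Agent.Lib.Helper87.ModHilbG Groth.Agent.Lib.Helper87.ModHilbB
open Groth.Agent.Lib.Helper87.SegPolyA Groth.Agent.Lib.Helper87.SegreC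
open Groth.Agent.Lib.Helper87.SegPolyB
open Groth.Agent.Lib.Helper87.APolyA Groth.Agent.Lib.Helper87.APolyE

section Proj

variable {k : Type u} [Field k] {R : Type u} [CommRing R] [Algebra k R]
  (𝒜 : ℤ → Submodule k R) [GradedAlgebra 𝒜]
  {S : Type u} [CommRing S] [Algebra k S] (ℬ : ℤ → Submodule k S) [GradedAlgebra ℬ]

/-- the projection onto the bidegree `(g, g)` part of `R ⊗ S` -/
noncomputable def P (g : ℤ) : R ⊗[k] S →ₗ[k] R ⊗[k] S :=
  TensorProduct.map (GradedAlgebra.proj 𝒜 g) (GradedAlgebra.proj ℬ g)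

theorem P_tmul (g : ℤ) (a : R) (b : S) :
    P 𝒜 ℬ g (a ⊗ₜ[k] b) =
      (DirectSum.decompose 𝒜 a g : R) ⊗ₜ[k] (DirectSum.decompose ℬ b g : S) := by
  unfold P
  rw [TensorProduct.map_tmul, GradedAlgebra.proj_apply, GradedAlgebra.proj_apply]

theorem P_of_mem_seg {g : ℤ} {z : R ⊗[k] S} (hz : z ∈ seg 𝒜 ℬ g) : P 𝒜 ℬ g z = z := by
  unfold seg at hz
  induction hz using Submodule.span_induction with
  | mem z hz =>
    obtain ⟨a, ha, b, hb, rfl⟩ := hz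
    rw [P_tmul, DirectSum.decompose_of_mem_same 𝒜 ha, DirectSum.decompose_of_mem_same ℬ hb]
  | zero => rw [map_zero]
  | add z z' _ _ hz hz' => rw [map_add, hz, hz']
  | smul c z _ hz => rw [map_smul, hz]

theorem P_of_mem_seg_ne {g g' : ℤ} (hne : g' ≠ g) {z : R ⊗[k] S} (hz : z ∈ seg 𝒜 ℬ g') :
    P 𝒜 ℬ g z = 0 := by
  unfold seg at hz
  induction hz using Submodule.span_induction with
  | mem z hz =>
    obtain ⟨a, ha, b, hb, rfl⟩ := hz
    rw [P_tmul, DirectSum.decompose_of_mem_ne 𝒜 ha hne, TensorProduct.zero_tmul]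
  | zero => rw [map_zero]
  | add z z' _ _ hz hz' => rw [map_add, hz, hz', add_zero]
  | smul c z _ hz => rw [map_smul, hz, smul_zero]

/-- the part of `seg g` lying over the ideal `J` -/
def segJ (J : Ideal S) (g : ℤ) : Submodule k (R ⊗[k] S) :=
  Submodule.span k {x : R ⊗[k] S | ∃ a ∈ 𝒜 g, ∃ b ∈ ℬ g, b ∈ J ∧ x = a ⊗ₜ[k] b}

/-- `R ⊗ S → R ⊗ S/J` -/
noncomputable def Φ (J : Ideal S) : R ⊗[k] S →ₐ[k] R ⊗[k] (S ⧸ J) :=
  Algebra.TensorProduct.map (AlgHom.id k R) (Ideal.Quotient.mkₐ k J)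

omit [GradedAlgebra 𝒜] in
theorem Φ_tmul (J : Ideal S) (a : R) (b : S) :
    Φ (R := R) J (a ⊗ₜ[k] b) = a ⊗ₜ[k] (Ideal.Quotient.mk J b) := by
  unfold Φ
  rw [Algebra.TensorProduct.map_tmul]
  rfl

theorem P_mem_segJ_of_Φ_eq_zero (J : Ideal S) (hJ : J.IsHomogeneous ℬ) (g : ℤ) {z : R ⊗[k] S}
    (hz : Φ (R := R) J z = 0) : P 𝒜 ℬ g z ∈ segJ 𝒜 ℬ J g := by
  classical
  set f : (J.restrictScalars k) →ₗ[k] S := (J.restrictScalars k).subtype with hf
  set q : S →ₗ[k] S ⧸ J := (Ideal.Quotient.mkₐ k J).toLinearMap with hq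
  have hex : Function.Exact f q := by
    intro b
    constructor
    · intro hb
      have hbJ : b ∈ J := Ideal.Quotient.eq_zero_iff_mem.mp hb
      exact ⟨⟨b, hbJ⟩, rfl⟩
    · rintro ⟨b', rfl⟩
      exact Ideal.Quotient.eq_zero_iff_mem.mpr b'.2
  have hsurj : Function.Surjective q := Ideal.Quotient.mk_surjective
  have hex2 := lTensor_exact R hex hsurj
  have hΦ : ∀ z : R ⊗[k] S, Φ (R := R) J z = LinearMap.lTensor R q z := by
    intro z
    induction z using TensorProduct.induction_on with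
    | zero => rw [map_zero, map_zero]
    | tmul a b => rw [Φ_tmul, LinearMap.lTensor_tmul]; rfl
    | add z z' hz hz' => rw [map_add, map_add, hz, hz']
  rw [hΦ] at hz
  obtain ⟨z', rfl⟩ := (hex2 z).mp hz
  clear hz
  induction z' using TensorProduct.induction_on with
  | zero => rw [map_zero, map_zero]; exact zero_mem _
  | tmul a b =>
    rw [LinearMap.lTensor_tmul, P_tmul]
    refine Submodule.subset_span ⟨_, SetLike.coe_mem _, _, SetLike.coe_mem _, ?_, rfl⟩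
    exact hJ g b.2
  | add z z' hz hz' => rw [map_add, map_add]; exact add_mem hz hz'

end Proj

section Reg

variable {k : Type u} [Field k] {R : Type u} [CommRing R] [Algebra k R]
  (𝒜 : ℤ → Submodule k R) [GradedAlgebra 𝒜]
  {S : Type u} [CommRing S] [Algebra k S] (ℬ : ℤ → Submodule k S) [GradedAlgebra ℬ]
  {T : Type u} [CommRing T] [Algebra k T] (𝒯 : ℤ → Submodule k T) [GradedAlgebra 𝒯]
  (ψ : T →ₐ[k] R ⊗[k] S) (hψ : Function.Injective ψ)
  (hdegT : ∀ n : ℤ, (𝒯 n).map ψ.toLinearMap = seg 𝒜 ℬ n)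
  {a : ℕ} {x : R} (hx : x ∈ 𝒜 (a : ℤ))
  (H : ∀ (g : ℤ) (j : ℕ), 1 ≤ j → (∀ r ∈ 𝒜 g, r ∈ Ideal.span {x ^ j}) ∨ ℬ (g - j * a) = ⊥)
  {ι : Type} [Fintype ι] (y : ι → S) (c : ι → ℕ) (hc : ∀ l, 1 ≤ c l)
  (hy : ∀ l, y l ∈ ℬ ((a * c l : ℕ) : ℤ)) (t : ι → T)
  (ht : ∀ l, ψ (t l) = (x ^ c l) ⊗ₜ[k] (y l))

include hψ hdegT hx H hc hy ht in
/-- every elementary tensor over `J = (y)` of bidegree `(g, g)` comes from `(t) T` -/
theorem exists_of_tmul {g : ℤ} {a' : R} (ha' : a' ∈ 𝒜 g) {b : S} (hb : b ∈ ℬ g)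
    (hbJ : b ∈ Ideal.span (Set.range y)) :
    ∃ w ∈ Ideal.span (Set.range t), ψ w = a' ⊗ₜ[k] b := by
  classical
  obtain ⟨d, hd⟩ := (Ideal.mem_span_range_iff_exists_fun).mp hbJ
  -- homogeneous components of the coefficients
  set bl : ι → S := fun l => (DirectSum.decompose ℬ (d l) (g - ((a * c l : ℕ) : ℤ)) : S) with hbl
  have hblmem : ∀ l, bl l ∈ ℬ (g - ((a * c l : ℕ) : ℤ)) := fun l => SetLike.coe_mem _
  have hbsum : b = ∑ l, bl l * y l := by
    have h1 : (DirectSum.decompose ℬ b g : S) = b := DirectSum.decompose_of_mem_same ℬ hb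
    rw [← h1, ← hd, DirectSum.decompose_sum, DFinsupp.finsetSum_apply,
      AddSubmonoidClass.coe_finsetSum]
    refine Finset.sum_congr rfl fun l _ => ?_
    have := DirectSum.coe_decompose_mul_add_of_right_mem ℬ (a := d l)
      (i := g - ((a * c l : ℕ) : ℤ)) (hy l)
    rwa [sub_add_cancel] at this
  have hxc : ∀ l, x ^ c l ∈ 𝒜 ((a * c l : ℕ) : ℤ) := by
    intro l
    have h1 : x ^ c l ∈ 𝒜 (c l • (a : ℤ)) := SetLike.pow_mem_graded (c l) hx
    have h2 : c l • (a : ℤ) = ((a * c l : ℕ) : ℤ) := by rw [nsmul_eq_mul]; push_cast; ring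
    rwa [h2] at h1
  have hex : ∀ l, ∃ w : T, ψ (t l * w) = a' ⊗ₜ[k] (bl l * y l) := by
    intro l
    rcases H g (c l) (hc l) with h | h
    · obtain ⟨al, hal, hal'⟩ := exists_mul_of_mem_span_singleton 𝒜 ha' (hxc l) (h a' ha')
      obtain ⟨w, -, hw⟩ := exists_of_mem_seg 𝒜 ℬ 𝒯 ψ hψ hdegT
        (tmul_mem_seg 𝒜 ℬ hal (hblmem l))
      refine ⟨w, ?_⟩
      rw [map_mul, ht, hw, Algebra.TensorProduct.tmul_mul_tmul, hal']
      congr 1
      · ring
      · ring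
    · have h0 : bl l = 0 := by
        have h1 := hblmem l
        have h2 : g - ((a * c l : ℕ) : ℤ) = g - (c l : ℤ) * (a : ℤ) := by push_cast; ring
        rw [h2, h, Submodule.mem_bot] at h1
        exact h1
      refine ⟨0, ?_⟩
      rw [mul_zero, map_zero, h0, zero_mul, TensorProduct.tmul_zero]
  choose w hw using hex
  refine ⟨∑ l, t l * w l, ?_, ?_⟩
  · refine Ideal.sum_mem _ fun l _ => ?_
    exact Ideal.mul_mem_right _ _ (Ideal.subset_span ⟨l, rfl⟩)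
  · rw [map_sum, hbsum, TensorProduct.tmul_sum]
    exact Finset.sum_congr rfl fun l _ => hw l

include hψ hdegT hx H hc hy ht in
/-- `(t) T` is the kernel of `T → R ⊗ S/(y)` -/
theorem mem_span_of_Φ_eq_zero {w : T}
    (hw : Φ (R := R) (Ideal.span (Set.range y)) (ψ w) = 0) :
    w ∈ Ideal.span (Set.range t) := by
  classical
  set J := Ideal.span (Set.range y) with hJ
  have hJhom : J.IsHomogeneous ℬ := by
    apply Ideal.homogeneous_span
    rintro _ ⟨l, rfl⟩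
    exact ⟨_, hy l⟩
  -- components
  rw [← DirectSum.sum_support_decompose 𝒯 w]
  refine Ideal.sum_mem _ fun g _ => ?_
  have hcomp : ψ (DirectSum.decompose 𝒯 w g : T) = P 𝒜 ℬ g (ψ w) := by
    conv_rhs => rw [← DirectSum.sum_support_decompose 𝒯 w, map_sum, map_sum]
    by_cases hg : g ∈ (DirectSum.decompose 𝒯 w).support
    · rw [Finset.sum_eq_single_of_mem g hg]
      · exact (P_of_mem_seg 𝒜 ℬ (psi_mem_seg 𝒜 ℬ 𝒯 ψ hψ hdegT (SetLike.coe_mem _))).symm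
      · intro g' _ hne
        exact P_of_mem_seg_ne 𝒜 ℬ hne (psi_mem_seg 𝒜 ℬ 𝒯 ψ hψ hdegT (SetLike.coe_mem _))
    · rw [Finset.sum_eq_zero]
      · have := DFinsupp.notMem_support_iff.mp hg
        rw [this]
        exact map_zero ψ
      · intro g' hg'
        have hne : g' ≠ g := fun h => hg (h ▸ hg')
        exact P_of_mem_seg_ne 𝒜 ℬ hne (psi_mem_seg 𝒜 ℬ 𝒯 ψ hψ hdegT (SetLike.coe_mem _))
  have hmem : P 𝒜 ℬ g (ψ w) ∈ segJ 𝒜 ℬ J g := P_mem_segJ_of_Φ_eq_zero 𝒜 ℬ J hJhom g hw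
  -- every element of `segJ` comes from `(t) T`
  have hall : ∀ z ∈ segJ 𝒜 ℬ J g, ∃ w' ∈ Ideal.span (Set.range t), ψ w' = z := by
    intro z hz
    unfold segJ at hz
    induction hz using Submodule.span_induction with
    | mem z hz =>
      obtain ⟨a', ha', b, hb, hbJ, rfl⟩ := hz
      exact exists_of_tmul 𝒜 ℬ 𝒯 ψ hψ hdegT hx H y c hc hy t ht ha' hb hbJ
    | zero => exact ⟨0, zero_mem _, map_zero _⟩
    | add z z' _ _ hz hz' =>
      obtain ⟨w1, hw1, rfl⟩ := hz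
      obtain ⟨w2, hw2, rfl⟩ := hz'
      exact ⟨w1 + w2, add_mem hw1 hw2, map_add _ _ _⟩
    | smul e z _ hz =>
      obtain ⟨w1, hw1, rfl⟩ := hz
      refine ⟨e • w1, ?_, map_smul _ _ _⟩
      rw [Algebra.smul_def]
      exact Ideal.mul_mem_left _ _ hw1
  obtain ⟨w', hw', hw'eq⟩ := hall _ hmem
  rw [← hcomp] at hw'eq
  rw [← hψ hw'eq]
  exact hw'

include ht in
omit [GradedAlgebra 𝒜] [GradedAlgebra ℬ] [GradedAlgebra 𝒯] [Fintype ι] in
theorem Φ_eq_zero_of_mem_span {w : T} (hw : w ∈ Ideal.span (Set.range t)) :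
    Φ (R := R) (Ideal.span (Set.range y)) (ψ w) = 0 := by
  induction hw using Submodule.span_induction with
  | mem w hw =>
    obtain ⟨l, rfl⟩ := hw
    rw [ht, Φ_tmul]
    have : Ideal.Quotient.mk (Ideal.span (Set.range y)) (y l) = 0 :=
      Ideal.Quotient.eq_zero_iff_mem.mpr (Ideal.subset_span ⟨l, rfl⟩)
    rw [this, TensorProduct.tmul_zero]
  | zero => rw [map_zero, map_zero]
  | add w w' _ _ hw hw' => rw [map_add, map_add, hw, hw', add_zero]
  | smul e w _ hw => rw [smul_eq_mul, map_mul, map_mul, hw, mul_zero]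

include hψ hdegT hx H hc hy ht in
/-- **regularity of the next element** -/
theorem next_regular {X₀ : R} (hX₀ : ∀ z : R, X₀ * z = 0 → z = 0) {y₀ : S}
    (hy₀ : ∀ b, y₀ * b ∈ Ideal.span (Set.range y) → b ∈ Ideal.span (Set.range y))
    {t₀ : T} (ht₀ : ψ t₀ = X₀ ⊗ₜ[k] y₀) :
    ∀ w : T, t₀ * w ∈ Ideal.span (Set.range t) → w ∈ Ideal.span (Set.range t) := by
  intro w hw
  apply mem_span_of_Φ_eq_zero 𝒜 ℬ 𝒯 ψ hψ hdegT hx H y c hc hy t ht
  have h1 := Φ_eq_zero_of_mem_span (ψ := ψ) (y := y) (c := c) (t := t) (ht := ht) hw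
  rw [map_mul, map_mul, ht₀, Φ_tmul] at h1
  set J := Ideal.span (Set.range y) with hJ
  have hy₀' : ∀ z : S ⧸ J, Ideal.Quotient.mk J y₀ * z = 0 → z = 0 := by
    intro z hz
    obtain ⟨b, rfl⟩ := Ideal.Quotient.mk_surjective z
    rw [← map_mul, Ideal.Quotient.eq_zero_iff_mem] at hz
    exact Ideal.Quotient.eq_zero_iff_mem.mpr (hy₀ b hz)
  have h2 : X₀ ⊗ₜ[k] (Ideal.Quotient.mk J y₀) =
      (X₀ ⊗ₜ[k] (1 : S ⧸ J)) * ((1 : R) ⊗ₜ[k] (Ideal.Quotient.mk J y₀)) := by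
    rw [Algebra.TensorProduct.tmul_mul_tmul, mul_one, one_mul]
  rw [h2, mul_assoc] at h1
  exact one_tmul_mul_eq_zero hy₀' _ (tmul_one_mul_eq_zero hX₀ _ h1)

end Reg

section RegList

variable {k : Type u} [Field k] {R : Type u} [CommRing R] [Algebra k R]
  (𝒜 : ℤ → Submodule k R) [GradedAlgebra 𝒜]
  {S : Type u} [CommRing S] [Algebra k S] (ℬ : ℤ → Submodule k S) [GradedAlgebra ℬ]
  {T : Type u} [CommRing T] [Algebra k T] (𝒯 : ℤ → Submodule k T) [GradedAlgebra 𝒯]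
  (ψ : T →ₐ[k] R ⊗[k] S) (hψ : Function.Injective ψ)
  (hdegT : ∀ n : ℤ, (𝒯 n).map ψ.toLinearMap = seg 𝒜 ℬ n)
  {a : ℕ} {x : R} (hx : x ∈ 𝒜 (a : ℤ))
  (H : ∀ (g : ℤ) (j : ℕ), 1 ≤ j → (∀ r ∈ 𝒜 g, r ∈ Ideal.span {x ^ j}) ∨ ℬ (g - j * a) = ⊥)

include hψ hdegT hx H in
theorem reg_t (hxreg : ∀ z : R, x * z = 0 → z = 0) {s : ℕ} (y : Fin s → S) (c : Fin s → ℕ)
    (hc : ∀ l, 1 ≤ c l) (hy : ∀ l, y l ∈ ℬ ((a * c l : ℕ) : ℤ)) (t : Fin s → T)
    (ht : ∀ l, ψ (t l) = (x ^ c l) ⊗ₜ[k] (y l)) (hyreg : Reg (List.ofFn y)) :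
    Reg (List.ofFn t) := by
  classical
  intro i hi w hw
  rw [List.length_ofFn] at hi
  rw [ofList_take_ofFn] at hw ⊢
  rw [List.getElem_ofFn] at hw
  set ι := {l : Fin s // (l : ℕ) < i} with hι
  have hrt : Set.range (fun l : ι => t l.1) = t '' {j : Fin s | (j : ℕ) < i} := by
    ext z
    constructor
    · rintro ⟨l, rfl⟩
      exact ⟨l.1, l.2, rfl⟩
    · rintro ⟨l, hl, rfl⟩
      exact ⟨⟨l, hl⟩, rfl⟩
  have hry : Set.range (fun l : ι => y l.1) = y '' {j : Fin s | (j : ℕ) < i} := by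
    ext z
    constructor
    · rintro ⟨l, rfl⟩
      exact ⟨l.1, l.2, rfl⟩
    · rintro ⟨l, hl, rfl⟩
      exact ⟨⟨l, hl⟩, rfl⟩
  rw [← hrt] at hw ⊢
  have hxpow : ∀ n : ℕ, ∀ z : R, x ^ n * z = 0 → z = 0 := by
    intro n
    induction n with
    | zero => intro z hz; rwa [pow_zero, one_mul] at hz
    | succ n ih =>
      intro z hz
      rw [pow_succ, mul_assoc] at hz
      exact hxreg z (ih _ hz)
  refine next_regular 𝒜 ℬ 𝒯 ψ hψ hdegT hx H (fun l : ι => y l.1) (fun l : ι => c l.1)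
    (fun l => hc l.1) (fun l => hy l.1) (fun l : ι => t l.1) (fun l => ht l.1)
    (hxpow (c ⟨i, hi⟩)) ?_ (ht ⟨i, hi⟩) w hw
  intro b hb
  have h1 := hyreg i (by rw [List.length_ofFn]; exact hi) b
  rw [ofList_take_ofFn, List.getElem_ofFn, ← hry] at h1
  exact h1 hb

end RegList

end Groth.Agent.Lib.Helper87.SegSeqB
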