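import Mathlib
import Groth.Agent.Lib.Helper87.GrCM
import Groth.Agent.Lib.Helper87.SegPolyA
import Groth.Agent.Lib.Helper77.GLC0

/-!
# A graded algebra over a field with a homogeneous regular sequence of length `dim` is CM
-/

set_option autoImplicit false
set_option linter.style.haveILetI false
set_option linter.unusedSectionVars false
universe u

namespace Groth.Agent.Lib.Helper87.SegSeqC

open Groth.Agent.Lib.Helper87.ModHilbG Groth.Agent.Lib.Helper87.SegPolyA
open Groth.Agent.Lib.Helper77.GLC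

variable {k : Type u} [Field k] {T : Type u} [CommRing T] [Algebra k T]
  (𝒯 : ℤ → Submodule k T) [GradedAlgebra 𝒯]
  (hpos : ∀ n : ℤ, n < 0 → 𝒯 n = ⊥) (h0 : 𝒯 0 = Submodule.span k {(1 : T)})

include hpos h0 in
theorem isCM_of_regular_seq [Nontrivial T] [Algebra.FiniteType k T] (rs : List T)
    (hreg : RingTheory.Sequence.IsWeaklyRegular T rs) (hmem : ∀ r ∈ rs, r ∈ irr 𝒯)
    (hlen : ((rs.length : ℕ) : WithBot ℕ∞) = ringKrullDim T) : LocCoh.IsCohenMacaulayRing T := by
  classical
  haveI : IsNoetherianRing T := Algebra.FiniteType.isNoetherianRing k T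
  haveI hmax := irr_isMaximal 𝒯 hpos h0
  haveI hprime : (irr 𝒯).IsPrime := hmax.isPrime
  have hht : (irr 𝒯).height = (rs.length : ℕ∞) := by
    have h1 := ringKrullDim_eq_height_irr 𝒯 hpos h0
    rw [← hlen] at h1
    have h2 : (((rs.length : ℕ) : ℕ∞) : WithBot ℕ∞) = ((irr 𝒯).height : WithBot ℕ∞) := h1
    exact (WithBot.coe_injective h2).symm
  have h1 := Groth.Agent.Lib.Helper29.CMRing.length_le_depth_localizedModule T T hreg hmem
  rw [Groth.Agent.Lib.Helper87.GrCM.depth_localizedModule_self] at h1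
  have h2 := Groth.Agent.Lib.Helper49.CMFibre.depth_le_height T (irr 𝒯)
  have hdm : LocCoh.depth (Localization.AtPrime (irr 𝒯)) (Localization.AtPrime (irr 𝒯)) =
      (irr 𝒯).height := le_antisymm h2 (hht ▸ h1)
  have hm : LocCoh.IsCohenMacaulayLocalRing (Localization.AtPrime (irr 𝒯)) :=
    (Groth.Agent.Lib.Helper49.CMFibre.isCMLocal_iff T (irr 𝒯)).2 hdm
  apply Groth.Agent.Lib.Helper87.GrCM.isCM_of_forall_homogeneous (flat 𝒯)
  intro P hPprime hPhom
  have hPhom' : P.IsHomogeneous 𝒯 := by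
    intro i x hx
    have := hPhom i hx
    rwa [coe_decompose_flat] at this
  have hPle : P ≤ irr 𝒯 := le_irr 𝒯 hpos h0 hPhom' hPprime.ne_top
  exact Groth.Agent.Lib.Helper87.GrCM.depth_eq_height_of_le (irr 𝒯) P hPle hm

end Groth.Agent.Lib.Helper87.SegSeqC
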