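import Mathlib
import Groth.Prelude.Def_GrLC
import Groth.Agent.Lib.Helper77.GLC5
import Groth.Agent.Lib.Helper66.GradedQuot
import Groth.Agent.Lib.Helper87.SegSeqA

/-!
# `H^1_m(R)_n` of a one-dimensional graded ring via quotients by a homogeneous non-zero-divisor
-/

set_option autoImplicit false
set_option linter.style.haveILetI false
set_option linter.unusedSectionVars false
universe u

namespace Groth.Agent.Lib.Helper87.SegSeqD

open GrLC DirectSum Groth.Agent.Lib.Helper77.GLC Groth.Agent.Lib.Helper66.GradedQuot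

section General

variable {R : Type u} [CommRing R] [IsNoetherianRing R] (𝒜 : ℤ → AddSubgroup R) [GradedRing 𝒜]

/-- `H^1_a(R)_n = 0` forces `R_{n+e} ⊆ (z)` when `R/(z)` is `a`-torsion. -/
theorem le_span_of_HV (a : Ideal R) (E : StarInjRes 𝒜 𝒜) {e : ℤ} {z : R} (hz : z ∈ 𝒜 e)
    (hza : z ∈ a) (hreg : ∀ y : R, z * y = 0 → y = 0) {N : ℕ} (hN : a ^ N ≤ Ideal.span {z})
    {n : ℤ} (h : HV E a 1 n) : ∀ r ∈ 𝒜 (n + e), r ∈ Ideal.span {z} := by
  classical
  set J : Submodule R R := Ideal.span {z} with hJ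
  have hJhom : Submodule.IsHomogeneous J 𝒜 := by
    apply Ideal.homogeneous_span
    intro w hw
    rw [Set.mem_singleton_iff] at hw
    subst hw
    exact ⟨e, hz⟩
  letI := quotDecomposition 𝒜 J hJhom
  letI := quotGradedSMul 𝒜 𝒜 J
  obtain ⟨EQ⟩ := exists_res (𝒜 := 𝒜) (R ⧸ J) (qpiece 𝒜 J)
  have hinj : Function.Injective (fun y : R => z • y) := by
    intro y y' hyy
    have h1 : z * (y - y') = 0 := by
      rw [mul_sub, sub_eq_zero]
      exact hyy
    exact sub_eq_zero.mp (hreg _ h1)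
  have hker : LinearMap.ker J.mkQ = LinearMap.range (z • (LinearMap.id : R →ₗ[R] R)) := by
    rw [Submodule.ker_mkQ]
    ext w
    rw [hJ]
    constructor
    · intro hw
      obtain ⟨c, rfl⟩ := Ideal.mem_span_singleton'.mp hw
      exact ⟨c, by simp [mul_comm]⟩
    · rintro ⟨c, rfl⟩
      rw [LinearMap.smul_apply, LinearMap.id_apply, smul_eq_mul]
      exact Ideal.mul_mem_right _ _ (Ideal.mem_span_singleton_self z)
  have h0 : HV E a 0 (n + e) := HV_zero_of_regular E hza hinj (n + e)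
  have h1 : HV E a 1 (-e + (n + e)) := by
    have : -e + (n + e) = n := by ring
    rw [this]
    exact h
  have hQ : HV EQ a 0 (n + e) :=
    HV_quot E EQ hz hinj J.mkQ (mkQ_grHom 𝒜 J) (Submodule.mkQ_surjective J) hker h0 h1
  rw [HV_zero_iff] at hQ
  intro r hr
  have h2 : J.mkQ r = 0 := by
    apply hQ _ (mk_mem_qpiece 𝒜 J hr)
    refine ⟨N, fun c hc => ?_⟩
    have hcJ : c ∈ J := hN hc
    rw [← map_smul, Submodule.mkQ_apply, Submodule.Quotient.mk_eq_zero, smul_eq_mul]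
    exact Ideal.mul_mem_right _ _ hcJ
  exact (Submodule.Quotient.mk_eq_zero J).mp h2

/-- if all `R_{n + j e}`, `j ≥ 1`, lie in `(z)` then `H^1_a(R)_n = 0` -/
theorem HV_of_le_span (a : Ideal R) (E : StarInjRes 𝒜 𝒜) {e : ℤ} {z : R} (hz : z ∈ 𝒜 e)
    (hza : z ∈ a) (hreg : ∀ y : R, z * y = 0 → y = 0) {n : ℤ}
    (h : ∀ j : ℕ, 1 ≤ j → ∀ r ∈ 𝒜 (n + j * e), r ∈ Ideal.span {z}) : HV E a 1 n := by
  classical
  set J : Submodule R R := Ideal.span {z} with hJ
  have hJhom : Submodule.IsHomogeneous J 𝒜 := by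
    apply Ideal.homogeneous_span
    intro w hw
    rw [Set.mem_singleton_iff] at hw
    subst hw
    exact ⟨e, hz⟩
  letI := quotDecomposition 𝒜 J hJhom
  letI := quotGradedSMul 𝒜 𝒜 J
  obtain ⟨EQ⟩ := exists_res (𝒜 := 𝒜) (R ⧸ J) (qpiece 𝒜 J)
  have hinj : Function.Injective (fun y : R => z • y) := by
    intro y y' hyy
    have h1 : z * (y - y') = 0 := by
      rw [mul_sub, sub_eq_zero]
      exact hyy
    exact sub_eq_zero.mp (hreg _ h1)
  have hker : LinearMap.ker J.mkQ = LinearMap.range (z • (LinearMap.id : R →ₗ[R] R)) := by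
    rw [Submodule.ker_mkQ]
    ext w
    rw [hJ]
    constructor
    · intro hw
      obtain ⟨c, rfl⟩ := Ideal.mem_span_singleton'.mp hw
      exact ⟨c, by simp [mul_comm]⟩
    · rintro ⟨c, rfl⟩
      rw [LinearMap.smul_apply, LinearMap.id_apply, smul_eq_mul]
      exact Ideal.mul_mem_right _ _ (Ideal.mem_span_singleton_self z)
  set S : Set ℤ := {g | ∃ j : ℕ, 1 ≤ j ∧ g = n + j * e} with hS
  have hSup : ∀ g ∈ S, e + g ∈ S := by
    rintro g ⟨j, hj, rfl⟩
    exact ⟨j + 1, by omega, by push_cast; ring⟩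
  have hQ : ∀ g ∈ S, HV EQ a 0 g := by
    rintro g ⟨j, hj, rfl⟩
    rw [HV_zero_iff]
    rintro q ⟨r, hr, rfl⟩ _
    exact (Submodule.Quotient.mk_eq_zero J).mpr (h j hj r hr)
  exact HV_succ_of_quot E EQ hz hinj J.mkQ (mkQ_grHom 𝒜 J) (Submodule.mkQ_surjective J) hker
    hza 0 S hSup hQ n ⟨1, le_rfl, by push_cast; ring⟩

end General

section Field

open Groth.Agent.Lib.Helper87.ModHilbG Groth.Agent.Lib.Helper87.SegSeqA

variable {k : Type u} [Field k] {R : Type u} [CommRing R] [Algebra k R]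
  (𝒜 : ℤ → Submodule k R) [GradedAlgebra 𝒜]
  (hpos : ∀ n : ℤ, n < 0 → 𝒜 n = ⊥) (h0 : 𝒜 0 = Submodule.span k {(1 : R)})
  (mR : HomogeneousIdeal 𝒜)
  (hmR : mR.toIdeal = Ideal.span (⋃ n ∈ Set.Ioi (0 : ℤ), (𝒜 n : Set R)))
  (I : GrLC.StarInjRes 𝒜 𝒜)

include hpos h0 hmR in
theorem le_span_of_Hcomp_eq_bot [Nontrivial R] [Algebra.FiniteType k R]
    (hdim : ringKrullDim R = 1) {e : ℤ} (he : 0 < e) {z : R} (hz : z ∈ 𝒜 e)
    (hreg : ∀ y : R, z * y = 0 → y = 0) {n : ℤ} (h : I.Hcomp mR 1 n = ⊥) :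
    ∀ r ∈ 𝒜 (n + e), r ∈ Ideal.span {z} := by
  haveI : IsNoetherianRing R := Algebra.FiniteType.isNoetherianRing k R
  rw [Hcomp_eq_bot_iff] at h
  obtain ⟨N, hN⟩ := exists_irr_pow_le 𝒜 hpos h0 hdim he hz hreg
  have hirr : irr 𝒜 = mR.toIdeal := hmR.symm
  have hza : z ∈ mR.toIdeal := by
    rw [hmR]
    apply Ideal.subset_span
    simp only [Set.mem_iUnion, Set.mem_Ioi]
    exact ⟨e, he, hz⟩
  exact le_span_of_HV (flat 𝒜) mR.toIdeal (flatRes 𝒜 I) hz hza hreg (N := N)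
    (by rw [← hirr]; exact hN) h

include hmR in
theorem Hcomp_eq_bot_of_le_span [IsNoetherianRing R] {e : ℤ} (he : 0 < e) {z : R}
    (hz : z ∈ 𝒜 e) (hreg : ∀ y : R, z * y = 0 → y = 0) {n : ℤ}
    (h : ∀ j : ℕ, 1 ≤ j → ∀ r ∈ 𝒜 (n + j * e), r ∈ Ideal.span {z}) :
    I.Hcomp mR 1 n = ⊥ := by
  rw [Hcomp_eq_bot_iff]
  have hza : z ∈ mR.toIdeal := by
    rw [hmR]
    apply Ideal.subset_span
    simp only [Set.mem_iUnion, Set.mem_Ioi]
    exact ⟨e, he, hz⟩
  exact HV_of_le_span (flat 𝒜) mR.toIdeal (flatRes 𝒜 I) hz hza hreg h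

end Field

end Groth.Agent.Lib.Helper87.SegSeqD
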