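import Mathlib
import Groth.Agent.Lib.Helper87.SegSeqB
import Groth.Agent.Lib.Helper87.SegSeqC
import Groth.Agent.Lib.Helper87.SegSeqD

/-!
# The Segre product `R # S` with `dim R = 1`: Cohen–Macaulay iff `H^1(R) # S = 0`
-/

set_option autoImplicit false
set_option linter.style.haveILetI false
set_option linter.unusedSectionVars false
universe u
open scoped TensorProduct

namespace Groth.Agent.Lib.Helper87.SegSeqE

open Groth.Agent.Lib.Helper87.ModHilbG Groth.Agent.Lib.Helper87.ModHilbB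
open Groth.Agent.Lib.Helper87.SegPolyA Groth.Agent.Lib.Helper87.SegreC
open Groth.Agent.Lib.Helper87.SegPolyB Groth.Agent.Lib.Helper87.APolyA
open Groth.Agent.Lib.Helper87.SegSeqA Groth.Agent.Lib.Helper87.SegSeqB
open Groth.Agent.Lib.Helper87.SegSeqC Groth.Agent.Lib.Helper87.SegSeqD

section Socle

variable {k : Type u} [Field k] {T : Type u} [CommRing T] [Algebra k T]
  (𝒯 : ℤ → Submodule k T) [GradedAlgebra 𝒯]
  (hposT : ∀ n : ℤ, n < 0 → 𝒯 n = ⊥) (h0T : 𝒯 0 = Submodule.span k {(1 : T)})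

include hposT h0T in
/-- a socle element modulo a regular element of `T_+` obstructs Cohen–Macaulayness in
dimension `≥ 2` -/
theorem not_isCM_of_socle [Nontrivial T] [Algebra.FiniteType k T] {t u : T}
    (htirr : t ∈ irr 𝒯) (htreg : ∀ w : T, t * w = 0 → w = 0) (hunot : u ∉ Ideal.span {t})
    (N : ℕ) (hge : ∀ c ∈ irr 𝒯 ^ N, c * u ∈ Ideal.span {t})
    (hdim : (2 : WithBot ℕ∞) ≤ ringKrullDim T) : ¬ LocCoh.IsCohenMacaulayRing T := by
  intro hTcm
  haveI : IsNoetherianRing T := Algebra.FiniteType.isNoetherianRing k T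
  haveI hmaxT := irr_isMaximal 𝒯 hposT h0T
  have htsmul : IsSMulRegular T t := isSMulRegular_iff_mul.mpr htreg
  have hmaxseq : ∀ r ∈ irr 𝒯, ¬ RingTheory.Sequence.IsWeaklyRegular T ([t] ++ [r]) := by
    intro r hr hreg
    rw [List.singleton_append, RingTheory.Sequence.isWeaklyRegular_cons_iff,
      RingTheory.Sequence.isWeaklyRegular_singleton_iff] at hreg
    obtain ⟨-, hrreg⟩ := hreg
    have hrN : r ^ N * u ∈ Ideal.span {t} := hge _ (Ideal.pow_mem_pow hr N)
    obtain ⟨c, hc⟩ := Ideal.mem_span_singleton'.mp hrN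
    have h1 : r ^ N • (Submodule.Quotient.mk u : QuotSMulTop t T) = 0 := by
      rw [← Submodule.Quotient.mk_smul, Submodule.Quotient.mk_eq_zero,
        Submodule.mem_smul_pointwise_iff_exists]
      exact ⟨c, Submodule.mem_top, by rw [smul_eq_mul, smul_eq_mul, mul_comm, hc]⟩
    have h2 : (Submodule.Quotient.mk u : QuotSMulTop t T) = 0 :=
      (hrreg.pow N).right_eq_zero_of_smul h1
    rw [Submodule.Quotient.mk_eq_zero, Submodule.mem_smul_pointwise_iff_exists] at h2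
    obtain ⟨c', -, hc'⟩ := h2
    apply hunot
    rw [Ideal.mem_span_singleton']
    exact ⟨c', by rw [← hc', smul_eq_mul, mul_comm]⟩
  have hIM : irr 𝒯 • (⊤ : Submodule T T) ≠ ⊤ := by
    rw [Ideal.smul_top_eq_map]
    simp only [Algebra.algebraMap_self, Ideal.map_id]
    intro h
    apply hmaxT.ne_top
    rw [Ideal.eq_top_iff_one]
    have h1 : (1 : T) ∈ Submodule.restrictScalars T (irr 𝒯) := by rw [h]; trivial
    exact h1
  have hdepth := (Groth.Agent.S5151.result T (irr 𝒯) T hIM).2 [t]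
    ((RingTheory.Sequence.isWeaklyRegular_singleton_iff T t).mpr htsmul)
    (fun r hr => by rw [List.mem_singleton] at hr; rw [hr]; exact htirr) hmaxseq
  have hcm := (Groth.Agent.S14424.result T).mp hTcm (irr 𝒯) hmaxT.ne_top
  have hTh := ringKrullDim_eq_height_irr 𝒯 hposT h0T
  rw [← hcm, ← hdepth] at hTh
  rw [hTh] at hdim
  have h3 : ((2 : ℕ∞) : WithBot ℕ∞) ≤ ((([t].length : ℕ) : ℕ∞) : WithBot ℕ∞) := hdim
  have h4 : (2 : ℕ∞) ≤ (([t].length : ℕ) : ℕ∞) := WithBot.coe_le_coe.mp h3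
  rw [List.length_singleton] at h4
  exact absurd h4 (by decide)

end Socle

section Main

variable {k : Type u} [Field k] {R : Type u} [CommRing R] [Algebra k R]
  (𝒜 : ℤ → Submodule k R) [GradedAlgebra 𝒜]
  {S : Type u} [CommRing S] [Algebra k S] (ℬ : ℤ → Submodule k S) [GradedAlgebra ℬ]
  {T : Type u} [CommRing T] [Algebra k T] (𝒯 : ℤ → Submodule k T) [GradedAlgebra 𝒯]
  (ψ : T →ₐ[k] R ⊗[k] S) (hψ : Function.Injective ψ)
  (hdegT : ∀ n : ℤ, (𝒯 n).map ψ.toLinearMap = seg 𝒜 ℬ n)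

include hψ hdegT in
theorem main (hposR : ∀ n : ℤ, n < 0 → 𝒜 n = ⊥)
    (h0R : 𝒜 0 = Submodule.span k {(1 : R)}) [Algebra.FiniteType k R]
    (hposS : ∀ n : ℤ, n < 0 → ℬ n = ⊥) (h0S : ℬ 0 = Submodule.span k {(1 : S)})
    [Algebra.FiniteType k S] [LocCoh.IsCohenMacaulayRing R] [LocCoh.IsCohenMacaulayRing S]
    (mR : HomogeneousIdeal 𝒜)
    (hmR : mR.toIdeal = Ideal.span (⋃ n ∈ Set.Ioi (0 : ℤ), (𝒜 n : Set R)))
    (I : GrLC.StarInjRes 𝒜 𝒜) (hr : ringKrullDim R = 1) (s : ℕ) (hs : ringKrullDim S = s)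
    (h1s : 1 ≤ s) :
    (2 ≤ s → (LocCoh.IsCohenMacaulayRing T ↔ ∀ n : ℤ, I.Hcomp mR 1 n = ⊥ ∨ ℬ n = ⊥)) ∧
      (s = 1 → LocCoh.IsCohenMacaulayRing T) := by
  classical
  haveI : Nontrivial R := by
    by_contra hnt
    rw [not_nontrivial_iff_subsingleton] at hnt
    rw [ringKrullDim_eq_bot_of_subsingleton] at hr
    exact absurd hr (by decide)
  haveI : Nontrivial S := by
    by_contra hnt
    rw [not_nontrivial_iff_subsingleton] at hnt
    rw [ringKrullDim_eq_bot_of_subsingleton] at hs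
    exact WithBot.bot_ne_coe hs
  haveI : IsNoetherianRing R := Algebra.FiniteType.isNoetherianRing k R
  haveI : IsNoetherianRing S := Algebra.FiniteType.isNoetherianRing k S
  obtain ⟨a, ha, x, hx, hxreg0⟩ := exists_homogeneous_regular 𝒜 hposR h0R (by rw [hr])
  have hxreg := isSMulRegular_iff_mul.mp hxreg0
  obtain ⟨y, c, hc, hy, hyreg⟩ := exists_regular_seq_dvd ℬ hposS h0S hs a ha
  have hxpow : ∀ n : ℕ, ∀ z : R, x ^ n * z = 0 → z = 0 := by
    intro n
    induction n with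
    | zero => intro z hz; rwa [pow_zero, one_mul] at hz
    | succ n ih =>
      intro z hz
      rw [pow_succ, mul_assoc] at hz
      exact hxreg z (ih _ hz)
  have hxc : ∀ j : ℕ, x ^ j ∈ 𝒜 ((a * j : ℕ) : ℤ) := by
    intro j
    have h1 : x ^ j ∈ 𝒜 (j • (a : ℤ)) := SetLike.pow_mem_graded j hx
    have h2 : j • (a : ℤ) = ((a * j : ℕ) : ℤ) := by rw [nsmul_eq_mul]; push_cast; ring
    rwa [h2] at h1
  have hex : ∀ l, ∃ tl ∈ 𝒯 ((a * c l : ℕ) : ℤ), ψ tl = (x ^ c l) ⊗ₜ[k] (y l) := fun l =>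
    exists_of_mem_seg 𝒜 ℬ 𝒯 ψ hψ hdegT (tmul_mem_seg 𝒜 ℬ (hxc (c l)) (hy l))
  choose t htdeg ht using hex
  -- the structure of `T`
  have hposT : ∀ n : ℤ, n < 0 → 𝒯 n = ⊥ := fun n hn =>
    T_neg 𝒜 ℬ 𝒯 ψ hψ hdegT (hposR n hn)
  have h0T := T_zero 𝒜 ℬ 𝒯 ψ hψ hdegT h0R h0S
  haveI : IsNoetherianRing T :=
    Groth.Agent.S18646.result k R 𝒜 hposR h0R S ℬ hposS h0S T 𝒯 ψ hψ hdegT
  haveI : Algebra.FiniteType k T := finiteType_of_isNoetherianRing 𝒯 hposT h0T
  have hTdim := SegreC.main 𝒜 ℬ 𝒯 ψ hψ hdegT hposR h0R hposS h0S 1 s (by rw [hr]; rfl)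
    hs le_rfl h1s
  have hs' : 1 + s - 1 = s := by omega
  rw [hs'] at hTdim
  haveI : Nontrivial T := by
    by_contra hnt
    rw [not_nontrivial_iff_subsingleton] at hnt
    rw [ringKrullDim_eq_bot_of_subsingleton] at hTdim
    exact WithBot.bot_ne_coe hTdim
  have htirr : ∀ l, t l ∈ irr 𝒯 := by
    intro l
    apply Ideal.subset_span
    simp only [Set.mem_iUnion, Set.mem_Ioi]
    refine ⟨((a * c l : ℕ) : ℤ), ?_, htdeg l⟩
    have := Nat.mul_pos ha (hc l)
    exact_mod_cast this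
  have hlenT : (((List.ofFn t).length : ℕ) : WithBot ℕ∞) = ringKrullDim T := by
    rw [List.length_ofFn, hTdim]
  have hmemT : ∀ r ∈ List.ofFn t, r ∈ irr 𝒯 := by
    intro r hr
    rw [List.mem_ofFn] at hr
    obtain ⟨l, rfl⟩ := hr
    exact htirr l
  -- Cohen–Macaulayness from the vanishing condition
  have hCM_of_H : (∀ (g : ℤ) (j : ℕ), 1 ≤ j →
      (∀ r ∈ 𝒜 g, r ∈ Ideal.span {x ^ j}) ∨ ℬ (g - j * a) = ⊥) →
      LocCoh.IsCohenMacaulayRing T := by
    intro H
    have hreg := reg_t 𝒜 ℬ 𝒯 ψ hψ hdegT hx H hxreg y c hc hy t ht hyreg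
    exact isCM_of_regular_seq 𝒯 hposT h0T (List.ofFn t)
      ((isWeaklyRegular_iff_reg _).mpr hreg) hmemT hlenT
  constructor
  · intro h2s
    constructor
    · -- `T` CM implies the vanishing
      intro hTcm
      by_contra hcon
      push Not at hcon
      obtain ⟨n, hH1, hBn⟩ := hcon
      set i0 : Fin s := ⟨0, by omega⟩ with hi0
      set D : ℕ := a * c i0 with hD
      have hDpos : (0 : ℤ) < (D : ℤ) := by
        have := Nat.mul_pos ha (hc i0)
        exact_mod_cast this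
      set X : R := x ^ c i0 with hX
      set Y : S := y i0 with hY
      have hXD : X ∈ 𝒜 (D : ℤ) := hxc (c i0)
      have hYD : Y ∈ ℬ (D : ℤ) := hy i0
      have hXreg : ∀ z : R, X * z = 0 → z = 0 := hxpow (c i0)
      have hYreg : ∀ z : S, Y * z = 0 → z = 0 := by
        intro z hz
        have h1 := hyreg 0 (by rw [List.length_ofFn]; omega) z
        rw [List.take_zero, Ideal.ofList_nil, List.getElem_ofFn] at h1
        have h2 := h1 (by rw [Ideal.mem_bot]; exact hz)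
        rwa [Ideal.mem_bot] at h2
      have hYpow : ∀ j : ℕ, ∀ z : S, Y ^ j * z = 0 → z = 0 := by
        intro j
        induction j with
        | zero => intro z hz; rwa [pow_zero, one_mul] at hz
        | succ j ih =>
          intro z hz
          rw [pow_succ, mul_assoc] at hz
          exact hYreg z (ih _ hz)
      -- a piece not in `(X)`
      have hex2 : ∃ j : ℕ, 1 ≤ j ∧ ∃ r ∈ 𝒜 (n + j * (D : ℤ)), r ∉ Ideal.span {X} := by
        by_contra hno
        push Not at hno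
        exact hH1 (Hcomp_eq_bot_of_le_span 𝒜 mR hmR I hDpos hXD hXreg hno)
      obtain ⟨j, hj, r, hr', hrX⟩ := hex2
      obtain ⟨b₀, hb₀, hb₀0⟩ := Submodule.exists_mem_ne_zero_of_ne_bot hBn
      set n' : ℤ := n + j * (D : ℤ) with hn'
      set b₁ : S := Y ^ (j - 1) * b₀ with hb₁
      have hb₁0 : b₁ ≠ 0 := fun h => hb₀0 (hYpow (j - 1) b₀ h)
      have hb₁mem : b₁ ∈ ℬ (n' - (D : ℤ)) := by
        have h1 : Y ^ (j - 1) ∈ ℬ ((j - 1) • (D : ℤ)) := SetLike.pow_mem_graded (j - 1) hYD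
        have h2 := SetLike.GradedMul.mul_mem h1 hb₀
        have e : (j - 1) • (D : ℤ) + n = n' - (D : ℤ) := by
          rw [hn', nsmul_eq_mul, Nat.cast_sub hj]
          push_cast
          ring
        rwa [e] at h2
      have hYb : Y * b₁ ∈ ℬ n' := by
        have := SetLike.GradedMul.mul_mem hYD hb₁mem
        have e : (D : ℤ) + (n' - (D : ℤ)) = n' := by ring
        rwa [e] at this
      obtain ⟨u, -, hu⟩ := exists_of_mem_seg 𝒜 ℬ 𝒯 ψ hψ hdegT (tmul_mem_seg 𝒜 ℬ hr' hYb)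
      have htt : ψ (t i0) = X ⊗ₜ[k] Y := ht i0
      have htreg := t_regular 𝒜 ℬ 𝒯 ψ hψ hdegT hXreg hYreg htt
      have hunot := u_not_mem 𝒜 ℬ 𝒯 ψ hψ hdegT hYreg hrX hb₁0 htt hu
      obtain ⟨N₀, hN₀⟩ := exists_piece_le_span 𝒜 hposR h0R hr hDpos hXD hXreg
      have hmul : ∀ m : ℤ, (N₀ : ℤ) ≤ m → ∀ w ∈ 𝒯 m, w * u ∈ Ideal.span {t i0} := by
        intro m hm w hw
        obtain ⟨m', rfl⟩ := Int.eq_ofNat_of_zero_le (le_trans (Int.natCast_nonneg N₀) hm)
        exact mul_u_mem 𝒜 ℬ 𝒯 ψ hψ hdegT hXD hr' hb₁mem htt hu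
          (fun a' ha' => hN₀ m' (by exact_mod_cast hm) a' ha') hw
      have hge : ∀ c' ∈ geIdeal 𝒯 (N₀ : ℤ), c' * u ∈ Ideal.span {t i0} := by
        intro c' hc'
        unfold geIdeal at hc'
        induction hc' using Submodule.span_induction with
        | mem w hw =>
          simp only [Set.mem_iUnion, Set.mem_Ici] at hw
          obtain ⟨m, hm, hw⟩ := hw
          exact hmul m hm w hw
        | zero => rw [zero_mul]; exact zero_mem _
        | add c1 c2 _ _ hc1 hc2 => rw [add_mul]; exact add_mem hc1 hc2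
        | smul d c1 _ hc1 => rw [smul_eq_mul, mul_assoc]; exact Ideal.mul_mem_left _ _ hc1
      refine not_isCM_of_socle 𝒯 hposT h0T (htirr i0) htreg hunot N₀
        (fun c' hc' => hge c' (irr_pow_le_geIdeal 𝒯 N₀ hc')) ?_ hTcm
      rw [hTdim]
      exact_mod_cast h2s
    · -- the vanishing implies `T` CM
      intro hC
      apply hCM_of_H
      intro g j hj
      rcases hC (g - j * a) with h | h
      · left
        have hja : (0 : ℤ) < ((a * j : ℕ) : ℤ) := by
          have := Nat.mul_pos ha hj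
          exact_mod_cast this
        have h1 := le_span_of_Hcomp_eq_bot 𝒜 hposR h0R mR hmR I hr hja (hxc j) (hxpow j) h
        have e : g - (j : ℤ) * (a : ℤ) + ((a * j : ℕ) : ℤ) = g := by push_cast; ring
        rw [e] at h1
        exact h1
      · right
        exact h
  · intro hs1
    subst hs1
    set i0 : Fin 1 := ⟨0, by omega⟩ with hi0
    have hYreg : ∀ z : S, y i0 * z = 0 → z = 0 := by
      intro z hz
      have h1 := hyreg 0 (by rw [List.length_ofFn]; omega) z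
      rw [List.take_zero, Ideal.ofList_nil, List.getElem_ofFn] at h1
      have h2 := h1 (by rw [Ideal.mem_bot]; exact hz)
      rwa [Ideal.mem_bot] at h2
    have htreg := t_regular 𝒜 ℬ 𝒯 ψ hψ hdegT (hxpow (c i0)) hYreg (ht i0)
    have hlist : List.ofFn t = [t i0] := by
      rw [List.ofFn_succ, List.ofFn_zero]
      rfl
    refine isCM_of_regular_seq 𝒯 hposT h0T (List.ofFn t) ?_ hmemT hlenT
    rw [hlist, RingTheory.Sequence.isWeaklyRegular_singleton_iff]
    exact isSMulRegular_iff_mul.mpr htreg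

end Main

end Groth.Agent.Lib.Helper87.SegSeqE
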