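import Mathlib
import Groth.Prelude.Def_GrSeg
import Groth.Agent.Lib.Helper87.SegPolyB
import Groth.Agent.S18865
import Groth.Agent.Lib.Helper29.CM

/-!
# Segre products `k[X](a) # k[Y_1..Y_s](b)`
-/

set_option autoImplicit false
set_option linter.style.haveILetI false
set_option linter.unusedSectionVars false
universe u
open scoped TensorProduct
open MvPolynomial

namespace Groth.Agent.Lib.Helper87.SegShiftA

attribute [local instance] MvPolynomial.weightedGradedAlgebra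

variable (k : Type u) [Field k]

/-- the degree grading on `k[X_i : i < n]` -/
noncomputable abbrev wh (n : ℕ) : ℤ → Submodule k (MvPolynomial (Fin n) k) :=
  weightedHomogeneousSubmodule k (fun _ : Fin n => (1 : ℤ))

variable {k}

theorem X_mem (n : ℕ) (i : Fin n) : (X i : MvPolynomial (Fin n) k) ∈ wh k n 1 := by
  rw [mem_weightedHomogeneousSubmodule]
  exact isWeightedHomogeneous_X k _ i

theorem X_pow_mem (n : ℕ) (i : Fin n) (m : ℕ) {j : ℤ} (hj : j = m) :
    (X i : MvPolynomial (Fin n) k) ^ m ∈ wh k n j := by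
  subst hj
  have h := SetLike.pow_mem_graded m (X_mem (k := k) n i)
  simpa using h

theorem one_mem (n : ℕ) {j : ℤ} (hj : j = 0) : (1 : MvPolynomial (Fin n) k) ∈ wh k n j := by
  subst hj
  exact SetLike.GradedOne.one_mem

theorem wt_nonneg (n : ℕ) (d : Fin n →₀ ℕ) : 0 ≤ Finsupp.weight (fun _ : Fin n => (1 : ℤ)) d := by
  simp only [Finsupp.weight_apply, Finsupp.sum]
  exact Finset.sum_nonneg fun i _ => by positivity

theorem eq_zero_of_neg (n : ℕ) {j : ℤ} (hj : j < 0) {x : MvPolynomial (Fin n) k}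
    (hx : x ∈ wh k n j) : x = 0 := by
  rw [mem_weightedHomogeneousSubmodule] at hx
  ext d
  rw [coeff_zero]
  by_contra hne
  have := hx hne
  have h2 := wt_nonneg n d
  omega

theorem wh_neg (n : ℕ) {j : ℤ} (hj : j < 0) : wh k n j = ⊥ := by
  rw [eq_bot_iff]
  intro x hx
  rw [Submodule.mem_bot]
  exact eq_zero_of_neg n hj hx

theorem wt_one (d : Fin 1 →₀ ℕ) : Finsupp.weight (fun _ : Fin 1 => (1 : ℤ)) d = (d 0 : ℤ) := by
  simp [Finsupp.weight_apply, Finsupp.sum_fintype]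

/-- homogeneous polynomials in one variable are monomials -/
theorem exists_smul_X_pow {m : ℕ} {x : MvPolynomial (Fin 1) k} (hx : x ∈ wh k 1 (m : ℤ)) :
    ∃ c : k, x = c • (X 0 : MvPolynomial (Fin 1) k) ^ m := by
  rw [mem_weightedHomogeneousSubmodule] at hx
  refine ⟨coeff (Finsupp.single 0 m) x, ?_⟩
  ext d
  rw [coeff_smul, X_pow_eq_monomial, coeff_monomial]
  by_cases hd : Finsupp.single 0 m = d
  · rw [if_pos hd, smul_eq_mul, mul_one, hd]
  · rw [if_neg hd, smul_zero]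
    by_contra hne
    have h1 := hx hne
    rw [wt_one] at h1
    apply hd
    refine Finsupp.ext fun i => ?_
    have hi : i = 0 := Subsingleton.elim _ _
    subst hi
    rw [Finsupp.single_eq_same]
    exact_mod_cast h1.symm


section Span

variable {s : ℕ}

local notation "RR" => MvPolynomial (Fin 1) k
local notation "SS" => MvPolynomial (Fin s) k

/-- elements of the span of `R_i ⊗ S_j` -/
theorem exists_of_mem_span {i j : ℤ} {z : RR ⊗[k] SS}
    (hz : z ∈ Submodule.span k {x : RR ⊗[k] SS | ∃ a ∈ wh k 1 i, ∃ b ∈ wh k s j, x = a ⊗ₜ[k] b}) :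
    (i < 0 → z = 0) ∧ (j < 0 → z = 0) ∧
      ∀ m : ℕ, i = m → ∃ g ∈ wh k s j, z = ((X 0 : RR) ^ m) ⊗ₜ[k] g := by
  induction hz using Submodule.span_induction with
  | mem x hx =>
    obtain ⟨a, ha, b, hb, rfl⟩ := hx
    refine ⟨fun hi => ?_, fun hj => ?_, fun m hm => ?_⟩
    · rw [eq_zero_of_neg 1 hi ha, TensorProduct.zero_tmul]
    · rw [eq_zero_of_neg s hj hb, TensorProduct.tmul_zero]
    · subst hm
      obtain ⟨c, rfl⟩ := exists_smul_X_pow ha
      exact ⟨c • b, Submodule.smul_mem _ c hb, by rw [TensorProduct.smul_tmul]⟩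
  | zero =>
    exact ⟨fun _ => rfl, fun _ => rfl, fun m _ => ⟨0, zero_mem _, by rw [TensorProduct.tmul_zero]⟩⟩
  | add x y _ _ hx hy =>
    refine ⟨fun hi => by rw [hx.1 hi, hy.1 hi, add_zero],
      fun hj => by rw [hx.2.1 hj, hy.2.1 hj, add_zero], fun m hm => ?_⟩
    obtain ⟨g1, hg1, rfl⟩ := hx.2.2 m hm
    obtain ⟨g2, hg2, rfl⟩ := hy.2.2 m hm
    exact ⟨g1 + g2, add_mem hg1 hg2, by rw [TensorProduct.tmul_add]⟩
  | smul c x _ hx =>
    refine ⟨fun hi => by rw [hx.1 hi, smul_zero], fun hj => by rw [hx.2.1 hj, smul_zero],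
      fun m hm => ?_⟩
    obtain ⟨g, hg, rfl⟩ := hx.2.2 m hm
    exact ⟨c • g, Submodule.smul_mem _ c hg, by rw [TensorProduct.tmul_smul]⟩

theorem tmul_mem_span {i j : ℤ} {a : RR} {b : SS} (ha : a ∈ wh k 1 i) (hb : b ∈ wh k s j) :
    a ⊗ₜ[k] b ∈ Submodule.span k {x : RR ⊗[k] SS | ∃ a ∈ wh k 1 i, ∃ b ∈ wh k s j, x = a ⊗ₜ[k] b} :=
  Submodule.subset_span ⟨a, ha, b, hb, rfl⟩

/-- the action of `R ⊗ S` on itself is multiplication -/
theorem act_eq_mul (x y : RR ⊗[k] SS) : GrSeg.act k RR SS RR SS x y = x * y := by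
  induction x using TensorProduct.induction_on with
  | zero => simp
  | tmul r t =>
    induction y using TensorProduct.induction_on with
    | zero => simp
    | tmul m n =>
      rw [GrSeg.act_tmul, Algebra.TensorProduct.tmul_mul_tmul, smul_eq_mul, smul_eq_mul]
    | add y1 y2 h1 h2 => rw [map_add, h1, h2, mul_add]
  | add x1 x2 h1 h2 => rw [map_add, LinearMap.add_apply, h1, h2, add_mul]

theorem X_pow_regular (n : ℕ) (i : Fin n) (m : ℕ) :
    ∀ z : MvPolynomial (Fin n) k, (X i : MvPolynomial (Fin n) k) ^ m * z = 0 → z = 0 := by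
  intro z hz
  rcases mul_eq_zero.mp hz with h | h
  · exact absurd h (pow_ne_zero _ (X_ne_zero i))
  · exact h

/-- `X^m ⊗ Y^l` is a nonzerodivisor of `R ⊗ S` -/
theorem tmul_regular (i : Fin s) (m l : ℕ) (z : RR ⊗[k] SS)
    (h : (((X 0 : RR) ^ m) ⊗ₜ[k] ((X i : SS) ^ l)) * z = 0) : z = 0 := by
  have h2 : ((X 0 : RR) ^ m) ⊗ₜ[k] ((X i : SS) ^ l) =
      (((X 0 : RR) ^ m) ⊗ₜ[k] (1 : SS)) * ((1 : RR) ⊗ₜ[k] ((X i : SS) ^ l)) := by
    rw [Algebra.TensorProduct.tmul_mul_tmul, mul_one, one_mul]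
  rw [h2, mul_assoc] at h
  exact Groth.Agent.Lib.Helper87.SegPolyB.one_tmul_mul_eq_zero (X_pow_regular s i l) _
    (Groth.Agent.Lib.Helper87.SegPolyB.tmul_one_mul_eq_zero (X_pow_regular 1 0 m) _ h)

end Span


section StdOne

open Groth.Agent.Lib.Helper87.ModHilbB

theorem wh_one_zero : wh k 1 0 = Submodule.span k {(1 : MvPolynomial (Fin 1) k)} := by
  apply le_antisymm
  · intro x hx
    have hx' : x ∈ wh k 1 ((0 : ℕ) : ℤ) := by simpa using hx
    obtain ⟨c, rfl⟩ := exists_smul_X_pow hx'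
    rw [pow_zero]
    exact Submodule.smul_mem _ c (Submodule.subset_span rfl)
  · rw [Submodule.span_le]
    rintro x rfl
    exact one_mem 1 rfl

theorem std_one : Std (wh k 1) where
  neg := fun n hn => wh_neg 1 hn
  zero := wh_one_zero
  succ := by
    intro n
    apply le_antisymm
    · intro x hx
      obtain ⟨c, rfl⟩ := exists_smul_X_pow hx
      rw [pow_succ', ← smul_mul_assoc]
      exact Submodule.mul_mem_mul (Submodule.smul_mem _ c (X_mem 1 0)) (X_pow_mem 1 0 n rfl)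
    · rw [Submodule.mul_le]
      intro x hx y hy
      have h3 : ((n + 1 : ℕ) : ℤ) = 1 + (n : ℤ) := by push_cast; ring
      rw [h3]
      exact SetLike.mul_mem_graded hx hy
  fin := by
    have h : wh k 1 1 = Submodule.span k {(X 0 : MvPolynomial (Fin 1) k)} := by
      apply le_antisymm
      · intro x hx
        have hx' : x ∈ wh k 1 ((1 : ℕ) : ℤ) := by simpa using hx
        obtain ⟨c, rfl⟩ := exists_smul_X_pow hx'
        rw [pow_one]
        exact Submodule.smul_mem _ c (Submodule.subset_span rfl)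
      · rw [Submodule.span_le]
        rintro x rfl
        exact X_mem 1 0
    rw [h]
    exact Module.Finite.span_singleton k _

end StdOne

section Main

variable {s : ℕ} {T : Type u} [CommRing T] [Algebra k T] (𝒯 : ℤ → Submodule k T) [GradedAlgebra 𝒯]
  (ψ : T →ₐ[k] (MvPolynomial (Fin 1) k) ⊗[k] (MvPolynomial (Fin s) k))
  (hT : GrSeg.IsSegreRing (wh k 1) (wh k s) 𝒯 ψ)
  (a b : ℤ) {P : Type u} [AddCommGroup P] [Module T P] [Module k P] [IsScalarTower k T P]
  (𝒬 : ℤ → AddSubgroup P) [DirectSum.Decomposition 𝒬]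
  (φ : P →ₗ[k] (MvPolynomial (Fin 1) k) ⊗[k] (MvPolynomial (Fin s) k))
  (hP : GrSeg.IsSegreMod ψ (fun n : ℤ => wh k 1 (n + a)) (fun n : ℤ => wh k s (n + b)) 𝒬 φ)

local notation "RR" => MvPolynomial (Fin 1) k
local notation "SS" => MvPolynomial (Fin s) k

include hT in
theorem psi_mem {n : ℤ} {u : T} (hu : u ∈ 𝒯 n) :
    ψ u ∈ Submodule.span k {x : RR ⊗[k] SS | ∃ a ∈ wh k 1 n, ∃ b ∈ wh k s n, x = a ⊗ₜ[k] b} := by
  have h := hT.2 n
  have h2 : ψ u ∈ (𝒯 n).map ψ.toLinearMap := ⟨u, hu, rfl⟩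
  rw [h] at h2
  exact h2

include hT in
theorem exists_T {m : ℕ} {g : SS} (hg : g ∈ wh k s (m : ℤ)) :
    ∃ u ∈ 𝒯 (m : ℤ), ψ u = ((X 0 : RR) ^ m) ⊗ₜ[k] g := by
  have h := hT.2 (m : ℤ)
  have h2 : ((X 0 : RR) ^ m) ⊗ₜ[k] g ∈ GrSeg.segrePiece k (wh k 1) (wh k s) (m : ℤ) :=
    tmul_mem_span (X_pow_mem 1 0 m rfl) hg
  rw [← h] at h2
  obtain ⟨u, hu, hu2⟩ := h2
  exact ⟨u, hu, hu2⟩

include hP in
theorem phi_mem {n : ℤ} {p : P} (hp : p ∈ 𝒬 n) :
    φ p ∈ Submodule.span k {x : RR ⊗[k] SS | ∃ x1 ∈ wh k 1 (n + a), ∃ x2 ∈ wh k s (n + b),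
      x = x1 ⊗ₜ[k] x2} := by
  have h := hP.image_piece n
  have h2 : φ p ∈ φ '' (𝒬 n : Set P) := ⟨p, hp, rfl⟩
  rw [h] at h2
  exact h2

include hP in
theorem exists_P {n : ℤ} {x : RR} {y : SS} (hx : x ∈ wh k 1 (n + a)) (hy : y ∈ wh k s (n + b)) :
    ∃ p ∈ 𝒬 n, φ p = x ⊗ₜ[k] y := by
  have h := hP.image_piece n
  have h2 : x ⊗ₜ[k] y ∈ (GrSeg.segrePiece k (fun n : ℤ => wh k 1 (n + a))
      (fun n : ℤ => wh k s (n + b)) n : Set (RR ⊗[k] SS)) :=
    tmul_mem_span hx hy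
  rw [← h] at h2
  obtain ⟨p, hp, hp2⟩ := h2
  exact ⟨p, hp, hp2⟩

include hP in
theorem phi_smul (t : T) (p : P) : φ (t • p) = ψ t * φ p := by
  rw [hP.map_smul, act_eq_mul]

end Main


section PartA

variable {s : ℕ} {T : Type u} [CommRing T] [Algebra k T] (𝒯 : ℤ → Submodule k T) [GradedAlgebra 𝒯]
  (ψ : T →ₐ[k] (MvPolynomial (Fin 1) k) ⊗[k] (MvPolynomial (Fin s) k))
  (hT : GrSeg.IsSegreRing (wh k 1) (wh k s) 𝒯 ψ)
  (a b : ℤ) {P : Type u} [AddCommGroup P] [Module T P] [Module k P] [IsScalarTower k T P]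
  (𝒬 : ℤ → AddSubgroup P) [DirectSum.Decomposition 𝒬]
  (φ : P →ₗ[k] (MvPolynomial (Fin 1) k) ⊗[k] (MvPolynomial (Fin s) k))
  (hP : GrSeg.IsSegreMod ψ (fun n : ℤ => wh k 1 (n + a)) (fun n : ℤ => wh k s (n + b)) 𝒬 φ)

local notation "RR" => MvPolynomial (Fin 1) k
local notation "SS" => MvPolynomial (Fin s) k

include hT in
theorem isCM_T : LocCoh.IsCohenMacaulayRing T := by
  haveI hScm : LocCoh.IsCohenMacaulayRing SS :=
    Groth.Agent.S18865.isCohenMacaulayRing_of_isRegularRing _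
  have hdim : ringKrullDim RR = 1 := by
    rw [MvPolynomial.ringKrullDim_of_isNoetherianRing, ringKrullDim_eq_zero_of_field]
    simp
  exact Groth.Agent.Lib.Helper87.SegPolyB.isCM_of_algEquiv (wh k 1) (wh k s) 𝒯 ψ hT.1
    (fun n => hT.2 n) (fun n hn => wh_neg 1 hn) wh_one_zero (fun n hn => wh_neg s hn) std_one hdim
    (MvPolynomial.uniqueAlgEquiv k (Fin 1))

include hT hP in
/-- for `b ≤ a` the module `P` is free of rank one -/
theorem exists_generator (hba : b ≤ a) :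
    ∃ p₀ : P, Function.Bijective (LinearMap.toSpanSingleton T P p₀) := by
  classical
  obtain ⟨m, hm⟩ : ∃ m : ℕ, (m : ℤ) = a - b := ⟨(a - b).toNat, Int.toNat_of_nonneg (by omega)⟩
  obtain ⟨p₀, hp₀, hφp₀⟩ := exists_P ψ a b 𝒬 φ hP (n := -b) (x := (X 0 : RR) ^ m) (y := (1 : SS))
    (X_pow_mem 1 0 m (by omega)) (one_mem s (by omega))
  refine ⟨p₀, ?_, ?_⟩
  · rw [← LinearMap.ker_eq_bot, LinearMap.ker_eq_bot']
    intro t ht
    rw [LinearMap.toSpanSingleton_apply] at ht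
    have h1 : ψ t * φ p₀ = 0 := by rw [← phi_smul ψ a b 𝒬 φ hP, ht, map_zero]
    rw [hφp₀, mul_comm] at h1
    have h2 := Groth.Agent.Lib.Helper87.SegPolyB.tmul_one_mul_eq_zero (X_pow_regular 1 0 m) _ h1
    apply hT.1
    rw [h2, map_zero]
  · intro p
    induction p using DirectSum.Decomposition.inductionOn 𝒬 with
    | zero => exact ⟨0, map_zero _⟩
    | @homogeneous n p =>
      have hmem := phi_mem ψ a b 𝒬 φ hP p.2
      obtain ⟨-, h2, h3⟩ := exists_of_mem_span hmem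
      by_cases hn : n + b < 0
      · have h0 : φ (p : P) = 0 := h2 hn
        have hp0 : (p : P) = 0 := hP.injective (by rw [h0, map_zero])
        exact ⟨0, by rw [map_zero, hp0]⟩
      · obtain ⟨j, hj⟩ : ∃ j : ℕ, (j : ℤ) = n + b := ⟨(n + b).toNat, Int.toNat_of_nonneg (by omega)⟩
        obtain ⟨g, hg, hφp⟩ := h3 (j + m) (by push_cast; omega)
        have hg' : g ∈ wh k s (j : ℤ) := by rw [hj]; exact hg
        obtain ⟨t, -, ht⟩ := exists_T 𝒯 ψ hT hg'
        refine ⟨t, ?_⟩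
        apply hP.injective
        rw [LinearMap.toSpanSingleton_apply, phi_smul ψ a b 𝒬 φ hP, ht, hφp₀, hφp,
          Algebra.TensorProduct.tmul_mul_tmul, mul_one, pow_add]
    | add p p' hp hp' =>
      obtain ⟨t, rfl⟩ := hp
      obtain ⟨t', rfl⟩ := hp'
      exact ⟨t + t', map_add _ _ _⟩

include hT hP in
theorem partA (hba : b ≤ a) (q : Ideal T) [q.IsPrime] :
    LocCoh.IsCohenMacaulayModule (Localization.AtPrime q) (LocalizedModule q.primeCompl P) := by
  classical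
  have hTcm := isCM_T 𝒯 ψ hT
  obtain ⟨p₀, hinj, hsurj⟩ := exists_generator 𝒯 ψ hT a b 𝒬 φ hP hba
  have hTq : LocCoh.IsCohenMacaulayModule (Localization.AtPrime q) (Localization.AtPrime q) :=
    (hTcm.isCohenMacaulayLocalRing_localization q).supportDim_eq_depth
  set g : Localization.AtPrime q →ₗ[Localization.AtPrime q] LocalizedModule q.primeCompl P :=
    LinearMap.toSpanSingleton _ _ (LocalizedModule.mk p₀ 1) with hg
  have hgbij : Function.Bijective g := by
    constructor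
    · rw [← LinearMap.ker_eq_bot, LinearMap.ker_eq_bot']
      intro c hc
      induction c using Localization.induction_on with
      | H tu =>
        obtain ⟨t, u⟩ := tu
        rw [hg, LinearMap.toSpanSingleton_apply, LocalizedModule.mk_smul_mk,
          ← LocalizedModule.zero_mk 1, LocalizedModule.mk_eq] at hc
        obtain ⟨v, hv⟩ := hc
        rw [smul_zero, smul_zero, one_smul, Submonoid.smul_def, ← mul_smul] at hv
        have h0 : (v : T) * t = 0 := by
          have := hinj (a₁ := (v : T) * t) (a₂ := 0)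
            (by rw [LinearMap.toSpanSingleton_apply, LinearMap.toSpanSingleton_apply, hv, zero_smul])
          exact this
        rw [Localization.mk_eq_mk', IsLocalization.mk'_eq_zero_iff]
        exact ⟨v, h0⟩
    · intro x
      induction x using LocalizedModule.induction_on with
      | h p u =>
        obtain ⟨t, ht⟩ := hsurj p
        rw [LinearMap.toSpanSingleton_apply] at ht
        refine ⟨Localization.mk t u, ?_⟩
        rw [hg, LinearMap.toSpanSingleton_apply, LocalizedModule.mk_smul_mk, mul_one, ht]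
  exact (Groth.Agent.Lib.Helper29.CMLib.isCohenMacaulayModule_congr
    (LinearEquiv.ofBijective g hgbij)).mp hTq

end PartA


section PartB

variable {s : ℕ} {T : Type u} [CommRing T] [Algebra k T] (𝒯 : ℤ → Submodule k T) [GradedAlgebra 𝒯]
  (ψ : T →ₐ[k] (MvPolynomial (Fin 1) k) ⊗[k] (MvPolynomial (Fin s) k))
  (hT : GrSeg.IsSegreRing (wh k 1) (wh k s) 𝒯 ψ)
  (mT : HomogeneousIdeal 𝒯)
  (hmT : mT.toIdeal = Ideal.span (⋃ n ∈ Set.Ioi (0 : ℤ), (𝒯 n : Set T)))
  (a b : ℤ) {P : Type u} [AddCommGroup P] [Module T P] [Module k P] [IsScalarTower k T P]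
  (𝒬 : ℤ → AddSubgroup P) [DirectSum.Decomposition 𝒬]
  (φ : P →ₗ[k] (MvPolynomial (Fin 1) k) ⊗[k] (MvPolynomial (Fin s) k))
  (hP : GrSeg.IsSegreMod ψ (fun n : ℤ => wh k 1 (n + a)) (fun n : ℤ => wh k s (n + b)) 𝒬 φ)

local notation "RR" => MvPolynomial (Fin 1) k
local notation "SS" => MvPolynomial (Fin s) k

variable (k s) in
/-- the augmentation `X ↦ 0` -/
noncomputable def rho : RR ⊗[k] SS →ₐ[k] SS :=
  (Algebra.TensorProduct.lid k SS).toAlgHom.comp
    (Algebra.TensorProduct.map (MvPolynomial.aeval (fun _ : Fin 1 => (0 : k))) (AlgHom.id k SS))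

theorem rho_tmul (r : RR) (y : SS) :
    rho k s (r ⊗ₜ[k] y) = (MvPolynomial.aeval (fun _ : Fin 1 => (0 : k)) r) • y := by
  unfold rho
  rw [AlgHom.comp_apply, Algebra.TensorProduct.map_tmul]
  simp

include hT hmT in
theorem rho_psi_eq_zero {u : T} (hu : u ∈ mT.toIdeal) : rho k s (ψ u) = 0 := by
  have hle : mT.toIdeal ≤ RingHom.ker ((rho k s).toRingHom.comp ψ.toRingHom) := by
    rw [hmT, Ideal.span_le]
    intro x hx
    simp only [Set.mem_iUnion, Set.mem_Ioi] at hx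
    obtain ⟨n, hn, hx⟩ := hx
    rw [SetLike.mem_coe, RingHom.mem_ker]
    show rho k s (ψ x) = 0
    obtain ⟨m, hm⟩ : ∃ m : ℕ, (m : ℤ) = n := ⟨n.toNat, Int.toNat_of_nonneg hn.le⟩
    obtain ⟨-, -, h3⟩ := exists_of_mem_span (psi_mem 𝒯 ψ hT hx)
    obtain ⟨g, -, hg⟩ := h3 m hm.symm
    have hm0 : m ≠ 0 := by omega
    rw [hg, rho_tmul, map_pow, aeval_X, zero_pow hm0, zero_smul]
  have := hle hu
  rw [RingHom.mem_ker] at this
  exact this

include hT hmT hP in
theorem partB (hs : 0 < s) (hab : a < b) : LocCoh.idealDepth mT.toIdeal P = (1 : ℕ∞) := by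
  classical
  set Y : SS := X ⟨0, hs⟩ with hY
  obtain ⟨d, hd⟩ : ∃ d : ℕ, (d : ℤ) = b - a := ⟨(b - a).toNat, Int.toNat_of_nonneg (by omega)⟩
  have hd1 : 1 ≤ d := by omega
  -- the socle element
  obtain ⟨z₀, hz₀, hφz₀⟩ := exists_P ψ a b 𝒬 φ hP (n := -a) (x := (1 : RR)) (y := Y ^ d)
    (one_mem 1 (by omega)) (X_pow_mem s ⟨0, hs⟩ d (by omega))
  -- the regular element
  obtain ⟨t, ht1, hψt⟩ := exists_T 𝒯 ψ hT (m := 1) (g := Y) (by exact_mod_cast X_mem s ⟨0, hs⟩)
  rw [pow_one] at hψt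
  have htm : t ∈ mT.toIdeal := by
    rw [hmT]
    apply Ideal.subset_span
    simp only [Set.mem_iUnion, Set.mem_Ioi]
    exact ⟨1, one_pos, by exact_mod_cast ht1⟩
  have hρz₀ : rho k s (φ z₀) ≠ 0 := by
    rw [hφz₀, rho_tmul, map_one, one_smul]
    exact pow_ne_zero _ (X_ne_zero _)
  have hρm : ∀ u ∈ mT.toIdeal, ∀ p : P, rho k s (φ (u • p)) = 0 := by
    intro u hu p
    rw [phi_smul ψ a b 𝒬 φ hP, map_mul, rho_psi_eq_zero 𝒯 ψ hT mT hmT hu, zero_mul]
  have hne : mT.toIdeal • (⊤ : Submodule T P) ≠ ⊤ := by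
    intro htop
    have hz : z₀ ∈ mT.toIdeal • (⊤ : Submodule T P) := by rw [htop]; exact Submodule.mem_top
    have : rho k s (φ z₀) = 0 := by
      refine Submodule.smul_induction_on hz (fun u hu p _ => hρm u hu p) ?_
      intro x y hx hy
      rw [map_add, map_add, hx, hy, add_zero]
    exact hρz₀ this
  have htreg : IsSMulRegular P t := by
    intro p p' hpp
    have h1 : ψ t * (φ p - φ p') = 0 := by
      rw [mul_sub, ← phi_smul ψ a b 𝒬 φ hP, ← phi_smul ψ a b 𝒬 φ hP]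
      exact sub_eq_zero.mpr (congrArg φ hpp)
    rw [hψt] at h1
    have h2 : ((X 0 : RR) ^ 1) ⊗ₜ[k] (Y ^ 1) * (φ p - φ p') = 0 := by
      rw [pow_one, pow_one]; exact h1
    have h3 := tmul_regular ⟨0, hs⟩ 1 1 _ h2
    exact hP.injective (sub_eq_zero.mp h3)
  have hz₀t : ∀ w : P, z₀ ≠ t • w := by
    intro w hw
    apply hρz₀
    rw [hw]
    exact hρm t htm w
  -- `m z₀ ⊆ t P`
  have hsoc : ∀ u ∈ mT.toIdeal, ∃ w : P, u • z₀ = t • w := by
    intro u hu
    rw [hmT] at hu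
    induction hu using Submodule.span_induction with
    | mem x hx =>
      simp only [Set.mem_iUnion, Set.mem_Ioi] at hx
      obtain ⟨n, hn, hx⟩ := hx
      obtain ⟨m, hm⟩ : ∃ m : ℕ, (m : ℤ) = n := ⟨n.toNat, Int.toNat_of_nonneg hn.le⟩
      obtain ⟨-, -, h3⟩ := exists_of_mem_span (psi_mem 𝒯 ψ hT hx)
      obtain ⟨g, hg, hψx⟩ := h3 m hm.symm
      obtain ⟨m', rfl⟩ : ∃ m', m = m' + 1 := ⟨m - 1, by omega⟩
      obtain ⟨d', rfl⟩ : ∃ d', d = d' + 1 := ⟨d - 1, by omega⟩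
      have hgY : g * Y ^ d' ∈ wh k s (n - 1 - a + b) := by
        have h4 : g * Y ^ d' ∈ wh k s (n + (d' : ℤ)) :=
          SetLike.mul_mem_graded hg (X_pow_mem s ⟨0, hs⟩ d' rfl)
        have h5 : n - 1 - a + b = n + (d' : ℤ) := by push_cast at hd; omega
        rw [h5]; exact h4
      obtain ⟨w, -, hφw⟩ := exists_P ψ a b 𝒬 φ hP (n := n - 1 - a) (x := (X 0 : RR) ^ m')
        (y := g * Y ^ d') (X_pow_mem 1 0 m' (by push_cast at hm; omega)) hgY
      refine ⟨w, hP.injective ?_⟩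
      rw [phi_smul ψ a b 𝒬 φ hP, phi_smul ψ a b 𝒬 φ hP, hψx, hφz₀, hψt, hφw,
        Algebra.TensorProduct.tmul_mul_tmul, Algebra.TensorProduct.tmul_mul_tmul, mul_one,
        pow_succ' (X 0 : RR) m', pow_succ' Y d']
      congr 1
      ring
    | zero => exact ⟨0, by rw [zero_smul, smul_zero]⟩
    | add x y _ _ hx hy =>
      obtain ⟨w1, h1⟩ := hx
      obtain ⟨w2, h2⟩ := hy
      exact ⟨w1 + w2, by rw [add_smul, h1, h2, smul_add]⟩
    | smul c x _ hx =>
      obtain ⟨w, h1⟩ := hx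
      exact ⟨c • w, by rw [smul_eq_mul, mul_smul, h1, smul_comm]⟩
  -- every weakly regular sequence has length at most one
  have hlen : ∀ rs : List T, RingTheory.Sequence.IsWeaklyRegular P rs → (∀ r ∈ rs, r ∈ mT.toIdeal) →
      rs.length ≤ 1 := by
    intro rs hrs hmem
    match rs, hrs, hmem with
    | [], _, _ => simp
    | [_], _, _ => simp
    | r1 :: r2 :: rest, hrs, hmem =>
      exfalso
      rw [RingTheory.Sequence.isWeaklyRegular_cons_iff] at hrs
      obtain ⟨hr1, hrs2⟩ := hrs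
      rw [RingTheory.Sequence.isWeaklyRegular_cons_iff] at hrs2
      obtain ⟨hr2, -⟩ := hrs2
      have hr1m : r1 ∈ mT.toIdeal := hmem r1 (by simp)
      have hr2m : r2 ∈ mT.toIdeal := hmem r2 (by simp)
      obtain ⟨w, hw⟩ := hsoc r1 hr1m
      obtain ⟨w2, hw2⟩ := hsoc r2 hr2m
      have h1 : r1 • w2 = r2 • w := by
        apply htreg
        show t • r1 • w2 = t • r2 • w
        rw [smul_comm t r1 w2, ← hw2, smul_comm t r2 w, ← hw, smul_comm]
      have hwbar : (Submodule.Quotient.mk w : QuotSMulTop r1 P) = 0 := by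
        apply hr2
        show r2 • (Submodule.Quotient.mk w : QuotSMulTop r1 P) = r2 • 0
        rw [smul_zero, ← Submodule.Quotient.mk_smul, Submodule.Quotient.mk_eq_zero, ← h1]
        exact Submodule.smul_mem_pointwise_smul _ _ _ Submodule.mem_top
      rw [Submodule.Quotient.mk_eq_zero] at hwbar
      obtain ⟨w', -, hw'⟩ := (Submodule.mem_smul_pointwise_iff_exists _ _ _).mp hwbar
      apply hz₀t w'
      apply hr1
      show r1 • z₀ = r1 • t • w'
      rw [hw, smul_comm r1 t w', hw']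
  unfold LocCoh.idealDepth
  rw [if_neg hne]
  apply le_antisymm
  · refine iSup₂_le fun rs hrs => ?_
    exact_mod_cast hlen rs hrs.1 hrs.2
  · refine le_iSup₂_of_le [t] ⟨?_, ?_⟩ ?_
    · rw [RingTheory.Sequence.isWeaklyRegular_singleton_iff]
      exact htreg
    · intro r hr
      rw [List.mem_singleton] at hr
      rw [hr]; exact htm
    · simp

end PartB

end Groth.Agent.Lib.Helper87.SegShiftA
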