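import Mathlib
import Groth.Agent.S7115

/-! System of parameters starting with a parameter `f`, stable under perturbation of `f`. -/

set_option autoImplicit false
universe u

namespace Groth.Agent.Lib.Helper87.SopPerturb

open IsLocalRing

variable (R : Type u) [CommRing R] [IsNoetherianRing R] [IsLocalRing R]

theorem prime_eq_max (d : ℕ) (hd : ringKrullDim R = d) (f : R)
    (hmin : ∀ p ∈ minimalPrimes R, f ∉ p) (p : Ideal R) (hp : p.IsPrime) (hfp : f ∈ p)
    (hd1 : d ≤ 1) : p = maximalIdeal R := by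
  by_contra hne
  have hlt : p < maximalIdeal R :=
    lt_of_le_of_ne (IsLocalRing.le_maximalIdeal hp.ne_top) hne
  have h1 : p.height ≠ 0 := by
    intro h0
    rw [Ideal.height_eq_zero_iff] at h0
    exact hmin p h0 hfp
  have h2 : p.height + 1 ≤ (maximalIdeal R).height :=
    Ideal.height_add_one_le_of_lt_of_isPrime hlt
  have h3 : ((maximalIdeal R).height : WithBot ℕ∞) = ringKrullDim R :=
    IsLocalRing.maximalIdeal_height_eq_ringKrullDim
  rw [hd] at h3
  have h4 : (maximalIdeal R).height = (d : ℕ∞) := by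
    exact_mod_cast h3
  have h5 : (2 : ℕ∞) ≤ p.height + 1 := by
    have : (1 : ℕ∞) ≤ p.height := Order.one_le_iff_ne_zero.mpr h1
    calc (2 : ℕ∞) = 1 + 1 := by norm_num
      _ ≤ p.height + 1 := by gcongr
  have h6 : (2 : ℕ∞) ≤ (d : ℕ∞) := h5.trans (h2.trans h4.le)
  have h7 : 2 ≤ d := by exact_mod_cast h6
  omega

theorem exists_sop (d : ℕ) (hd : ringKrullDim R = d) (f : R) (hf : f ∈ maximalIdeal R)
    (hmin : ∀ p ∈ minimalPrimes R, f ∉ p) :
    ∃ g : Fin (d - 1) → R, (∀ i, g i ∈ maximalIdeal R) ∧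
      maximalIdeal R ≤ (Ideal.span (insert f (Set.range g))).radical := by
  rcases Nat.lt_or_ge 1 d with h1 | h1
  · obtain ⟨g, -, hg, hr⟩ := Groth.Agent.S7115.result R d hd h1 f hf hmin 0
    exact ⟨g, hg, hr⟩
  · refine ⟨fun _ => 0, fun _ => zero_mem _, ?_⟩
    rw [Ideal.radical_eq_sInf]
    refine le_sInf ?_
    rintro J ⟨hJ, hJp⟩
    have : f ∈ J := hJ (Ideal.subset_span (Set.mem_insert _ _))
    rw [prime_eq_max R d hd f hmin J hJp this h1]

theorem span_perturb_eq {n : ℕ} (f : R) (g : Fin n → R) (h : R)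
    (hmI : h ∈ maximalIdeal R * Ideal.span (insert f (Set.range g))) :
    Ideal.span (insert (f + h) (Set.range g)) = Ideal.span (insert f (Set.range g)) := by
  have hhI : h ∈ Ideal.span (insert f (Set.range g)) := Ideal.mul_le_right hmI
  have hfI : f ∈ Ideal.span (insert f (Set.range g)) := Ideal.subset_span (Set.mem_insert _ _)
  have hgI : ∀ i, g i ∈ Ideal.span (insert f (Set.range g)) :=
    fun i => Ideal.subset_span (Set.mem_insert_of_mem _ ⟨i, rfl⟩)
  have hfI' : f + h ∈ Ideal.span (insert (f + h) (Set.range g)) :=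
    Ideal.subset_span (Set.mem_insert _ _)
  have hgI' : ∀ i, g i ∈ Ideal.span (insert (f + h) (Set.range g)) :=
    fun i => Ideal.subset_span (Set.mem_insert_of_mem _ ⟨i, rfl⟩)
  apply le_antisymm
  · rw [Ideal.span_le]
    intro x hx
    rcases hx with hx | ⟨i, hi⟩
    · rw [hx]; exact Ideal.add_mem _ hfI hhI
    · rw [← hi]; exact hgI i
  · have key : Ideal.span (insert f (Set.range g)) ≤
        Ideal.span (insert (f + h) (Set.range g)) ⊔
          maximalIdeal R • Ideal.span (insert f (Set.range g)) := by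
      rw [Ideal.span_le]
      intro x hx
      rcases hx with hx | ⟨i, hi⟩
      · have h2 : x = (f + h) + (-h) := by rw [hx]; ring
        rw [h2]
        refine Submodule.add_mem_sup hfI' ?_
        rw [smul_eq_mul]
        exact (Ideal.neg_mem_iff _).mpr hmI
      · rw [← hi]; exact Submodule.mem_sup_left (hgI' i)
    exact Submodule.le_of_le_smul_of_le_jacobson_bot (R := R) (M := R) (I := maximalIdeal R)
      (N := Ideal.span (insert (f + h) (Set.range g)))
      (N' := Ideal.span (insert f (Set.range g)))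
      (IsNoetherian.noetherian _) (IsLocalRing.maximalIdeal_le_jacobson ⊥) key

theorem main (d : ℕ) (hd : ringKrullDim R = d) (f : R) (hf : f ∈ maximalIdeal R)
    (hmin : ∀ p ∈ minimalPrimes R, f ∉ p) :
    ∃ (g : Fin (d - 1) → R) (N : ℕ), (∀ i, g i ∈ maximalIdeal R) ∧
      maximalIdeal R ≤ (Ideal.span (insert f (Set.range g))).radical ∧
      ∀ h ∈ maximalIdeal R ^ N,
        Ideal.span (insert (f + h) (Set.range g)) = Ideal.span (insert f (Set.range g)) := by
  obtain ⟨g, hgm, hrad⟩ := exists_sop R d hd f hf hmin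
  obtain ⟨N, hN⟩ := Ideal.exists_pow_le_of_le_radical_of_fg hrad
    (IsNoetherian.noetherian (maximalIdeal R))
  refine ⟨g, N + 1, hgm, hrad, ?_⟩
  intro h hh
  apply span_perturb_eq
  have : maximalIdeal R ^ (N + 1) ≤ maximalIdeal R * Ideal.span (insert f (Set.range g)) := by
    rw [pow_succ']
    exact Ideal.mul_mono_right hN
  exact this hh

end Groth.Agent.Lib.Helper87.SopPerturb
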