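import Groth.Agent.Lib.Helper87.StdGrA
import Groth.Prelude.Def_CAlg

/-!
# Standard graded CM rings of positive dimension: the socle vanishes
-/

set_option autoImplicit false
universe u
open DirectSum

namespace Groth.Agent.Lib.Helper87.StdGrB

open Groth.Agent.Lib.Helper87.StdGrA

variable {R : Type u} [CommRing R] {𝒜 : ℤ → AddSubgroup R} [GradedRing 𝒜]

theorem isHomogeneous_of_mem_minimalPrimes {q : Ideal R} (hq : q ∈ minimalPrimes R) :
    q.IsHomogeneous 𝒜 := by
  have hqp : q.IsPrime := hq.1.1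
  have h1 : (q.homogeneousCore 𝒜).toIdeal.IsPrime := Ideal.IsPrime.homogeneousCore hqp
  have h2 : (q.homogeneousCore 𝒜).toIdeal ≤ q := Ideal.toIdeal_homogeneousCore_le 𝒜 q
  have h3 : q ≤ (q.homogeneousCore 𝒜).toIdeal := hq.2 ⟨h1, bot_le⟩ h2
  have : q = (q.homogeneousCore 𝒜).toIdeal := le_antisymm h3 h2
  rw [this]
  exact (q.homogeneousCore 𝒜).isHomogeneous

omit [GradedRing 𝒜] in
theorem mul_eq_zero_of_mem_irr' {x : R} (hx : ∀ y ∈ 𝒜 1, x * y = 0) {a : R}
    (ha : a ∈ Ideal.span ((𝒜 1 : AddSubgroup R) : Set R)) : x * a = 0 := by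
  induction ha using Submodule.span_induction with
  | mem y hy => exact hx y hy
  | zero => exact mul_zero x
  | add y z _ _ hy hz => rw [mul_add, hy, hz, add_zero]
  | smul c y _ hy => rw [smul_eq_mul, mul_left_comm, hy, mul_zero]

omit [GradedRing 𝒜] in
theorem mul_eq_zero_of_mem_irr {x : R} (hx : ∀ y ∈ 𝒜 1, x * y = 0) {a : R} (ha : a ∈ irr 𝒜) :
    x * a = 0 := mul_eq_zero_of_mem_irr' hx ha

section std

variable (hpos : ∀ n : ℤ, n < 0 → 𝒜 n = ⊥) (h0 : IsField (GrLC.deg0 𝒜))
  (hstd : Ideal.span (⋃ n ∈ Set.Ioi (0 : ℤ), (𝒜 n : Set R)) =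
    Ideal.span ((𝒜 1 : AddSubgroup R) : Set R))
  {m : ℕ} (s : Fin m → R) (hs : ∀ i, s i ∈ 𝒜 1)
  (hspan : Ideal.span (Set.range s) = irr 𝒜)

include hpos h0 hstd hs hspan in
theorem height_irr_ne_zero (h1 : 1 ≤ ringKrullDim R) :
    haveI := (irr_isMaximal hpos h0 hstd s hs hspan).isPrime
    (irr 𝒜).height ≠ 0 := by
  have hmax := irr_isMaximal hpos h0 hstd s hs hspan
  have hprime := hmax.isPrime
  intro hht
  rw [Ideal.height_eq_zero_iff] at hht
  have hle : ringKrullDim R ≤ 0 := by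
    rw [ringKrullDim_le_iff_height_le]
    intro p hp
    obtain ⟨q, hq, hqp⟩ := Ideal.exists_minimalPrimes_le (bot_le : (⊥ : Ideal R) ≤ p)
    have hqh : q.IsHomogeneous 𝒜 := isHomogeneous_of_mem_minimalPrimes hq
    have hqirr : q ≤ irr 𝒜 := le_irr_of_isHomogeneous hpos h0 hstd hqh hq.1.1.ne_top
    have hirrq : irr 𝒜 ≤ q := hht.2 hq.1 hqirr
    have hpe : p = irr 𝒜 := (hmax.eq_of_le hp.ne_top (hirrq.trans hqp)).symm
    subst hpe
    have : (irr 𝒜).height = 0 := Ideal.height_eq_zero_iff.mpr hht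
    rw [this]
    rfl
  have : (1 : WithBot ℕ∞) ≤ 0 := h1.trans hle
  exact absurd this (by decide)

/-- a local ring of positive depth has a non-zero-divisor in its maximal ideal -/
theorem exists_regular_of_depth {A : Type u} [CommRing A] [IsLocalRing A]
    (h : 1 ≤ LocCoh.depth A A) :
    ∃ r ∈ IsLocalRing.maximalIdeal A, IsSMulRegular A r := by
  classical
  unfold LocCoh.depth LocCoh.idealDepth at h
  have hne : ¬ (IsLocalRing.maximalIdeal A • (⊤ : Submodule A A) = ⊤) := by
    rw [Ideal.smul_top_eq_map, Algebra.algebraMap_self, Ideal.map_id]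
    intro htop
    have : IsLocalRing.maximalIdeal A = ⊤ := by
      apply Submodule.restrictScalars_injective A
      exact htop
    exact Ideal.IsPrime.ne_top inferInstance this
  rw [if_neg hne] at h
  by_contra hcon
  push Not at hcon
  have : (⨆ (rs : List A) (_ : RingTheory.Sequence.IsWeaklyRegular A rs ∧
      ∀ r ∈ rs, r ∈ IsLocalRing.maximalIdeal A), (rs.length : ℕ∞)) ≤ 0 := by
    refine iSup_le fun rs => iSup_le fun hrs => ?_
    cases rs with
    | nil => simp
    | cons r rs' =>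
      exfalso
      have h1 := (RingTheory.Sequence.isWeaklyRegular_cons_iff A r rs').mp hrs.1
      exact hcon r (hrs.2 r (List.mem_cons_self)) h1.1
  have h2 : (1 : ℕ∞) ≤ 0 := h.trans this
  exact absurd h2 (by decide)

include hpos h0 hstd hs hspan in
theorem socle_eq_zero [LocCoh.IsCohenMacaulayRing R] (h1 : 1 ≤ ringKrullDim R)
    {x : R} (hx : ∀ y ∈ 𝒜 1, x * y = 0) : x = 0 := by
  have hmax := irr_isMaximal hpos h0 hstd s hs hspan
  have hprime := hmax.isPrime
  have hht := height_irr_ne_zero hpos h0 hstd s hs hspan h1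
  have hCM := LocCoh.IsCohenMacaulayRing.isCohenMacaulayLocalRing_localization (R := R) (irr 𝒜)
  have hdepth : 1 ≤ LocCoh.depth (Localization.AtPrime (irr 𝒜)) (Localization.AtPrime (irr 𝒜)) := by
    have e := hCM.supportDim_eq_depth
    rw [Module.supportDim_self_eq_ringKrullDim,
      IsLocalization.AtPrime.ringKrullDim_eq_height (irr 𝒜)] at e
    have e' : (irr 𝒜).height = LocCoh.depth (Localization.AtPrime (irr 𝒜))
        (Localization.AtPrime (irr 𝒜)) := by exact_mod_cast e
    rw [← e']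
    exact Order.one_le_iff_ne_zero.mpr hht
  obtain ⟨r, hr, hreg⟩ := exists_regular_of_depth hdepth
  obtain ⟨a, u, rfl⟩ := IsLocalization.exists_mk'_eq (irr 𝒜).primeCompl r
  have ha : a ∈ irr 𝒜 := by
    have h2 : algebraMap R (Localization.AtPrime (irr 𝒜)) a ∈
        IsLocalRing.maximalIdeal (Localization.AtPrime (irr 𝒜)) := by
      rw [← IsLocalization.mk'_spec (Localization.AtPrime (irr 𝒜)) a u]
      exact Ideal.mul_mem_right _ _ hr
    exact (IsLocalization.AtPrime.to_map_mem_maximal_iff _ (irr 𝒜) a).mp h2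
  have hxa : x * a = 0 := mul_eq_zero_of_mem_irr hx ha
  have h3 : algebraMap R (Localization.AtPrime (irr 𝒜)) x = 0 := by
    apply hreg
    change IsLocalization.mk' (Localization.AtPrime (irr 𝒜)) a u *
      algebraMap R (Localization.AtPrime (irr 𝒜)) x =
      IsLocalization.mk' (Localization.AtPrime (irr 𝒜)) a u * 0
    have hu : IsUnit (algebraMap R (Localization.AtPrime (irr 𝒜)) (u : R)) :=
      IsLocalization.map_units _ u
    rw [mul_zero]
    apply hu.mul_left_cancel
    rw [mul_zero, ← mul_assoc, mul_comm _ (IsLocalization.mk' _ a u), IsLocalization.mk'_spec,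
      ← map_mul, mul_comm, hxa, map_zero]
  obtain ⟨v, hv⟩ := (IsLocalization.map_eq_zero_iff (irr 𝒜).primeCompl _ x).mp h3
  obtain ⟨y, i, hi, hyi⟩ := hmax.exists_inv v.2
  calc x = (y * v + i) * x := by rw [hyi, one_mul]
    _ = y * (v * x) + x * i := by ring
    _ = 0 := by rw [hv, mul_zero, mul_eq_zero_of_mem_irr hx hi, add_zero]

end std

end Groth.Agent.Lib.Helper87.StdGrB
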