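import Groth.Agent.Lib.Helper87.StdGrB

/-!
# Hilbert function of a standard graded CM ring is nondecreasing (McCoy trick)
-/

set_option autoImplicit false
universe u
open DirectSum Polynomial

namespace Groth.Agent.Lib.Helper87.StdGrC

open Groth.Agent.Lib.Helper87.StdGrA Groth.Agent.Lib.Helper87.StdGrB

/-- the counting lemma -/
theorem count {k : Type*} [CommRing k] [Nontrivial k] {V W : Type*} [AddCommGroup V] [Module k V]
    [AddCommGroup W] [Module k W] [Module.Free k V] [Module.Finite k V] [Module.Free k W]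
    [Module.Finite k W] (m : ℕ)
    (h : ∀ d : ℕ, ∃ f : (Fin (d + 1) → V) →ₗ[k] (Fin (m + d + 1) → W), Function.Injective f) :
    Module.finrank k V ≤ Module.finrank k W := by
  by_contra hlt
  rw [not_le] at hlt
  obtain ⟨f, hf⟩ := h (m * Module.finrank k W)
  have h1 := LinearMap.finrank_le_finrank_of_injective hf
  rw [Module.finrank_pi_fintype, Module.finrank_pi_fintype] at h1
  simp only [Finset.sum_const, Finset.card_univ, Fintype.card_fin, smul_eq_mul] at h1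
  have h2 : (m * Module.finrank k W + 1) * (Module.finrank k W + 1) ≤
      (m * Module.finrank k W + 1) * Module.finrank k V := Nat.mul_le_mul_left _ hlt
  nlinarith

variable {R : Type u} [CommRing R] [DecidableEq R] {𝒜 : ℤ → AddSubgroup R} [GradedRing 𝒜]

theorem ell_mem_nonZeroDivisors {m : ℕ} (s : Fin m → R)
    (hsoc : ∀ x : R, (∀ i, x * s i = 0) → x = 0) :
    Polynomial.ofFn m s ∈ nonZeroDivisors R[X] := by
  by_contra hcon
  rw [Polynomial.notMem_nonZeroDivisors_iff] at hcon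
  obtain ⟨a, ha0, ha⟩ := hcon
  apply ha0
  apply hsoc
  intro i
  have := congrArg (fun p => Polynomial.coeff p i) ha
  simp only [Polynomial.coeff_smul, smul_eq_mul, Polynomial.coeff_zero] at this
  rw [Polynomial.ofFn_coeff_eq_val_of_lt s i.2] at this
  exact this


section Phi

variable (𝒜) (n : ℤ) (d : ℕ) {m : ℕ} (s : Fin m → R)

/-- the coefficient maps of multiplication by the generic linear form -/
noncomputable def phi0 (j : ℕ) : (Fin (d + 1) → ↥(GrLC.comp 𝒜 𝒜 n)) →ₗ[GrLC.deg0 𝒜] R :=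
  ((Polynomial.lcoeff R j).restrictScalars (GrLC.deg0 𝒜)) ∘ₗ
  ((LinearMap.mulLeft R (Polynomial.ofFn m s)).restrictScalars (GrLC.deg0 𝒜)) ∘ₗ
  ((Polynomial.ofFn (d + 1)).restrictScalars (GrLC.deg0 𝒜)) ∘ₗ
  ((GrLC.comp 𝒜 𝒜 n).subtype.compLeft (Fin (d + 1)))

theorem phi0_apply (j : ℕ) (a : Fin (d + 1) → ↥(GrLC.comp 𝒜 𝒜 n)) :
    phi0 𝒜 n d s j a =
      (Polynomial.ofFn m s * Polynomial.ofFn (d + 1) (fun i => (a i : R))).coeff j := rfl

variable {𝒜} in
theorem phi0_mem (hs : ∀ i, s i ∈ 𝒜 1) (j : ℕ) (a : Fin (d + 1) → ↥(GrLC.comp 𝒜 𝒜 n)) :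
    phi0 𝒜 n d s j a ∈ GrLC.comp 𝒜 𝒜 (n + 1) := by
  rw [phi0_apply, Polynomial.coeff_mul]
  refine Submodule.sum_mem _ fun pq _ => ?_
  change _ ∈ 𝒜 (n + 1)
  by_cases hp : pq.1 < m
  · by_cases hq : pq.2 < d + 1
    · rw [Polynomial.ofFn_coeff_eq_val_of_lt s hp, Polynomial.ofFn_coeff_eq_val_of_lt _ hq,
        add_comm n 1]
      exact SetLike.GradedMul.mul_mem (hs _) (a ⟨pq.2, hq⟩).2
    · rw [Polynomial.ofFn_coeff_eq_zero_of_ge _ (not_lt.mp hq), mul_zero]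
      exact zero_mem _
  · rw [Polynomial.ofFn_coeff_eq_zero_of_ge _ (not_lt.mp hp), zero_mul]
    exact zero_mem _

variable {𝒜} in
/-- multiplication by the generic linear form, in coefficients -/
noncomputable def Phi (hs : ∀ i, s i ∈ 𝒜 1) :
    (Fin (d + 1) → ↥(GrLC.comp 𝒜 𝒜 n)) →ₗ[GrLC.deg0 𝒜]
      (Fin (m + d + 1) → ↥(GrLC.comp 𝒜 𝒜 (n + 1))) :=
  LinearMap.pi fun j : Fin (m + d + 1) =>
    (phi0 𝒜 n d s j).codRestrict (GrLC.comp 𝒜 𝒜 (n + 1)) (phi0_mem n d s hs j)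

variable {𝒜} in
theorem Phi_injective (hs : ∀ i, s i ∈ 𝒜 1)
    (hsoc : ∀ x : R, (∀ i, x * s i = 0) → x = 0) : Function.Injective (Phi n d s hs) := by
  rw [injective_iff_map_eq_zero]
  intro a ha
  have h1 : ∀ j : ℕ, j < m + d + 1 →
      (Polynomial.ofFn m s * Polynomial.ofFn (d + 1) (fun i => (a i : R))).coeff j = 0 := by
    intro j hj
    have := congrFun ha ⟨j, hj⟩
    have h2 := congrArg Subtype.val this
    exact h2
  have h2 : Polynomial.ofFn m s * Polynomial.ofFn (d + 1) (fun i => (a i : R)) = 0 := by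
    ext j
    rw [Polynomial.coeff_zero]
    by_cases hj : j < m + d + 1
    · exact h1 j hj
    · rw [Polynomial.coeff_mul]
      refine Finset.sum_eq_zero fun pq hpq => ?_
      rw [Finset.HasAntidiagonal.mem_antidiagonal] at hpq
      by_cases hp : pq.1 < m
      · rw [Polynomial.ofFn_coeff_eq_zero_of_ge (n := d + 1) _ (by omega), mul_zero]
      · rw [Polynomial.ofFn_coeff_eq_zero_of_ge _ (not_lt.mp hp), zero_mul]
  have h3 : Polynomial.ofFn (d + 1) (fun i => (a i : R)) = 0 :=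
    (mem_nonZeroDivisors_iff_right.mp (ell_mem_nonZeroDivisors s hsoc)) _ (by rwa [mul_comm])
  have h4 : (fun i => (a i : R)) = 0 := by
    apply Polynomial.injective_ofFn (d + 1)
    rw [h3, map_zero]
  funext i
  exact Subtype.ext (congrFun h4 i)

end Phi


section main

variable (hpos : ∀ n : ℤ, n < 0 → 𝒜 n = ⊥) (h0 : IsField (GrLC.deg0 𝒜))
  (hstd : Ideal.span (⋃ n ∈ Set.Ioi (0 : ℤ), (𝒜 n : Set R)) =
    Ideal.span ((𝒜 1 : AddSubgroup R) : Set R))
  {m : ℕ} (s : Fin m → R) (hs : ∀ i, s i ∈ 𝒜 1)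
  (hspan : Ideal.span (Set.range s) = irr 𝒜)

variable (𝒜) in
/-- the multiplication map `R_n^m → R`, `c ↦ ∑ c_i s_i` -/
noncomputable def sigma0 (n : ℤ) : (Fin m → ↥(GrLC.comp 𝒜 𝒜 n)) →ₗ[GrLC.deg0 𝒜] R :=
  ∑ i, ((LinearMap.mulRight R (s i)).restrictScalars (GrLC.deg0 𝒜)) ∘ₗ
    (GrLC.comp 𝒜 𝒜 n).subtype ∘ₗ (LinearMap.proj i)

omit [DecidableEq R] in
theorem sigma0_apply (n : ℤ) (c : Fin m → ↥(GrLC.comp 𝒜 𝒜 n)) :
    sigma0 𝒜 s n c = ∑ i, (c i : R) * s i := by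
  unfold sigma0
  rw [LinearMap.sum_apply]
  rfl

omit [DecidableEq R] in
theorem sigma0_mem (hs : ∀ i, s i ∈ 𝒜 1) (n : ℤ) (c : Fin m → ↥(GrLC.comp 𝒜 𝒜 n)) :
    sigma0 𝒜 s n c ∈ GrLC.comp 𝒜 𝒜 (n + 1) := by
  rw [sigma0_apply]
  refine Submodule.sum_mem _ fun i _ => ?_
  change _ ∈ 𝒜 (n + 1)
  exact SetLike.GradedMul.mul_mem (c i).2 (hs i)

omit [DecidableEq R] in
include hstd hs hspan in
theorem finite_comp_nat (j : ℕ) : Module.Finite (GrLC.deg0 𝒜) ↥(GrLC.comp 𝒜 𝒜 (j : ℤ)) := by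
  induction j with
  | zero =>
    let f : (GrLC.deg0 𝒜) →ₗ[GrLC.deg0 𝒜] ↥(GrLC.comp 𝒜 𝒜 ((0 : ℕ) : ℤ)) :=
      { toFun := fun r => ⟨(r : R), r.2⟩
        map_add' := fun _ _ => rfl
        map_smul' := fun _ _ => rfl }
    refine Module.Finite.of_surjective f ?_
    rintro ⟨y, hy⟩
    exact ⟨⟨y, hy⟩, rfl⟩
  | succ j ih =>
    have : Module.Finite (GrLC.deg0 𝒜) (Fin m → ↥(GrLC.comp 𝒜 𝒜 (j : ℤ))) := Module.Finite.pi
    let f : (Fin m → ↥(GrLC.comp 𝒜 𝒜 (j : ℤ))) →ₗ[GrLC.deg0 𝒜] ↥(GrLC.comp 𝒜 𝒜 ((j : ℤ) + 1)) :=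
      (sigma0 𝒜 s (j : ℤ)).codRestrict _ (sigma0_mem s hs (j : ℤ))
    have hf : Function.Surjective f := by
      rintro ⟨y, hy⟩
      have hy' : y ∈ 𝒜 ((j : ℤ) + 1) := hy
      have hyirr : y ∈ irr 𝒜 := by
        unfold irr
        rw [← hstd]
        apply Ideal.subset_span
        simp only [Set.mem_iUnion, Set.mem_Ioi]
        exact ⟨(j : ℤ) + 1, by positivity, hy'⟩
      obtain ⟨c, hc, hyc⟩ := mem_of_mem_succ s hs hspan hy' hyirr
      refine ⟨fun i => ⟨c i, hc i⟩, Subtype.ext ?_⟩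
      change sigma0 𝒜 s (j : ℤ) _ = y
      rw [sigma0_apply, hyc]
    have := Module.Finite.of_surjective f hf
    rw [Nat.cast_succ]
    exact this

omit [DecidableEq R] in
include hpos hstd hs hspan in
theorem finite_comp (n : ℤ) : Module.Finite (GrLC.deg0 𝒜) ↥(GrLC.comp 𝒜 𝒜 n) := by
  rcases lt_or_ge n 0 with hn | hn
  · have : Subsingleton ↥(GrLC.comp 𝒜 𝒜 n) := by
      refine ⟨fun a b => Subtype.ext ?_⟩
      have ha : (a : R) ∈ 𝒜 n := a.2
      have hb : (b : R) ∈ 𝒜 n := b.2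
      have h1 : ∀ z : R, z ∈ 𝒜 n → z = 0 := by
        intro z hz
        rw [hpos n hn, AddSubgroup.mem_bot] at hz
        exact hz
      rw [h1 _ ha, h1 _ hb]
    infer_instance
  · obtain ⟨j, rfl⟩ := Int.eq_ofNat_of_zero_le hn
    exact finite_comp_nat hstd s hs hspan j

include hpos h0 hstd hs hspan in
theorem main [LocCoh.IsCohenMacaulayRing R] (h1 : 1 ≤ ringKrullDim R) (n : ℤ) :
    Module.finrank (GrLC.deg0 𝒜) ↥(GrLC.comp 𝒜 𝒜 n) ≤
      Module.finrank (GrLC.deg0 𝒜) ↥(GrLC.comp 𝒜 𝒜 (n + 1)) := by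
  letI : Field (GrLC.deg0 𝒜) := h0.toField
  have hsoc : ∀ x : R, (∀ i, x * s i = 0) → x = 0 := by
    intro x hx
    have hk : ∀ y ∈ Ideal.span (Set.range s), x * y = 0 := by
      intro y hy'
      induction hy' using Submodule.span_induction with
      | mem z hz =>
        obtain ⟨i, rfl⟩ := hz
        exact hx i
      | zero => exact mul_zero x
      | add y z _ _ hy hz => rw [mul_add, hy, hz, add_zero]
      | smul c y _ hy => rw [smul_eq_mul, mul_left_comm, hy, mul_zero]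
    apply socle_eq_zero hpos h0 hstd s hs hspan h1
    intro y hy
    apply hk
    rw [hspan]
    exact Ideal.subset_span hy
  have f1 := finite_comp hpos hstd s hs hspan n
  have f2 := finite_comp hpos hstd s hs hspan (n + 1)
  exact count m fun d => ⟨Phi n d s hs, Phi_injective n d s hs hsoc⟩

end main

end Groth.Agent.Lib.Helper87.StdGrC
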