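import Mathlib
import Groth.Agent.Lib.Helper87.KzRank

/-!
# Abstract lemmas: from a five-term exact sequence to a short exact sequence, and the
alternating-sum bookkeeping used to compare Tor and Koszul Euler characteristics.
-/

set_option autoImplicit false
universe u

namespace Groth.Agent.Lib.Helper87.TorKzA

open Groth.Agent.Lib.Helper87.KzMod Groth.Agent.Lib.Helper87.KzBasic
  Groth.Agent.Lib.Helper87.KzIndex Groth.Agent.Lib.Helper87.KzEuler
  Groth.Agent.Lib.Helper87.KzSerre Groth.Agent.Lib.Helper87.KzRank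
open Pointwise

variable {A : Type u} [CommRing A]

section five

variable {U V W : Type u} [AddCommGroup U] [Module A U] [AddCommGroup V] [Module A V]
  [AddCommGroup W] [Module A W] (a : A) (φ : U →ₗ[A] V) (δ : V →ₗ[A] W)
  (h1 : Function.Exact (mulL a U) φ) (h2 : Function.Exact φ δ) (h3 : Function.Exact δ (mulL a W))

include h1 in
theorem smul_top_le_ker : a • (⊤ : Submodule A U) ≤ LinearMap.ker φ := by
  intro u hu
  obtain ⟨u', -, rfl⟩ := hu
  exact (h1 _).mpr ⟨u', rfl⟩

/-- `U/aU → V` -/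
noncomputable def fiveF : QuotSMulTop a U →ₗ[A] V :=
  Submodule.liftQ _ φ (smul_top_le_ker a φ h1)

include h3 in
theorem delta_mem_ker (v : V) : δ v ∈ LinearMap.ker (mulL a W) :=
  (h3 _).mpr ⟨v, rfl⟩

/-- `V → (0 :_W a)` -/
noncomputable def fiveG : V →ₗ[A] ↥(LinearMap.ker (mulL a W)) :=
  δ.codRestrict _ (delta_mem_ker a δ h3)

theorem fiveF_injective : Function.Injective (fiveF a φ h1) := by
  rw [← LinearMap.ker_eq_bot, fiveF, Submodule.ker_liftQ_eq_bot']
  apply le_antisymm (smul_top_le_ker a φ h1)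
  intro u hu
  obtain ⟨u', rfl⟩ := (h1 u).mp hu
  exact ⟨u', Submodule.mem_top, rfl⟩

theorem fiveG_surjective : Function.Surjective (fiveG a δ h3) := by
  rintro ⟨w, hw⟩
  obtain ⟨v, rfl⟩ := (h3 w).mp hw
  exact ⟨v, rfl⟩

include h2 in
theorem five_exact : Function.Exact (fiveF a φ h1) (fiveG a δ h3) := by
  intro v
  constructor
  · intro hv
    have : δ v = 0 := congrArg Subtype.val hv
    obtain ⟨u, rfl⟩ := (h2 v).mp this
    exact ⟨Submodule.Quotient.mk u, rfl⟩
  · rintro ⟨q, rfl⟩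
    obtain ⟨u, rfl⟩ := Submodule.Quotient.mk_surjective _ q
    apply Subtype.ext
    exact (h2 _).mpr ⟨u, rfl⟩

/-- if `φ` is moreover surjective, `V ≅ U/aU`. -/
noncomputable def quotEquivOfSurjective (hφ : Function.Surjective φ) : QuotSMulTop a U ≃ₗ[A] V :=
  LinearEquiv.ofBijective (fiveF a φ h1) ⟨fiveF_injective a φ h1, by
    intro v
    obtain ⟨u, rfl⟩ := hφ v
    exact ⟨Submodule.Quotient.mk u, rfl⟩⟩

end five

section sums

/-- alternating-sum bookkeeping -/
theorem alt_sum_shift (n : ℕ) (t' q k : ℕ → ℤ) (h0 : t' 0 = q 0)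
    (hs : ∀ i, t' (i + 1) = q (i + 1) + k i) (hk : k n = 0) :
    ∑ i ∈ Finset.range (n + 1), (-1 : ℤ) ^ i * t' i =
      ∑ i ∈ Finset.range (n + 1), (-1 : ℤ) ^ i * (q i - k i) := by
  have key : ∀ m : ℕ, ∑ i ∈ Finset.range (m + 1), (-1 : ℤ) ^ i * t' i =
      ∑ i ∈ Finset.range (m + 1), (-1 : ℤ) ^ i * (q i - k i) + (-1 : ℤ) ^ m * k m := by
    intro m
    induction m with
    | zero => simp [h0]
    | succ m ih =>
      rw [Finset.sum_range_succ, ih, Finset.sum_range_succ _ (m + 1), hs m, pow_succ]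
      ring
  rw [key n, hk, mul_zero, add_zero]

end sums

end Groth.Agent.Lib.Helper87.TorKzA
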