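import Mathlib
import Groth.Agent.Lib.Helper46.TorRegular
import Groth.Agent.Lib.Helper46.TorPrime
import Groth.Agent.Lib.Helper87.TorKzA

/-!
# The long exact sequence of `Tor_i(A/(l), M)` when one more regular element is added to `l`
-/

set_option autoImplicit false
universe u

namespace Groth.Agent.Lib.Helper87.TorKzB

open CategoryTheory Groth.Agent.Lib.Helper46 Groth.Agent.Lib.Helper46.TorShift
  Groth.Agent.Lib.Helper46.TorRegular RingTheory.Sequence
open Groth.Agent.Lib.Helper87.KzEuler Groth.Agent.Lib.Helper87.TorKzA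

variable {A : Type u} [CommRing A]

section annihilate

/-- if `a` kills `N` then `a` kills `Tor_n(N, M)` -/
lemma smul_id_tor_left (a : A) (N M : ModuleCat.{u} A) (h : a • 𝟙 N = 0) (n : ℕ) :
    a • 𝟙 (((Tor (ModuleCat.{u} A) n).obj N).obj M) = 0 := by
  rw [← TorLinear.tor_map_smul_id_app a N M n, h, ← zero_smul A (𝟙 N),
    TorLinear.tor_map_smul_id_app, zero_smul]

/-- if `a` kills `N` then `a` kills `Tor_n(M, N)` -/
lemma smul_id_tor_right (a : A) (M N : ModuleCat.{u} A) (h : a • 𝟙 N = 0) (n : ℕ) :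
    a • 𝟙 (((Tor (ModuleCat.{u} A) n).obj M).obj N) = 0 := by
  have e := TorPrime.torSymm M N n
  have h1 := smul_id_tor_left a N M h n
  have : a • 𝟙 (((Tor (ModuleCat.{u} A) n).obj M).obj N) = e.hom ≫ (a • 𝟙 _) ≫ e.inv := by
    rw [Linear.smul_comp, Linear.comp_smul, Category.id_comp, e.hom_inv_id]
  rw [this, h1, Limits.zero_comp, Limits.comp_zero]

variable (B N : Type u) [AddCommGroup B] [Module A B] [AddCommGroup N] [Module A N]

theorem smul_tor_left (a : A) (h : ∀ b : B, a • b = 0) (n : ℕ) (z : T A n B N) : a • z = 0 := by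
  have h0 : a • 𝟙 (ModuleCat.of A B) = 0 := by
    ext b
    simpa using h b
  have := smul_id_tor_left a (ModuleCat.of A B) (ModuleCat.of A N) h0 n
  have h2 := congrArg (fun f => f.hom z) this
  simp only [ModuleCat.hom_smul, ModuleCat.hom_id, LinearMap.smul_apply, LinearMap.id_apply,
    ModuleCat.hom_zero, LinearMap.zero_apply] at h2
  exact h2

theorem smul_tor_right (a : A) (h : ∀ b : N, a • b = 0) (n : ℕ) (z : T A n B N) : a • z = 0 := by
  have h0 : a • 𝟙 (ModuleCat.of A N) = 0 := by
    ext b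
    simpa using h b
  have := smul_id_tor_right a (ModuleCat.of A B) (ModuleCat.of A N) h0 n
  have h2 := congrArg (fun f => f.hom z) this
  simp only [ModuleCat.hom_smul, ModuleCat.hom_id, LinearMap.smul_apply, LinearMap.id_apply,
    ModuleCat.hom_zero, LinearMap.zero_apply] at h2
  exact h2

end annihilate

section les

variable (M : Type u) [AddCommGroup M] [Module A M]

/-- `Tor_i(A/(l), M)` -/
noncomputable abbrev TT (l : List A) (i : ℕ) : ModuleCat.{u} A := T A i (A ⧸ Ideal.ofList l) M

variable (l : List A) (a : A) (hA : IsWeaklyRegular A (l ++ [a]))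

include hA in
/-- the exact sequences `T_n(l) --a--> T_n(l) --φ--> T_n(l ++ [a]) --δ--> T_{n-1}(l) --a--> …` -/
theorem exists_les : ∃ (φ : ∀ n, TT M l n →ₗ[A] TT M (l ++ [a]) n)
    (δ : ∀ n, TT M (l ++ [a]) (n + 1) →ₗ[A] TT M l n),
    (∀ n, Function.Exact (mulL a (TT M l n)) (φ n)) ∧
    (∀ n, Function.Exact (φ (n + 1)) (δ n)) ∧
    (∀ n, Function.Exact (δ n) (mulL a (TT M l n))) ∧
    Function.Surjective (φ 0) := by
  have hreg := isSMulRegular_quot_of_snoc A l a hA
  have hex := exact_quot_snoc A l a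
  have hπ : Function.Surjective (Submodule.factor (ofList_le_snoc A l a)) :=
    Submodule.factor_surjective _
  have hι := TorLinear.smulId_injective a hreg
  have hS := sesSC_shortExact _ _ hι hex hπ
  have hf : ∀ n, ((Tor (ModuleCat.{u} A) n).map (sesSC _ _ hex).f).app (ModuleCat.of A M) =
      a • 𝟙 _ := fun n => TorLinear.tor_map_smul_id_app a _ (ModuleCat.of A M) n
  have hfhom : ∀ n, (((Tor (ModuleCat.{u} A) n).map (sesSC _ _ hex).f).app
      (ModuleCat.of A M)).hom = mulL a (TT M l n) := by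
    intro n
    rw [hf n]
    ext z
    simp
  refine ⟨fun n => (((Tor (ModuleCat.{u} A) n).map (sesSC _ _ hex).g).app (ModuleCat.of A M)).hom,
    fun n => ((TorLES.δ _ hS n).app (ModuleCat.of A M)).hom, ?_, ?_, ?_, ?_⟩
  · intro n
    have h := (TorLES.exact₂ _ hS (ModuleCat.of A M) n).moduleCat_range_eq_ker
    rw [LinearMap.exact_iff, ← hfhom n]
    exact h.symm
  · intro n
    have h := (TorLES.exact₃ _ hS (ModuleCat.of A M) n).moduleCat_range_eq_ker
    rw [LinearMap.exact_iff]
    exact h.symm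
  · intro n
    have h := (TorLES.exact₁ _ hS (ModuleCat.of A M) n).moduleCat_range_eq_ker
    rw [LinearMap.exact_iff, ← hfhom n]
    exact h.symm
  · have := TorLES.epi_map_g_zero _ hS (ModuleCat.of A M)
    exact (ModuleCat.epi_iff_surjective _).mp this

end les

end Groth.Agent.Lib.Helper87.TorKzB
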