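import Mathlib
import Groth.Agent.Lib.Helper87.TorKzB
import Groth.Agent.Lib.Helper87.KzStatements

/-!
# `χ^{Tor}(A/(l), M) = χ^{Koszul}(l; M)` for a regular sequence `l`
-/

set_option autoImplicit false
universe u

namespace Groth.Agent.Lib.Helper87.TorKzC

open CategoryTheory Groth.Agent.Lib.Helper46 Groth.Agent.Lib.Helper46.TorShift
  Groth.Agent.Lib.Helper46.TorRegular RingTheory.Sequence
open Groth.Agent.Lib.Helper87.KzMod Groth.Agent.Lib.Helper87.KzBasic
  Groth.Agent.Lib.Helper87.KzIndex Groth.Agent.Lib.Helper87.KzEuler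
  Groth.Agent.Lib.Helper87.KzSerre Groth.Agent.Lib.Helper87.KzRank
  Groth.Agent.Lib.Helper87.TorKzA Groth.Agent.Lib.Helper87.TorKzB
  Groth.Agent.Lib.Helper87.SamuelFn
open Pointwise

variable {A : Type u} [CommRing A] (M : Type u) [AddCommGroup M] [Module A M]

section base

/-- `Tor_0(A/(∅), M) ≅ M` -/
noncomputable def TTnilZero : TT M ([] : List A) 0 ≃ₗ[A] M :=
  torZeroEquiv _ M ≪≫ₗ
    TensorProduct.congr (Submodule.quotEquivOfEqBot _ Ideal.ofList_nil) (LinearEquiv.refl A M) ≪≫ₗ
    TensorProduct.lid A M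

theorem TT_subsingleton (l : List A) (hA : IsWeaklyRegular A l) (i : ℕ) (hi : l.length < i) :
    Subsingleton (TT M l i) :=
  ModuleCat.subsingleton_of_isZero ((tor_quot_regular M l hA).1 i hi)

end base

section noeth

variable [IsNoetherianRing A] [Module.Finite A M]

theorem TT_isNoetherian (l : List A) (hA : IsWeaklyRegular A l) :
    ∀ i, IsNoetherian A (TT M l i) := by
  induction l using List.reverseRecOn with
  | nil =>
    intro i
    cases i with
    | zero => exact isNoetherian_of_linearEquiv (TTnilZero M).symm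
    | succ k =>
      have := TT_subsingleton M ([] : List A) hA (k + 1) (by simp)
      infer_instance
  | append_singleton l a ih =>
    have ih' := ih ((isWeaklyRegular_append_iff A l [a]).mp hA).1
    obtain ⟨φ, δ, h1, h2, h3, h4⟩ := exists_les M l a hA
    intro i
    cases i with
    | zero =>
      have := ih' 0
      exact isNoetherian_of_surjective (φ 0) (LinearMap.range_eq_top.mpr h4)
    | succ k =>
      have := ih' (k + 1)
      have := ih' k
      exact isNoetherian_of_range_eq_ker (φ (k + 1)) (δ k) (LinearMap.exact_iff.mp (h2 k)).symm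

/-- finite length of `N/(l₂)N` from annihilators -/
theorem FL_of_annihilators (N : Type u) [AddCommGroup N] [Module A N] [Module.Finite A N]
    (l₁ l₂ : List A) (h₁ : ∀ x ∈ Ideal.ofList l₁, ∀ n : N, x • n = 0)
    (h₂ : ∀ x : A, (∀ m : M, x • m = 0) → ∀ n : N, x • n = 0)
    (hM : FL (l₁ ++ l₂) M) : FL l₂ N := by
  unfold FL at hM ⊢
  apply isFiniteLength_of_supportDim_le_zero
  refine (supportDim_le_of_support_subset _ _ ?_).trans (supportDim_le_zero_of_isFiniteLength _ hM)
  rw [Module.support_quotient, Module.support_quotient]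
  intro p hp
  obtain ⟨hp1, hp2⟩ := hp
  rw [Module.mem_support_iff_of_finite] at hp1
  refine ⟨?_, ?_⟩
  · rw [Module.mem_support_iff_of_finite]
    intro x hx
    apply hp1
    rw [Module.mem_annihilator]
    exact h₂ x (Module.mem_annihilator.mp hx)
  · rw [Ideal.ofList_append, PrimeSpectrum.zeroLocus_sup]
    refine ⟨?_, hp2⟩
    intro x hx
    apply hp1
    rw [Module.mem_annihilator]
    exact h₁ x hx

theorem TT_FL (l₁ l₂ : List A) (hA : IsWeaklyRegular A l₁) (hM : FL (l₁ ++ l₂) M) (i : ℕ) :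
    FL l₂ (TT M l₁ i) := by
  have := TT_isNoetherian M l₁ hA i
  refine FL_of_annihilators M _ l₁ l₂ ?_ ?_ hM
  · intro x hx z
    refine smul_tor_left _ _ x ?_ i z
    intro b
    obtain ⟨b', rfl⟩ := Submodule.Quotient.mk_surjective _ b
    rw [← Submodule.Quotient.mk_smul, Submodule.Quotient.mk_eq_zero, smul_eq_mul]
    exact Ideal.mul_mem_right _ _ hx
  · intro x hx z
    exact smul_tor_right _ _ x hx i z

end noeth

section step

variable [IsNoetherianRing A] [Module.Finite A M]

/-- moving one element from the Koszul side to the Tor side does not change the alternating sum -/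
theorem step (n : ℕ) (l₁ : List A) (a : A) (l₂ : List A) (hA : IsWeaklyRegular A (l₁ ++ [a]))
    (hM : FL (l₁ ++ a :: l₂) M) (hn : l₁.length < n) :
    ∑ i ∈ Finset.range (n + 1), (-1 : ℤ) ^ i * chiK l₂ (TT M (l₁ ++ [a]) i) =
      ∑ i ∈ Finset.range (n + 1), (-1 : ℤ) ^ i * chiK (a :: l₂) (TT M l₁ i) := by
  have hA₁ : IsWeaklyRegular A l₁ := ((isWeaklyRegular_append_iff A l₁ [a]).mp hA).1
  obtain ⟨φ, δ, h1, h2, h3, h4⟩ := exists_les M l₁ a hA
  have hN₁ := TT_isNoetherian M l₁ hA₁
  have hN₂ := TT_isNoetherian M (l₁ ++ [a]) hA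
  have hFL₁ : ∀ i, FL (a :: l₂) (TT M l₁ i) := TT_FL M l₁ (a :: l₂) hA₁ hM
  have hM' : FL ((l₁ ++ [a]) ++ l₂) M := by
    rw [List.append_assoc, List.singleton_append]
    exact hM
  have hFL₂ : ∀ i, FL l₂ (TT M (l₁ ++ [a]) i) := TT_FL M (l₁ ++ [a]) l₂ hA hM'
  have hQfin : ∀ i j, Module.length A (KH l₂ (QuotSMulTop a (TT M l₁ i)) j) ≠ ⊤ := fun i j =>
    KH_length_ne_top _ l₂ (hFL₁ i).quot j
  have hKfin : ∀ i j, Module.length A (KH l₂ (LinearMap.ker (mulL a (TT M l₁ i))) j) ≠ ⊤ :=
    fun i j => KH_length_ne_top _ l₂ (hFL₁ i).ker j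
  have hTfin : ∀ i j, Module.length A (KH (a :: l₂) (TT M l₁ i) j) ≠ ⊤ := fun i j =>
    KH_length_ne_top _ (a :: l₂) (hFL₁ i) j
  have hT'fin : ∀ i j, Module.length A (KH l₂ (TT M (l₁ ++ [a]) i) j) ≠ ⊤ := fun i j =>
    KH_length_ne_top _ l₂ (hFL₂ i) j
  have hcons : ∀ i, chiK (a :: l₂) (TT M l₁ i) =
      chiK l₂ (QuotSMulTop a (TT M l₁ i)) - chiK l₂ (LinearMap.ker (mulL a (TT M l₁ i))) :=
    fun i => chiK_cons l₂ _ a (hTfin i) (hKfin i) (hQfin i)
  simp only [hcons]
  refine alt_sum_shift n _ _ _ ?_ ?_ ?_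
  · exact (chiK_congr l₂ (quotEquivOfSurjective a (φ 0) (h1 0) h4)).symm
  · intro i
    exact chiK_additive l₂ (fiveF a (φ (i + 1)) (h1 (i + 1))) (fiveG a (δ i) (h3 i))
      (fiveF_injective a _ _) (five_exact a _ _ (h1 (i + 1)) (h2 i) (h3 i))
      (fiveG_surjective a _ _) (hQfin (i + 1)) (hT'fin (i + 1)) (hKfin i)
  · have := TT_subsingleton M l₁ hA₁ n hn
    exact chiK_of_subsingleton l₂ _

end step

section main

variable [IsNoetherianRing A] [Module.Finite A M]

theorem main_aux (l : List A) (hA : IsWeaklyRegular A l) (hM : FL l M) :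
    ∀ (l₂ l₁ : List A), l₁ ++ l₂ = l →
      ∑ i ∈ Finset.range (l.length + 1), (-1 : ℤ) ^ i * chiK l₂ (TT M l₁ i) =
        ∑ i ∈ Finset.range (l.length + 1), (-1 : ℤ) ^ i * chiK ([] : List A) (TT M l i) := by
  intro l₂
  induction l₂ with
  | nil =>
    intro l₁ h
    rw [List.append_nil] at h
    rw [h]
  | cons a l₂ ih =>
    intro l₁ h
    have h' : (l₁ ++ [a]) ++ l₂ = l := by
      rw [List.append_assoc, List.singleton_append]
      exact h
    have hA' : IsWeaklyRegular A (l₁ ++ [a]) := by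
      have := hA
      rw [← h'] at this
      exact ((isWeaklyRegular_append_iff A (l₁ ++ [a]) l₂).mp this).1
    have hlen : l₁.length < l.length := by
      rw [← h]
      simp
    rw [← ih (l₁ ++ [a]) h']
    exact (step M l.length l₁ a l₂ hA' (h ▸ hM) hlen).symm

/-- **Koszul = Tor** for Euler characteristics along a regular sequence. -/
theorem chiK_eq_tor (l : List A) (hA : IsWeaklyRegular A l) (hM : FL l M) :
    chiK l M = ∑ i ∈ Finset.range (l.length + 1),
      (-1 : ℤ) ^ i * ((Module.length A (TT M l i)).toNat : ℤ) := by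
  have h := main_aux M l hA hM l [] (List.nil_append l)
  simp only [chiK_nil] at h
  rw [← h, Finset.sum_range_succ']
  have h0 : ∀ i ∈ Finset.range l.length,
      (-1 : ℤ) ^ (i + 1) * chiK l (TT M ([] : List A) (i + 1)) = 0 := by
    intro i _
    have := TT_subsingleton M ([] : List A) (IsWeaklyRegular.nil A A) (i + 1) (by simp)
    rw [chiK_of_subsingleton, mul_zero]
  rw [Finset.sum_eq_zero h0, zero_add, pow_zero, one_mul]
  exact (chiK_congr l (TTnilZero M)).symm

end main

end Groth.Agent.Lib.Helper87.TorKzC
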