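import Mathlib
import Groth.Prelude.Def_IntMult
import Groth.Agent.Lib.Helper87.TorKzC

/-!
# Serre's theorem with Tor: `e_I(M, c) = χ(A/I, M)` for `I` generated by a regular sequence
-/

set_option autoImplicit false
universe u

namespace Groth.Agent.Lib.Helper87.TorKzD

open CategoryTheory Groth.Agent.Lib.Helper46 Groth.Agent.Lib.Helper46.TorShift
  Groth.Agent.Lib.Helper46.TorRegular RingTheory.Sequence
open Groth.Agent.Lib.Helper87.KzMod Groth.Agent.Lib.Helper87.KzBasic
  Groth.Agent.Lib.Helper87.KzIndex Groth.Agent.Lib.Helper87.KzEuler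
  Groth.Agent.Lib.Helper87.KzSerre Groth.Agent.Lib.Helper87.KzRank
  Groth.Agent.Lib.Helper87.TorKzA Groth.Agent.Lib.Helper87.TorKzB
  Groth.Agent.Lib.Helper87.TorKzC Groth.Agent.Lib.Helper87.SamuelFn
  Groth.Agent.Lib.Helper87.KzStatements
open Filter Topology

variable {A : Type u} [CommRing A] [IsNoetherianRing A] (M : Type u) [AddCommGroup M] [Module A M]
  [Module.Finite A M]

/-- the Tor Euler characteristic of the prelude equals the Koszul Euler characteristic -/
theorem chi_eq (l : List A) (hA : IsWeaklyRegular A l) (hM : FL l M) (I : Ideal A)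
    (hI : Ideal.ofList l = I) : IntMult.chi A (A ⧸ I) M = chiK l M := by
  subst hI
  rw [chiK_eq_tor M l hA hM]
  unfold IntMult.chi
  rw [finsum_eq_sum_of_support_subset (s := Finset.range (l.length + 1))]
  intro i hi
  rw [Function.mem_support] at hi
  by_contra hcon
  apply hi
  have hlt : l.length < i := by
    rw [Finset.coe_range, Set.mem_Iio] at hcon
    omega
  have := TT_subsingleton M l hA i hlt
  have h0 : Module.length A (DRing.Tor A i (A ⧸ Ideal.ofList l) M) = 0 :=
    Module.length_eq_zero
  rw [h0]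
  simp

/-- **Serre's theorem with Tor**. -/
theorem tendsto_chi (c : ℕ) (g : Fin c → A) (hreg : IsRegular A (List.ofFn g))
    (h0 : Module.supportDim A (M ⧸ (Ideal.span (Set.range g) • (⊤ : Submodule A M))) ≤ 0) :
    Tendsto (fun t : ℕ => (c.factorial : ℝ) *
        ((Module.length A (M ⧸ (Ideal.span (Set.range g) ^ t • (⊤ : Submodule A M)))).toNat : ℝ) /
          (t : ℝ) ^ c)
      atTop (𝓝 (IntMult.chi A (A ⧸ Ideal.span (Set.range g)) M : ℝ)) := by
  have hfl : IsFiniteLength A (M ⧸ (Ideal.span (Set.range g) • (⊤ : Submodule A M))) :=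
    isFiniteLength_of_supportDim_le_zero _ h0
  have key := serre_fn c g M hfl
  rw [euler_eq_chiK] at key
  have hFL : FL (List.ofFn g) M := by
    unfold FL
    rw [ofList_ofFn]
    exact hfl
  rw [chi_eq M (List.ofFn g) hreg.toIsWeaklyRegular hFL _ (ofList_ofFn g)]
  exact key

end Groth.Agent.Lib.Helper87.TorKzD
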