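import Mathlib

/-! Veronese subring of a polynomial ring: support description, Veronese projection, contraction
of monomial-power ideals, colon property (helper87). -/

set_option autoImplicit false
set_option linter.style.haveILetI false
set_option linter.unusedSectionVars false

open MvPolynomial

namespace Groth.Agent.Lib.Helper87.VerSoc

variable {k : Type*} [Field k] {s : ℕ} (d : ℕ)

/-- The polynomial lies in the `d`-th Veronese subring. -/
def InV (p : MvPolynomial (Fin s) k) : Prop := ∀ b ∈ p.support, d ∣ b.degree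

theorem inV_iff (p : MvPolynomial (Fin s) k) :
    InV d p ↔ ∀ j : ℕ, ¬ d ∣ j → homogeneousComponent j p = 0 := by
  constructor
  · intro h j hj
    ext b
    rw [coeff_homogeneousComponent, coeff_zero]
    split_ifs with hb
    · by_contra hne
      exact hj (hb ▸ h b (mem_support_iff.mpr hne))
    · rfl
  · intro h b hb
    by_contra hd
    have h2 := congrArg (coeff b) (h b.degree hd)
    rw [coeff_homogeneousComponent, if_pos rfl, coeff_zero] at h2
    exact (mem_support_iff.mp hb) h2

variable {d}

theorem InV.zero : InV d (0 : MvPolynomial (Fin s) k) := by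
  intro b hb; simp at hb

theorem InV.add {p q : MvPolynomial (Fin s) k} (hp : InV d p) (hq : InV d q) : InV d (p + q) := by
  classical
  intro b hb
  rcases Finset.mem_union.mp (support_add hb) with h | h
  · exact hp b h
  · exact hq b h

theorem InV.mul {p q : MvPolynomial (Fin s) k} (hp : InV d p) (hq : InV d q) : InV d (p * q) := by
  classical
  intro b hb
  obtain ⟨b1, h1, b2, h2, rfl⟩ := Finset.mem_add.mp (support_mul p q hb)
  rw [map_add]
  exact dvd_add (hp b1 h1) (hq b2 h2)

theorem InV.monomial {b : Fin s →₀ ℕ} (hb : d ∣ b.degree) (c : k) : InV d (monomial b c) := by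
  classical
  intro b' hb'
  have := support_monomial_subset hb'
  rw [Finset.mem_singleton] at this
  rw [this]; exact hb

theorem InV.sum {ι : Type*} (t : Finset ι) (p : ι → MvPolynomial (Fin s) k)
    (h : ∀ j ∈ t, InV d (p j)) : InV d (∑ j ∈ t, p j) := by
  classical
  induction t using Finset.induction_on with
  | empty => simpa using InV.zero
  | insert a t ha ih =>
    rw [Finset.sum_insert ha]
    exact (h a (Finset.mem_insert_self a t)).add
      (ih fun j hj => h j (Finset.mem_insert_of_mem hj))

theorem InV.neg {p : MvPolynomial (Fin s) k} (hp : InV d p) : InV d (-p) := by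
  intro b hb
  rw [support_neg] at hb
  exact hp b hb

theorem InV.sub {p q : MvPolynomial (Fin s) k} (hp : InV d p) (hq : InV d q) : InV d (p - q) := by
  rw [sub_eq_add_neg]; exact hp.add hq.neg

theorem coeff_eq_zero_of_inV {p : MvPolynomial (Fin s) k} (hp : InV d p) {m : Fin s →₀ ℕ}
    (hm : ¬ d ∣ m.degree) : coeff m p = 0 := by
  by_contra h
  exact hm (hp m (mem_support_iff.mpr h))

variable (d)

/-- The Veronese projection. -/
noncomputable def ver (p : MvPolynomial (Fin s) k) : MvPolynomial (Fin s) k :=
  ∑ b ∈ p.support with d ∣ b.degree, monomial b (coeff b p)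

theorem coeff_ver (p : MvPolynomial (Fin s) k) (m : Fin s →₀ ℕ) :
    coeff m (ver d p) = if d ∣ m.degree then coeff m p else 0 := by
  classical
  rw [ver, coeff_sum]
  simp only [coeff_monomial]
  rw [Finset.sum_ite_eq']
  split_ifs with h1 h2 h2
  · rfl
  · exact absurd (Finset.mem_filter.mp h1).2 h2
  · have : m ∉ p.support := fun h => h1 (Finset.mem_filter.mpr ⟨h, h2⟩)
    exact (notMem_support_iff.mp this).symm
  · rfl

theorem inV_ver (p : MvPolynomial (Fin s) k) : InV d (ver d p) := by
  intro b hb
  have h := mem_support_iff.mp hb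
  rw [coeff_ver] at h
  by_contra hd
  exact h (if_neg hd)

theorem ver_eq_self {p : MvPolynomial (Fin s) k} (hp : InV d p) : ver d p = p := by
  ext m
  rw [coeff_ver]
  split_ifs with h
  · rfl
  · exact (coeff_eq_zero_of_inV hp h).symm

theorem coeff_X_pow_mul (i : Fin s) (p : MvPolynomial (Fin s) k) (m : Fin s →₀ ℕ) :
    coeff m (X i ^ d * p) = if d ≤ m i then coeff (m - Finsupp.single i d) p else 0 := by
  rw [X_pow_eq_monomial, coeff_monomial_mul', one_mul]
  simp only [Finsupp.single_le_iff]

theorem degree_sub_single {m : Fin s →₀ ℕ} {i : Fin s} (h : d ≤ m i) :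
    m.degree = (m - Finsupp.single i d).degree + d := by
  have h1 : m = (m - Finsupp.single i d) + Finsupp.single i d := by
    ext j
    by_cases hj : j = i
    · subst hj; simp [Nat.sub_add_cancel h]
    · simp [Finsupp.single_apply, Ne.symm hj]
  conv_lhs => rw [h1]
  rw [map_add, Finsupp.degree_single]

/-- Contraction of monomial-power ideals to the Veronese subring. -/
theorem contraction {ι : Type*} (t : Finset ι) (a : ι → Fin s) (p : ι → MvPolynomial (Fin s) k)
    (q : MvPolynomial (Fin s) k) (hq : InV d q) (h : q = ∑ j ∈ t, X (a j) ^ d * p j) :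
    q = ∑ j ∈ t, X (a j) ^ d * ver d (p j) := by
  ext m
  by_cases hm : d ∣ m.degree
  · rw [h, coeff_sum, coeff_sum]
    refine Finset.sum_congr rfl fun j _ => ?_
    rw [coeff_X_pow_mul, coeff_X_pow_mul]
    split_ifs with h1
    · rw [coeff_ver, if_pos]
      rw [degree_sub_single d h1] at hm
      exact (Nat.dvd_add_left (dvd_refl d)).mp hm
    · rfl
  · rw [coeff_eq_zero_of_inV hq hm, coeff_sum]
    symm
    refine Finset.sum_eq_zero fun j _ => ?_
    rw [coeff_X_pow_mul]
    split_ifs with h1
    · rw [coeff_ver, if_neg]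
      intro h2
      apply hm
      rw [degree_sub_single d h1]
      exact dvd_add h2 (dvd_refl d)
    · rfl

/-- The ideal generated by the `d`-th powers of the first `i` variables. -/
noncomputable def JP (i : ℕ) : Ideal (MvPolynomial (Fin s) k) :=
  Ideal.span ((fun b => monomial b (1 : k)) ''
    {b | ∃ j : Fin s, j.val < i ∧ b = Finsupp.single j d})

theorem mem_JP_iff {i : ℕ} {p : MvPolynomial (Fin s) k} :
    p ∈ JP d i ↔ ∀ m ∈ p.support, ∃ j : Fin s, j.val < i ∧ d ≤ m j := by
  rw [JP, mem_ideal_span_monomial_image]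
  constructor
  · intro h m hm
    obtain ⟨_, ⟨j, hj, rfl⟩, hle⟩ := h m hm
    refine ⟨j, hj, ?_⟩
    have := hle j
    simpa using this
  · intro h m hm
    obtain ⟨j, hj, hle⟩ := h m hm
    refine ⟨Finsupp.single j d, ⟨j, hj, rfl⟩, ?_⟩
    intro j'
    by_cases hj' : j' = j
    · subst hj'; simpa using hle
    · simp [Finsupp.single_apply, Ne.symm hj']

theorem JP_eq_span (i : ℕ) : JP (k := k) (s := s) d i =
    Ideal.span (Set.range fun j : {j : Fin s // j.val < i} => (X j.1 : MvPolynomial (Fin s) k) ^ d) := by
  rw [JP]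
  congr 1
  ext p
  constructor
  · rintro ⟨_, ⟨j, hj, rfl⟩, rfl⟩
    exact ⟨⟨j, hj⟩, X_pow_eq_monomial⟩
  · rintro ⟨⟨j, hj⟩, rfl⟩
    exact ⟨Finsupp.single j d, ⟨j, hj, rfl⟩, X_pow_eq_monomial.symm⟩

theorem colon_JP (i : ℕ) (hi : i < s) (z : MvPolynomial (Fin s) k)
    (h : X ⟨i, hi⟩ ^ d * z ∈ JP d i) : z ∈ JP d i := by
  rw [mem_JP_iff] at h ⊢
  intro m hm
  set i' : Fin s := ⟨i, hi⟩ with hi'
  have h1 : m + Finsupp.single i' d ∈ (X i' ^ d * z).support := by
    rw [mem_support_iff, coeff_X_pow_mul, if_pos (by simp)]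
    have : m + Finsupp.single i' d - Finsupp.single i' d = m := by
      ext j; simp
    rw [this]
    exact mem_support_iff.mp hm
  obtain ⟨j, hj, hle⟩ := h _ h1
  refine ⟨j, hj, ?_⟩
  have hne : i' ≠ j := by
    intro h2; rw [← h2] at hj; exact lt_irrefl _ hj
  simpa [Finsupp.single_apply, hne] using hle

/-- An element of the Veronese subring lying in `JP` is a combination of the generators with
coefficients in the Veronese subring. -/
theorem exists_of_mem_JP (i : ℕ) (q : MvPolynomial (Fin s) k) (hq : InV d q) (h : q ∈ JP d i) :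
    ∃ c : {j : Fin s // j.val < i} → MvPolynomial (Fin s) k, (∀ j, InV d (c j)) ∧
      q = ∑ j, X j.1 ^ d * c j := by
  rw [JP_eq_span, Ideal.mem_span_range_iff_exists_fun] at h
  obtain ⟨c, hc⟩ := h
  refine ⟨fun j => ver d (c j), fun j => inV_ver d _, ?_⟩
  apply contraction d Finset.univ (fun j => j.1) c q hq
  rw [← hc]
  exact Finset.sum_congr rfl fun j _ => mul_comm _ _

end Groth.Agent.Lib.Helper87.VerSoc
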