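import Groth.Agent.Lib.Helper87.VerSocA

/-! Socle monomials of the Veronese subring of `k[X]/(X_i^d)` (helper87). -/

set_option autoImplicit false
set_option linter.style.haveILetI false
set_option linter.unusedSectionVars false
set_option linter.unusedSimpArgs false

open MvPolynomial

namespace Groth.Agent.Lib.Helper87.VerSoc

variable {k : Type*} [Field k] {s : ℕ} (d : ℕ)

theorem exists_le_of_defect_lt (a b : Fin s →₀ ℕ) (ha : ∀ i, a i ≤ d - 1)
    (h : ∑ i, (d - 1 - a i) < b.degree) : ∃ i, d ≤ (a + b) i := by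
  by_contra hcon
  push Not at hcon
  have h1 : b.degree ≤ ∑ i, (d - 1 - a i) := by
    rw [Finsupp.degree_eq_sum]
    refine Finset.sum_le_sum fun i _ => ?_
    have h2 := hcon i
    simp only [Finsupp.coe_add, Pi.add_apply] at h2
    have h3 := ha i
    omega
  omega

theorem exists_sub_vector (e : Fin s → ℕ) : ∀ t : ℕ, t ≤ ∑ i, e i →
    ∃ b : Fin s →₀ ℕ, (∀ i, b i ≤ e i) ∧ b.degree = t := by
  intro t
  induction t with
  | zero => intro _; exact ⟨0, fun i => Nat.zero_le _, map_zero _⟩
  | succ t ih =>
    intro ht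
    obtain ⟨b, hb, hbt⟩ := ih (by omega)
    have hex : ∃ i, b i < e i := by
      by_contra hcon
      push Not at hcon
      have h1 : ∑ i, e i ≤ ∑ i, b i := Finset.sum_le_sum fun i _ => hcon i
      rw [← Finsupp.degree_eq_sum, hbt] at h1
      omega
    obtain ⟨i, hi⟩ := hex
    refine ⟨b + Finsupp.single i 1, fun j => ?_, ?_⟩
    · by_cases hj : j = i
      · subst hj
        simp only [Finsupp.coe_add, Pi.add_apply, Finsupp.single_eq_same]
        omega
      · have : (Finsupp.single i 1 : Fin s →₀ ℕ) j = 0 := Finsupp.single_eq_of_ne' (Ne.symm hj)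
        simp only [Finsupp.coe_add, Pi.add_apply, this, add_zero]
        exact hb j
    · rw [map_add, hbt, Finsupp.degree_single]

variable (n : ℕ)

/-- The socle condition (polynomial side). -/
def IsSoc (z : MvPolynomial (Fin s) k) : Prop :=
  InV d z ∧ ∀ u : MvPolynomial (Fin s) k, InV d u → constantCoeff u = 0 → u * z ∈ JP d s

/-- The exponents of the socle monomials. -/
def InE (a : Fin s →₀ ℕ) : Prop := (∀ i, a i ≤ d - 1) ∧ ∑ i, (d - 1 - a i) = n - s

section

variable {d n} (hd : 1 ≤ d) (hsn : s ≤ n) (hdn : d ∣ n) (hns : n - s ≤ d - 1)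

include hd hsn in
theorem InE.degree_add {a : Fin s →₀ ℕ} (ha : InE d n a) : a.degree + n = s * d := by
  have h1 : ∑ i : Fin s, (a i + (d - 1 - a i)) = s * (d - 1) := by
    have : ∀ i : Fin s, a i + (d - 1 - a i) = d - 1 := fun i => by have := ha.1 i; omega
    simp only [this, Finset.sum_const, Finset.card_univ, Fintype.card_fin, smul_eq_mul]
  rw [Finset.sum_add_distrib, ha.2, ← Finsupp.degree_eq_sum] at h1
  have h2 : s * (d - 1) + s = s * d := by
    obtain ⟨d', rfl⟩ : ∃ d', d = d' + 1 := ⟨d - 1, by omega⟩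
    simp only [Nat.add_sub_cancel]; ring
  omega

include hd hsn hdn in
theorem InE.dvd {a : Fin s →₀ ℕ} (ha : InE d n a) : d ∣ a.degree := by
  have h := ha.degree_add hd hsn
  have h1 : d ∣ a.degree + n := by rw [h]; exact Dvd.intro_left s rfl
  exact (Nat.dvd_add_left hdn).mp h1

include hd hsn hdn hns in
theorem isSoc_monomial {a : Fin s →₀ ℕ} (ha : InE d n a) : IsSoc (k := k) d (monomial a 1) := by
  classical
  refine ⟨InV.monomial (ha.dvd hd hsn hdn) 1, fun u hu hu0 => ?_⟩
  rw [mem_JP_iff]
  intro m hm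
  obtain ⟨b, hb, a', ha', rfl⟩ := Finset.mem_add.mp (support_mul u (monomial a 1) hm)
  have haa : a' = a := by
    have := support_monomial_subset ha'
    rwa [Finset.mem_singleton] at this
  subst haa
  have hb0 : b ≠ 0 := by
    rintro rfl
    rw [mem_support_iff] at hb
    exact hb (by rwa [constantCoeff_eq] at hu0)
  have hbd : d ≤ b.degree := by
    have h1 := hu b hb
    have h2 : b.degree ≠ 0 := fun h => hb0 ((Finsupp.degree_eq_zero_iff b).mp h)
    exact Nat.le_of_dvd (Nat.pos_of_ne_zero h2) h1
  obtain ⟨i, hi⟩ := exists_le_of_defect_lt d a' b ha.1 (by rw [ha.2]; omega)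
  refine ⟨i, i.isLt, ?_⟩
  rw [add_comm]; exact hi

include hd hsn hdn hns in
theorem inE_of_isSoc {z : MvPolynomial (Fin s) k} (hz : IsSoc d z) {m : Fin s →₀ ℕ}
    (hm : m ∈ z.support) (hred : ∀ i, m i ≤ d - 1) : InE d n m := by
  classical
  refine ⟨hred, ?_⟩
  set D := ∑ i, (d - 1 - m i) with hD
  have hD1 : D ≤ d - 1 := by
    by_contra hcon
    obtain ⟨b, hb, hbd⟩ := exists_sub_vector (fun i => d - 1 - m i) d (by omega)
    have hb0 : b ≠ 0 := by
      rintro rfl
      rw [map_zero] at hbd; omega
    have hu : InV (k := k) d (monomial b 1) := InV.monomial (by rw [hbd]) 1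
    have hu0 : constantCoeff (monomial b (1 : k)) = 0 := by
      rw [constantCoeff_monomial, if_neg hb0]
    have h1 := hz.2 _ hu hu0
    rw [mem_JP_iff] at h1
    have h2 : b + m ∈ (monomial b (1 : k) * z).support := by
      rw [mem_support_iff, coeff_monomial_mul', if_pos (by exact le_self_add), one_mul,
        add_tsub_cancel_left]
      exact mem_support_iff.mp hm
    obtain ⟨j, -, hj⟩ := h1 _ h2
    have h3 := hb j
    have h4 := hred j
    simp only [Finsupp.coe_add, Pi.add_apply] at hj
    omega
  -- congruence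
  have h1 : ∑ i : Fin s, (m i + (d - 1 - m i)) = s * (d - 1) := by
    have : ∀ i : Fin s, m i + (d - 1 - m i) = d - 1 := fun i => by have := hred i; omega
    simp only [this, Finset.sum_const, Finset.card_univ, Fintype.card_fin, smul_eq_mul]
  rw [Finset.sum_add_distrib, ← Finsupp.degree_eq_sum, ← hD] at h1
  have h2 : s * (d - 1) + s = s * d := by
    obtain ⟨d', rfl⟩ : ∃ d', d = d' + 1 := ⟨d - 1, by omega⟩
    simp only [Nat.add_sub_cancel]; ring
  have h3 : d ∣ m.degree := hz.1 m hm
  have h4 : d ∣ D + s := by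
    have : m.degree + (D + s) = s * d := by omega
    have h5 : d ∣ m.degree + (D + s) := by rw [this]; exact Dvd.intro_left s rfl
    exact (Nat.dvd_add_right h3).mp h5
  have h5 : d ∣ (n - s) + s := by rwa [Nat.sub_add_cancel hsn]
  rcases le_total D (n - s) with hle | hle
  · have h6 : d ∣ (n - s + s) - (D + s) := Nat.dvd_sub h5 h4
    have h7 : (n - s + s) - (D + s) = 0 := Nat.eq_zero_of_dvd_of_lt h6 (by omega)
    omega
  · have h6 : d ∣ (D + s) - (n - s + s) := Nat.dvd_sub h4 h5
    have h7 : (D + s) - (n - s + s) = 0 := Nat.eq_zero_of_dvd_of_lt h6 (by omega)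
    omega

/-- The finite set of socle exponents. -/
noncomputable def ET (d n s : ℕ) : Finset (Fin s →₀ ℕ) :=
  (Finset.finsuppAntidiag (Finset.univ : Finset (Fin s)) (n - s)).image
    (fun e => Finsupp.equivFunOnFinite.symm (fun i => d - 1 - e i))

include hns in
theorem mem_ET {a : Fin s →₀ ℕ} : a ∈ ET d n s ↔ InE d n a := by
  classical
  rw [ET, Finset.mem_image]
  constructor
  · rintro ⟨e, he, rfl⟩
    rw [Finset.mem_finsuppAntidiag] at he
    have hle : ∀ i, e i ≤ n - s := fun i => by
      rw [← he.1]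
      exact Finset.single_le_sum (f := fun i => e i) (fun _ _ => Nat.zero_le _) (Finset.mem_univ i)
    refine ⟨fun i => ?_, ?_⟩
    · simp only [Finsupp.equivFunOnFinite_symm_apply_apply]; omega
    · rw [← he.1]
      refine Finset.sum_congr rfl fun i _ => ?_
      simp only [Finsupp.equivFunOnFinite_symm_apply_apply]
      have := hle i; omega
  · intro ha
    refine ⟨Finsupp.equivFunOnFinite.symm (fun i => d - 1 - a i), ?_, ?_⟩
    · rw [Finset.mem_finsuppAntidiag]
      refine ⟨?_, Finset.subset_univ _⟩
      rw [← ha.2]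
      refine Finset.sum_congr rfl fun i _ => ?_
      simp only [Finsupp.equivFunOnFinite_symm_apply_apply]
    · ext i
      simp only [Finsupp.equivFunOnFinite_symm_apply_apply]
      have := ha.1 i; omega

include hns in
theorem card_ET : (ET d n s).card = (s + (n - s) - 1).choose (n - s) := by
  classical
  rw [ET, Finset.card_image_of_injOn]
  · have := Finset.card_finsuppAntidiag_nat_eq_multichoose (s := (Finset.univ : Finset (Fin s)))
      (n - s)
    rw [this, Finset.card_univ, Fintype.card_fin, Nat.multichoose_eq]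
  · intro e he e' he' hee
    rw [Finset.mem_coe, Finset.mem_finsuppAntidiag] at he he'
    have hle : ∀ i, e i ≤ n - s := fun i => by
      rw [← he.1]
      exact Finset.single_le_sum (f := fun i => e i) (fun _ _ => Nat.zero_le _) (Finset.mem_univ i)
    have hle' : ∀ i, e' i ≤ n - s := fun i => by
      rw [← he'.1]
      exact Finset.single_le_sum (f := fun i => e' i) (fun _ _ => Nat.zero_le _)
        (Finset.mem_univ i)
    ext i
    have h1 := DFunLike.congr_fun hee i
    simp only [Finsupp.equivFunOnFinite_symm_apply_apply] at h1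
    have := hle i; have := hle' i
    omega

include hd hsn hdn hns in
/-- A socle element is, modulo `JP`, a combination of socle monomials. -/
theorem isSoc_sub_mem {z : MvPolynomial (Fin s) k} (hz : IsSoc d z) :
    z - ∑ a ∈ ET d n s, monomial a (coeff a z) ∈ JP d s := by
  classical
  rw [mem_JP_iff]
  intro m hm
  have hc : coeff m (z - ∑ a ∈ ET d n s, monomial a (coeff a z)) =
      if m ∈ ET d n s then 0 else coeff m z := by
    rw [coeff_sub, coeff_sum]
    simp only [coeff_monomial]
    rw [Finset.sum_ite_eq']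
    split_ifs <;> simp
  rw [mem_support_iff, hc] at hm
  have hmT : m ∉ ET d n s := fun h => hm (if_pos h)
  rw [if_neg hmT] at hm
  by_contra hcon
  push Not at hcon
  apply hmT
  rw [mem_ET hns]
  refine inE_of_isSoc hd hsn hdn hns hz (mem_support_iff.mpr hm) (fun i => ?_)
  have := hcon i i.isLt
  omega

include hd hns in
theorem coeff_eq_zero_of_sum_mem (c : (Fin s →₀ ℕ) → k)
    (h : ∑ a ∈ ET d n s, monomial a (c a) ∈ JP d s) : ∀ a ∈ ET d n s, c a = 0 := by
  classical
  intro a ha
  by_contra hne
  rw [mem_JP_iff] at h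
  have h1 : a ∈ (∑ a ∈ ET d n s, monomial a (c a)).support := by
    rw [mem_support_iff, coeff_sum]
    simp only [coeff_monomial]
    rw [Finset.sum_ite_eq', if_pos ha]
    exact hne
  obtain ⟨j, -, hj⟩ := h a h1
  have := ((mem_ET hns).mp ha).1 j
  omega

end

end Groth.Agent.Lib.Helper87.VerSoc
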