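import Groth.Agent.Lib.Helper87.VerSocB

/-! The Veronese subring as an abstract ring `R'` with `φ : R' → k[X]`: the regular sequence
`X_i^d`, units modulo it, and the socle data (helper87). -/

set_option autoImplicit false
set_option linter.style.haveILetI false
set_option linter.unusedSectionVars false
set_option linter.unusedSimpArgs false

open MvPolynomial

namespace Groth.Agent.Lib.Helper87.VerSoc

variable {k : Type*} [Field k] {s d : ℕ}

/-- All monomials have degree at least `N`. -/
def MinDeg (N : ℕ) (p : MvPolynomial (Fin s) k) : Prop := ∀ b ∈ p.support, N ≤ b.degree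

theorem MinDeg.zero (N : ℕ) : MinDeg N (0 : MvPolynomial (Fin s) k) := by
  intro b hb; simp at hb

theorem MinDeg.add {N : ℕ} {p q : MvPolynomial (Fin s) k} (hp : MinDeg N p) (hq : MinDeg N q) :
    MinDeg N (p + q) := by
  classical
  intro b hb
  rcases Finset.mem_union.mp (support_add hb) with h | h
  · exact hp b h
  · exact hq b h

theorem MinDeg.mul {N N' : ℕ} {p q : MvPolynomial (Fin s) k} (hp : MinDeg N p)
    (hq : MinDeg N' q) : MinDeg (N + N') (p * q) := by
  classical
  intro b hb
  obtain ⟨b1, h1, b2, h2, rfl⟩ := Finset.mem_add.mp (support_mul p q hb)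
  rw [map_add]
  exact add_le_add (hp b1 h1) (hq b2 h2)

theorem minDeg_one_of_constantCoeff {u : MvPolynomial (Fin s) k} (h : constantCoeff u = 0) :
    MinDeg 1 u := by
  intro b hb
  have hb0 : b ≠ 0 := by
    rintro rfl
    rw [mem_support_iff] at hb
    exact hb (by rwa [constantCoeff_eq] at h)
  have h2 : b.degree ≠ 0 := fun h => hb0 ((Finsupp.degree_eq_zero_iff b).mp h)
  omega

theorem mem_JP_of_minDeg {p : MvPolynomial (Fin s) k} (h : MinDeg (s * (d - 1) + 1) p) :
    p ∈ JP d s := by
  rw [mem_JP_iff]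
  intro b hb
  have h1 := h b hb
  obtain ⟨i, hi⟩ := exists_le_of_defect_lt d 0 b (fun i => Nat.zero_le _) (by
    simp only [Finsupp.coe_zero, Pi.zero_apply, Nat.sub_zero, Finset.sum_const, Finset.card_univ,
      Fintype.card_fin, smul_eq_mul]
    omega)
  refine ⟨i, i.isLt, ?_⟩
  simpa using hi

variable {R' : Type*} [CommRing R'] (φ : R' →+* MvPolynomial (Fin s) k)

section

variable (hφ : Function.Injective φ)
  (hr : ∀ p : MvPolynomial (Fin s) k, p ∈ φ.range ↔ InV d p)

include hr in
theorem inV_map (r : R') : InV d (φ r) := (hr _).mp ⟨r, rfl⟩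

include hr in
theorem exists_lift {p : MvPolynomial (Fin s) k} (hp : InV d p) : ∃ r, φ r = p :=
  RingHom.mem_range.mp ((hr p).mpr hp)

include hr in
theorem exists_y : ∃ y : Fin s → R', ∀ i, φ (y i) = X i ^ d := by
  have : ∀ i : Fin s, ∃ r, φ r = (X i : MvPolynomial (Fin s) k) ^ d := fun i => by
    apply exists_lift φ hr
    rw [X_pow_eq_monomial]
    exact InV.monomial (by rw [Finsupp.degree_single]) 1
  choose y hy using this
  exact ⟨y, hy⟩

include hr in
theorem exists_cst : ∃ cst : k → R', ∀ c, φ (cst c) = C c := by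
  have : ∀ c : k, ∃ r, φ r = (C c : MvPolynomial (Fin s) k) := fun c => by
    apply exists_lift φ hr
    rw [← monomial_zero']
    exact InV.monomial (by simp) c
  choose cst h using this
  exact ⟨cst, h⟩

variable (y : Fin s → R') (hy : ∀ i, φ (y i) = X i ^ d)

include hy in
theorem map_mem_JP (i : ℕ) {r : R'} (h : r ∈ Ideal.span (y '' {j | j.val < i})) :
    φ r ∈ JP d i := by
  have : Ideal.span (y '' {j | j.val < i}) ≤ Ideal.comap φ (JP d i) := by
    rw [Ideal.span_le]
    rintro _ ⟨j, hj, rfl⟩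
    show φ (y j) ∈ JP d i
    rw [hy, JP_eq_span]
    exact Ideal.subset_span ⟨⟨j, hj⟩, rfl⟩
  exact this h

include hφ hr hy in
theorem mem_of_map_mem_JP (i : ℕ) {r : R'} (h : φ r ∈ JP d i) :
    r ∈ Ideal.span (y '' {j | j.val < i}) := by
  obtain ⟨c, hc, hsum⟩ := exists_of_mem_JP d i (φ r) (inV_map φ hr r) h
  choose c' hc' using fun j => exists_lift φ hr (hc j)
  have : r = ∑ j, y j.1 * c' j := by
    apply hφ
    rw [hsum, map_sum]
    refine Finset.sum_congr rfl fun j _ => ?_
    rw [map_mul, hy, hc']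
  rw [this]
  exact Ideal.sum_mem _ fun j _ => Ideal.mul_mem_right _ _ (Ideal.subset_span ⟨j.1, j.2, rfl⟩)

theorem ofList_take_eq (i : ℕ) (hi : i ≤ s) :
    Ideal.ofList ((List.ofFn y).take i) = Ideal.span (y '' {j | j.val < i}) := by
  refine congrArg Ideal.span (Set.ext fun r => ?_)
  show r ∈ (List.ofFn y).take i ↔ ∃ j : Fin s, j.val < i ∧ y j = r
  rw [List.mem_take_iff_getElem]
  constructor
  · rintro ⟨j, hj, rfl⟩
    have hj' : j < i ∧ j < s := by simpa using hj
    exact ⟨⟨j, hj'.2⟩, hj'.1, by simp⟩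
  · rintro ⟨j, hj, rfl⟩
    exact ⟨j.val, by simp only [List.length_ofFn, lt_inf_iff]; exact ⟨hj, j.isLt⟩, by simp⟩

theorem ofList_eq : Ideal.ofList (List.ofFn y) = Ideal.span (y '' {j | j.val < s}) := by
  have := ofList_take_eq y s le_rfl
  rwa [List.take_of_length_le (by simp)] at this

include hφ hr hy in
theorem isWeaklyRegular_ofFn : RingTheory.Sequence.IsWeaklyRegular R' (List.ofFn y) := by
  rw [RingTheory.Sequence.isWeaklyRegular_iff]
  intro i hi
  have hi' : i < s := by simpa using hi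
  rw [isSMulRegular_iff_right_eq_zero_of_smul]
  intro q hq
  obtain ⟨z, rfl⟩ := Submodule.Quotient.mk_surjective _ q
  rw [← Submodule.Quotient.mk_smul, Submodule.Quotient.mk_eq_zero] at hq
  rw [Submodule.Quotient.mk_eq_zero]
  have hJ : (Ideal.ofList ((List.ofFn y).take i) • (⊤ : Submodule R' R')) =
      Ideal.span (y '' {j | j.val < i}) := by
    rw [smul_eq_mul, Ideal.mul_top, ofList_take_eq y i hi'.le]
  rw [hJ] at hq ⊢
  apply mem_of_map_mem_JP φ hφ hr y hy
  apply colon_JP d i hi'
  have := map_mem_JP φ y hy i hq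
  rwa [smul_eq_mul, map_mul, List.getElem_ofFn, hy] at this

variable (m' : Ideal R') (hm' : ∀ r, r ∈ m' ↔ constantCoeff (φ r) = 0)

include hm' in
theorem minDeg_of_mem_pow : ∀ (N : ℕ) (r : R'), r ∈ m' ^ N → MinDeg N (φ r) := by
  intro N
  induction N with
  | zero => intro r _ b _; exact Nat.zero_le _
  | succ N ih =>
    intro r hr'
    rw [pow_succ] at hr'
    refine Submodule.mul_induction_on hr' ?_ ?_
    · intro a ha b hb
      rw [map_mul]
      exact (ih a ha).mul (minDeg_one_of_constantCoeff ((hm' b).mp hb))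
    · intro a b ha hb
      rw [map_add]; exact ha.add hb

include hφ hr hy hm' in
theorem exists_unit_mod [m'.IsMaximal] (t : R') (ht : t ∉ m') :
    ∃ t', t * t' - 1 ∈ Ideal.ofList (List.ofFn y) := by
  obtain ⟨t', e, he, h⟩ := Ideal.IsMaximal.exists_inv_pow m' ht (s * (d - 1) + 1)
  refine ⟨t', ?_⟩
  have h1 : t * t' - 1 = - e := by linear_combination h
  rw [h1, ofList_eq]
  refine Submodule.neg_mem _ (mem_of_map_mem_JP φ hφ hr y hy s ?_)
  exact mem_JP_of_minDeg (minDeg_of_mem_pow φ m' hm' _ e he)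

include hy hm' in
theorem ofList_le (hd : 1 ≤ d) : Ideal.ofList (List.ofFn y) ≤ m' := by
  rw [Ideal.span_le]
  intro r hr'
  obtain ⟨i, rfl⟩ := (List.mem_ofFn' y r).mp hr'
  show y i ∈ m'
  rw [hm', hy, map_pow, constantCoeff_X]
  exact zero_pow (by omega)

end

end Groth.Agent.Lib.Helper87.VerSoc
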