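import Groth.Agent.Lib.Helper87.VerSocC
import Groth.Agent.Lib.Helper87.LocSocle
import Groth.Agent.Lib.Helper2.CanonType
import Groth.Prelude.Def_GrLC2

/-! The type of the Veronese subring of a polynomial ring: assembly (helper87). -/

set_option autoImplicit false
set_option linter.style.haveILetI false
set_option linter.unusedSectionVars false
set_option linter.unusedSimpArgs false

open MvPolynomial IsLocalRing CategoryTheory

namespace Groth.Agent.Lib.Helper87.VerSoc

universe u

variable {k : Type u} [Field k] {s d n : ℕ} {R' : Type u} [CommRing R']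
  (φ : R' →+* MvPolynomial (Fin s) k)

theorem length_hom (hφ : Function.Injective φ)
    (hr : ∀ p : MvPolynomial (Fin s) k, p ∈ φ.range ↔ InV d p)
    (hd : 1 ≤ d) (hsn : s ≤ n) (hdn : d ∣ n) (hns : n - s ≤ d - 1)
    (m' : Ideal R') [m'.IsMaximal] (hm' : ∀ r, r ∈ m' ↔ constantCoeff (φ r) = 0)
    (y : Fin s → R') (hy : ∀ i, φ (y i) = X i ^ d) :
    Module.length (Localization.AtPrime m')
      (ResidueField (Localization.AtPrime m') →ₗ[Localization.AtPrime m']
        (Localization.AtPrime m' ⧸
          (Ideal.ofList (List.ofFn y)).map (algebraMap R' (Localization.AtPrime m')))) =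
      ((ET d n s).card : ℕ∞) := by
  classical
  obtain ⟨cst, hcst⟩ := exists_cst φ hr
  have hz : ∀ a : {a // a ∈ ET d n s}, ∃ r, φ r = monomial a.1 (1 : k) := fun a =>
    exists_lift φ hr (InV.monomial (((mem_ET hns).mp a.2).dvd hd hsn hdn) 1)
  choose z hz' using hz
  have hJmem : ∀ r : R', r ∈ Ideal.ofList (List.ofFn y) ↔ φ r ∈ JP d s := fun r => by
    rw [ofList_eq]
    exact ⟨map_mem_JP φ y hy s, mem_of_map_mem_JP φ hφ hr y hy s⟩
  have h1 : ∀ a, ∀ r ∈ m', r * z a ∈ Ideal.ofList (List.ofFn y) := by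
    intro a r hr'
    rw [hJmem, map_mul, hz']
    exact (isSoc_monomial hd hsn hdn hns ((mem_ET hns).mp a.2)).2 (φ r) (inV_map φ hr r)
      ((hm' r).mp hr')
  have hmono : ∀ (a : Fin s →₀ ℕ) (c : k), (C c : MvPolynomial (Fin s) k) * monomial a 1 =
      monomial a c := fun a c => by rw [C_mul_monomial, mul_one]
  have key := Groth.Agent.Lib.Helper87.LocSocle.length_hom_residue m' (Ideal.ofList (List.ofFn y))
    (ofList_le φ y hy m' hm' hd) (exists_unit_mod φ hφ hr y hy m' hm') z h1 ?_ ?_
  · rw [key, Fintype.card_coe]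
  · -- spanning
    intro w hw
    have hsoc : IsSoc d (φ w) := by
      refine ⟨inV_map φ hr w, fun u hu hu0 => ?_⟩
      obtain ⟨r, rfl⟩ := exists_lift φ hr hu
      rw [← map_mul, ← hJmem]
      exact hw r ((hm' r).mpr hu0)
    refine ⟨fun a => cst (coeff a.1 (φ w)), ?_⟩
    rw [hJmem, map_sub, map_sum]
    have := isSoc_sub_mem hd hsn hdn hns hsoc
    rw [← Finset.sum_coe_sort] at this
    convert this using 3 with a
    rw [map_mul, hcst, hz', hmono]
  · -- independence
    intro c hc a
    set γ : {a // a ∈ ET d n s} → k := fun a => constantCoeff (φ (c a)) with hγ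
    have he : ∀ a, c a - cst (γ a) ∈ m' := fun a => by
      rw [hm', map_sub, hcst, map_sub, constantCoeff_C, sub_self]
    have h4 : ∑ a, cst (γ a) * z a ∈ Ideal.ofList (List.ofFn y) := by
      have h5 : ∑ a, cst (γ a) * z a = ∑ a, c a * z a - ∑ a, (c a - cst (γ a)) * z a := by
        rw [← Finset.sum_sub_distrib]
        refine Finset.sum_congr rfl fun a _ => ?_
        ring
      rw [h5]
      exact Ideal.sub_mem _ hc (Ideal.sum_mem _ fun a _ => h1 a _ (he a))
    rw [hJmem, map_sum] at h4
    set γ' : (Fin s →₀ ℕ) → k := fun b => if h : b ∈ ET d n s then γ ⟨b, h⟩ else 0 with hγ'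
    have h6 : ∑ a ∈ ET d n s, monomial a (γ' a) ∈ JP d s := by
      rw [← Finset.sum_coe_sort]
      convert h4 using 2 with a
      rw [map_mul, hcst, hz', hmono, hγ']
      simp only [a.2, dif_pos, Subtype.coe_eta]
    have h7 := coeff_eq_zero_of_sum_mem hd hns γ' h6 a.1 a.2
    rw [hγ'] at h7
    simp only [a.2, dif_pos, Subtype.coe_eta] at h7
    exact (hm' (c a)).mpr h7

open RingTheory.Sequence in
theorem bassNum_eq (hφ : Function.Injective φ)
    (hr : ∀ p : MvPolynomial (Fin s) k, p ∈ φ.range ↔ InV d p)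
    (hd : 1 ≤ d) (hsn : s ≤ n) (hdn : d ∣ n) (hns : n - s ≤ d - 1)
    (m' : Ideal R') [m'.IsMaximal] (hm' : ∀ r, r ∈ m' ↔ constantCoeff (φ r) = 0) :
    GrLC.bassNum m' R' s = ((ET d n s).card : ℕ∞) := by
  classical
  obtain ⟨y, hy⟩ := exists_y φ hr
  set A := Localization.AtPrime m' with hA
  have hreg := isWeaklyRegular_ofFn φ hφ hr y hy
  have hregA : IsWeaklyRegular (LocalizedModule m'.primeCompl R')
      ((List.ofFn y).map (algebraMap R' A)) :=
    hreg.of_isLocalizedModule A m'.primeCompl (LocalizedModule.mkLinearMap m'.primeCompl R')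
  have hann : ∀ x ∈ (List.ofFn y).map (algebraMap R' A),
      x ∈ Module.annihilator A (ResidueField A) := by
    intro x hx
    obtain ⟨r, hr', rfl⟩ := List.mem_map.mp hx
    have hrm : r ∈ m' := ofList_le φ y hy m' hm' hd (Ideal.subset_span hr')
    have hrA : algebraMap R' A r ∈ maximalIdeal A :=
      (IsLocalization.AtPrime.to_map_mem_maximal_iff A m' r).mpr hrm
    rw [Module.mem_annihilator]
    intro q
    obtain ⟨a, rfl⟩ := residue_surjective q
    rw [Algebra.smul_def, ResidueField.algebraMap_eq, (residue_eq_zero_iff _).mpr hrA, zero_mul]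
  obtain ⟨E⟩ := Groth.Agent.Lib.Helper2.CanonType.ext_linearEquiv (ResidueField A)
    ((List.ofFn y).map (algebraMap R' A)) (LocalizedModule m'.primeCompl R') hann hregA
  obtain ⟨E2⟩ := Groth.Agent.Lib.Helper87.LocSocle.nonempty_hom_equiv m' (List.ofFn y)
  have hlen : ((List.ofFn y).map (algebraMap R' A)).length = s := by simp
  have h1 := (E.symm.trans E2).length_eq
  rw [length_hom φ hφ hr hd hsn hdn hns m' hm' y hy] at h1
  rw [hlen] at h1
  exact h1

end Groth.Agent.Lib.Helper87.VerSoc
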