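import Mathlib

/-!
# Helper library for the `W4c4effdivwronsk2` family (S17241–S17246)

`V = D·k[X]_{<b} + ∑ D_i·k[X]_{<a_i}` is identified with `T (k[X]_{≤ N})` where
`T G = R·G' - S·G` (morally `D·(G/E)'`).
-/

set_option autoImplicit false

namespace Groth.Agent.Lib.Helper87.Wronsk

open Polynomial

variable {k : Type*} [Field k] {m : ℕ} (r : Fin m → k) (a : Fin m → ℕ)

/-- `E_s = ∏_{j ∈ s} (X - r_j)^(a_j)` -/
noncomputable def fE (s : Finset (Fin m)) : k[X] := ∏ j ∈ s, (X - C (r j)) ^ (a j)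

/-- `R_s = ∏_{j ∈ s} (X - r_j)` -/
noncomputable def fR (s : Finset (Fin m)) : k[X] := ∏ j ∈ s, (X - C (r j))

/-- `S_s = ∑_{j ∈ s} a_j ∏_{l ∈ s, l ≠ j} (X - r_l)` -/
noncomputable def fS (s : Finset (Fin m)) : k[X] := ∑ j ∈ s, C (a j : k) * fR r (s.erase j)

/-- `D_s = ∏_{j ∈ s} (X - r_j)^(a_j+1)` -/
noncomputable def fD (s : Finset (Fin m)) : k[X] := ∏ j ∈ s, (X - C (r j)) ^ (a j + 1)

/-- The operator `T_s G = R_s G' - S_s G`. -/
noncomputable def fT (s : Finset (Fin m)) : k[X] →ₗ[k] k[X] :=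
  (LinearMap.mulLeft k (fR r s)) ∘ₗ derivative - LinearMap.mulLeft k (fS r a s)

lemma fT_apply (s : Finset (Fin m)) (G : k[X]) :
    fT r a s G = fR r s * derivative G - fS r a s * G := rfl

lemma fD_eq (s : Finset (Fin m)) : fD r a s = fE r a s * fR r s := by
  simp only [fD, fE, fR, ← Finset.prod_mul_distrib, pow_succ]

lemma fR_insert {s : Finset (Fin m)} {i : Fin m} (hi : i ∉ s) :
    fR r (insert i s) = (X - C (r i)) * fR r s := by
  simp only [fR, Finset.prod_insert hi]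

lemma fE_insert {s : Finset (Fin m)} {i : Fin m} (hi : i ∉ s) :
    fE r a (insert i s) = (X - C (r i)) ^ (a i) * fE r a s := by
  simp only [fE, Finset.prod_insert hi]

lemma fD_insert {s : Finset (Fin m)} {i : Fin m} (hi : i ∉ s) :
    fD r a (insert i s) = (X - C (r i)) ^ (a i + 1) * fD r a s := by
  simp only [fD, Finset.prod_insert hi]

lemma fS_insert {s : Finset (Fin m)} {i : Fin m} (hi : i ∉ s) :
    fS r a (insert i s) = C (a i : k) * fR r s + (X - C (r i)) * fS r a s := by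
  unfold fS
  rw [Finset.sum_insert hi, Finset.erase_insert hi, Finset.mul_sum]
  congr 1
  refine Finset.sum_congr rfl fun j hj => ?_
  have hji : i ≠ j := fun h => hi (h ▸ hj)
  rw [Finset.erase_insert_of_ne hji, fR_insert r (by simp [hi])]
  ring

/-- Key identity: `S_s E_s = R_s E_s'`. -/
lemma fS_mul_fE (s : Finset (Fin m)) :
    fS r a s * fE r a s = fR r s * derivative (fE r a s) := by
  induction s using Finset.induction_on with
  | empty => simp [fS, fE, fR]
  | insert i s hi ih =>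
    rw [fS_insert r a hi, fE_insert r a hi, fR_insert r hi, derivative_mul,
      derivative_X_sub_C_pow]
    have h1 : (X - C (r i)) * (C (a i : k) * (X - C (r i)) ^ (a i - 1))
        = C (a i : k) * (X - C (r i)) ^ (a i) := by
      rcases Nat.eq_zero_or_pos (a i) with h | h
      · simp [h]
      · obtain ⟨n, hn⟩ : ∃ n, a i = n + 1 := ⟨a i - 1, by omega⟩
        rw [hn, Nat.add_sub_cancel, pow_succ]
        ring
    calc (C (a i : k) * fR r s + (X - C (r i)) * fS r a s) * ((X - C (r i)) ^ a i * fE r a s)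
        = C (a i : k) * (X - C (r i)) ^ a i * fR r s * fE r a s
          + (X - C (r i)) ^ (a i + 1) * (fS r a s * fE r a s) := by ring
      _ = ((X - C (r i)) * (C (a i : k) * (X - C (r i)) ^ (a i - 1))) * fR r s * fE r a s
          + (X - C (r i)) ^ (a i + 1) * (fR r s * derivative (fE r a s)) := by rw [h1, ih]
      _ = _ := by ring

lemma fT_insert {s : Finset (Fin m)} {i : Fin m} (hi : i ∉ s) (G : k[X]) :
    fT r a (insert i s) G = (X - C (r i)) * fT r a s G - C (a i : k) * fR r s * G := by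
  rw [fT_apply, fT_apply, fS_insert r a hi, fR_insert r hi]
  ring

/-- Product rule for `T`. -/
lemma fT_mul (s : Finset (Fin m)) (f G : k[X]) :
    fT r a s (f * G) = fR r s * derivative f * G + f * fT r a s G := by
  rw [fT_apply, fT_apply, derivative_mul]
  ring

/-- `T_s (E_s P) = D_s P'`. -/
lemma fT_fE_mul (s : Finset (Fin m)) (P : k[X]) :
    fT r a s (fE r a s * P) = fD r a s * derivative P := by
  rw [fT_apply, derivative_mul, fD_eq]
  have := fS_mul_fE r a s
  calc fR r s * (derivative (fE r a s) * P + fE r a s * derivative P) - fS r a s * (fE r a s * P)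
      = (fR r s * derivative (fE r a s) - fS r a s * fE r a s) * P
        + fE r a s * fR r s * derivative P := by ring
    _ = _ := by rw [← this]; ring

lemma fT_fE (s : Finset (Fin m)) : fT r a s (fE r a s) = 0 := by
  have := fT_fE_mul r a s 1
  simpa using this

/-- `T_{insert i s} (E_s P) = D_s ((X - r_i) P' - a_i P)`. -/
lemma fT_insert_fE_mul {s : Finset (Fin m)} {i : Fin m} (hi : i ∉ s) (P : k[X]) :
    fT r a (insert i s) (fE r a s * P)
      = fD r a s * ((X - C (r i)) * derivative P - C (a i : k) * P) := by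
  rw [fT_insert r a hi, fT_fE_mul, fD_eq]
  ring

/-- `T ((X - q)^t G₁)` for `t ≥ 1` -/
lemma fT_pow_mul (s : Finset (Fin m)) (q : k) (t : ℕ) (G₁ : k[X]) :
    fT r a s ((X - C q) ^ (t + 1) * G₁)
      = (X - C q) ^ t * (C ((t + 1 : ℕ) : k) * fR r s * G₁ + (X - C q) * fT r a s G₁) := by
  rw [fT_mul, derivative_X_sub_C_pow]
  simp only [Nat.add_sub_cancel]
  ring

/-- `T_{insert i s} ((X - r_i)^t G₁)`, all `t`. -/
lemma fT_insert_pow_mul {s : Finset (Fin m)} {i : Fin m} (hi : i ∉ s) (t : ℕ) (G₁ : k[X]) :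
    fT r a (insert i s) ((X - C (r i)) ^ t * G₁)
      = (X - C (r i)) ^ t * ((C (t : k) - C (a i : k)) * fR r s * G₁
          + (X - C (r i)) * fT r a s G₁) := by
  rw [fT_insert r a hi]
  rcases t with _ | t
  · simp; ring
  · rw [fT_pow_mul]
    ring

/-! ### Evaluation facts -/

lemma eval_fR_ne_zero {s : Finset (Fin m)} {q : k} (hq : ∀ j ∈ s, q ≠ r j) :
    eval q (fR r s) ≠ 0 := by
  rw [fR, eval_prod, Finset.prod_ne_zero_iff]
  intro j hj
  simpa [sub_eq_zero] using hq j hj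

lemma eval_fE_ne_zero {s : Finset (Fin m)} {q : k} (hq : ∀ j ∈ s, q ≠ r j) :
    eval q (fE r a s) ≠ 0 := by
  rw [fE, eval_prod, Finset.prod_ne_zero_iff]
  intro j hj
  rw [eval_pow]
  apply pow_ne_zero
  simpa [sub_eq_zero] using hq j hj

lemma fE_ne_zero (s : Finset (Fin m)) : fE r a s ≠ 0 := by
  rw [fE, Finset.prod_ne_zero_iff]
  intro j _
  exact pow_ne_zero _ (X_sub_C_ne_zero _)

lemma fR_ne_zero (s : Finset (Fin m)) : fR r s ≠ 0 := by
  rw [fR, Finset.prod_ne_zero_iff]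
  intro j _
  exact X_sub_C_ne_zero _

/-! ### Local analysis at an unmarked point -/

/-- If `G(q) = 0`, `q` unmarked, and `(X - q)^n ∣ T G`, then `(X - q)^(n+1) ∣ G`. -/
lemma unmarked_dvd [CharZero k] {s : Finset (Fin m)} {q : k} (hq : ∀ j ∈ s, q ≠ r j) {G : k[X]}
    (h0 : eval q G = 0) {n : ℕ} (h : (X - C q) ^ n ∣ fT r a s G) :
    (X - C q) ^ (n + 1) ∣ G := by
  by_cases hG : G = 0
  · simp [hG]
  obtain ⟨G₁, hG₁, hnd⟩ := G.exists_eq_pow_rootMultiplicity_mul_and_not_dvd hG q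
  have hpos : 0 < G.rootMultiplicity q := (rootMultiplicity_pos hG).mpr h0
  obtain ⟨t, ht⟩ : ∃ t, G.rootMultiplicity q = t + 1 := ⟨_, (Nat.succ_pred_eq_of_pos hpos).symm⟩
  rw [ht] at hG₁
  have hle : n ≤ t := by
    by_contra hlt
    have hlt : t + 1 ≤ n := Nat.lt_of_not_le hlt
    have h1 : (X - C q) ^ (t + 1) ∣ fT r a s G := (pow_dvd_pow _ hlt).trans h
    rw [hG₁, fT_pow_mul, pow_succ] at h1
    have h2 : (X - C q) ∣ C ((t + 1 : ℕ) : k) * fR r s * G₁ + (X - C q) * fT r a s G₁ :=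
      (mul_dvd_mul_iff_left (pow_ne_zero _ (X_sub_C_ne_zero q))).mp h1
    have h3 : (X - C q) ∣ C ((t + 1 : ℕ) : k) * fR r s * G₁ :=
      (dvd_add_left (dvd_mul_right _ _)).mp h2
    rw [dvd_iff_isRoot, IsRoot.def, eval_mul, eval_mul, eval_C] at h3
    rcases mul_eq_zero.mp h3 with h4 | h4
    · rcases mul_eq_zero.mp h4 with h5 | h5
      · exact (Nat.cast_ne_zero.mpr (Nat.succ_ne_zero t)) h5
      · exact eval_fR_ne_zero r hq h5
    · exact hnd (dvd_iff_isRoot.mpr h4)
  rw [hG₁]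
  exact (pow_dvd_pow _ (Nat.succ_le_succ hle)).trans (dvd_mul_right _ _)

/-- Converse: if `(X - q)^(n+1) ∣ G` then `(X - q)^n ∣ T G`. -/
lemma dvd_fT_of_dvd (s : Finset (Fin m)) (q : k) {G : k[X]} {n : ℕ}
    (h : (X - C q) ^ (n + 1) ∣ G) : (X - C q) ^ n ∣ fT r a s G := by
  obtain ⟨G₁, rfl⟩ := h
  rw [fT_pow_mul]
  exact dvd_mul_right _ _

/-- Normalisation at an unmarked point. -/
lemma exists_normalize_unmarked {s : Finset (Fin m)} {q : k} (hq : ∀ j ∈ s, q ≠ r j) (G : k[X]) :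
    ∃ c : k, eval q (G - c • fE r a s) = 0 := by
  refine ⟨eval q G / eval q (fE r a s), ?_⟩
  rw [eval_sub, eval_smul, smul_eq_mul, div_mul_cancel₀ _ (eval_fE_ne_zero r a hq), sub_self]

/-! ### Local analysis at a marked point -/

/-- If `G` does not vanish to order exactly `a_i` at `r_i` and `(X - r_i)^n ∣ T G`,
then `(X - r_i)^n ∣ G`. -/
lemma marked_dvd [CharZero k] {s : Finset (Fin m)} {i : Fin m} (hi : i ∉ s)
    (hri : ∀ j ∈ s, r i ≠ r j) {G : k[X]}
    (H : (X - C (r i)) ^ (a i) ∣ G → (X - C (r i)) ^ (a i + 1) ∣ G) {n : ℕ}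
    (h : (X - C (r i)) ^ n ∣ fT r a (insert i s) G) :
    (X - C (r i)) ^ n ∣ G := by
  by_cases hG : G = 0
  · simp [hG]
  obtain ⟨G₁, hG₁, hnd⟩ := G.exists_eq_pow_rootMultiplicity_mul_and_not_dvd hG (r i)
  set t := G.rootMultiplicity (r i) with ht
  have hta : t ≠ a i := by
    intro hta
    have h1 : (X - C (r i)) ^ (a i + 1) ∣ G := H (hta ▸ pow_rootMultiplicity_dvd G (r i))
    have := (le_rootMultiplicity_iff hG).mpr h1
    omega
  have hle : n ≤ t := by
    by_contra hlt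
    have hlt : t + 1 ≤ n := Nat.lt_of_not_le hlt
    have h1 : (X - C (r i)) ^ (t + 1) ∣ fT r a (insert i s) G := (pow_dvd_pow _ hlt).trans h
    rw [hG₁, fT_insert_pow_mul r a hi, pow_succ] at h1
    have h2 := (mul_dvd_mul_iff_left (pow_ne_zero _ (X_sub_C_ne_zero (r i)))).mp h1
    have h3 : (X - C (r i)) ∣ (C (t : k) - C (a i : k)) * fR r s * G₁ :=
      (dvd_add_left (dvd_mul_right _ _)).mp h2
    rw [dvd_iff_isRoot, IsRoot.def, eval_mul, eval_mul, eval_sub, eval_C, eval_C] at h3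
    rcases mul_eq_zero.mp h3 with h4 | h4
    · rcases mul_eq_zero.mp h4 with h5 | h5
      · exact hta (Nat.cast_injective (sub_eq_zero.mp h5))
      · exact eval_fR_ne_zero r hri h5
    · exact hnd (dvd_iff_isRoot.mpr h4)
  rw [hG₁]
  exact (pow_dvd_pow _ hle).trans (dvd_mul_right _ _)

/-- Converse at a marked point. -/
lemma dvd_fT_insert_of_dvd {s : Finset (Fin m)} {i : Fin m} (hi : i ∉ s) {G : k[X]} {n : ℕ}
    (h : (X - C (r i)) ^ n ∣ G) : (X - C (r i)) ^ n ∣ fT r a (insert i s) G := by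
  obtain ⟨G₁, rfl⟩ := h
  rw [fT_insert_pow_mul r a hi]
  exact dvd_mul_right _ _

/-- Normalisation at a marked point. -/
lemma exists_normalize_marked {s : Finset (Fin m)} {i : Fin m} (hi : i ∉ s)
    (hri : ∀ j ∈ s, r i ≠ r j) (G : k[X]) :
    ∃ c : k, ((X - C (r i)) ^ (a i) ∣ G - c • fE r a (insert i s) →
      (X - C (r i)) ^ (a i + 1) ∣ G - c • fE r a (insert i s)) := by
  by_cases hdvd : (X - C (r i)) ^ (a i) ∣ G
  · obtain ⟨G₁, rfl⟩ := hdvd
    refine ⟨eval (r i) G₁ / eval (r i) (fE r a s), fun _ => ?_⟩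
    rw [fE_insert r a hi, pow_succ]
    have : (X - C (r i)) ^ a i * G₁ - (eval (r i) G₁ / eval (r i) (fE r a s)) •
        ((X - C (r i)) ^ a i * fE r a s) = (X - C (r i)) ^ a i *
        (G₁ - (eval (r i) G₁ / eval (r i) (fE r a s)) • fE r a s) := by
      rw [mul_sub, mul_smul_comm]
    rw [this]
    apply mul_dvd_mul_left
    rw [dvd_iff_isRoot, IsRoot.def, eval_sub, eval_smul, smul_eq_mul,
      div_mul_cancel₀ _ (eval_fE_ne_zero r a hri), sub_self]
  · refine ⟨0, fun h => ?_⟩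
    rw [zero_smul, sub_zero] at h
    exact absurd h hdvd

/-! ### Degrees -/

lemma fE_monic (s : Finset (Fin m)) : (fE r a s).Monic :=
  monic_prod_of_monic _ _ fun j _ => (monic_X_sub_C (r j)).pow _

lemma fR_monic (s : Finset (Fin m)) : (fR r s).Monic :=
  monic_prod_of_monic _ _ fun j _ => monic_X_sub_C (r j)

lemma natDegree_fE (s : Finset (Fin m)) : (fE r a s).natDegree = ∑ j ∈ s, a j := by
  rw [fE, natDegree_prod_of_monic _ _ fun j _ => (monic_X_sub_C (r j)).pow _]
  refine Finset.sum_congr rfl fun j _ => ?_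
  rw [natDegree_pow, natDegree_X_sub_C, mul_one]

lemma natDegree_fR (s : Finset (Fin m)) : (fR r s).natDegree = s.card := by
  rw [fR, natDegree_prod_of_monic _ _ fun j _ => monic_X_sub_C (r j)]
  simp

lemma mul_mem_degreeLT {A P : k[X]} {n l : ℕ} (hA : A.natDegree ≤ n) (hP : P ∈ degreeLT k l) :
    A * P ∈ degreeLT k (n + l) := by
  rw [mem_degreeLT] at hP ⊢
  by_cases hP0 : P = 0
  · simp [hP0]
  have h1 : P.natDegree < l := (natDegree_lt_iff_degree_lt hP0).mpr hP
  refine (degree_le_natDegree).trans_lt ?_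
  have h2 : (A * P).natDegree ≤ A.natDegree + P.natDegree := natDegree_mul_le
  exact_mod_cast (by omega : (A * P).natDegree < n + l)

/-- The operator `τ_i P = (X - r_i) P' - a_i P`. -/
lemma fT_insert_empty (i : Fin m) (P : k[X]) :
    fT r a (insert i ∅) P = (X - C (r i)) * derivative P - C (a i : k) * P := by
  rw [fT_insert r a (Finset.notMem_empty i), fT_apply]
  simp [fR, fS]

lemma fT_insert_empty_mem_degreeLT (i : Fin m) {P : k[X]} {n : ℕ} (hP : P ∈ degreeLT k n) :
    fT r a (insert i ∅) P ∈ degreeLT k n := by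
  rw [mem_degreeLT, degree_lt_iff_coeff_zero] at hP ⊢
  intro j hj
  rw [fT_insert_empty, coeff_sub, coeff_C_mul, hP j hj, mul_zero, sub_zero, sub_mul, coeff_sub,
    coeff_C_mul, coeff_derivative, hP (j + 1) (by omega), zero_mul, mul_zero, sub_zero]
  rcases j with _ | j
  · simp
  · rw [coeff_X_mul, coeff_derivative, hP (j + 1) hj, zero_mul]

lemma fT_insert_empty_injOn [CharZero k] (i : Fin m) {P : k[X]} (hP : P ∈ degreeLT k (a i))
    (h0 : fT r a (insert i ∅) P = 0) : P = 0 := by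
  by_contra hne
  rw [mem_degreeLT] at hP
  have hnd : ¬ (X - C (r i)) ^ (a i) ∣ P := by
    intro hd
    have := degree_le_of_dvd hd hne
    rw [degree_pow, degree_X_sub_C, nsmul_one] at this
    exact absurd (this.trans_lt hP) (lt_irrefl _)
  have := marked_dvd r a (Finset.notMem_empty i) (by simp) (G := P) (n := a i)
    (fun h => absurd h hnd) (by rw [h0]; exact dvd_zero _)
  exact hnd this

instance (n : ℕ) : Module.Finite k (degreeLT k n) := Module.Finite.of_basis (degreeLT.basis k n)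

lemma fT_insert_empty_surjOn [CharZero k] (i : Fin m) {p : k[X]} (hp : p ∈ degreeLT k (a i)) :
    ∃ P ∈ degreeLT k (a i), fT r a (insert i ∅) P = p := by
  let f : degreeLT k (a i) →ₗ[k] degreeLT k (a i) :=
    (fT r a (insert i ∅)).restrict fun P hP => fT_insert_empty_mem_degreeLT r a i hP
  have hinj : Function.Injective f := by
    rw [injective_iff_map_eq_zero]
    intro P hP
    have : fT r a (insert i ∅) P.1 = 0 := congrArg Subtype.val hP
    exact Subtype.ext (fT_insert_empty_injOn r a i P.2 this)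
  obtain ⟨P, hP⟩ := (LinearMap.injective_iff_surjective.mp hinj) ⟨p, hp⟩
  exact ⟨P.1, P.2, congrArg Subtype.val hP⟩

/-! ### The space `V_{b'}` and the inclusion `V_{b'} ⊆ T (k[X]_{≤ s + b'})` -/

/-- The space `V_{b'} = D·k[X]_{<b'} + ∑ D_i·k[X]_{<a_i}`. -/
noncomputable def Vsp (b' : ℕ) : Submodule k k[X] :=
  (degreeLT k b').map (LinearMap.mulLeft k (fD r a Finset.univ)) ⊔
    ⨆ i, (degreeLT k (a i)).map (LinearMap.mulLeft k (fD r a (Finset.univ.erase i)))

lemma univ_eq_insert (i : Fin m) : (Finset.univ : Finset (Fin m)) = insert i (Finset.univ.erase i) :=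
  (Finset.insert_erase (Finset.mem_univ i)).symm

lemma sum_erase_add (i : Fin m) : ∑ j ∈ Finset.univ.erase i, a j + a i = ∑ j, a j := by
  rw [add_comm]
  exact Finset.add_sum_erase _ _ (Finset.mem_univ i)

/-- `T (E_i P) = D_i τ_i(P)` -/
lemma fT_univ_fE_erase_mul (i : Fin m) (P : k[X]) :
    fT r a Finset.univ (fE r a (Finset.univ.erase i) * P)
      = fD r a (Finset.univ.erase i) * fT r a (insert i ∅) P := by
  have h := fT_insert_fE_mul r a (Finset.notMem_erase i Finset.univ) P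
  rw [← univ_eq_insert i] at h
  rw [h, fT_insert_empty]

lemma Vsp_le [CharZero k] (b' : ℕ) :
    Vsp r a b' ≤ (degreeLT k (∑ j, a j + b' + 1)).map (fT r a Finset.univ) := by
  classical
  refine sup_le ?_ (iSup_le fun i => ?_)
  · rw [degreeLT_eq_span_X_pow, Submodule.map_span, Submodule.span_le]
    rintro _ ⟨_, hx, rfl⟩
    simp only [Finset.coe_image, Finset.coe_range, Set.mem_image, Set.mem_Iio] at hx
    obtain ⟨l, hl, rfl⟩ := hx
    refine ⟨fE r a Finset.univ * (C ((l + 1 : ℕ) : k)⁻¹ * X ^ (l + 1)), ?_, ?_⟩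
    · rw [SetLike.mem_coe, add_assoc]
      refine mul_mem_degreeLT (natDegree_fE r a _).le ?_
      rw [mem_degreeLT]
      refine (degree_C_mul_X_pow_le _ _).trans_lt ?_
      exact_mod_cast (by omega : l + 1 < b' + 1)
    · rw [fT_fE_mul, LinearMap.mulLeft_apply, derivative_C_mul_X_pow]
      congr 1
      rw [Nat.add_sub_cancel,
        inv_mul_cancel₀ (Nat.cast_ne_zero.mpr (Nat.succ_ne_zero l)), C_1, one_mul]
  · rintro _ ⟨p, hp, rfl⟩
    obtain ⟨P, hP, rfl⟩ := fT_insert_empty_surjOn r a i hp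
    refine ⟨fE r a (Finset.univ.erase i) * P, ?_, ?_⟩
    · have h1 := mul_mem_degreeLT (natDegree_fE r a (Finset.univ.erase i)).le hP
      rw [sum_erase_add] at h1
      exact degreeLT_mono (by omega) h1
    · rw [fT_univ_fE_erase_mul, LinearMap.mulLeft_apply]

lemma fE_mem_degreeLT (b' : ℕ) : fE r a Finset.univ ∈ degreeLT k (∑ j, a j + b' + 1) := by
  rw [mem_degreeLT]
  refine degree_le_natDegree.trans_lt ?_
  rw [natDegree_fE]
  exact_mod_cast (by omega : ∑ j, a j < ∑ j, a j + b' + 1)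

lemma fT_sub_smul_fE (s : Finset (Fin m)) (G : k[X]) (c : k) :
    fT r a s (G - c • fE r a s) = fT r a s G := by
  rw [map_sub, map_smul, fT_fE, smul_zero, sub_zero]

/-- Members of `V_{b'}` divisible by `(X - q)^n` (`q` unmarked) come from `G` divisible by
`(X - q)^(n+1)`. -/
lemma exists_of_mem_Vsp_unmarked [CharZero k] {b' : ℕ} {q : k} (hq : ∀ j, q ≠ r j) {h : k[X]}
    (hh : h ∈ Vsp r a b') {n : ℕ} (hdvd : (X - C q) ^ n ∣ h) :
    ∃ G ∈ degreeLT k (∑ j, a j + b' + 1), (X - C q) ^ (n + 1) ∣ G ∧ fT r a Finset.univ G = h := by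
  obtain ⟨G, hG, rfl⟩ := Vsp_le r a b' hh
  obtain ⟨c, hc⟩ := exists_normalize_unmarked r a (s := Finset.univ) (fun j _ => hq j) G
  refine ⟨G - c • fE r a Finset.univ,
    Submodule.sub_mem _ hG (Submodule.smul_mem _ _ (fE_mem_degreeLT r a b')), ?_,
    fT_sub_smul_fE r a _ G c⟩
  apply unmarked_dvd r a (fun j _ => hq j) hc
  rwa [fT_sub_smul_fE]

lemma eq_zero_of_pow_dvd_of_mem_degreeLT {G : k[X]} {q : k} {n : ℕ} (hG : G ∈ degreeLT k n)
    (hdvd : (X - C q) ^ n ∣ G) : G = 0 := by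
  by_contra hne
  rw [mem_degreeLT] at hG
  have := degree_le_of_dvd hdvd hne
  rw [degree_pow, degree_X_sub_C, nsmul_one] at this
  exact absurd (this.trans_lt hG) (lt_irrefl _)

/-- No ramification of `V_{b'}` at unmarked points. -/
lemma Vsp_inf_unmarked_eq_bot [CharZero k] {b' : ℕ} {q : k} (hq : ∀ j, q ≠ r j) :
    Vsp r a b' ⊓ (Ideal.span {(X - C q) ^ (∑ j, a j + b')}).restrictScalars k = ⊥ := by
  rw [eq_bot_iff]
  rintro h ⟨hh, hd⟩
  rw [SetLike.mem_coe, Submodule.restrictScalars_mem, Ideal.mem_span_singleton] at hd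
  obtain ⟨G, hG, hGd, rfl⟩ := exists_of_mem_Vsp_unmarked r a hq hh hd
  rw [eq_zero_of_pow_dvd_of_mem_degreeLT hG hGd, map_zero]
  exact Submodule.zero_mem _

end Groth.Agent.Lib.Helper87.Wronsk
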