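import Groth.Agent.Lib.Helper87.Wronsk

/-!
# Helper library for the `W4c4effdivwronsk2` family, part 2

Partial fractions: `V_{b'} = T (k[X]_{≤ s + b'})`, dimension counts.
-/

set_option autoImplicit false

namespace Groth.Agent.Lib.Helper87.Wronsk

open Polynomial

variable {k : Type*} [Field k] {m : ℕ} (r : Fin m → k) (a : Fin m → ℕ)

/-! ### General linear algebra helpers -/

lemma finrank_map_of_injOn {M M' : Type*} [AddCommGroup M] [Module k M] [AddCommGroup M']
    [Module k M'] (f : M →ₗ[k] M') (Z : Submodule k M) (h : ∀ x ∈ Z, f x = 0 → x = 0) :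
    Module.finrank k (Z.map f) = Module.finrank k Z := by
  have hinj : Function.Injective (f.domRestrict Z) := by
    rw [injective_iff_map_eq_zero]
    intro x hx
    exact Subtype.ext (h x.1 x.2 hx)
  have hr : LinearMap.range (f.domRestrict Z) = Z.map f := by
    ext y
    simp only [LinearMap.mem_range, Submodule.mem_map, LinearMap.domRestrict_apply, Subtype.exists,
      exists_prop]
  rw [← hr]
  exact LinearMap.finrank_range_of_inj hinj

lemma finrank_degreeLT (n : ℕ) : Module.finrank k (degreeLT k n) = n := by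
  rw [LinearEquiv.finrank_eq (degreeLTEquiv k n), Module.finrank_fin_fun]

/-- `k[X]_{<M} ∩ ((X-q)^t) = (X-q)^t · k[X]_{<M-t}`. -/
lemma degreeLT_inf_span_eq (M t : ℕ) (q : k) :
    degreeLT k M ⊓ (Ideal.span {(X - C q) ^ t}).restrictScalars k
      = (degreeLT k (M - t)).map (LinearMap.mulLeft k ((X - C q) ^ t)) := by
  ext G
  simp only [Submodule.mem_inf, Submodule.restrictScalars_mem, Ideal.mem_span_singleton,
    Submodule.mem_map, LinearMap.mulLeft_apply]
  constructor
  · rintro ⟨hG, P, rfl⟩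
    refine ⟨P, ?_, rfl⟩
    by_cases hP : P = 0
    · simp [hP]
    rw [mem_degreeLT] at hG ⊢
    have hne : (X - C q) ^ t * P ≠ 0 := mul_ne_zero (pow_ne_zero _ (X_sub_C_ne_zero q)) hP
    have h1 : ((X - C q) ^ t * P).natDegree < M := (natDegree_lt_iff_degree_lt hne).mpr hG
    rw [natDegree_mul (pow_ne_zero _ (X_sub_C_ne_zero q)) hP, natDegree_pow, natDegree_X_sub_C,
      mul_one] at h1
    refine degree_le_natDegree.trans_lt ?_
    exact_mod_cast (by omega : P.natDegree < M - t)
  · rintro ⟨P, hP, rfl⟩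
    refine ⟨?_, P, rfl⟩
    by_cases hP0 : P = 0
    · simp [hP0]
    have hMt : 0 < M - t := by
      by_contra h0
      have : M - t = 0 := by omega
      rw [this, degreeLT, Submodule.mem_iInf] at hP
      simp only [Submodule.mem_iInf, LinearMap.mem_ker] at hP
      exact hP0 (by ext j; simpa using hP j (by omega))
    have h2 := mul_mem_degreeLT (A := (X - C q) ^ t) (n := t) (by
      rw [natDegree_pow, natDegree_X_sub_C, mul_one]) hP
    have : t + (M - t) = M := by omega
    rwa [this] at h2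

lemma finrank_degreeLT_inf_span (M t : ℕ) (q : k) :
    Module.finrank k ↥(degreeLT k M ⊓ (Ideal.span {(X - C q) ^ t}).restrictScalars k) = M - t := by
  rw [degreeLT_inf_span_eq, finrank_map_of_injOn, finrank_degreeLT]
  intro x _ hx
  rw [LinearMap.mulLeft_apply] at hx
  exact (mul_eq_zero.mp hx).resolve_left (pow_ne_zero _ (X_sub_C_ne_zero q))

/-! ### Partial fractions: `T (k[X]_{≤ s+b'}) ⊆ V_{b'}` -/

lemma fD_mul_mem_Vsp {b' : ℕ} {p : k[X]} (hp : p ∈ degreeLT k b') :
    fD r a Finset.univ * p ∈ Vsp r a b' :=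
  Submodule.mem_sup_left ⟨p, hp, rfl⟩

lemma fD_erase_mul_mem_Vsp {b' : ℕ} (i : Fin m) {p : k[X]} (hp : p ∈ degreeLT k (a i)) :
    fD r a (Finset.univ.erase i) * p ∈ Vsp r a b' :=
  Submodule.mem_sup_right (Submodule.mem_iSup_of_mem i ⟨p, hp, rfl⟩)

lemma Vsp_ge (hr : Function.Injective r) (b' : ℕ) :
    (degreeLT k (∑ j, a j + b' + 1)).map (fT r a Finset.univ) ≤ Vsp r a b' := by
  classical
  rintro _ ⟨G, hG, rfl⟩
  have hmonic : ∀ i ∈ (Finset.univ : Finset (Fin m)), ((X - C (r i)) ^ (a i)).Monic :=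
    fun i _ => (monic_X_sub_C (r i)).pow _
  have hcop : Set.Pairwise (↑(Finset.univ : Finset (Fin m)))
      fun i j => IsCoprime ((X - C (r i)) ^ (a i)) ((X - C (r j)) ^ (a j)) := by
    intro i _ j _ hij
    exact (pairwise_coprime_X_sub_C hr hij).pow
  obtain ⟨q, p, hp, hGeq⟩ := eq_quo_mul_prod_add_sum_rem_mul_prod G hmonic hcop
  have hp' : ∀ i, p i ∈ degreeLT k (a i) := by
    intro i
    have := hp i (Finset.mem_univ i)
    rw [degree_pow, degree_X_sub_C, nsmul_one] at this
    exact mem_degreeLT.mpr this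
  change G = q * fE r a Finset.univ + ∑ i, p i * fE r a (Finset.univ.erase i) at hGeq
  -- the sum part lies in degreeLT s
  have hsum : ∑ i, p i * fE r a (Finset.univ.erase i) ∈ degreeLT k (∑ j, a j + b' + 1) := by
    refine Submodule.sum_mem _ fun i _ => ?_
    have h1 := mul_mem_degreeLT (natDegree_fE r a (Finset.univ.erase i)).le (hp' i)
    rw [sum_erase_add] at h1
    rw [mul_comm]
    exact degreeLT_mono (by omega) h1
  have hqE : q * fE r a Finset.univ ∈ degreeLT k (∑ j, a j + b' + 1) := by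
    have : q * fE r a Finset.univ = G - ∑ i, p i * fE r a (Finset.univ.erase i) := by
      rw [hGeq]; ring
    rw [this]
    exact Submodule.sub_mem _ hG hsum
  have hq' : derivative q ∈ degreeLT k b' := by
    by_cases hq0 : q = 0
    · simp [hq0]
    rw [mem_degreeLT] at hqE ⊢
    have hne : q * fE r a Finset.univ ≠ 0 := mul_ne_zero hq0 (fE_ne_zero r a _)
    have h1 : (q * fE r a Finset.univ).natDegree < ∑ j, a j + b' + 1 :=
      (natDegree_lt_iff_degree_lt hne).mpr hqE
    rw [natDegree_mul hq0 (fE_ne_zero r a _), natDegree_fE] at h1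
    have h2 : q.natDegree ≤ b' := by omega
    by_cases hq1 : q.natDegree = 0
    · rw [eq_C_of_natDegree_eq_zero hq1, derivative_C, degree_zero]
      exact WithBot.bot_lt_coe _
    · refine degree_le_natDegree.trans_lt ?_
      have := natDegree_derivative_lt hq1
      exact_mod_cast (by omega : (derivative q).natDegree < b')
  rw [hGeq, map_add, map_sum]
  refine Submodule.add_mem _ ?_ (Submodule.sum_mem _ fun i _ => ?_)
  · rw [mul_comm, fT_fE_mul]
    exact fD_mul_mem_Vsp r a hq'
  · rw [mul_comm, fT_univ_fE_erase_mul]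
    exact fD_erase_mul_mem_Vsp r a i (fT_insert_empty_mem_degreeLT r a i (hp' i))

lemma Vsp_eq [CharZero k] (hr : Function.Injective r) (b' : ℕ) :
    Vsp r a b' = (degreeLT k (∑ j, a j + b' + 1)).map (fT r a Finset.univ) :=
  le_antisymm (Vsp_le r a b') (Vsp_ge r a hr b')

/-! ### Unmarked points: exact description and dimension -/

lemma fT_injOn_unmarked [CharZero k] {s : Finset (Fin m)} {q : k} (hq : ∀ j ∈ s, q ≠ r j)
    {G : k[X]} (hd : (X - C q) ∣ G) (h0 : fT r a s G = 0) : G = 0 := by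
  have h1 : (X - C q) ^ (G.natDegree + 1) ∣ G :=
    unmarked_dvd r a hq (dvd_iff_isRoot.mp hd) (by rw [h0]; exact dvd_zero _)
  refine eq_zero_of_pow_dvd_of_mem_degreeLT ?_ h1
  rw [mem_degreeLT]
  exact degree_le_natDegree.trans_lt (by exact_mod_cast Nat.lt_succ_self _)

lemma mem_span_pow_iff {q : k} {n : ℕ} {h : k[X]} :
    h ∈ (Ideal.span {(X - C q) ^ n}).restrictScalars k ↔ (X - C q) ^ n ∣ h := by
  rw [Submodule.restrictScalars_mem, Ideal.mem_span_singleton]

lemma Vsp_inf_unmarked_eq_map [CharZero k] (hr : Function.Injective r) {b' : ℕ} {q : k}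
    (hq : ∀ j, q ≠ r j) (n : ℕ) :
    Vsp r a b' ⊓ (Ideal.span {(X - C q) ^ n}).restrictScalars k
      = (degreeLT k (∑ j, a j + b' + 1) ⊓
          (Ideal.span {(X - C q) ^ (n + 1)}).restrictScalars k).map (fT r a Finset.univ) := by
  apply le_antisymm
  · rintro h ⟨hh, hd⟩
    rw [SetLike.mem_coe, mem_span_pow_iff] at hd
    obtain ⟨G, hG, hGd, rfl⟩ := exists_of_mem_Vsp_unmarked r a hq hh hd
    exact ⟨G, ⟨hG, mem_span_pow_iff.mpr hGd⟩, rfl⟩
  · rintro _ ⟨G, ⟨hG, hGd⟩, rfl⟩
    rw [SetLike.mem_coe, mem_span_pow_iff] at hGd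
    exact ⟨Vsp_ge r a hr b' ⟨G, hG, rfl⟩, mem_span_pow_iff.mpr (dvd_fT_of_dvd r a _ q hGd)⟩

lemma finrank_Vsp_inf_unmarked [CharZero k] (hr : Function.Injective r) {b' : ℕ} {q : k}
    (hq : ∀ j, q ≠ r j) (n : ℕ) :
    Module.finrank k ↥(Vsp r a b' ⊓ (Ideal.span {(X - C q) ^ n}).restrictScalars k)
      = ∑ j, a j + b' - n := by
  rw [Vsp_inf_unmarked_eq_map r a hr hq, finrank_map_of_injOn, finrank_degreeLT_inf_span]
  · omega
  · rintro G ⟨_, hGd⟩ h0
    rw [SetLike.mem_coe, mem_span_pow_iff] at hGd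
    exact fT_injOn_unmarked r a (fun j _ => hq j) ((dvd_pow_self _ (Nat.succ_ne_zero n)).trans hGd) h0

end Groth.Agent.Lib.Helper87.Wronsk
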