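import Groth.Agent.Lib.Helper87.Wronsk2

/-!
# Helper library for the `W4c4effdivwronsk2` family, part 3

The system `V(-p)` for an unmarked point `p`: ramification off the marked points.
-/

set_option autoImplicit false

namespace Groth.Agent.Lib.Helper87.Wronsk

open Polynomial

variable {k : Type*} [Field k] {m : ℕ} (r : Fin m → k) (a : Fin m → ℕ)

lemma pow_mem_degreeLT (q : k) {n M : ℕ} (h : n < M) : (X - C q) ^ n ∈ degreeLT k M := by
  rw [mem_degreeLT, degree_pow, degree_X_sub_C, nsmul_one]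
  exact_mod_cast h

/-- For `p ≠ q` with `p` unmarked, `X - p` cannot divide both `T ((X-q)^n)` and
`T ((X-q)^(n+1))`. -/
lemma not_dvd_both {s : Finset (Fin m)} {p q : k} (hp : ∀ j ∈ s, p ≠ r j) (hpq : q ≠ p) (n : ℕ)
    (h1 : (X - C p) ∣ fT r a s ((X - C q) ^ n))
    (h2 : (X - C p) ∣ fT r a s ((X - C q) ^ (n + 1))) : False := by
  rw [pow_succ', fT_mul, derivative_X_sub_C, mul_one] at h2
  have h3 : (X - C p) ∣ fR r s * (X - C q) ^ n :=
    (dvd_add_left (Dvd.dvd.mul_left h1 _)).mp h2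
  rw [dvd_iff_isRoot, IsRoot.def, eval_mul, eval_pow, eval_sub, eval_X, eval_C] at h3
  rcases mul_eq_zero.mp h3 with h4 | h4
  · exact eval_fR_ne_zero r hp h4
  · exact hpq (sub_eq_zero.mp (eq_zero_of_pow_eq_zero h4)).symm

/-- `T ((X-q)^n)` lies in `V_{b'} ∩ ((X-q)^(n-1))` when `n ≤ s + b'`. -/
lemma fT_pow_mem [CharZero k] (hr : Function.Injective r) {b' : ℕ} (q : k) {n : ℕ}
    (hn : n ≤ ∑ j, a j + b') :
    fT r a Finset.univ ((X - C q) ^ n) ∈ Vsp r a b' :=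
  Vsp_ge r a hr b' ⟨_, pow_mem_degreeLT q (by omega), rfl⟩

lemma finrank_lt_of_le_of_not_mem {M : Type*} [AddCommGroup M] [Module k M]
    {Y Y₂ : Submodule k M} [Module.Finite k ↥Y₂] (hle : Y ≤ Y₂) {y : M} (hy : y ∈ Y₂)
    (hny : y ∉ Y) : Module.finrank k ↥Y < Module.finrank k ↥Y₂ :=
  Submodule.finrank_lt_finrank_of_lt (lt_of_le_of_ne hle fun h => hny (h ▸ hy))

/-- The hyperplane section `V(-p)` has at most a line of members divisible by `(X-q)^(N-2)`. -/
lemma finrank_hyperplane_inf_le_one [CharZero k] (hr : Function.Injective r) {b' : ℕ} {p q : k}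
    (hp : ∀ j, p ≠ r j) (hq : ∀ j, q ≠ r j) (hpq : q ≠ p) :
    Module.finrank k ↥((Vsp r a b' ⊓ (Ideal.span {X - C p}).restrictScalars k) ⊓
      (Ideal.span {(X - C q) ^ (∑ j, a j + b' - 2)}).restrictScalars k) ≤ 1 := by
  have hfin := finrank_Vsp_inf_unmarked r a hr (b' := b') hq (∑ j, a j + b' - 2)
  have hle : (Vsp r a b' ⊓ (Ideal.span {X - C p}).restrictScalars k) ⊓
      (Ideal.span {(X - C q) ^ (∑ j, a j + b' - 2)}).restrictScalars k ≤
      Vsp r a b' ⊓ (Ideal.span {(X - C q) ^ (∑ j, a j + b' - 2)}).restrictScalars k :=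
    inf_le_inf_right _ inf_le_left
  have hfinite : Module.Finite k ↥(Vsp r a b' ⊓
      (Ideal.span {(X - C q) ^ (∑ j, a j + b' - 2)}).restrictScalars k) := by
    rw [Vsp_inf_unmarked_eq_map r a hr hq]
    exact Module.Finite.map _ _
  rcases Nat.lt_or_ge (∑ j, a j + b') 2 with hN2 | hN2
  · exact (Submodule.finrank_mono hle).trans (by rw [hfin]; omega)
  · have hmem : ∀ n, ∑ j, a j + b' - 1 ≤ n → n ≤ ∑ j, a j + b' →
        fT r a Finset.univ ((X - C q) ^ n) ∈ Vsp r a b' ⊓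
          (Ideal.span {(X - C q) ^ (∑ j, a j + b' - 2)}).restrictScalars k := by
      intro n hn1 hn2
      refine ⟨fT_pow_mem r a hr q hn2, ?_⟩
      rw [SetLike.mem_coe, mem_span_pow_iff]
      apply dvd_fT_of_dvd
      exact pow_dvd_pow _ (by omega)
    have hN1 : ∑ j, a j + b' - 1 + 1 = ∑ j, a j + b' := by omega
    by_cases h1 : (X - C p) ∣ fT r a Finset.univ ((X - C q) ^ (∑ j, a j + b' - 1))
    · have h2 : ¬ (X - C p) ∣ fT r a Finset.univ ((X - C q) ^ (∑ j, a j + b')) := by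
        intro h2
        exact not_dvd_both r a (fun j _ => hp j) hpq _ h1 (hN1.symm ▸ h2)
      have := finrank_lt_of_le_of_not_mem hle (hmem _ (by omega) le_rfl) (fun hy => h2 (by
        have h3 := hy.1.2
        rwa [SetLike.mem_coe, Submodule.restrictScalars_mem, Ideal.mem_span_singleton] at h3))
      omega
    · have := finrank_lt_of_le_of_not_mem hle (hmem _ le_rfl (by omega)) (fun hy => h1 (by
        have h3 := hy.1.2
        rwa [SetLike.mem_coe, Submodule.restrictScalars_mem, Ideal.mem_span_singleton] at h3))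
      omega

/-- A nonzero member of `V_{b'}` divisible by `(X-q)^(N-1)` is a nonzero multiple of
`T ((X-q)^N)`. -/
lemma exists_smul_of_mem_Vsp_top_order [CharZero k] {b' : ℕ} (hN : 1 ≤ ∑ j, a j + b') {q : k}
    (hq : ∀ j, q ≠ r j) {h : k[X]} (hh : h ∈ Vsp r a b')
    (hd : (X - C q) ^ (∑ j, a j + b' - 1) ∣ h) :
    ∃ c : k, h = c • fT r a Finset.univ ((X - C q) ^ (∑ j, a j + b')) := by
  obtain ⟨G, hG, hGd, rfl⟩ := exists_of_mem_Vsp_unmarked r a hq hh hd
  have hN1 : ∑ j, a j + b' - 1 + 1 = ∑ j, a j + b' := by omega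
  rw [hN1] at hGd
  have hG2 : G ∈ degreeLT k (∑ j, a j + b' + 1) ⊓
      (Ideal.span {(X - C q) ^ (∑ j, a j + b')}).restrictScalars k :=
    ⟨hG, mem_span_pow_iff.mpr hGd⟩
  rw [degreeLT_inf_span_eq, Nat.add_sub_cancel_left] at hG2
  obtain ⟨P, hP, rfl⟩ := hG2
  rw [SetLike.mem_coe, mem_degreeLT] at hP
  have hP0 : P.degree ≤ 0 := Nat.WithBot.lt_one_iff_le_zero.mp (by exact_mod_cast hP)
  rw [eq_C_of_degree_le_zero hP0]
  refine ⟨P.coeff 0, ?_⟩
  rw [LinearMap.mulLeft_apply, mul_comm, ← smul_eq_C_mul, map_smul]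

lemma key_eq_of_ne_bot [CharZero k] {b' : ℕ} (hN : 1 ≤ ∑ j, a j + b') {p q : k}
    (hq : ∀ j, q ≠ r j) (hqp : q ≠ p)
    (hne : (Vsp r a b' ⊓ (Ideal.span {X - C p}).restrictScalars k) ⊓
      (Ideal.span {(X - C q) ^ (∑ j, a j + b' - 1)}).restrictScalars k ≠ ⊥) :
    ((∑ j, a j + b' : ℕ) : k) * eval p (fR r Finset.univ)
      + (p - q) * eval p (fT r a Finset.univ 1) = 0 := by
  obtain ⟨h, hmem, hne0⟩ := (Submodule.ne_bot_iff _).mp hne
  obtain ⟨⟨hV, hp1⟩, hq1⟩ := hmem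
  rw [SetLike.mem_coe, Submodule.restrictScalars_mem, Ideal.mem_span_singleton] at hp1
  rw [SetLike.mem_coe, mem_span_pow_iff] at hq1
  obtain ⟨c, rfl⟩ := exists_smul_of_mem_Vsp_top_order r a hN hq hV hq1
  have hc : c ≠ 0 := by
    rintro rfl
    exact hne0 (zero_smul _ _)
  rw [smul_eq_C_mul, (isUnit_C.mpr (IsUnit.mk0 c hc)).dvd_mul_left] at hp1
  obtain ⟨n, hn⟩ : ∃ n, ∑ j, a j + b' = n + 1 := ⟨∑ j, a j + b' - 1, by omega⟩
  rw [hn] at hp1 ⊢
  have h1 : (X - C q) ^ (n + 1) = (X - C q) ^ (n + 1) * 1 := (mul_one _).symm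
  rw [h1, fT_pow_mul, dvd_iff_isRoot, IsRoot.def, eval_mul, eval_pow, eval_sub, eval_X,
    eval_C, eval_add, eval_mul, eval_mul, eval_mul, eval_C, eval_one, mul_one, eval_sub, eval_X,
    eval_C] at hp1
  rcases mul_eq_zero.mp hp1 with h4 | h4
  · exact absurd (sub_eq_zero.mp (eq_zero_of_pow_eq_zero h4)).symm hqp
  · exact h4

/-- At most one unmarked `q ≠ p` carries a member of `V(-p)` divisible by `(X-q)^(N-1)`. -/
lemma hyperplane_ramification_unique [CharZero k] {b' : ℕ} (hN : 1 ≤ ∑ j, a j + b') {p q q' : k}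
    (hp : ∀ j, p ≠ r j) (hq : ∀ j, q ≠ r j) (hqp : q ≠ p) (hq' : ∀ j, q' ≠ r j) (hq'p : q' ≠ p)
    (hne : (Vsp r a b' ⊓ (Ideal.span {X - C p}).restrictScalars k) ⊓
      (Ideal.span {(X - C q) ^ (∑ j, a j + b' - 1)}).restrictScalars k ≠ ⊥)
    (hne' : (Vsp r a b' ⊓ (Ideal.span {X - C p}).restrictScalars k) ⊓
      (Ideal.span {(X - C q') ^ (∑ j, a j + b' - 1)}).restrictScalars k ≠ ⊥) :
    q = q' := by
  have e1 := key_eq_of_ne_bot r a hN hq hqp hne
  have e2 := key_eq_of_ne_bot r a hN hq' hq'p hne'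
  have e3 : (q' - q) * eval p (fT r a Finset.univ 1) = 0 := by linear_combination e1 - e2
  rcases mul_eq_zero.mp e3 with h | h
  · exact (sub_eq_zero.mp h).symm
  · rw [h, mul_zero, add_zero] at e1
    rcases mul_eq_zero.mp e1 with h5 | h5
    · exact absurd h5 (Nat.cast_ne_zero.mpr (by omega))
    · exact absurd h5 (eval_fR_ne_zero r fun j _ => hp j)

end Groth.Agent.Lib.Helper87.Wronsk
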