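import Groth.Agent.Lib.Helper87.Wronsk3

/-!
# Helper library for the `W4c4effdivwronsk2` family, part 4

Hyperplanes `V₁ ⊆ V` containing `V_{b-2}`.
-/

set_option autoImplicit false

namespace Groth.Agent.Lib.Helper87.Wronsk

open Polynomial

variable {k : Type*} [Field k] {m : ℕ} (r : Fin m → k) (a : Fin m → ℕ)

/-- Reduce the degree using a polynomial of exact degree `n`. -/
lemma exists_sub_smul_mem_degreeLT {n : ℕ} {P G : k[X]} (hPc : P.coeff n ≠ 0)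
    (hP : P ∈ degreeLT k (n + 1)) (hG : G ∈ degreeLT k (n + 1)) :
    ∃ c : k, G - c • P ∈ degreeLT k n := by
  refine ⟨G.coeff n / P.coeff n, ?_⟩
  rw [mem_degreeLT, degree_lt_iff_coeff_zero] at hP hG ⊢
  intro j hj
  rw [coeff_sub, coeff_smul, smul_eq_mul]
  rcases Nat.eq_or_lt_of_le hj with h | h
  · rw [← h, div_mul_cancel₀ _ hPc, sub_self]
  · rw [hP j (by omega), hG j (by omega), mul_zero, sub_zero]

instance Vsp_finite [CharZero k] (b' : ℕ) : Module.Finite k ↥(Vsp r a b') := by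
  have : Module.Finite k ↥((degreeLT k (∑ j, a j + b' + 1)).map (fT r a Finset.univ)) :=
    Module.Finite.map _ _
  exact Submodule.finiteDimensional_of_le (Vsp_le r a b')

lemma finrank_Vsp [CharZero k] (hr : Function.Injective r) (b' : ℕ) :
    Module.finrank k ↥(Vsp r a b') = ∑ j, a j + b' := by
  classical
  obtain ⟨q, hq⟩ : ∃ q : k, ∀ j, q ≠ r j := by
    obtain ⟨q, hq⟩ := Infinite.exists_notMem_finset (Finset.univ.image r)
    exact ⟨q, fun j h => hq (h ▸ Finset.mem_image_of_mem r (Finset.mem_univ j))⟩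
  have := finrank_Vsp_inf_unmarked r a hr (b' := b') hq 0
  rw [pow_zero, Ideal.span_singleton_one] at this
  have h2 : Vsp r a b' ⊓ Submodule.restrictScalars k (⊤ : Ideal k[X]) = Vsp r a b' := by
    rw [Submodule.restrictScalars_top, inf_top_eq]
  rw [h2] at this
  rw [this, Nat.sub_zero]

/-- If a subspace `V₁` contains `V_{b-2}` and the images of two polynomials of exact degrees
`N - 1` and `N`, then it contains `V_b`. -/
lemma Vsp_le_of_mem [CharZero k] (hr : Function.Injective r) {b : ℕ} (hb : 1 ≤ b)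
    (V₁ : Submodule k k[X]) (hU : Vsp r a (b - 2) ≤ V₁) {P₁ P₂ : k[X]}
    (hP₁ : P₁ ∈ degreeLT k (∑ j, a j + b)) (hP₁c : P₁.coeff (∑ j, a j + b - 1) ≠ 0)
    (hP₂ : P₂ ∈ degreeLT k (∑ j, a j + b + 1)) (hP₂c : P₂.coeff (∑ j, a j + b) ≠ 0)
    (h₁ : fT r a Finset.univ P₁ ∈ V₁) (h₂ : fT r a Finset.univ P₂ ∈ V₁) :
    Vsp r a b ≤ V₁ := by
  refine (Vsp_le r a b).trans ?_
  rintro _ ⟨G, hG, rfl⟩
  obtain ⟨c₂, hc₂⟩ := exists_sub_smul_mem_degreeLT hP₂c hP₂ hG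
  have hN1 : ∑ j, a j + b - 1 + 1 = ∑ j, a j + b := by omega
  rw [← hN1] at hP₁ hc₂
  obtain ⟨c₁, hc₁⟩ := exists_sub_smul_mem_degreeLT hP₁c hP₁ hc₂
  have h3 : fT r a Finset.univ (G - c₂ • P₂ - c₁ • P₁) ∈ V₁ := by
    apply hU
    apply Vsp_ge r a hr
    exact ⟨_, degreeLT_mono (by omega) hc₁, rfl⟩
  have h4 : G = (G - c₂ • P₂ - c₁ • P₁) + c₂ • P₂ + c₁ • P₁ := by abel
  rw [h4, map_add, map_add, map_smul, map_smul]
  exact V₁.add_mem (V₁.add_mem h3 (V₁.smul_mem _ h₂)) (V₁.smul_mem _ h₁)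

lemma coeff_X_sub_C_pow_self (q : k) (n : ℕ) : ((X - C q) ^ n).coeff n = 1 := by
  have h := ((monic_X_sub_C q).pow n).coeff_natDegree
  rwa [natDegree_pow, natDegree_X_sub_C, mul_one] at h

lemma coeff_X_sub_C_pow_pred (q : k) (n : ℕ) :
    ((X - C q) ^ (n + 1)).coeff n = -q * ((n + 1 : ℕ) : k) := by
  have h := coeff_X_add_C_pow (-q) (n + 1) n
  rw [C_neg, ← sub_eq_add_neg, Nat.add_sub_cancel_left, pow_one, Nat.choose_succ_self_right] at h
  exact h

/-- A hyperplane `V₁` of `V_b` containing `V_{b-2}` cannot contain the images of two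
polynomials of exact degrees `N - 1` and `N`. -/
lemma not_both_mem_hyperplane [CharZero k] (hr : Function.Injective r) {b : ℕ} (hb : 1 ≤ b)
    (V₁ : Submodule k k[X]) (hV₁ : V₁ ≤ Vsp r a b)
    (hfin : Module.finrank k ↥V₁ + 1 = ∑ j, a j + b) (hU : Vsp r a (b - 2) ≤ V₁) {P₁ P₂ : k[X]}
    (hP₁ : P₁ ∈ degreeLT k (∑ j, a j + b)) (hP₁c : P₁.coeff (∑ j, a j + b - 1) ≠ 0)
    (hP₂ : P₂ ∈ degreeLT k (∑ j, a j + b + 1)) (hP₂c : P₂.coeff (∑ j, a j + b) ≠ 0)
    (h₁ : fT r a Finset.univ P₁ ∈ V₁) (h₂ : fT r a Finset.univ P₂ ∈ V₁) : False := by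
  have h := Vsp_le_of_mem r a hr hb V₁ hU hP₁ hP₁c hP₂ hP₂c h₁ h₂
  have heq : V₁ = Vsp r a b := le_antisymm hV₁ h
  rw [heq, finrank_Vsp r a hr] at hfin
  omega

/-- (A) at most a line of members of the hyperplane is divisible by `(X-q)^(N-2)`. -/
lemma finrank_hyperplane2_inf_le_one [CharZero k] (hr : Function.Injective r) {b : ℕ}
    (hb : 1 ≤ b) (V₁ : Submodule k k[X]) (hV₁ : V₁ ≤ Vsp r a b)
    (hfin : Module.finrank k ↥V₁ + 1 = ∑ j, a j + b) (hU : Vsp r a (b - 2) ≤ V₁) {q : k}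
    (hq : ∀ j, q ≠ r j) :
    Module.finrank k ↥(V₁ ⊓
      (Ideal.span {(X - C q) ^ (∑ j, a j + b - 2)}).restrictScalars k) ≤ 1 := by
  have hV₁fin : Module.Finite k ↥V₁ := Submodule.finiteDimensional_of_le hV₁
  rcases Nat.lt_or_ge (∑ j, a j + b) 2 with hN2 | hN2
  · have := Submodule.finrank_mono (inf_le_left : V₁ ⊓
      (Ideal.span {(X - C q) ^ (∑ j, a j + b - 2)}).restrictScalars k ≤ V₁)
    omega
  have hfin2 := finrank_Vsp_inf_unmarked r a hr (b' := b) hq (∑ j, a j + b - 2)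
  have hle : V₁ ⊓ (Ideal.span {(X - C q) ^ (∑ j, a j + b - 2)}).restrictScalars k ≤
      Vsp r a b ⊓ (Ideal.span {(X - C q) ^ (∑ j, a j + b - 2)}).restrictScalars k :=
    inf_le_inf_right _ hV₁
  have hfinite : Module.Finite k ↥(Vsp r a b ⊓
      (Ideal.span {(X - C q) ^ (∑ j, a j + b - 2)}).restrictScalars k) :=
    Submodule.finiteDimensional_of_le inf_le_left
  have hmem : ∀ n, ∑ j, a j + b - 1 ≤ n → n ≤ ∑ j, a j + b →
      fT r a Finset.univ ((X - C q) ^ n) ∈ Vsp r a b ⊓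
        (Ideal.span {(X - C q) ^ (∑ j, a j + b - 2)}).restrictScalars k := by
    intro n hn1 hn2
    refine ⟨fT_pow_mem r a hr q hn2, ?_⟩
    rw [SetLike.mem_coe, mem_span_pow_iff]
    apply dvd_fT_of_dvd
    exact pow_dvd_pow _ (by omega)
  have hN1 : ∑ j, a j + b - 1 + 1 = ∑ j, a j + b := by omega
  by_cases h1 : fT r a Finset.univ ((X - C q) ^ (∑ j, a j + b - 1)) ∈ V₁
  · have h2 : fT r a Finset.univ ((X - C q) ^ (∑ j, a j + b)) ∉ V₁ := by
      intro h2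
      refine not_both_mem_hyperplane r a hr hb V₁ hV₁ hfin hU
        (P₁ := (X - C q) ^ (∑ j, a j + b - 1)) (P₂ := (X - C q) ^ (∑ j, a j + b))
        (pow_mem_degreeLT q (by omega)) ?_ (pow_mem_degreeLT q (by omega)) ?_ h1 h2
      · rw [coeff_X_sub_C_pow_self]; exact one_ne_zero
      · rw [coeff_X_sub_C_pow_self]; exact one_ne_zero
    have := finrank_lt_of_le_of_not_mem hle (hmem _ (by omega) le_rfl) (fun hy => h2 hy.1)
    omega
  · have := finrank_lt_of_le_of_not_mem hle (hmem _ le_rfl (by omega)) (fun hy => h1 hy.1)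
    omega

/-- (B) at most one unmarked point carries a member of the hyperplane divisible by
`(X-q)^(N-1)`. -/
lemma hyperplane2_ramification_unique [CharZero k] (hr : Function.Injective r) {b : ℕ}
    (hb : 1 ≤ b) (V₁ : Submodule k k[X]) (hV₁ : V₁ ≤ Vsp r a b)
    (hfin : Module.finrank k ↥V₁ + 1 = ∑ j, a j + b) (hU : Vsp r a (b - 2) ≤ V₁) {q q' : k}
    (hq : ∀ j, q ≠ r j) (hq' : ∀ j, q' ≠ r j)
    (hne : V₁ ⊓ (Ideal.span {(X - C q) ^ (∑ j, a j + b - 1)}).restrictScalars k ≠ ⊥)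
    (hne' : V₁ ⊓ (Ideal.span {(X - C q') ^ (∑ j, a j + b - 1)}).restrictScalars k ≠ ⊥) :
    q = q' := by
  have hN : 1 ≤ ∑ j, a j + b := by omega
  have key : ∀ q₀ : k, (∀ j, q₀ ≠ r j) →
      V₁ ⊓ (Ideal.span {(X - C q₀) ^ (∑ j, a j + b - 1)}).restrictScalars k ≠ ⊥ →
      fT r a Finset.univ ((X - C q₀) ^ (∑ j, a j + b)) ∈ V₁ := by
    intro q₀ hq₀ hne₀
    obtain ⟨h, ⟨hV, hd⟩, hne0⟩ := (Submodule.ne_bot_iff _).mp hne₀
    rw [SetLike.mem_coe, mem_span_pow_iff] at hd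
    obtain ⟨c, rfl⟩ := exists_smul_of_mem_Vsp_top_order r a hN hq₀ (hV₁ hV) hd
    have hc : c ≠ 0 := by
      rintro rfl
      exact hne0 (zero_smul _ _)
    have := V₁.smul_mem c⁻¹ hV
    rwa [smul_smul, inv_mul_cancel₀ hc, one_smul] at this
  by_contra hqq
  have h2 := key q hq hne
  have h2' := key q' hq' hne'
  obtain ⟨n, hn⟩ : ∃ n, ∑ j, a j + b = n + 1 := ⟨∑ j, a j + b - 1, by omega⟩
  refine not_both_mem_hyperplane r a hr hb V₁ hV₁ hfin hU
    (P₁ := (X - C q) ^ (∑ j, a j + b) - (X - C q') ^ (∑ j, a j + b))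
    (P₂ := (X - C q) ^ (∑ j, a j + b)) ?_ ?_ (pow_mem_degreeLT q (by omega)) ?_ ?_ h2
  · rw [mem_degreeLT, degree_lt_iff_coeff_zero]
    intro j hj
    rw [coeff_sub]
    rcases Nat.eq_or_lt_of_le hj with h | h
    · rw [← h, coeff_X_sub_C_pow_self, coeff_X_sub_C_pow_self, sub_self]
    · have d1 : ((X - C q) ^ (∑ j, a j + b)).degree < (j : WithBot ℕ) := by
        rw [degree_pow, degree_X_sub_C, nsmul_one]; exact_mod_cast h
      have d2 : ((X - C q') ^ (∑ j, a j + b)).degree < (j : WithBot ℕ) := by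
        rw [degree_pow, degree_X_sub_C, nsmul_one]; exact_mod_cast h
      rw [coeff_eq_zero_of_degree_lt d1, coeff_eq_zero_of_degree_lt d2, sub_self]
  · rw [hn, Nat.add_sub_cancel, coeff_sub, coeff_X_sub_C_pow_pred, coeff_X_sub_C_pow_pred]
    have h3 : -q * ((n + 1 : ℕ) : k) - -q' * ((n + 1 : ℕ) : k) = (q' - q) * ((n + 1 : ℕ) : k) := by
      ring
    rw [h3]
    exact mul_ne_zero (sub_ne_zero.mpr (Ne.symm hqq)) (Nat.cast_ne_zero.mpr (Nat.succ_ne_zero n))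
  · rw [coeff_X_sub_C_pow_self]; exact one_ne_zero
  · rw [map_sub]
    exact V₁.sub_mem h2 h2'

end Groth.Agent.Lib.Helper87.Wronsk
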