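import Groth.Agent.Lib.Helper87.Wronsk4

/-!
# Helper library for the `W4c4effdivwronsk2` family, part 5

Kernel of `T`, dimension of images, marked points.
-/

set_option autoImplicit false

namespace Groth.Agent.Lib.Helper87.Wronsk

open Polynomial

variable {k : Type*} [Field k] {m : ℕ} (r : Fin m → k) (a : Fin m → ℕ)

lemma exists_unmarked [CharZero k] : ∃ q : k, ∀ j, q ≠ r j := by
  classical
  obtain ⟨q, hq⟩ := Infinite.exists_notMem_finset (Finset.univ.image r)
  exact ⟨q, fun j h => hq (h ▸ Finset.mem_image_of_mem r (Finset.mem_univ j))⟩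

/-- The kernel of `T` is spanned by `E`. -/
lemma fT_eq_zero_iff [CharZero k] {G : k[X]} :
    fT r a Finset.univ G = 0 ↔ ∃ c : k, G = c • fE r a Finset.univ := by
  constructor
  · intro h0
    obtain ⟨q, hq⟩ := exists_unmarked r
    obtain ⟨c, hc⟩ := exists_normalize_unmarked r a (s := Finset.univ) (fun j _ => hq j) G
    refine ⟨c, ?_⟩
    have h1 : fT r a Finset.univ (G - c • fE r a Finset.univ) = 0 := by
      rw [fT_sub_smul_fE, h0]
    have := fT_injOn_unmarked r a (s := Finset.univ) (fun j _ => hq j)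
      (dvd_iff_isRoot.mpr hc) h1
    exact sub_eq_zero.mp this
  · rintro ⟨c, rfl⟩
    rw [map_smul, fT_fE, smul_zero]

/-- (K2) if `E ∉ Z` then `T` is injective on `Z`. -/
lemma finrank_map_fT_of_not_mem [CharZero k] (Z : Submodule k k[X])
    (hE : fE r a Finset.univ ∉ Z) :
    Module.finrank k ↥(Z.map (fT r a Finset.univ)) = Module.finrank k ↥Z := by
  apply finrank_map_of_injOn
  intro G hG h0
  obtain ⟨c, rfl⟩ := (fT_eq_zero_iff r a).mp h0
  by_cases hc : c = 0
  · rw [hc, zero_smul]
  · exfalso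
    apply hE
    have := Z.smul_mem c⁻¹ hG
    rwa [smul_smul, inv_mul_cancel₀ hc, one_smul] at this

/-- (K1) if `E ∈ Z` then the image of `Z` has dimension one less. -/
lemma finrank_map_fT_of_mem [CharZero k] (Z : Submodule k k[X]) [Module.Finite k ↥Z]
    (hE : fE r a Finset.univ ∈ Z) :
    Module.finrank k ↥(Z.map (fT r a Finset.univ)) + 1 = Module.finrank k ↥Z := by
  have hr : LinearMap.range ((fT r a Finset.univ).domRestrict Z) = Z.map (fT r a Finset.univ) := by
    ext y
    simp only [LinearMap.mem_range, Submodule.mem_map, LinearMap.domRestrict_apply, Subtype.exists,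
      exists_prop]
  have hk : LinearMap.ker ((fT r a Finset.univ).domRestrict Z)
      = Submodule.span k {(⟨fE r a Finset.univ, hE⟩ : ↥Z)} := by
    ext x
    rw [LinearMap.mem_ker, LinearMap.domRestrict_apply, fT_eq_zero_iff, Submodule.mem_span_singleton]
    constructor
    · rintro ⟨c, hc⟩
      exact ⟨c, Subtype.ext hc.symm⟩
    · rintro ⟨c, hc⟩
      exact ⟨c, (congrArg Subtype.val hc).symm⟩
  have h1 := LinearMap.finrank_range_add_finrank_ker ((fT r a Finset.univ).domRestrict Z)
  rw [hr, hk, finrank_span_singleton] at h1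
  · exact h1
  · intro h
    have h2 : fE r a Finset.univ = 0 := congrArg Subtype.val h
    exact fE_ne_zero r a _ h2

/-! ### Marked points -/

lemma Vsp_inf_marked_eq_map [CharZero k] (hr : Function.Injective r) {b' : ℕ} (i : Fin m)
    (n : ℕ) :
    Vsp r a b' ⊓ (Ideal.span {(X - C (r i)) ^ n}).restrictScalars k
      = (degreeLT k (∑ j, a j + b' + 1) ⊓
          (Ideal.span {(X - C (r i)) ^ n}).restrictScalars k).map (fT r a Finset.univ) := by
  have hi : i ∉ Finset.univ.erase i := Finset.notMem_erase i _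
  have hri : ∀ j ∈ Finset.univ.erase i, r i ≠ r j := fun j hj =>
    fun h => (Finset.ne_of_mem_erase hj) (hr h).symm
  apply le_antisymm
  · rintro h ⟨hh, hd⟩
    rw [SetLike.mem_coe, mem_span_pow_iff] at hd
    obtain ⟨G, hG, rfl⟩ := Vsp_le r a b' hh
    obtain ⟨c, hc⟩ := exists_normalize_marked r a hi hri G
    rw [← univ_eq_insert i] at hc
    refine ⟨G - c • fE r a Finset.univ, ⟨Submodule.sub_mem _ hG
      (Submodule.smul_mem _ _ (fE_mem_degreeLT r a b')), ?_⟩, fT_sub_smul_fE r a _ G c⟩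
    rw [SetLike.mem_coe, mem_span_pow_iff]
    apply marked_dvd r a hi hri hc
    rw [← univ_eq_insert i, fT_sub_smul_fE]
    exact hd
  · rintro _ ⟨G, ⟨hG, hGd⟩, rfl⟩
    rw [SetLike.mem_coe, mem_span_pow_iff] at hGd
    refine ⟨Vsp_ge r a hr b' ⟨G, hG, rfl⟩, mem_span_pow_iff.mpr ?_⟩
    have := dvd_fT_insert_of_dvd r a hi hGd
    rwa [← univ_eq_insert i] at this

lemma fE_univ_eq (i : Fin m) :
    fE r a Finset.univ = (X - C (r i)) ^ (a i) * fE r a (Finset.univ.erase i) := by
  conv_lhs => rw [univ_eq_insert i]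
  exact fE_insert r a (Finset.notMem_erase i _)

lemma pow_dvd_fE_iff (hr : Function.Injective r) (i : Fin m) (n : ℕ) :
    (X - C (r i)) ^ n ∣ fE r a Finset.univ ↔ n ≤ a i := by
  have hri : ∀ j ∈ Finset.univ.erase i, r i ≠ r j := fun j hj =>
    fun h => (Finset.ne_of_mem_erase hj) (hr h).symm
  constructor
  · intro h
    by_contra hn
    have hn : a i + 1 ≤ n := Nat.lt_of_not_le hn
    have h1 := (pow_dvd_pow _ hn).trans h
    rw [fE_univ_eq r a i, pow_succ,
      mul_dvd_mul_iff_left (pow_ne_zero _ (X_sub_C_ne_zero (r i))), dvd_iff_isRoot] at h1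
    exact eval_fE_ne_zero r a hri h1
  · intro h
    rw [fE_univ_eq r a i]
    exact (pow_dvd_pow _ h).trans (dvd_mul_right _ _)

instance degreeLT_inf_finite (M : ℕ) (Z : Submodule k k[X]) :
    Module.Finite k ↥(degreeLT k M ⊓ Z) :=
  Submodule.finiteDimensional_of_le inf_le_left

lemma finrank_Vsp_inf_marked [CharZero k] (hr : Function.Injective r) {b' : ℕ} (i : Fin m)
    (n : ℕ) :
    Module.finrank k ↥(Vsp r a b' ⊓ (Ideal.span {(X - C (r i)) ^ n}).restrictScalars k)
      = if n ≤ a i then ∑ j, a j + b' - n else ∑ j, a j + b' + 1 - n := by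
  rw [Vsp_inf_marked_eq_map r a hr]
  have hZ := finrank_degreeLT_inf_span (k := k) (∑ j, a j + b' + 1) n (r i)
  split_ifs with hn
  · have hE : fE r a Finset.univ ∈ degreeLT k (∑ j, a j + b' + 1) ⊓
        (Ideal.span {(X - C (r i)) ^ n}).restrictScalars k :=
      ⟨fE_mem_degreeLT r a b', mem_span_pow_iff.mpr ((pow_dvd_fE_iff r a hr i n).mpr hn)⟩
    have := finrank_map_fT_of_mem r a _ hE
    omega
  · have hE : fE r a Finset.univ ∉ degreeLT k (∑ j, a j + b' + 1) ⊓
        (Ideal.span {(X - C (r i)) ^ n}).restrictScalars k :=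
      fun h => hn ((pow_dvd_fE_iff r a hr i n).mp (mem_span_pow_iff.mp h.2))
    rw [finrank_map_fT_of_not_mem r a _ hE, hZ]

end Groth.Agent.Lib.Helper87.Wronsk
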