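import Groth.Agent.Lib.Helper87.Wronsk5

/-!
# Helper library for the `W4c4effdivwronsk2` family, part 6

The point at infinity.
-/

set_option autoImplicit false

namespace Groth.Agent.Lib.Helper87.Wronsk

open Polynomial

variable {k : Type*} [Field k] {m : ℕ} (r : Fin m → k) (a : Fin m → ℕ)

lemma X_mul_fS (s : Finset (Fin m)) :
    X * fS r a s = ∑ j ∈ s, C (a j : k) * (X * fR r (s.erase j)) := by
  rw [fS, Finset.mul_sum]
  refine Finset.sum_congr rfl fun j _ => ?_
  ring

lemma natDegree_X_mul_fR_erase {s : Finset (Fin m)} {j : Fin m} (hj : j ∈ s) :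
    (X * fR r (s.erase j)).natDegree = s.card := by
  rw [natDegree_X_mul (fR_ne_zero r _), natDegree_fR, Finset.card_erase_of_mem hj]
  have : 0 < s.card := Finset.card_pos.mpr ⟨j, hj⟩
  omega

lemma natDegree_X_mul_fS_le (s : Finset (Fin m)) : (X * fS r a s).natDegree ≤ s.card := by
  rw [X_mul_fS]
  refine natDegree_sum_le_of_forall_le _ _ fun j hj => ?_
  exact (natDegree_C_mul_le _ _).trans (natDegree_X_mul_fR_erase r hj).le

lemma coeff_X_mul_fS (s : Finset (Fin m)) :
    (X * fS r a s).coeff s.card = ((∑ j ∈ s, a j : ℕ) : k) := by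
  rw [X_mul_fS, finsetSum_coeff, Nat.cast_sum]
  refine Finset.sum_congr rfl fun j hj => ?_
  have hmonic : (X * fR r (s.erase j)).Monic := monic_X.mul (fR_monic r _)
  have := hmonic.coeff_natDegree
  rw [natDegree_X_mul_fR_erase r hj] at this
  rw [coeff_C_mul, this, mul_one]

lemma X_mul_fT (s : Finset (Fin m)) (G : k[X]) :
    X * fT r a s G = fR r s * (X * derivative G) - (X * fS r a s) * G := by
  rw [fT_apply]; ring

lemma natDegree_X_mul_derivative_le (G : k[X]) : (X * derivative G).natDegree ≤ G.natDegree := by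
  by_cases h0 : G.natDegree = 0
  · rw [derivative_of_natDegree_zero h0, mul_zero, natDegree_zero]
    exact Nat.zero_le _
  · have h1 := natDegree_derivative_lt h0
    have h2 : (X * derivative G).natDegree ≤ 1 + (derivative G).natDegree :=
      natDegree_mul_le.trans (by rw [natDegree_X])
    omega

lemma coeff_X_mul_derivative (G : k[X]) (e : ℕ) :
    (X * derivative G).coeff e = (e : k) * G.coeff e := by
  rcases e with _ | e
  · simp
  · rw [coeff_X_mul, coeff_derivative]
    push_cast
    ring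

lemma natDegree_X_mul_fT_le (s : Finset (Fin m)) (G : k[X]) {e : ℕ} (he : G.natDegree ≤ e) :
    (X * fT r a s G).natDegree ≤ s.card + e := by
  rw [X_mul_fT]
  have h1 : (fR r s * (X * derivative G)).natDegree ≤ s.card + e :=
    natDegree_mul_le_of_le (natDegree_fR r s).le ((natDegree_X_mul_derivative_le G).trans he)
  have h2 : ((X * fS r a s) * G).natDegree ≤ s.card + e :=
    natDegree_mul_le_of_le (natDegree_X_mul_fS_le r a s) he
  exact (natDegree_sub_le _ _).trans (max_le h1 h2)

lemma coeff_X_mul_fT (s : Finset (Fin m)) (G : k[X]) {e : ℕ} (he : G.natDegree ≤ e) :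
    (X * fT r a s G).coeff (s.card + e)
      = ((e : k) - ((∑ j ∈ s, a j : ℕ) : k)) * G.coeff e := by
  rw [X_mul_fT, coeff_sub,
    coeff_mul_add_eq_of_natDegree_le (natDegree_fR r s).le
      ((natDegree_X_mul_derivative_le G).trans he),
    coeff_mul_add_eq_of_natDegree_le (natDegree_X_mul_fS_le r a s) he,
    coeff_X_mul_fS, coeff_X_mul_derivative]
  have := (fR_monic r s).coeff_natDegree
  rw [natDegree_fR] at this
  rw [this]
  ring

/-- (L∞) For normalised `G ≠ 0`, `deg T G + 1 = deg G + m`. -/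
lemma natDegree_fT_of_normalized [CharZero k] (s : Finset (Fin m)) {G : k[X]} (hG : G ≠ 0)
    (hn : G.coeff (∑ j ∈ s, a j) = 0) :
    fT r a s G ≠ 0 ∧ (fT r a s G).natDegree + 1 = s.card + G.natDegree := by
  have hne : G.natDegree ≠ ∑ j ∈ s, a j := by
    intro h
    rw [← h] at hn
    exact hG (leadingCoeff_eq_zero.mp hn)
  have hc := coeff_X_mul_fT r a s G (le_refl G.natDegree)
  have hc0 : (X * fT r a s G).coeff (s.card + G.natDegree) ≠ 0 := by
    rw [hc]
    refine mul_ne_zero (sub_ne_zero.mpr fun h => hne (Nat.cast_injective h))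
      (leadingCoeff_ne_zero.mpr hG)
  have hT : fT r a s G ≠ 0 := by
    intro h
    rw [h, mul_zero, coeff_zero] at hc0
    exact hc0 rfl
  refine ⟨hT, ?_⟩
  have h1 := le_natDegree_of_ne_zero hc0
  have h2 := natDegree_X_mul_fT_le r a s G (le_refl G.natDegree)
  rw [natDegree_X_mul hT] at h1 h2
  omega

/-- General upper bound on the degree of `T G`. -/
lemma fT_mem_degreeLT (s : Finset (Fin m)) {G : k[X]} {M : ℕ} (hG : G ∈ degreeLT k M) :
    fT r a s G ∈ degreeLT k (s.card + M - 1) := by
  by_cases hT : fT r a s G = 0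
  · rw [hT]; exact Submodule.zero_mem _
  have hG0 : G ≠ 0 := by
    rintro rfl
    exact hT (map_zero _)
  rw [mem_degreeLT] at hG ⊢
  have h1 : G.natDegree < M := (natDegree_lt_iff_degree_lt hG0).mpr hG
  have h2 := natDegree_X_mul_fT_le r a s G (le_refl G.natDegree)
  rw [natDegree_X_mul hT] at h2
  refine degree_le_natDegree.trans_lt ?_
  exact_mod_cast (by omega : (fT r a s G).natDegree < s.card + M - 1)

lemma coeff_fE_univ : (fE r a Finset.univ).coeff (∑ j, a j) = 1 := by
  have := (fE_monic r a Finset.univ).coeff_natDegree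
  rwa [natDegree_fE] at this

lemma fE_mem_degreeLT_iff (M : ℕ) : fE r a Finset.univ ∈ degreeLT k M ↔ ∑ j, a j < M := by
  rw [mem_degreeLT, degree_eq_natDegree (fE_ne_zero r a _), natDegree_fE]
  exact_mod_cast Iff.rfl

lemma Vsp_inf_degreeLT_eq_map [CharZero k] (hr : Function.Injective r) {b' : ℕ} (n : ℕ) :
    Vsp r a b' ⊓ degreeLT k (∑ j, a j + b' + m - n)
      = (degreeLT k (∑ j, a j + b' + 1 - n)).map (fT r a Finset.univ) := by
  have hcard : (Finset.univ : Finset (Fin m)).card = m := by simp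
  apply le_antisymm
  · rintro h ⟨hh, hd⟩
    obtain ⟨G, hG, rfl⟩ := Vsp_le r a b' hh
    set G' := G - G.coeff (∑ j, a j) • fE r a Finset.univ with hG'
    have hG'mem : G' ∈ degreeLT k (∑ j, a j + b' + 1) :=
      Submodule.sub_mem _ hG (Submodule.smul_mem _ _ (fE_mem_degreeLT r a b'))
    have hT : fT r a Finset.univ G' = fT r a Finset.univ G := fT_sub_smul_fE r a _ G _
    have hnorm : G'.coeff (∑ j, a j) = 0 := by
      rw [hG', coeff_sub, coeff_smul, coeff_fE_univ, smul_eq_mul, mul_one, sub_self]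
    refine ⟨G', ?_, hT⟩
    by_cases h0 : G' = 0
    · rw [h0]; exact Submodule.zero_mem _
    obtain ⟨hTne, hdeg⟩ := natDegree_fT_of_normalized r a Finset.univ h0 hnorm
    rw [hcard, hT] at hdeg
    rw [SetLike.mem_coe, mem_degreeLT] at hd
    have h1 : (fT r a Finset.univ G).natDegree < ∑ j, a j + b' + m - n :=
      (natDegree_lt_iff_degree_lt (hT ▸ hTne)).mpr hd
    rw [SetLike.mem_coe, mem_degreeLT]
    refine degree_le_natDegree.trans_lt ?_
    exact_mod_cast (by omega : G'.natDegree < ∑ j, a j + b' + 1 - n)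
  · rintro _ ⟨G, hG, rfl⟩
    refine ⟨Vsp_ge r a hr b' ⟨G, degreeLT_mono (by omega) hG, rfl⟩, ?_⟩
    by_cases h0 : G = 0
    · rw [h0, map_zero]; exact Submodule.zero_mem _
    have hpos : 0 < ∑ j, a j + b' + 1 - n := by
      by_contra hle
      have : ∑ j, a j + b' + 1 - n = 0 := by omega
      rw [this] at hG
      rw [SetLike.mem_coe, mem_degreeLT] at hG
      have := (natDegree_lt_iff_degree_lt h0).mpr hG
      omega
    have h1 := fT_mem_degreeLT r a Finset.univ hG
    rw [hcard] at h1
    exact degreeLT_mono (by omega) h1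

lemma finrank_Vsp_inf_degreeLT [CharZero k] (hr : Function.Injective r) {b' : ℕ} (n : ℕ) :
    Module.finrank k ↥(Vsp r a b' ⊓ degreeLT k (∑ j, a j + b' + m - n))
      = if n ≤ b' then ∑ j, a j + b' - n else ∑ j, a j + b' + 1 - n := by
  rw [Vsp_inf_degreeLT_eq_map r a hr]
  split_ifs with hn
  · have hE : fE r a Finset.univ ∈ degreeLT k (∑ j, a j + b' + 1 - n) :=
      (fE_mem_degreeLT_iff r a _).mpr (by omega)
    have := finrank_map_fT_of_mem r a _ hE
    rw [finrank_degreeLT] at this
    omega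
  · have hE : fE r a Finset.univ ∉ degreeLT k (∑ j, a j + b' + 1 - n) :=
      fun h => by have := (fE_mem_degreeLT_iff r a _).mp h; omega
    rw [finrank_map_fT_of_not_mem r a _ hE, finrank_degreeLT]

end Groth.Agent.Lib.Helper87.Wronsk
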