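import Groth.Agent.Lib.Helper87.Wronsk6

/-!
# Helper library for the `W4c4effdivwronsk2` family, part 7

Hyperplane sections of filtrations and weight sums.
-/

set_option autoImplicit false

namespace Groth.Agent.Lib.Helper87.Wronsk

open Polynomial

variable {k : Type*} [Field k]

/-! ### Abstract linear algebra -/

section Abstract
variable {M : Type*} [AddCommGroup M] [Module k M]

lemma hyp_inf_eq {V V₁ F : Submodule k M} (hV₁ : V₁ ≤ V) : V₁ ⊓ F = (V ⊓ F) ⊓ V₁ := by
  rw [inf_comm (V ⊓ F) V₁, ← inf_assoc, inf_eq_left.mpr hV₁]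

/-- Lower bound: a hyperplane section drops the dimension by at most one. -/
lemma finrank_hyp_inf_ge {V V₁ F : Submodule k M} [Module.Finite k ↥V] (hV₁ : V₁ ≤ V)
    (hfin : Module.finrank k ↥V₁ + 1 = Module.finrank k ↥V) :
    Module.finrank k ↥(V ⊓ F) ≤ Module.finrank k ↥(V₁ ⊓ F) + 1 := by
  have hV₁fin : Module.Finite k ↥V₁ := Submodule.finiteDimensional_of_le hV₁
  have hAfin : Module.Finite k ↥(V ⊓ F) := Submodule.finiteDimensional_of_le inf_le_left
  have h1 := Submodule.finrank_sup_add_finrank_inf_eq (V ⊓ F) V₁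
  have h2 : Module.finrank k ↥((V ⊓ F) ⊔ V₁) ≤ Module.finrank k ↥V :=
    Submodule.finrank_mono (sup_le inf_le_left hV₁)
  rw [hyp_inf_eq hV₁]
  omega

lemma finrank_hyp_inf_le {V V₁ F : Submodule k M} [Module.Finite k ↥V] (hV₁ : V₁ ≤ V) :
    Module.finrank k ↥(V₁ ⊓ F) ≤ Module.finrank k ↥(V ⊓ F) := by
  have hAfin : Module.Finite k ↥(V ⊓ F) := Submodule.finiteDimensional_of_le inf_le_left
  exact Submodule.finrank_mono (inf_le_inf_right _ hV₁)

/-- If the section is not contained in the hyperplane, the dimension drops by exactly one. -/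
lemma finrank_hyp_inf_of_not_mem {V V₁ F : Submodule k M} [Module.Finite k ↥V] (hV₁ : V₁ ≤ V)
    {y : M} (hy : y ∈ V ⊓ F) (hy₁ : y ∉ V₁) :
    Module.finrank k ↥(V₁ ⊓ F) + 1 ≤ Module.finrank k ↥(V ⊓ F) := by
  have hAfin : Module.Finite k ↥(V ⊓ F) := Submodule.finiteDimensional_of_le inf_le_left
  have hle : V₁ ⊓ F ≤ V ⊓ F := inf_le_inf_right _ hV₁
  have := finrank_lt_of_le_of_not_mem hle hy (fun h => hy₁ h.1)
  omega

end Abstract

/-! ### Arithmetic of weight sums -/

lemma sum_range_boole_le (e M : ℕ) :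
    ∑ n ∈ Finset.range M, (if e ≤ n then 1 else 0) = M - e := by
  induction M with
  | zero => simp
  | succ M ih =>
    rw [Finset.sum_range_succ, ih]
    split_ifs <;> omega

lemma sum_range_reflect_id (M : ℕ) :
    ∑ n ∈ Finset.range M, (M - 1 - n) = M.choose 2 := by
  rw [Finset.sum_range_reflect (fun j => j) M, Finset.sum_range_id, Nat.choose_two_right]

/-- Sum lemma A. -/
lemma weight_sum_A (N e : ℕ) (f : ℕ → ℕ)
    (h1 : ∀ n, 1 ≤ n → n ≤ N - 1 → f n + 1 = if n ≤ e then N - n else N + 1 - n) :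
    ∑ n ∈ Finset.range (N - 1), f (n + 1) = (N - 1).choose 2 + (N - 1 - e) := by
  have h2 : ∀ n ∈ Finset.range (N - 1),
      f (n + 1) = (N - 1 - 1 - n) + (if e ≤ n then 1 else 0) := by
    intro n hn
    rw [Finset.mem_range] at hn
    have := h1 (n + 1) (by omega) (by omega)
    split_ifs at this ⊢ <;> omega
  rw [Finset.sum_congr rfl h2, Finset.sum_add_distrib, sum_range_reflect_id, sum_range_boole_le]

/-- Total weight sum when `f` vanishes beyond `N`. -/
lemma weight_sum_total (N e d : ℕ) (hN : 1 ≤ N) (hd : N ≤ d) (f : ℕ → ℕ)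
    (h1 : ∀ n, 1 ≤ n → n ≤ N - 1 → f n + 1 = if n ≤ e then N - n else N + 1 - n)
    (h3 : ∀ n, N < n → f n = 0) :
    ∑ n ∈ Finset.range d, f (n + 1) = (N - 1).choose 2 + (N - 1 - e) + f N := by
  obtain ⟨t, rfl⟩ : ∃ t, d = (N - 1) + 1 + t := ⟨d - N, by omega⟩
  rw [Finset.sum_range_add, Finset.sum_range_succ, weight_sum_A N e f h1]
  have h4 : ∑ x ∈ Finset.range t, f (N - 1 + 1 + x + 1) = 0 :=
    Finset.sum_eq_zero fun x _ => h3 _ (by omega)
  have h5 : N - 1 + 1 = N := by omega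
  rw [h4, h5]
  rfl

end Groth.Agent.Lib.Helper87.Wronsk
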