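import Groth.Agent.Lib.Helper87.Wronsk7

/-!
# Helper library for the `W4c4effdivwronsk2` family, part 8

Weights of hyperplanes at marked points and at infinity.
-/

set_option autoImplicit false

namespace Groth.Agent.Lib.Helper87.Wronsk

open Polynomial

variable {k : Type*} [Field k] {m : ℕ} (r : Fin m → k) (a : Fin m → ℕ)

lemma single_le_sum (i : Fin m) : a i ≤ ∑ j, a j :=
  Finset.single_le_sum (f := a) (fun _ _ => Nat.zero_le _) (Finset.mem_univ i)

/-- Weight of a hyperplane at a marked point. -/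
lemma weight_marked [CharZero k] (hr : Function.Injective r) {b : ℕ} (hb : 1 ≤ b)
    (V₁ : Submodule k k[X]) (hV₁ : V₁ ≤ Vsp r a b)
    (hfin : Module.finrank k ↥V₁ + 1 = ∑ j, a j + b) (i : Fin m)
    (hnot : ¬ (fT r a Finset.univ ((X - C (r i)) ^ (∑ j, a j + b - 1)) ∈ V₁ ∧
      fT r a Finset.univ ((X - C (r i)) ^ (∑ j, a j + b)) ∈ V₁))
    {d : ℕ} (hd : d + 1 = ∑ j, a j + b + m) :
    ∃ ε : ℕ, ε ≤ 1 ∧
      (∑ n ∈ Finset.range d, Module.finrank k
        ↥(V₁ ⊓ (Ideal.span {(X - C (r i)) ^ (n + 1)}).restrictScalars k)) + 1 =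
        (∑ j, a j + b - 1).choose 2 + (∑ j, a j + b - a i) + ε := by
  have hai := single_le_sum a i
  have hm : 1 ≤ m := i.pos
  have hfinV : Module.finrank k ↥V₁ + 1 = Module.finrank k ↥(Vsp r a b) := by
    rw [finrank_Vsp r a hr, hfin]
  have hi : i ∉ Finset.univ.erase i := Finset.notMem_erase i _
  set N := ∑ j, a j + b with hN
  -- the function f
  let f : ℕ → ℕ := fun n => Module.finrank k
    ↥(V₁ ⊓ (Ideal.span {(X - C (r i)) ^ n}).restrictScalars k)
  have hg : ∀ n, Module.finrank k ↥(Vsp r a b ⊓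
      (Ideal.span {(X - C (r i)) ^ n}).restrictScalars k) =
      if n ≤ a i then N - n else N + 1 - n := fun n => finrank_Vsp_inf_marked r a hr i n
  have hmemV : ∀ n' n, n ≤ n' → n' ≤ N → fT r a Finset.univ ((X - C (r i)) ^ n') ∈
      Vsp r a b ⊓ (Ideal.span {(X - C (r i)) ^ n}).restrictScalars k := by
    intro n' n hn hn'
    refine ⟨fT_pow_mem r a hr (r i) hn', mem_span_pow_iff.mpr ?_⟩
    have := dvd_fT_insert_of_dvd r a hi (pow_dvd_pow (X - C (r i)) hn)
    rwa [← univ_eq_insert i] at this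
  have h1 : ∀ n, 1 ≤ n → n ≤ N - 1 → f n + 1 = if n ≤ a i then N - n else N + 1 - n := by
    intro n _ hn2
    rw [← hg n]
    apply le_antisymm
    · by_cases hy : fT r a Finset.univ ((X - C (r i)) ^ (N - 1)) ∈ V₁
      · have hy2 : fT r a Finset.univ ((X - C (r i)) ^ N) ∉ V₁ := fun h => hnot ⟨hy, h⟩
        exact finrank_hyp_inf_of_not_mem hV₁ (hmemV N n (by omega) le_rfl) hy2
      · exact finrank_hyp_inf_of_not_mem hV₁ (hmemV (N - 1) n hn2 (by omega)) hy
    · exact finrank_hyp_inf_ge hV₁ hfinV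
  have hle : ∀ n, f n ≤ if n ≤ a i then N - n else N + 1 - n := by
    intro n
    rw [← hg n]
    exact finrank_hyp_inf_le hV₁
  have h3 : ∀ n, N < n → f n = 0 := by
    intro n hn
    have := hle n
    split_ifs at this <;> omega
  have hfN : f N ≤ 1 := by
    have := hle N
    split_ifs at this <;> omega
  have htot := weight_sum_total N (a i) d (by omega) (by omega) f h1 h3
  refine ⟨f N, hfN, ?_⟩
  change (∑ n ∈ Finset.range d, f (n + 1)) + 1 = _
  rw [htot]
  omega

lemma one_mem_degreeLT {M : ℕ} (hM : 1 ≤ M) : (1 : k[X]) ∈ degreeLT k M := by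
  rw [mem_degreeLT, degree_one]
  exact_mod_cast hM

lemma X_mem_degreeLT {M : ℕ} (hM : 2 ≤ M) : (X : k[X]) ∈ degreeLT k M := by
  rw [mem_degreeLT, degree_X]
  exact_mod_cast hM

/-- Weight of a hyperplane at infinity (when the hyperplane does not contain both `T 1`
and `T X`). -/
lemma weight_infty [CharZero k] (hr : Function.Injective r) {b : ℕ} (hb : 1 ≤ b)
    (V₁ : Submodule k k[X]) (hV₁ : V₁ ≤ Vsp r a b)
    (hfin : Module.finrank k ↥V₁ + 1 = ∑ j, a j + b)
    (hnot : ¬ (fT r a Finset.univ 1 ∈ V₁ ∧ fT r a Finset.univ X ∈ V₁))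
    {d : ℕ} (hd : d + 1 = ∑ j, a j + b + m) :
    ∃ ε : ℕ, ε ≤ 1 ∧
      (∑ n ∈ Finset.range d, Module.finrank k ↥(V₁ ⊓ degreeLT k (d - n))) + 1 =
        (∑ j, a j + b - 1).choose 2 + (∑ j, a j + b - b) + ε := by
  have hfinV : Module.finrank k ↥V₁ + 1 = Module.finrank k ↥(Vsp r a b) := by
    rw [finrank_Vsp r a hr, hfin]
  set N := ∑ j, a j + b with hN
  let f : ℕ → ℕ := fun n => Module.finrank k ↥(V₁ ⊓ degreeLT k (N + m - n))
  have hsum : ∑ n ∈ Finset.range d, Module.finrank k ↥(V₁ ⊓ degreeLT k (d - n))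
      = ∑ n ∈ Finset.range d, f (n + 1) := by
    refine Finset.sum_congr rfl fun n _ => ?_
    have : d - n = N + m - (n + 1) := by omega
    rw [this]
  have hg : ∀ n, Module.finrank k ↥(Vsp r a b ⊓ degreeLT k (N + m - n)) =
      if n ≤ b then N - n else N + 1 - n := fun n => finrank_Vsp_inf_degreeLT r a hr n
  have hmemV : ∀ P : k[X], P ∈ degreeLT k 2 → ∀ n, n ≤ N - 1 → fT r a Finset.univ P ∈
      Vsp r a b ⊓ degreeLT k (N + m - n) := by
    intro P hP n hn
    rw [Vsp_inf_degreeLT_eq_map r a hr]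
    exact ⟨P, degreeLT_mono (by omega) hP, rfl⟩
  have h1 : ∀ n, 1 ≤ n → n ≤ N - 1 → f n + 1 = if n ≤ b then N - n else N + 1 - n := by
    intro n _ hn2
    rw [← hg n]
    apply le_antisymm
    · by_cases hy : fT r a Finset.univ 1 ∈ V₁
      · have hy2 : fT r a Finset.univ X ∉ V₁ := fun h => hnot ⟨hy, h⟩
        exact finrank_hyp_inf_of_not_mem hV₁ (hmemV X (X_mem_degreeLT le_rfl) n hn2) hy2
      · exact finrank_hyp_inf_of_not_mem hV₁
          (hmemV 1 (one_mem_degreeLT (by omega)) n hn2) hy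
    · exact finrank_hyp_inf_ge hV₁ hfinV
  have hle : ∀ n, f n ≤ if n ≤ b then N - n else N + 1 - n := by
    intro n
    rw [← hg n]
    exact finrank_hyp_inf_le hV₁
  have h3 : ∀ n, N < n → f n = 0 := by
    intro n hn
    have := hle n
    split_ifs at this <;> omega
  have hfN := hle N
  rw [hsum]
  rcases Nat.eq_zero_or_pos m with hm | hm
  · -- no marked points
    subst hm
    have hs : ∑ j : Fin 0, a j = 0 := by simp
    have hdN : d = N - 1 := by omega
    rw [hdN, weight_sum_A N b f h1]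
    exact ⟨1, le_rfl, by omega⟩
  · have htot := weight_sum_total N b d (by omega) (by omega) f h1 h3
    rw [htot]
    by_cases hs : ∑ j, a j = 0
    · refine ⟨1, le_rfl, ?_⟩
      split_ifs at hfN <;> omega
    · refine ⟨f N, ?_, ?_⟩
      · split_ifs at hfN <;> omega
      · omega

end Groth.Agent.Lib.Helper87.Wronsk
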