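import Groth.Agent.Lib.Helper87.Wronsk8

/-!
# Helper library for the `W4c4effdivwronsk2` family, part 9

Weight at infinity of a hyperplane containing `V_{b-2}`.
-/

set_option autoImplicit false

namespace Groth.Agent.Lib.Helper87.Wronsk

open Polynomial

variable {k : Type*} [Field k] {m : ℕ} (r : Fin m → k) (a : Fin m → ℕ)

/-- Sum lemma B. -/
lemma weight_sum_B (N e : ℕ) (he1 : 1 ≤ e) :
    ∑ n ∈ Finset.range (N - 1), (if n + 2 ≤ e then N - (n + 2) else N + 1 - (n + 2))
      = (N - 1).choose 2 + (N - e) := by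
  have h2 : ∀ n ∈ Finset.range (N - 1),
      (if n + 2 ≤ e then N - (n + 2) else N + 1 - (n + 2))
        = (N - 1 - 1 - n) + (if e - 1 ≤ n then 1 else 0) := by
    intro n hn
    rw [Finset.mem_range] at hn
    split_ifs <;> omega
  rw [Finset.sum_congr rfl h2, Finset.sum_add_distrib, sum_range_reflect_id, sum_range_boole_le]
  omega

lemma weight_sum_B_total (N e M : ℕ) (he1 : 1 ≤ e) (heN : e ≤ N)
    (hM : N - 1 ≤ M ∨ (M + 2 = N ∧ e = N)) :
    ∑ n ∈ Finset.range M, (if n + 2 ≤ e then N - (n + 2) else N + 1 - (n + 2))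
      = (N - 1).choose 2 + (N - e) := by
  rcases hM with hM | ⟨hM, heq⟩
  · obtain ⟨t, rfl⟩ : ∃ t, M = (N - 1) + t := ⟨M - (N - 1), by omega⟩
    rw [Finset.sum_range_add, weight_sum_B N e he1]
    have h4 : ∑ x ∈ Finset.range t,
        (if N - 1 + x + 2 ≤ e then N - (N - 1 + x + 2) else N + 1 - (N - 1 + x + 2)) = 0 :=
      Finset.sum_eq_zero fun x _ => by split_ifs <;> omega
    rw [h4, add_zero]
  · have h5 := weight_sum_B N e he1
    have h6 : N - 1 = M + 1 := by omega
    rw [h6, Finset.sum_range_succ] at h5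
    have h7 : (if M + 2 ≤ e then N - (M + 2) else N + 1 - (M + 2)) = 0 := by
      split_ifs <;> omega
    rw [h7, add_zero] at h5
    rw [h5, h6]

/-- Weight at infinity of a hyperplane `V₁ ⊆ V_b` containing `V_{b-2}`. -/
lemma weight_infty2 [CharZero k] (hr : Function.Injective r) {b : ℕ} (hb : 1 ≤ b)
    (V₁ : Submodule k k[X]) (hV₁ : V₁ ≤ Vsp r a b)
    (hfin : Module.finrank k ↥V₁ + 1 = ∑ j, a j + b) (hU : Vsp r a (b - 2) ≤ V₁)
    {d : ℕ} (hd : d + 1 = ∑ j, a j + b + m) :
    ∃ ε : ℕ, ε ≤ 1 ∧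
      (∑ n ∈ Finset.range d, Module.finrank k ↥(V₁ ⊓ degreeLT k (d - n))) =
        (∑ j, a j + b - 1).choose 2 + (∑ j, a j + b - b) + (∑ j, a j + b - 2) + ε := by
  have hfinV : Module.finrank k ↥V₁ + 1 = Module.finrank k ↥(Vsp r a b) := by
    rw [finrank_Vsp r a hr, hfin]
  have hV₁fin : Module.Finite k ↥V₁ := Submodule.finiteDimensional_of_le hV₁
  set N := ∑ j, a j + b with hN
  let f : ℕ → ℕ := fun n => Module.finrank k ↥(V₁ ⊓ degreeLT k (N + m - n))
  have hsum : ∑ n ∈ Finset.range d, Module.finrank k ↥(V₁ ⊓ degreeLT k (d - n))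
      = ∑ n ∈ Finset.range d, f (n + 1) := by
    refine Finset.sum_congr rfl fun n _ => ?_
    have : d - n = N + m - (n + 1) := by omega
    rw [this]
  have hg : ∀ n, Module.finrank k ↥(Vsp r a b ⊓ degreeLT k (N + m - n)) =
      if n ≤ b then N - n else N + 1 - n := fun n => finrank_Vsp_inf_degreeLT r a hr n
  -- for n ≥ 2 the section lies in V₁
  have hf2 : ∀ n, 2 ≤ n → f n = if n ≤ b then N - n else N + 1 - n := by
    intro n hn
    rw [← hg n]
    have hle : Vsp r a b ⊓ degreeLT k (N + m - n) ≤ V₁ := by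
      rw [Vsp_inf_degreeLT_eq_map r a hr]
      refine le_trans ?_ hU
      refine le_trans ?_ (Vsp_ge r a hr (b - 2))
      exact Submodule.map_mono (degreeLT_mono (by omega))
    have heq : V₁ ⊓ degreeLT k (N + m - n) = Vsp r a b ⊓ degreeLT k (N + m - n) :=
      le_antisymm (inf_le_inf_right _ hV₁) (le_inf hle inf_le_right)
    change Module.finrank k ↥(V₁ ⊓ degreeLT k (N + m - n)) = _
    rw [heq]
  have hf1a : N - 1 ≤ f 1 + 1 := by
    have h1 := finrank_hyp_inf_ge (F := degreeLT k (N + m - 1)) hV₁ hfinV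
    rw [hg 1] at h1
    split_ifs at h1
    exact h1
  have hf1b : f 1 ≤ N - 1 := by
    have h1 : f 1 ≤ Module.finrank k ↥V₁ := Submodule.finrank_mono inf_le_left
    omega
  rw [hsum]
  rcases Nat.eq_zero_or_pos d with hd0 | hd0
  · subst hd0
    refine ⟨0, Nat.zero_le _, ?_⟩
    have hN1 : N = 1 := by omega
    have hbN : b = 1 := by omega
    rw [Finset.sum_range_zero, hN1, hbN]
    rfl
  · obtain ⟨d', rfl⟩ : ∃ d', d = d' + 1 := ⟨d - 1, by omega⟩
    rw [Finset.sum_range_succ']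
    have h8 : ∑ n ∈ Finset.range d', f (n + 1 + 1)
        = ∑ n ∈ Finset.range d', (if n + 2 ≤ b then N - (n + 2) else N + 1 - (n + 2)) :=
      Finset.sum_congr rfl fun n _ => hf2 (n + 2) (by omega)
    have hM : N - 1 ≤ d' ∨ (d' + 2 = N ∧ b = N) := by
      rcases Nat.eq_zero_or_pos m with hm | hm
      · right
        subst hm
        have hs : ∑ j : Fin 0, a j = 0 := by simp
        omega
      · left; omega
    rw [h8, weight_sum_B_total N b d' hb (by omega) hM]
    refine ⟨f 1 - (N - 2), by omega, ?_⟩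
    change _ + f 1 = _
    omega

end Groth.Agent.Lib.Helper87.Wronsk
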